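import Mathlib
import Cfsg.Prelude.Def_Sporadic_a
import Cfsg.Prelude.Def_Spor_Conway
import Cfsg.Agent.Helper9.Golay.Aut

set_option autoImplicit false

namespace Cfsg.Agent.Helper9.Leech

open Cfsg Cfsg.Agent.Helper9.Golay
open scoped Pointwise

/-- the indicator word of the coordinates congruent to `k` modulo 4. -/
def resW (x : GolayPt → ℤ) (k : ℤ) : GolayPt → ZMod 2 :=
  fun i => if x i ≡ k [ZMOD 4] then 1 else 0

theorem support₂_resW (x : GolayPt → ℤ) (k : ℤ) :
    support₂ (resW x k) = Finset.univ.filter fun i => x i ≡ k [ZMOD 4] := by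
  ext i
  unfold support₂ resW
  simp only [Finset.mem_filter, Finset.mem_univ, true_and]
  split_ifs with h
  · simp [h]
  · simp [h]

theorem filter_mem_supports_iff (x : GolayPt → ℤ) (k : ℤ) :
    (Finset.univ.filter fun i => x i ≡ k [ZMOD 4]) ∈
      supports (golayCode : Set (GolayPt → ZMod 2)) ↔ resW x k ∈ golayCode := by
  constructor
  · rintro ⟨w, hw, hws⟩
    rw [← support₂_resW] at hws
    rw [← eq_of_support₂_eq hws]
    exact hw
  · intro h
    exact ⟨resW x k, h, support₂_resW x k⟩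

theorem mem_leechSet_iff (x : GolayPt → ℤ) :
    x ∈ leechSet ↔ ∃ m : ℤ, (∀ i, x i ≡ m [ZMOD 2]) ∧ (∑ i, x i ≡ 4 * m [ZMOD 8]) ∧
      ∀ k : ℤ, resW x k ∈ golayCode := by
  unfold leechSet
  simp only [Set.mem_setOf_eq, filter_mem_supports_iff]

theorem one_mem_code : (1 : GolayPt → ZMod 2) ∈ golayCode :=
  Submodule.subset_span (Or.inr rfl)

theorem resW_add {x y : GolayPt → ℤ} {m n k : ℤ} (hx : ∀ i, x i ≡ m [ZMOD 2])
    (hy : ∀ i, y i ≡ n [ZMOD 2]) (hk : k ≡ m + n [ZMOD 2]) :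
    resW (x + y) k = 1 + resW x m + resW y (k - m) := by
  funext i
  have h1 := hx i
  have h2 := hy i
  simp only [resW, Pi.add_apply, Pi.one_apply]
  split_ifs <;> first | rfl | decide | (exfalso; unfold Int.ModEq at *; omega)

theorem resW_add_of_not {x y : GolayPt → ℤ} {m n k : ℤ} (hx : ∀ i, x i ≡ m [ZMOD 2])
    (hy : ∀ i, y i ≡ n [ZMOD 2]) (hk : ¬ k ≡ m + n [ZMOD 2]) :
    resW (x + y) k = 0 := by
  funext i
  have h1 := hx i
  have h2 := hy i
  simp only [resW, Pi.add_apply, Pi.zero_apply]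
  split_ifs <;> first | rfl | (exfalso; unfold Int.ModEq at *; omega)

theorem resW_neg (x : GolayPt → ℤ) (k : ℤ) : resW (-x) k = resW x (-k) := by
  funext i
  simp only [resW, Pi.neg_apply]
  split_ifs <;> first | rfl | (exfalso; unfold Int.ModEq at *; omega)

theorem add_mem_leechSet {x y : GolayPt → ℤ} (hx : x ∈ leechSet) (hy : y ∈ leechSet) :
    x + y ∈ leechSet := by
  rw [mem_leechSet_iff] at *
  obtain ⟨m, hm1, hm2, hm3⟩ := hx
  obtain ⟨n, hn1, hn2, hn3⟩ := hy
  refine ⟨m + n, fun i => (hm1 i).add (hn1 i), ?_, fun k => ?_⟩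
  · simp only [Pi.add_apply, Finset.sum_add_distrib, mul_add]
    exact hm2.add hn2
  · by_cases hk : k ≡ m + n [ZMOD 2]
    · rw [resW_add hm1 hn1 hk]
      exact add_mem (add_mem one_mem_code (hm3 _)) (hn3 _)
    · rw [resW_add_of_not hm1 hn1 hk]
      exact zero_mem _

theorem neg_mem_leechSet {x : GolayPt → ℤ} (hx : x ∈ leechSet) : -x ∈ leechSet := by
  rw [mem_leechSet_iff] at *
  obtain ⟨m, hm1, hm2, hm3⟩ := hx
  refine ⟨-m, fun i => (hm1 i).neg, ?_, fun k => ?_⟩
  · simp only [Pi.neg_apply, Finset.sum_neg_distrib, mul_neg]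
    exact hm2.neg
  · rw [resW_neg]
    exact hm3 _

theorem zero_mem_leechSet : (0 : GolayPt → ℤ) ∈ leechSet :=
  Spor.mem_leechSet_of_const_mod_four 0 0 0 (by decide) (fun _ => Int.ModEq.refl _) (by simp)

/-- the set of vectors cut out by the congruence conditions, as an additive subgroup. -/
def leechSub : AddSubgroup (GolayPt → ℤ) where
  carrier := leechSet
  add_mem' := add_mem_leechSet
  zero_mem' := zero_mem_leechSet
  neg_mem' := neg_mem_leechSet

theorem leechLattice_eq : leechLattice = leechSub := by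
  unfold leechLattice
  exact AddSubgroup.closure_eq leechSub

theorem mem_leechLattice_iff (x : GolayPt → ℤ) : x ∈ leechLattice ↔ x ∈ leechSet := by
  rw [leechLattice_eq]
  rfl

/-- the group of the code preserves the code (pull-back of words). -/
theorem comp_mem_code {σ : Equiv.Perm GolayPt} (hσ : σ ∈ M24) {w : GolayPt → ZMod 2}
    (hw : w ∈ golayCode) : w ∘ σ ∈ golayCode := by
  have h1 : σ⁻¹ • support₂ w ∈ supports (golayCode : Set (GolayPt → ZMod 2)) :=
    smul_mem_supports (M24.inv_mem hσ) ⟨w, hw, rfl⟩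
  rw [inv_smul_support₂] at h1
  obtain ⟨v, hv, hvs⟩ := h1
  have : v = w ∘ σ := eq_of_support₂_eq hvs
  rw [← this]
  exact hv

theorem comp_mem_leechSet {σ : Equiv.Perm GolayPt} (hσ : σ ∈ M24) {x : GolayPt → ℤ}
    (hx : x ∈ leechSet) : (fun i => x (σ i)) ∈ leechSet := by
  rw [mem_leechSet_iff] at *
  obtain ⟨m, hm1, hm2, hm3⟩ := hx
  refine ⟨m, fun i => hm1 (σ i), ?_, fun k => ?_⟩
  · rw [Equiv.sum_comp σ x]
    exact hm2
  · exact comp_mem_code hσ (hm3 k)

end Cfsg.Agent.Helper9.Leech
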