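import Mathlib
import Cfsg.Prelude.Def_Sporadic_a
import Cfsg.Prelude.Def_Spor_Conway
import Cfsg.Agent.Helper9.Leech.Basic

set_option autoImplicit false

namespace Cfsg.Agent.Helper9.Leech

open Cfsg Cfsg.Agent.Helper9.Golay
open scoped Pointwise

/-- weights of code words are 0, 8, 12, 16 or 24. -/
theorem card_of_mem_supports {s : Finset GolayPt}
    (hs : s ∈ supports (golayCode : Set (GolayPt → ZMod 2))) :
    s.card = 0 ∨ s.card = 8 ∨ s.card = 12 ∨ s.card = 16 ∨ s.card = 24 := by
  obtain ⟨m, hm, rfl⟩ := (mem_supports_iff s).mp hs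
  rw [card_suppM]
  exact popc_mem_codeList hm

theorem four_dvd_card {s : Finset GolayPt}
    (hs : s ∈ supports (golayCode : Set (GolayPt → ZMod 2))) : 4 ∣ s.card := by
  rcases card_of_mem_supports hs with h | h | h | h | h <;> rw [h] <;> decide

theorem two_dvd_card_inter {s c : Finset GolayPt}
    (hs : s ∈ supports (golayCode : Set (GolayPt → ZMod 2)))
    (hc : c ∈ supports (golayCode : Set (GolayPt → ZMod 2))) : 2 ∣ (s ∩ c).card := by
  obtain ⟨a, ha, rfl⟩ := (mem_supports_iff s).mp hs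
  obtain ⟨b, hb, rfl⟩ := (mem_supports_iff c).mp hc
  rw [suppM_inter, card_suppM]
  have h1 := popc_xor a b
  have h2 := popc_mem_codeList ha
  have h3 := popc_mem_codeList hb
  have h4 := popc_mem_codeList (xor_mem_codeList ha hb)
  omega

/-- the indicator word of a set of points. -/
def indW (c : Finset GolayPt) : GolayPt → ZMod 2 := fun i => if i ∈ c then 1 else 0

theorem support₂_indW (c : Finset GolayPt) : support₂ (indW c) = c := by
  ext i
  unfold support₂ indW
  simp only [Finset.mem_filter, Finset.mem_univ, true_and]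
  split_ifs with h
  · simp [h]
  · simp [h]

theorem indW_mem {c : Finset GolayPt}
    (hc : c ∈ supports (golayCode : Set (GolayPt → ZMod 2))) : indW c ∈ golayCode := by
  obtain ⟨w, hw, hws⟩ := hc
  rw [← support₂_indW c] at hws
  rw [← eq_of_support₂_eq hws]
  exact hw

theorem filter_mem_of_mem_leechSet {x : GolayPt → ℤ} (hx : x ∈ leechSet) (k : ℤ) :
    (Finset.univ.filter fun i => x i ≡ k [ZMOD 4]) ∈
      supports (golayCode : Set (GolayPt → ZMod 2)) := by
  obtain ⟨m, -, -, h⟩ := hx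
  exact h k

/-- the sum of the coordinates of a lattice vector over the support of a code word is divisible
by 4. -/
theorem sum_on_codeword {x : GolayPt → ℤ} (hx : x ∈ leechSet) {c : Finset GolayPt}
    (hc : c ∈ supports (golayCode : Set (GolayPt → ZMod 2))) :
    ∑ i ∈ c, x i ≡ 0 [ZMOD 4] := by
  have hx' := hx
  obtain ⟨m, hm1, hm2, hm3⟩ := hx'
  have h1 : ∑ i ∈ c, x i ≡ ∑ i ∈ c, (m + 2 * (if x i ≡ m + 2 [ZMOD 4] then 1 else 0)) [ZMOD 4] := by
    apply Int.ModEq.sum
    intro i _
    have := hm1 i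
    split_ifs <;> (unfold Int.ModEq at *; omega)
  have h2 : ∑ i ∈ c, (m + 2 * (if x i ≡ m + 2 [ZMOD 4] then (1 : ℤ) else 0))
      = m * c.card + 2 * ((Finset.univ.filter fun i => x i ≡ m + 2 [ZMOD 4]) ∩ c).card := by
    rw [Finset.sum_add_distrib, Finset.sum_const, ← Finset.mul_sum, Finset.sum_boole]
    have : (Finset.univ.filter fun i => x i ≡ m + 2 [ZMOD 4]) ∩ c
        = c.filter fun i => x i ≡ m + 2 [ZMOD 4] := by
      ext i
      simp only [Finset.mem_inter, Finset.mem_filter, Finset.mem_univ, true_and]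
      tauto
    rw [this]
    simp only [nsmul_eq_mul]
    ring
  rw [h2] at h1
  obtain ⟨a, ha⟩ := four_dvd_card hc
  obtain ⟨b, hb⟩ := two_dvd_card_inter (hm3 (m + 2)) hc
  rw [ha, hb] at h1
  refine h1.trans ?_
  push_cast
  have : m * (4 * (a : ℤ)) + 2 * (2 * (b : ℤ)) = 4 * (m * a + b) := by ring
  rw [this]
  exact (Int.modEq_zero_iff_dvd).mpr (Dvd.intro _ rfl)

/-- changing signs on the support of a code word. -/
def signCh (c : Finset GolayPt) (x : GolayPt → ℤ) : GolayPt → ℤ :=
  fun i => if i ∈ c then -x i else x i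

theorem sum_signCh (c : Finset GolayPt) (x : GolayPt → ℤ) :
    ∑ i, signCh c x i = ∑ i, x i - 2 * ∑ i ∈ c, x i := by
  have h1 : ∀ i, signCh c x i = x i - 2 * (if i ∈ c then x i else 0) := by
    intro i
    unfold signCh
    split_ifs <;> ring
  simp only [h1, Finset.sum_sub_distrib, ← Finset.mul_sum]
  rw [Finset.sum_ite_mem, Finset.univ_inter]

theorem resW_signCh_even {c : Finset GolayPt} {x : GolayPt → ℤ} {m : ℤ}
    (hx : ∀ i, x i ≡ m [ZMOD 2]) (hm : m ≡ 0 [ZMOD 2]) (k : ℤ) :
    resW (signCh c x) k = resW x k := by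
  funext i
  have := hx i
  simp only [resW, signCh]
  split_ifs <;> first | rfl | (exfalso; unfold Int.ModEq at *; omega)

theorem resW_signCh_odd {c : Finset GolayPt} {x : GolayPt → ℤ} {m : ℤ}
    (hx : ∀ i, x i ≡ m [ZMOD 2]) (hm : m ≡ 1 [ZMOD 2]) {k : ℤ} (hk : k ≡ 1 [ZMOD 2]) :
    resW (signCh c x) k = resW x k + indW c := by
  funext i
  have := hx i
  simp only [resW, signCh, indW, Pi.add_apply]
  split_ifs <;> first | rfl | decide | (exfalso; unfold Int.ModEq at *; omega)

theorem resW_signCh_odd_even {c : Finset GolayPt} {x : GolayPt → ℤ} {m : ℤ}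
    (hx : ∀ i, x i ≡ m [ZMOD 2]) (hm : m ≡ 1 [ZMOD 2]) {k : ℤ} (hk : ¬ k ≡ 1 [ZMOD 2]) :
    resW (signCh c x) k = 0 := by
  funext i
  have := hx i
  simp only [resW, signCh, Pi.zero_apply]
  split_ifs <;> first | rfl | (exfalso; unfold Int.ModEq at *; omega)

theorem signCh_mem_leechSet {c : Finset GolayPt}
    (hc : c ∈ supports (golayCode : Set (GolayPt → ZMod 2))) {x : GolayPt → ℤ}
    (hx : x ∈ leechSet) : signCh c x ∈ leechSet := by
  have hsum := sum_on_codeword hx hc
  rw [mem_leechSet_iff] at *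
  obtain ⟨m, hm1, hm2, hm3⟩ := hx
  refine ⟨m, fun i => ?_, ?_, fun k => ?_⟩
  · have := hm1 i
    unfold signCh
    split_ifs <;> (unfold Int.ModEq at *; omega)
  · rw [sum_signCh]
    unfold Int.ModEq at *
    omega
  · rcases Int.emod_two_eq_zero_or_one m with h | h
    · rw [resW_signCh_even hm1 (by unfold Int.ModEq; omega)]
      exact hm3 k
    · have hm' : m ≡ 1 [ZMOD 2] := by unfold Int.ModEq; omega
      by_cases hk : k ≡ 1 [ZMOD 2]
      · rw [resW_signCh_odd hm1 hm' hk]
        exact add_mem (hm3 k) (indW_mem hc)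
      · rw [resW_signCh_odd_even hm1 hm' hk]
        exact zero_mem _

end Cfsg.Agent.Helper9.Leech
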