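import Mathlib
import Cfsg.Prelude.Def_Sporadic_a
import Cfsg.Prelude.Def_Spor_Conway
import Cfsg.Prelude.Def_SporadicCombinatorics
import Cfsg.Agent.Helper9.Leech.Norm

set_option autoImplicit false

/-!
The monomial automorphisms of the lattice: signed coordinate permutations with permutation part in
the group of the code and sign set a code word.
-/

namespace Cfsg.Agent.Helper9.Leech

open Cfsg
open Cfsg.Agent.Helper9.Golay

theorem signedPerm_eq (σ : Equiv.Perm GolayPt) (c : Finset GolayPt) (x : GolayPt → ℤ) :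
    signedPerm σ c x = signCh c (fun i => x (σ.symm i)) := rfl

theorem signedPerm_mem {σ : Equiv.Perm GolayPt} (hσ : σ ∈ M24) {c : Finset GolayPt}
    (hc : c ∈ supports (golayCode : Set (GolayPt → ZMod 2))) {x : GolayPt → ℤ}
    (hx : x ∈ leechLattice) : signedPerm σ c x ∈ leechLattice := by
  rw [mem_leechLattice_iff] at *
  rw [signedPerm_eq]
  exact signCh_mem_leechSet hc (comp_mem_leechSet (σ := σ⁻¹) (M24.inv_mem hσ) hx)

/-- the inverse of a signed permutation. -/
def signedPermInv (σ : Equiv.Perm GolayPt) (c : Finset GolayPt) (x : GolayPt → ℤ) :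
    GolayPt → ℤ := fun i => signCh c x (σ i)

theorem signedPermInv_signedPerm (σ : Equiv.Perm GolayPt) (c : Finset GolayPt)
    (x : GolayPt → ℤ) : signedPermInv σ c (signedPerm σ c x) = x := by
  funext i
  simp only [signedPermInv, signedPerm, signCh, Equiv.symm_apply_apply]
  split_ifs <;> simp

theorem signedPerm_signedPermInv (σ : Equiv.Perm GolayPt) (c : Finset GolayPt)
    (x : GolayPt → ℤ) : signedPerm σ c (signedPermInv σ c x) = x := by
  funext i
  simp only [signedPermInv, signedPerm, signCh, Equiv.apply_symm_apply]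
  split_ifs <;> simp

theorem signedPermInv_mem {σ : Equiv.Perm GolayPt} (hσ : σ ∈ M24) {c : Finset GolayPt}
    (hc : c ∈ supports (golayCode : Set (GolayPt → ZMod 2))) {x : GolayPt → ℤ}
    (hx : x ∈ leechLattice) : signedPermInv σ c x ∈ leechLattice := by
  rw [mem_leechLattice_iff] at *
  exact comp_mem_leechSet hσ (signCh_mem_leechSet hc hx)

theorem signedPerm_add (σ : Equiv.Perm GolayPt) (c : Finset GolayPt) (x y : GolayPt → ℤ) :
    signedPerm σ c (x + y) = signedPerm σ c x + signedPerm σ c y := by
  funext i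
  simp only [signedPerm, Pi.add_apply]
  split_ifs <;> ring

theorem sqNorm_signedPerm (σ : Equiv.Perm GolayPt) (c : Finset GolayPt) (x : GolayPt → ℤ) :
    sqNorm (signedPerm σ c x) = sqNorm x := by
  unfold sqNorm
  have h1 : ∀ i, signedPerm σ c x i ^ 2 = (fun j => x j ^ 2) (σ.symm i) := by
    intro i
    simp only [signedPerm]
    split_ifs <;> ring
  simp only [h1]
  exact Equiv.sum_comp σ.symm (fun j => x j ^ 2)

/-- the monomial automorphism of the lattice. -/
def monoPerm (σ : Equiv.Perm GolayPt) (hσ : σ ∈ M24) (c : Finset GolayPt)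
    (hc : c ∈ supports (golayCode : Set (GolayPt → ZMod 2))) : Equiv.Perm ↥leechLattice where
  toFun v := ⟨signedPerm σ c v, signedPerm_mem hσ hc v.2⟩
  invFun v := ⟨signedPermInv σ c v, signedPermInv_mem hσ hc v.2⟩
  left_inv v := Subtype.ext (signedPermInv_signedPerm σ c v)
  right_inv v := Subtype.ext (signedPerm_signedPermInv σ c v)

theorem monoPerm_mem (σ : Equiv.Perm GolayPt) (hσ : σ ∈ M24) (c : Finset GolayPt)
    (hc : c ∈ supports (golayCode : Set (GolayPt → ZMod 2))) : monoPerm σ hσ c hc ∈ Co0 := by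
  refine ⟨fun v w => ?_, fun v => ?_⟩
  · apply Subtype.ext
    exact signedPerm_add σ c v w
  · exact sqNorm_signedPerm σ c v

theorem monoPerm_apply (σ : Equiv.Perm GolayPt) (hσ : σ ∈ M24) (c : Finset GolayPt)
    (hc : c ∈ supports (golayCode : Set (GolayPt → ZMod 2))) (v : ↥leechLattice) :
    ((monoPerm σ hσ c hc v : ↥leechLattice) : GolayPt → ℤ) = signedPerm σ c v := rfl

/-- the vector with a single non-zero coordinate 8. -/
def e8 (i : GolayPt) : ↥leechLattice :=
  ⟨Pi.single i 8, (mem_leechLattice_iff _).mpr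
    (Spor.mem_leechSet_of_const_mod_four _ 0 0 (by decide)
      (by
        intro j
        by_cases h : j = i
        · rw [h, Pi.single_eq_same]; decide
        · rw [Pi.single_eq_of_ne h])
      (by
        rw [Finset.sum_pi_single']
        simp))⟩

theorem e8_apply (i j : GolayPt) : ((e8 i : ↥leechLattice) : GolayPt → ℤ) j =
    if j = i then 8 else 0 := by
  change (Pi.single i (8 : ℤ) : GolayPt → ℤ) j = _
  rw [Pi.single_apply]

/-- an automorphism as an additive map. -/
def toAddHom {f : Equiv.Perm ↥leechLattice} (hf : f ∈ Co0) : ↥leechLattice →+ ↥leechLattice :=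
  AddMonoidHom.mk' f hf.1

theorem toAddHom_apply {f : Equiv.Perm ↥leechLattice} (hf : f ∈ Co0) (v : ↥leechLattice) :
    toAddHom hf v = f v := rfl

/-- eight times a vector of the lattice is a combination of the vectors `e8 i`. -/
theorem eight_smul_eq (v : ↥leechLattice) :
    (8 : ℤ) • v = ∑ i, ((v : GolayPt → ℤ) i) • e8 i := by
  apply Subtype.ext
  funext j
  rw [AddSubgroup.coe_zsmul, AddSubgroup.val_finsetSum, Finset.sum_apply]
  simp only [AddSubgroup.coe_zsmul, Pi.smul_apply, e8_apply, smul_eq_mul, mul_ite, mul_zero]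
  rw [Finset.sum_ite_eq Finset.univ j]
  simp
  ring

end Cfsg.Agent.Helper9.Leech
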