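import Mathlib
import Cfsg.Prelude.Def_Sporadic_a
import Cfsg.Prelude.Def_Spor_Conway
import Cfsg.Prelude.Def_SporadicCombinatorics
import Cfsg.Agent.Helper9.Leech.Monomial
import Cfsg.Agent.S0358
import Cfsg.Agent.Helper9.Golay.M24Trans

set_option autoImplicit false

/-!
The automorphisms of the lattice stabilizing the standard cross are the monomial maps of the code.
-/

namespace Cfsg.Agent.Helper9.Leech

open Cfsg
open Cfsg.Agent.Helper9.Golay
open scoped Pointwise

/-- the automorphism stabilizes the standard cross. -/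
def StabCross (g : ↥Co0) : Prop :=
  ∀ v : ↥leechLattice, (v : GolayPt → ℤ) ∈ stdCross →
    ((g • v : ↥leechLattice) : GolayPt → ℤ) ∈ stdCross

theorem e8_mem_stdCross (i : GolayPt) : ((e8 i : ↥leechLattice) : GolayPt → ℤ) ∈ stdCross :=
  ⟨i, 8, Or.inl rfl, rfl⟩

theorem map_neg' {f : Equiv.Perm ↥leechLattice} (hf : f ∈ Co0) (v : ↥leechLattice) :
    f (-v) = -f v := by
  have h0 : f 0 = 0 := by
    have := hf.1 0 0
    rw [add_zero] at this
    exact left_eq_add.mp this
  have h1 := hf.1 v (-v)
  rw [add_neg_cancel, h0] at h1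
  exact (neg_eq_of_add_eq_zero_right h1.symm).symm

/-- an automorphism stabilizing the standard cross acts as a signed permutation. -/
theorem exists_signedPerm (g : ↥Co0) (hg : StabCross g) :
    ∃ (σ : Equiv.Perm GolayPt) (c : Finset GolayPt), ∀ v : ↥leechLattice,
      ((g.1 v : ↥leechLattice) : GolayPt → ℤ) = signedPerm σ c v := by
  classical
  have h1 : ∀ i : GolayPt, ∃ (j : GolayPt) (s : ℤ), (s = 8 ∨ s = -8) ∧
      ((g.1 (e8 i) : ↥leechLattice) : GolayPt → ℤ) = Pi.single j s :=
    fun i => hg (e8 i) (e8_mem_stdCross i)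
  choose π s hs hπ using h1
  have hinj : Function.Injective π := by
    intro i j hij
    have hsij : s i = s j ∨ s i = -s j := by
      rcases hs i with h | h <;> rcases hs j with h' | h' <;> rw [h, h'] <;> simp
    have key : e8 i = e8 j ∨ e8 i = -e8 j := by
      rcases hsij with h | h
      · left
        apply g.1.injective
        apply Subtype.ext
        rw [hπ i, hπ j, hij, h]
      · right
        apply g.1.injective
        rw [map_neg' g.2]
        apply Subtype.ext
        change _ = -(((g.1 (e8 j) : ↥leechLattice) : GolayPt → ℤ))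
        rw [hπ i, hπ j, hij, h, Pi.single_neg]
    by_contra hne
    rcases key with h | h
    · have := congrArg (fun v : ↥leechLattice => (v : GolayPt → ℤ) i) h
      change ((e8 i : ↥leechLattice) : GolayPt → ℤ) i =
        ((e8 j : ↥leechLattice) : GolayPt → ℤ) i at this
      rw [e8_apply, e8_apply, if_pos rfl, if_neg hne] at this
      omega
    · have := congrArg (fun v : ↥leechLattice => (v : GolayPt → ℤ) i) h
      change ((e8 i : ↥leechLattice) : GolayPt → ℤ) i =
        -(((e8 j : ↥leechLattice) : GolayPt → ℤ) i) at this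
      rw [e8_apply, e8_apply, if_pos rfl, if_neg hne] at this
      omega
  let σ : Equiv.Perm GolayPt := Equiv.ofBijective π (Finite.injective_iff_bijective.mp hinj)
  have hσ : ∀ i, σ i = π i := fun i => rfl
  refine ⟨σ, Finset.univ.filter (fun k => s (σ.symm k) = -8), ?_⟩
  intro v
  have h8 : (8 : ℤ) • (g.1 v) = ∑ i, ((v : GolayPt → ℤ) i) • g.1 (e8 i) := by
    have h1 : (8 : ℤ) • g.1 v = toAddHom g.2 ((8 : ℤ) • v) := by
      rw [map_zsmul]
      rfl
    rw [h1, eight_smul_eq, map_sum]
    apply Finset.sum_congr rfl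
    intro i _
    rw [map_zsmul, toAddHom_apply]
  funext k
  have h9 := congrArg (fun w : ↥leechLattice => (w : GolayPt → ℤ) k) h8
  simp only [AddSubgroup.coe_zsmul, Pi.smul_apply, smul_eq_mul, AddSubgroup.val_finsetSum,
    Finset.sum_apply] at h9
  have h10 : ∀ i, (v : GolayPt → ℤ) i * ((g.1 (e8 i) : ↥leechLattice) : GolayPt → ℤ) k =
      if i = σ.symm k then (v : GolayPt → ℤ) i * s i else 0 := by
    intro i
    rw [hπ i, Pi.single_apply]
    by_cases hik : i = σ.symm k
    · have : k = π i := by rw [hik, ← hσ, Equiv.apply_symm_apply]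
      rw [if_pos this, if_pos hik]
    · have : k ≠ π i := by
        intro h
        apply hik
        rw [h, ← hσ, Equiv.symm_apply_apply]
      rw [if_neg this, if_neg hik, mul_zero]
  simp only [h10] at h9
  rw [Finset.sum_ite_eq' Finset.univ (σ.symm k)] at h9
  simp only [Finset.mem_univ, if_true] at h9
  simp only [signedPerm, Finset.mem_filter, Finset.mem_univ, true_and]
  rcases hs (σ.symm k) with h | h
  · rw [h] at h9
    rw [if_neg (by rw [h]; norm_num)]
    omega
  · rw [h] at h9
    rw [if_pos h]
    omega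

/-- twice the indicator of a code word, as an integer vector. -/
def twiceW (w : GolayPt → ZMod 2) : GolayPt → ℤ := fun i => if w i = 1 then 2 else 0

theorem zmod2_cases (a : ZMod 2) : a = 0 ∨ a = 1 := by
  revert a
  decide

theorem twiceW_zero {w : GolayPt → ZMod 2} {i : GolayPt} (h : w i = 0) : twiceW w i = 0 := by
  unfold twiceW
  rw [if_neg]
  rw [h]
  decide

theorem twiceW_one {w : GolayPt → ZMod 2} {i : GolayPt} (h : w i = 1) : twiceW w i = 2 := by
  unfold twiceW
  rw [if_pos h]

theorem resW_apply (x : GolayPt → ℤ) (k : ℤ) (i : GolayPt) :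
    resW x k i = if x i ≡ k [ZMOD 4] then 1 else 0 := rfl

theorem twiceW_mem {w : GolayPt → ZMod 2} (hw : w ∈ golayCode) : twiceW w ∈ leechSet := by
  rw [mem_leechSet_iff]
  refine ⟨0, ?_, ?_, ?_⟩
  · intro i
    unfold twiceW
    split_ifs <;> decide
  · have h4 : (4 : ℕ) ∣ (support₂ w).card := four_dvd_card ⟨w, hw, rfl⟩
    have hsum : ∑ i, twiceW w i = 2 * ((support₂ w).card : ℤ) := by
      unfold twiceW
      rw [Finset.sum_ite, Finset.sum_const_zero, add_zero, Finset.sum_const, nsmul_eq_mul]
      have : (Finset.univ.filter fun i => w i = 1) = support₂ w := by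
        ext i
        rcases zmod2_cases (w i) with h | h <;> simp [support₂, h]
      rw [this]
      ring
    rw [hsum]
    obtain ⟨t, ht⟩ := h4
    rw [ht]
    push_cast
    have : (2 : ℤ) * (4 * (t : ℤ)) = 8 * t := by ring
    rw [this]
    unfold Int.ModEq
    omega
  · intro k
    have hk : k % 4 = 0 ∨ k % 4 = 1 ∨ k % 4 = 2 ∨ k % 4 = 3 := by omega
    rcases hk with hk | hk | hk | hk
    · have : resW (twiceW w) k = 1 + w := by
        funext i
        rw [resW_apply, Pi.add_apply, Pi.one_apply]
        rcases zmod2_cases (w i) with h | h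
        · rw [twiceW_zero h, h, if_pos (by unfold Int.ModEq; omega)]
          decide
        · rw [twiceW_one h, h, if_neg (by unfold Int.ModEq; omega)]
          decide
      rw [this]
      exact add_mem one_mem_code hw
    · have : resW (twiceW w) k = 0 := by
        funext i
        rw [resW_apply, Pi.zero_apply]
        rcases zmod2_cases (w i) with h | h
        · rw [twiceW_zero h, if_neg (by unfold Int.ModEq; omega)]
        · rw [twiceW_one h, if_neg (by unfold Int.ModEq; omega)]
      rw [this]
      exact zero_mem _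
    · have : resW (twiceW w) k = w := by
        funext i
        rw [resW_apply]
        rcases zmod2_cases (w i) with h | h
        · rw [twiceW_zero h, h, if_neg (by unfold Int.ModEq; omega)]
        · rw [twiceW_one h, h, if_pos (by unfold Int.ModEq; omega)]
      rw [this]
      exact hw
    · have : resW (twiceW w) k = 0 := by
        funext i
        rw [resW_apply, Pi.zero_apply]
        rcases zmod2_cases (w i) with h | h
        · rw [twiceW_zero h, if_neg (by unfold Int.ModEq; omega)]
        · rw [twiceW_one h, if_neg (by unfold Int.ModEq; omega)]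
      rw [this]
      exact zero_mem _

/-- the permutation part lies in the group of the code. -/
theorem perm_mem_M24 {σ : Equiv.Perm GolayPt} {c : Finset GolayPt}
    (h : ∀ x ∈ leechLattice, signedPerm σ c x ∈ leechLattice) : σ ∈ M24 := by
  have hinv : σ⁻¹ ∈ M24 := by
    apply mem_M24_of_comp_span σ⁻¹ (golayCode : Set (GolayPt → ZMod 2)) Submodule.subset_span
    intro w hw
    have h1 := h (twiceW w) ((mem_leechLattice_iff _).mpr (twiceW_mem hw))
    rw [mem_leechLattice_iff, mem_leechSet_iff] at h1
    obtain ⟨m, -, -, h3⟩ := h1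
    have h4 := h3 2
    have : resW (signedPerm σ c (twiceW w)) 2 = w ∘ (σ⁻¹ : Equiv.Perm GolayPt) := by
      funext i
      rw [resW_apply, Function.comp_apply]
      have e : σ⁻¹ i = σ.symm i := rfl
      rw [e]
      have hval : signedPerm σ c (twiceW w) i = twiceW w (σ.symm i) ∨
          signedPerm σ c (twiceW w) i = -twiceW w (σ.symm i) := by
        unfold signedPerm
        split_ifs
        · right; rfl
        · left; rfl
      rcases zmod2_cases (w (σ.symm i)) with h | h
      · rw [twiceW_zero h] at hval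
        rw [h, if_neg]
        unfold Int.ModEq
        omega
      · rw [twiceW_one h] at hval
        rw [h, if_pos]
        unfold Int.ModEq
        omega
    rw [this] at h4
    exact h4
  have := M24.inv_mem hinv
  rwa [inv_inv] at this

/-- the vector with coordinates `-3, 1, ..., 1`. -/
def vec31 : GolayPt → ℤ := fun i => if i = none then -3 else 1

theorem vec31_mem : vec31 ∈ leechSet :=
  Spor.mem_leechSet_of_const_mod_four vec31 1 1 (by decide)
    (by
      intro i
      unfold vec31
      split_ifs <;> decide)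
    (by decide)

/-- the set of sign changes is a code word. -/
theorem signs_mem {σ : Equiv.Perm GolayPt} {c : Finset GolayPt}
    (h : ∀ x ∈ leechLattice, signedPerm σ c x ∈ leechLattice) :
    c ∈ supports (golayCode : Set (GolayPt → ZMod 2)) := by
  have h1 := h vec31 ((mem_leechLattice_iff _).mpr vec31_mem)
  rw [mem_leechLattice_iff] at h1
  obtain ⟨m, -, -, h3⟩ := h1
  have h4 := h3 3
  have : (Finset.univ.filter fun i => signedPerm σ c vec31 i ≡ 3 [ZMOD 4]) = c := by
    ext i
    rw [Finset.mem_filter]
    simp only [Finset.mem_univ, true_and]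
    have hv : vec31 (σ.symm i) = -3 ∨ vec31 (σ.symm i) = 1 := by
      unfold vec31
      split_ifs
      · left; rfl
      · right; rfl
    unfold signedPerm Int.ModEq
    by_cases hi : i ∈ c
    · rw [if_pos hi]
      constructor
      · intro _
        exact hi
      · intro _
        rcases hv with h | h <;> rw [h] <;> decide
    · rw [if_neg hi]
      constructor
      · intro h'
        exfalso
        rcases hv with h | h <;> rw [h] at h' <;> revert h' <;> decide
      · intro h'
        exact absurd h' hi
  rw [this] at h4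
  exact h4

theorem signedPerm_single (σ : Equiv.Perm GolayPt) (c : Finset GolayPt) (i : GolayPt) (s : ℤ) :
    signedPerm σ c (Pi.single i s) = Pi.single (σ i) (if σ i ∈ c then -s else s) := by
  funext k
  simp only [signedPerm, Pi.single_apply]
  by_cases hk : k = σ i
  · rw [hk, Equiv.symm_apply_apply]
    simp
  · have : σ.symm k ≠ i := by
      intro h
      apply hk
      rw [← h, Equiv.apply_symm_apply]
    rw [if_neg this, if_neg hk]
    simp

theorem monoPerm_stab (σ : Equiv.Perm GolayPt) (hσ : σ ∈ M24) (c : Finset GolayPt)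
    (hc : c ∈ supports (golayCode : Set (GolayPt → ZMod 2))) :
    StabCross ⟨monoPerm σ hσ c hc, monoPerm_mem σ hσ c hc⟩ := by
  intro v hv
  obtain ⟨i, s, hs, hvs⟩ := hv
  change signedPerm σ c (v : GolayPt → ℤ) ∈ stdCross
  rw [hvs, signedPerm_single]
  refine ⟨σ i, _, ?_, rfl⟩
  split_ifs
  · rcases hs with h | h
    · right; rw [h]
    · left; rw [h]; norm_num
  · exact hs

/-- the first part of the statement. -/
theorem stab_monomial (g : ↥Co0) (hg : StabCross g) :
    ∃ (σ : Equiv.Perm GolayPt) (hσ : σ ∈ M24) (c : Finset GolayPt)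
      (hc : c ∈ supports (golayCode : Set (GolayPt → ZMod 2))),
      g = ⟨monoPerm σ hσ c hc, monoPerm_mem σ hσ c hc⟩ := by
  obtain ⟨σ, c, h⟩ := exists_signedPerm g hg
  have hpres : ∀ x ∈ leechLattice, signedPerm σ c x ∈ leechLattice := by
    intro x hx
    rw [← h ⟨x, hx⟩]
    exact (g.1 ⟨x, hx⟩).2
  refine ⟨σ, perm_mem_M24 hpres, c, signs_mem hpres, ?_⟩
  apply Subtype.ext
  apply Equiv.ext
  intro v
  apply Subtype.ext
  exact h v

theorem monoPerm_injective {σ σ' : Equiv.Perm GolayPt} {hσ : σ ∈ M24} {hσ' : σ' ∈ M24}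
    {c c' : Finset GolayPt} {hc : c ∈ supports (golayCode : Set (GolayPt → ZMod 2))}
    {hc' : c' ∈ supports (golayCode : Set (GolayPt → ZMod 2))}
    (h : monoPerm σ hσ c hc = monoPerm σ' hσ' c' hc') : σ = σ' ∧ c = c' := by
  have key : ∀ i, σ i = σ' i ∧ (σ i ∈ c ↔ σ' i ∈ c') := by
    intro i
    have h1 := congrArg (fun f : Equiv.Perm ↥leechLattice =>
      ((f (e8 i) : ↥leechLattice) : GolayPt → ℤ)) h
    simp only [monoPerm_apply] at h1
    change signedPerm σ c (Pi.single i 8) = signedPerm σ' c' (Pi.single i 8) at h1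
    rw [signedPerm_single, signedPerm_single] at h1
    have h2 := congrFun h1 (σ i)
    rw [Pi.single_eq_same, Pi.single_apply] at h2
    have hσi : σ i = σ' i := by
      by_contra hne
      rw [if_neg hne] at h2
      split_ifs at h2 <;> omega
    refine ⟨hσi, ?_⟩
    rw [if_pos hσi] at h2
    rw [← hσi]
    rw [← hσi] at h2
    constructor
    · intro hi
      by_contra hi'
      rw [if_pos hi, if_neg hi'] at h2
      omega
    · intro hi'
      by_contra hi
      rw [if_neg hi, if_pos hi'] at h2
      omega
  have hσσ : σ = σ' := Equiv.ext (fun i => (key i).1)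
  refine ⟨hσσ, ?_⟩
  ext k
  have := (key (σ.symm k)).2
  rw [← hσσ, Equiv.apply_symm_apply] at this
  exact this

theorem card_supports : Nat.card ↥(supports (golayCode : Set (GolayPt → ZMod 2))) = 4096 := by
  have h1 : Nat.card ↥golayCode = 4096 := by
    have h := Module.natCard_eq_pow_finrank (K := ZMod 2) (V := golayCode)
    rw [Cfsg.Agent.S0358.result, Nat.card_zmod] at h
    rw [h]
    norm_num
  rw [← h1]
  symm
  apply Nat.card_congr
  exact Equiv.ofBijective
    (fun w : ↥golayCode => (⟨support₂ (w : GolayPt → ZMod 2), ⟨w, w.2, rfl⟩⟩ :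
      ↥(supports (golayCode : Set (GolayPt → ZMod 2)))))
    ⟨fun a b hab => Subtype.ext (eq_of_support₂_eq (congrArg Subtype.val hab)),
      fun ⟨s, w, hw, hws⟩ => ⟨⟨w, hw⟩, Subtype.ext hws⟩⟩

theorem card_stabCross :
    Nat.card {g : ↥Co0 // StabCross g} = 4096 * 244823040 := by
  have e : ↥M24 × ↥(supports (golayCode : Set (GolayPt → ZMod 2))) ≃
      {g : ↥Co0 // StabCross g} :=
    Equiv.ofBijective
      (fun p => ⟨⟨monoPerm p.1.1 p.1.2 p.2.1 p.2.2, monoPerm_mem p.1.1 p.1.2 p.2.1 p.2.2⟩,
        monoPerm_stab p.1.1 p.1.2 p.2.1 p.2.2⟩)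
      ⟨by
        rintro ⟨⟨σ, hσ⟩, ⟨c, hc⟩⟩ ⟨⟨σ', hσ'⟩, ⟨c', hc'⟩⟩ h
        have h1 : monoPerm σ hσ c hc = monoPerm σ' hσ' c' hc' :=
          congrArg (fun z : {g : ↥Co0 // StabCross g} =>
            ((z : ↥Co0) : Equiv.Perm ↥leechLattice)) h
        obtain ⟨h2, h3⟩ := monoPerm_injective h1
        subst h2
        subst h3
        rfl,
      by
        rintro ⟨g, hg⟩
        obtain ⟨σ, hσ, c, hc, rfl⟩ := stab_monomial g hg
        exact ⟨⟨⟨σ, hσ⟩, ⟨c, hc⟩⟩, rfl⟩⟩
  rw [← Nat.card_congr e, Nat.card_prod, card_supports, card_M24, mul_comm]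

end Cfsg.Agent.Helper9.Leech
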