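import Mathlib
import Cfsg.Prelude.Def_Sporadic_a
import Cfsg.Prelude.Def_Spor_Conway
import Cfsg.Prelude.Def_SporadicCombinatorics
import Cfsg.Agent.Helper9.Leech.CrossStab

set_option autoImplicit false

/-!
A subgroup of index `2 ^ 12` of the lattice, containing twice the lattice, on which the sum of
squares is divisible by 32.
-/

namespace Cfsg.Agent.Helper9.Leech

open Cfsg
open Cfsg.Agent.Helper9.Golay

/-- the second binary digit of an integer. -/
def bit2 (t : ℤ) : ZMod 2 := ((t / 2 : ℤ) : ZMod 2)

theorem bit2_add_even {s t : ℤ} (hs : s % 2 = 0) : bit2 (s + t) = bit2 s + bit2 t := by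
  unfold bit2
  rw [← Int.cast_add]
  congr 1
  omega

theorem bit2_add_odd {s t : ℤ} (hs : s % 2 = 1) (ht : t % 2 = 1) :
    bit2 (s + t) = bit2 s + bit2 t + 1 := by
  unfold bit2
  have : (s + t) / 2 = s / 2 + t / 2 + 1 := by omega
  rw [this]
  push_cast
  ring

theorem bit2_eq_zero_iff {t : ℤ} : bit2 t = 0 ↔ t % 4 = 0 ∨ t % 4 = 1 := by
  unfold bit2
  rw [ZMod.intCast_zmod_eq_zero_iff_dvd]
  constructor
  · intro h
    omega
  · intro h
    omega

theorem bit2_eq_one_iff {t : ℤ} : bit2 t = 1 ↔ t % 4 = 2 ∨ t % 4 = 3 := by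
  rcases zmod2_cases (bit2 t) with h | h
  · rw [h]
    have := bit2_eq_zero_iff.mp h
    constructor
    · intro h'
      exact absurd h' (by decide)
    · intro h'
      omega
  · rw [h]
    have : ¬ (t % 4 = 0 ∨ t % 4 = 1) := fun h' => by
      rw [bit2_eq_zero_iff.mpr h'] at h
      exact absurd h (by decide)
    constructor
    · intro _
      omega
    · intro _
      rfl

/-- the coordinates of a vector of the lattice have the same parity. -/
theorem parity_eq {x : GolayPt → ℤ} (hx : x ∈ leechLattice) (i j : GolayPt) :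
    x i % 2 = x j % 2 := by
  rw [mem_leechLattice_iff, mem_leechSet_iff] at hx
  obtain ⟨m, hm, -, -⟩ := hx
  have h1 := hm i
  have h2 := hm j
  unfold Int.ModEq at h1 h2
  rw [h1, h2]

theorem self_add_self (a : ZMod 2) : a + a = 0 := by
  revert a
  decide

/-- the map to the parity and the second digits of the coordinates. -/
def sing : ↥leechLattice →+ ZMod 2 × (GolayPt → ZMod 2) where
  toFun x := ((((x : GolayPt → ℤ) none : ℤ) : ZMod 2),
    fun i => bit2 ((x : GolayPt → ℤ) i) + bit2 ((x : GolayPt → ℤ) none))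
  map_zero' := by
    apply Prod.ext
    · simp
    · funext i
      simp [bit2]
  map_add' x y := by
    apply Prod.ext
    · simp
    · funext i
      change bit2 ((x : GolayPt → ℤ) i + (y : GolayPt → ℤ) i) +
        bit2 ((x : GolayPt → ℤ) none + (y : GolayPt → ℤ) none) =
        (bit2 ((x : GolayPt → ℤ) i) + bit2 ((x : GolayPt → ℤ) none)) +
        (bit2 ((y : GolayPt → ℤ) i) + bit2 ((y : GolayPt → ℤ) none))
      have hx := parity_eq x.2 i none
      have hy := parity_eq y.2 i none
      rcases Int.emod_two_eq_zero_or_one ((x : GolayPt → ℤ) none) with h | h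
      · rw [bit2_add_even (by omega), bit2_add_even h]
        ring
      · rcases Int.emod_two_eq_zero_or_one ((y : GolayPt → ℤ) none) with h' | h'
        · rw [add_comm ((x : GolayPt → ℤ) i), add_comm ((x : GolayPt → ℤ) none),
            bit2_add_even (by omega), bit2_add_even h']
          ring
        · rw [bit2_add_odd (by omega) (by omega), bit2_add_odd h h']
          have := self_add_self 1
          linear_combination this

theorem sing_fst (x : ↥leechLattice) :
    (sing x).1 = (((x : GolayPt → ℤ) none : ℤ) : ZMod 2) := rfl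

theorem sing_snd (x : ↥leechLattice) (i : GolayPt) :
    (sing x).2 i = bit2 ((x : GolayPt → ℤ) i) + bit2 ((x : GolayPt → ℤ) none) := rfl

/-- the subgroup. -/
def singSub : AddSubgroup (GolayPt → ℤ) := sing.ker.map leechLattice.subtype

theorem singSub_le : singSub ≤ leechLattice := by
  rintro x ⟨y, -, rfl⟩
  exact y.2

theorem singSub_of : singSub.addSubgroupOf leechLattice = sing.ker := by
  ext x
  rw [AddSubgroup.mem_addSubgroupOf]
  constructor
  · rintro ⟨y, hy, hyx⟩
    have : y = x := Subtype.ext hyx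
    rw [← this]
    exact hy
  · intro hx
    exact ⟨x, hx, rfl⟩

theorem two_smul_mem {v : GolayPt → ℤ} (hv : v ∈ leechLattice) : (2 : ℤ) • v ∈ singSub := by
  refine ⟨(2 : ℤ) • (⟨v, hv⟩ : ↥leechLattice), ?_, rfl⟩
  rw [SetLike.mem_coe, AddMonoidHom.mem_ker, two_smul, map_add]
  apply Prod.ext
  · exact self_add_self _
  · funext i
    exact self_add_self _

/-- the coordinates of a vector of the subgroup are all `0` or all `2` modulo 4. -/
theorem mem_singSub_mod {v : GolayPt → ℤ} (hv : v ∈ singSub) :
    (∀ i, v i % 4 = 0) ∨ (∀ i, v i % 4 = 2) := by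
  obtain ⟨y, hy, rfl⟩ := hv
  rw [SetLike.mem_coe, AddMonoidHom.mem_ker] at hy
  have h1 : (((y : GolayPt → ℤ) none : ℤ) : ZMod 2) = 0 := congrArg Prod.fst hy
  rw [ZMod.intCast_zmod_eq_zero_iff_dvd] at h1
  have h2 : ∀ i, bit2 ((y : GolayPt → ℤ) i) = bit2 ((y : GolayPt → ℤ) none) := by
    intro i
    have := congrFun (congrArg Prod.snd hy) i
    rw [sing_snd] at this
    have h3 := self_add_self (bit2 ((y : GolayPt → ℤ) none))
    change _ = (0 : ZMod 2) at this
    linear_combination this - h3
  have hpar : ∀ i, (y : GolayPt → ℤ) i % 2 = 0 := by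
    intro i
    rw [parity_eq y.2 i none]
    omega
  rcases zmod2_cases (bit2 ((y : GolayPt → ℤ) none)) with h | h
  · left
    intro i
    have := bit2_eq_zero_iff.mp ((h2 i).trans h)
    have := hpar i
    change (y : GolayPt → ℤ) i % 4 = 0
    omega
  · right
    intro i
    have := bit2_eq_one_iff.mp ((h2 i).trans h)
    have := hpar i
    change (y : GolayPt → ℤ) i % 4 = 2
    omega

theorem sum_mod_eight {v : GolayPt → ℤ} (hv : v ∈ leechLattice) (h0 : v none % 2 = 0) :
    (8 : ℤ) ∣ ∑ i, v i := by
  rw [mem_leechLattice_iff, mem_leechSet_iff] at hv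
  obtain ⟨m, hm, hsum, -⟩ := hv
  have h1 := hm none
  unfold Int.ModEq at h1 hsum
  omega

theorem dvd_sqNorm_of_mem {v : GolayPt → ℤ} (hv : v ∈ singSub) : (32 : ℤ) ∣ sqNorm v := by
  have hvL := singSub_le hv
  unfold sqNorm
  rcases mem_singSub_mod hv with h | h
  · have h1 : ∀ i, (32 : ℤ) ∣ v i ^ 2 - 4 * v i := by
      intro i
      obtain ⟨u, hu⟩ : (4 : ℤ) ∣ v i := Int.dvd_of_emod_eq_zero (h i)
      rw [hu]
      obtain ⟨k, hk⟩ := Int.even_mul_pred_self u
      have : (4 * u) ^ 2 - 4 * (4 * u) = 16 * (u * (u - 1)) := by ring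
      rw [this, hk]
      exact ⟨k, by ring⟩
    have h2 : ∑ i, v i ^ 2 = ∑ i, (v i ^ 2 - 4 * v i) + 4 * ∑ i, v i := by
      rw [Finset.mul_sum, ← Finset.sum_add_distrib]
      apply Finset.sum_congr rfl
      intro i _
      ring
    rw [h2]
    apply dvd_add (Finset.dvd_sum (fun i _ => h1 i))
    obtain ⟨k, hk⟩ := sum_mod_eight hvL (by have := h none; omega)
    rw [hk]
    exact ⟨k, by ring⟩
  · have h1 : ∀ i, (32 : ℤ) ∣ v i ^ 2 - 4 := by
      intro i
      obtain ⟨u, hu⟩ : (4 : ℤ) ∣ v i - 2 := Int.dvd_of_emod_eq_zero (by have := h i; omega)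
      have hv' : v i = 4 * u + 2 := by omega
      rw [hv']
      obtain ⟨k, hk⟩ := Int.even_mul_succ_self u
      have : (4 * u + 2) ^ 2 - 4 = 16 * (u * (u + 1)) := by ring
      rw [this, hk]
      exact ⟨k, by ring⟩
    have h2 : ∑ i, v i ^ 2 = ∑ i, (v i ^ 2 - 4) + 96 := by
      rw [Finset.sum_sub_distrib]
      simp
    rw [h2]
    exact dvd_add (Finset.dvd_sum (fun i _ => h1 i)) ⟨3, by norm_num⟩

theorem const_add_mem {w : GolayPt → ZMod 2} (hw : w ∈ golayCode) (a : ZMod 2) :
    (fun i => w i + a) ∈ golayCode := by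
  rcases zmod2_cases a with h | h
  · rw [h]
    simpa using hw
  · rw [h]
    exact add_mem hw one_mem_code

/-- the code word attached to a vector of the lattice. -/
theorem sing_code (x : ↥leechLattice) :
    (fun i => (sing x).2 i + (sing x).1) ∈ golayCode := by
  have hx := x.2
  rw [mem_leechLattice_iff, mem_leechSet_iff] at hx
  obtain ⟨m, -, -, hres⟩ := hx
  rcases Int.emod_two_eq_zero_or_one ((x : GolayPt → ℤ) none) with h | h
  · have h1 : (fun i => (sing x).2 i + (sing x).1) =
        fun i => resW (x : GolayPt → ℤ) 2 i + (bit2 ((x : GolayPt → ℤ) none) + (sing x).1) := by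
      funext i
      rw [sing_snd, resW_apply]
      have hi : (x : GolayPt → ℤ) i % 2 = 0 := by rw [parity_eq x.2 i none]; exact h
      have : bit2 ((x : GolayPt → ℤ) i) = if (x : GolayPt → ℤ) i ≡ 2 [ZMOD 4] then 1 else 0 := by
        split_ifs with h2
        · rw [bit2_eq_one_iff]
          unfold Int.ModEq at h2
          omega
        · rw [bit2_eq_zero_iff]
          unfold Int.ModEq at h2
          omega
      rw [this]
      ring
    rw [h1]
    exact const_add_mem (hres 2) _
  · have h1 : (fun i => (sing x).2 i + (sing x).1) =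
        fun i => resW (x : GolayPt → ℤ) 3 i + (bit2 ((x : GolayPt → ℤ) none) + (sing x).1) := by
      funext i
      rw [sing_snd, resW_apply]
      have hi : (x : GolayPt → ℤ) i % 2 = 1 := by rw [parity_eq x.2 i none]; exact h
      have : bit2 ((x : GolayPt → ℤ) i) = if (x : GolayPt → ℤ) i ≡ 3 [ZMOD 4] then 1 else 0 := by
        split_ifs with h2
        · rw [bit2_eq_one_iff]
          unfold Int.ModEq at h2
          omega
        · rw [bit2_eq_zero_iff]
          unfold Int.ModEq at h2
          omega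
      rw [this]
      ring
    rw [h1]
    exact const_add_mem (hres 3) _

/-- a vector of the lattice attached to a code word. -/
def liftW (u : GolayPt → ZMod 2) : GolayPt → ℤ :=
  if u none = 1 then twiceW u + vec31 else twiceW u

theorem liftW_of_zero {u : GolayPt → ZMod 2} (h : u none = 0) : liftW u = twiceW u := by
  unfold liftW
  rw [if_neg (by rw [h]; decide)]

theorem liftW_of_one {u : GolayPt → ZMod 2} (h : u none = 1) :
    liftW u = twiceW u + vec31 := by
  unfold liftW
  rw [if_pos h]

theorem liftW_mem {u : GolayPt → ZMod 2} (hu : u ∈ golayCode) : liftW u ∈ leechLattice := by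
  unfold liftW
  split_ifs
  · exact add_mem ((mem_leechLattice_iff _).mpr (twiceW_mem hu))
      ((mem_leechLattice_iff _).mpr vec31_mem)
  · exact (mem_leechLattice_iff _).mpr (twiceW_mem hu)

theorem bit2_twiceW (u : GolayPt → ZMod 2) (i : GolayPt) : bit2 (twiceW u i) = u i := by
  rcases zmod2_cases (u i) with h | h
  · rw [twiceW_zero h, h]
    decide
  · rw [twiceW_one h, h]
    decide

theorem cast_twiceW (u : GolayPt → ZMod 2) (i : GolayPt) : ((twiceW u i : ℤ) : ZMod 2) = 0 := by
  rcases zmod2_cases (u i) with h | h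
  · rw [twiceW_zero h]
    decide
  · rw [twiceW_one h]
    decide

theorem sing_twiceW {u : GolayPt → ZMod 2} (hu : u ∈ golayCode) :
    sing ⟨twiceW u, (mem_leechLattice_iff _).mpr (twiceW_mem hu)⟩ =
      (0, fun i => u i + u none) := by
  apply Prod.ext
  · exact cast_twiceW u none
  · funext i
    rw [sing_snd]
    change bit2 (twiceW u i) + bit2 (twiceW u none) = _
    rw [bit2_twiceW, bit2_twiceW]

theorem sing_vec31 : sing ⟨vec31, (mem_leechLattice_iff _).mpr vec31_mem⟩ = (1, 0) := by
  apply Prod.ext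
  · decide
  · funext i
    rw [sing_snd]
    change bit2 (vec31 i) + bit2 (vec31 none) = 0
    unfold vec31
    split_ifs <;> decide

theorem sing_liftW {u : GolayPt → ZMod 2} (hu : u ∈ golayCode) :
    sing ⟨liftW u, liftW_mem hu⟩ = (u none, fun i => u i + u none) := by
  rcases zmod2_cases (u none) with h | h
  · have e : (⟨liftW u, liftW_mem hu⟩ : ↥leechLattice) =
        ⟨twiceW u, (mem_leechLattice_iff _).mpr (twiceW_mem hu)⟩ := by
      apply Subtype.ext
      exact liftW_of_zero h
    rw [e, sing_twiceW hu, h]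
  · have e : (⟨liftW u, liftW_mem hu⟩ : ↥leechLattice) =
        ⟨twiceW u, (mem_leechLattice_iff _).mpr (twiceW_mem hu)⟩ +
        ⟨vec31, (mem_leechLattice_iff _).mpr vec31_mem⟩ := by
      apply Subtype.ext
      exact liftW_of_one h
    rw [e, map_add, sing_twiceW hu, sing_vec31, h]
    apply Prod.ext
    · simp
    · funext i
      simp

theorem card_range_sing : Nat.card ↥sing.range = 4096 := by
  have h1 : Nat.card ↥golayCode = 4096 := by
    have h := Module.natCard_eq_pow_finrank (K := ZMod 2) (V := golayCode)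
    rw [Cfsg.Agent.S0358.result, Nat.card_zmod] at h
    rw [h]
    norm_num
  rw [← h1]
  symm
  apply Nat.card_congr
  refine Equiv.ofBijective
    (fun u : ↥golayCode => (⟨sing ⟨liftW (u : GolayPt → ZMod 2), liftW_mem u.2⟩, ⟨_, rfl⟩⟩ :
      ↥sing.range)) ⟨?_, ?_⟩
  · intro a b hab
    have h2 := congrArg Subtype.val hab
    simp only [sing_liftW a.2, sing_liftW b.2] at h2
    have h3 : (a : GolayPt → ZMod 2) none = (b : GolayPt → ZMod 2) none := congrArg Prod.fst h2
    apply Subtype.ext
    funext i
    have h4 := congrFun (congrArg Prod.snd h2) i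
    simp only at h4
    rw [h3] at h4
    exact add_right_cancel h4
  · rintro ⟨y, x, rfl⟩
    refine ⟨⟨fun i => (sing x).2 i + (sing x).1, sing_code x⟩, ?_⟩
    apply Subtype.ext
    change sing ⟨liftW _, _⟩ = sing x
    rw [sing_liftW (sing_code x)]
    have h0 : (sing x).2 none = 0 := by
      rw [sing_snd]
      exact self_add_self _
    apply Prod.ext
    · simp only
      rw [h0, zero_add]
    · funext i
      simp only
      rw [h0, zero_add, add_assoc, self_add_self, add_zero]

theorem singSub_index : (singSub.addSubgroupOf leechLattice).index = 2 ^ 12 := by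
  rw [singSub_of, AddSubgroup.index_ker, card_range_sing]
  norm_num

theorem singular_main : ∃ A : AddSubgroup (GolayPt → ℤ), A ≤ leechLattice ∧
    (∀ v ∈ leechLattice, (2 : ℤ) • v ∈ A) ∧ (A.addSubgroupOf leechLattice).index = 2 ^ 12 ∧
    ∀ v ∈ A, (32 : ℤ) ∣ sqNorm v :=
  ⟨singSub, singSub_le, fun _ hv => two_smul_mem hv, singSub_index,
    fun _ hv => dvd_sqNorm_of_mem hv⟩

end Cfsg.Agent.Helper9.Leech
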