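import Mathlib
import Cfsg.Prelude.Def_Sporadic_a
import Cfsg.Prelude.Def_Spor_Conway
import Cfsg.Agent.Helper9.Leech.Singular
import Cfsg.Agent.Helper9.CosetLeader

/-!
The index of the lattice in the integer vectors.
-/

set_option autoImplicit false

namespace Cfsg.Agent.Helper9.Leech

open Cfsg
open Cfsg.Agent.Helper9.Golay

/-- reduction modulo 2 of integer vectors. -/
def redHom : (GolayPt → ℤ) →+ (GolayPt → ZMod 2) where
  toFun x := fun i => ((x i : ℤ) : ZMod 2)
  map_zero' := by
    funext i
    simp
  map_add' x y := by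
    funext i
    simp

theorem redHom_apply (x : GolayPt → ℤ) (i : GolayPt) : redHom x i = ((x i : ℤ) : ZMod 2) := rfl

theorem redHom_surjective : Function.Surjective redHom := by
  intro v
  refine ⟨fun i => ((v i).cast : ℤ), ?_⟩
  funext i
  rw [redHom_apply, ZMod.intCast_zmod_cast]

theorem cast_of_even {t : ℤ} (h : t % 2 = 0) : ((t : ℤ) : ZMod 2) = 0 := by
  rw [ZMod.intCast_zmod_eq_zero_iff_dvd]
  exact Int.dvd_of_emod_eq_zero h

theorem cast_of_odd {t : ℤ} (h : t % 2 = 1) : ((t : ℤ) : ZMod 2) = 1 := by
  have h1 : t = (t - 1) + 1 := by ring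
  rw [h1, Int.cast_add, cast_of_even (by omega)]
  simp

/-- vectors whose reduction is a word of the code. -/
def quotHom : (GolayPt → ℤ) →+ ((GolayPt → ZMod 2) ⧸ golayCode) :=
  (golayCode.mkQ.toAddMonoidHom).comp redHom

theorem quotHom_surjective : Function.Surjective quotHom := by
  intro q
  obtain ⟨v, rfl⟩ := Submodule.mkQ_surjective golayCode q
  obtain ⟨x, rfl⟩ := redHom_surjective v
  exact ⟨x, rfl⟩

/-- the vectors reducing to the code. -/
def subB : AddSubgroup (GolayPt → ℤ) := quotHom.ker

theorem mem_subB (y : GolayPt → ℤ) : y ∈ subB ↔ redHom y ∈ golayCode := by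
  unfold subB
  rw [AddMonoidHom.mem_ker]
  exact Submodule.Quotient.mk_eq_zero golayCode

theorem index_subB : subB.index = 4096 := by
  unfold subB
  rw [AddSubgroup.index_ker, AddMonoidHom.range_eq_top.mpr quotHom_surjective,
    AddSubgroup.card_top]
  exact card_quot card_golayPt golayCode Cfsg.Agent.S0358.result

theorem sum_even_of_mem {y : GolayPt → ℤ} (hy : y ∈ subB) : (∑ i, y i) % 2 = 0 := by
  classical
  rw [mem_subB] at hy
  have h4 : 4 ∣ (support₂ (redHom y)).card := four_dvd_card ⟨redHom y, hy, rfl⟩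
  have h1 : (((∑ i, y i : ℤ)) : ZMod 2) = ((support₂ (redHom y)).card : ZMod 2) := by
    rw [Int.cast_sum]
    unfold support₂
    rw [Finset.card_filter, Nat.cast_sum]
    apply Finset.sum_congr rfl
    intro i _
    rw [← redHom_apply]
    rcases zmod2_cases (redHom y i) with h | h
    · rw [h]
      simp
    · rw [h]
      simp
  have h2 : ((support₂ (redHom y)).card : ZMod 2) = 0 := by
    rw [ZMod.natCast_eq_zero_iff]
    exact dvd_trans (by norm_num) h4
  rw [h2, ZMod.intCast_zmod_eq_zero_iff_dvd] at h1
  exact Int.emod_eq_zero_of_dvd h1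

/-- half of the coordinate sum, modulo 2. -/
def halfSum : ↥subB →+ ZMod 2 where
  toFun y := bit2 (∑ i, (y : GolayPt → ℤ) i)
  map_zero' := by
    simp [bit2]
  map_add' x y := by
    have h : ∑ i, ((x + y : ↥subB) : GolayPt → ℤ) i =
        ∑ i, (x : GolayPt → ℤ) i + ∑ i, (y : GolayPt → ℤ) i := by
      rw [← Finset.sum_add_distrib]
      rfl
    rw [h]
    exact bit2_add_even (sum_even_of_mem x.2)

theorem halfSum_apply (y : ↥subB) : halfSum y = bit2 (∑ i, (y : GolayPt → ℤ) i) := rfl

theorem halfSum_surjective : Function.Surjective halfSum := by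
  classical
  have hmem : (fun i : GolayPt => if i = none then (2 : ℤ) else 0) ∈ subB := by
    rw [mem_subB]
    have : redHom (fun i : GolayPt => if i = none then (2 : ℤ) else 0) = 0 := by
      funext i
      rw [redHom_apply]
      by_cases h : i = none
      · rw [if_pos h]
        exact cast_of_even (by norm_num)
      · rw [if_neg h]
        simp
    rw [this]
    exact golayCode.zero_mem
  have h1 : halfSum ⟨_, hmem⟩ = 1 := by
    rw [halfSum_apply]
    have : ∑ i : GolayPt, (if i = none then (2 : ℤ) else 0) = 2 := by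
      rw [Finset.sum_ite_eq' Finset.univ none (fun _ => (2 : ℤ))]
      simp
    show bit2 (∑ i : GolayPt, (if i = none then (2 : ℤ) else 0)) = 1
    rw [this]
    unfold bit2
    norm_num
  intro a
  rcases zmod2_cases a with h | h
  · exact ⟨0, by rw [map_zero, h]⟩
  · exact ⟨⟨_, hmem⟩, by rw [h1, h]⟩

/-- the vectors reducing to the code with coordinate sum divisible by 4. -/
def subB0 : AddSubgroup (GolayPt → ℤ) := halfSum.ker.map subB.subtype

theorem subB0_le : subB0 ≤ subB := by
  rintro x ⟨y, -, rfl⟩
  exact y.2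

theorem subB0_of : subB0.addSubgroupOf subB = halfSum.ker := by
  ext x
  rw [AddSubgroup.mem_addSubgroupOf]
  constructor
  · rintro ⟨y, hy, hyx⟩
    have : y = x := Subtype.ext hyx
    rw [← this]
    exact hy
  · intro hx
    exact ⟨x, hx, rfl⟩

theorem mem_subB0 (y : GolayPt → ℤ) :
    y ∈ subB0 ↔ redHom y ∈ golayCode ∧ (∑ i, y i) % 4 = 0 := by
  constructor
  · rintro ⟨z, hz, rfl⟩
    have hz' : halfSum z = 0 := hz
    rw [halfSum_apply, bit2_eq_zero_iff] at hz'
    have h2 := sum_even_of_mem z.2
    refine ⟨(mem_subB _).mp z.2, ?_⟩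
    have : ∑ i, (subB.subtype z) i = ∑ i, (z : GolayPt → ℤ) i := rfl
    rw [this]
    omega
  · rintro ⟨h1, h2⟩
    refine ⟨⟨y, (mem_subB y).mpr h1⟩, ?_, rfl⟩
    show halfSum ⟨y, _⟩ = 0
    rw [halfSum_apply, bit2_eq_zero_iff]
    left
    exact h2

theorem index_subB0 : subB0.index = 8192 := by
  have h1 := AddSubgroup.relIndex_mul_index subB0_le
  have h2 : subB0.relIndex subB = 2 := by
    unfold AddSubgroup.relIndex
    rw [subB0_of, AddSubgroup.index_ker, AddMonoidHom.range_eq_top.mpr halfSum_surjective,
      AddSubgroup.card_top, Nat.card_zmod]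
  rw [h2, index_subB] at h1
  omega

/-- doubling. -/
def dblHom : (GolayPt → ℤ) →+ (GolayPt → ℤ) where
  toFun y := fun i => 2 * y i
  map_zero' := by
    funext i
    simp
  map_add' x y := by
    funext i
    simp [mul_add]

theorem dblHom_apply (y : GolayPt → ℤ) (i : GolayPt) : dblHom y i = 2 * y i := rfl

theorem dblHom_injective : Function.Injective dblHom := by
  intro x y h
  funext i
  have := congrFun h i
  rw [dblHom_apply, dblHom_apply] at this
  omega

theorem range_dblHom : dblHom.range = redHom.ker := by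
  ext x
  rw [AddMonoidHom.mem_range, AddMonoidHom.mem_ker]
  constructor
  · rintro ⟨y, rfl⟩
    funext i
    rw [redHom_apply, dblHom_apply]
    exact cast_of_even (by omega)
  · intro h
    refine ⟨fun i => x i / 2, ?_⟩
    funext i
    rw [dblHom_apply]
    have h1 := congrFun h i
    rw [redHom_apply, Pi.zero_apply, ZMod.intCast_zmod_eq_zero_iff_dvd] at h1
    have h2 : (2 : ℤ) ∣ x i := by exact_mod_cast h1
    omega

theorem index_range_dblHom : dblHom.range.index = 2 ^ 24 := by
  rw [range_dblHom, AddSubgroup.index_ker, AddMonoidHom.range_eq_top.mpr redHom_surjective,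
    AddSubgroup.card_top, Nat.card_eq_fintype_card, Fintype.card_fun, ZMod.card, card_golayPt]

/-- the even vectors of the lattice. -/
def evenSub : AddSubgroup (GolayPt → ℤ) := subB0.map dblHom

theorem index_evenSub : evenSub.index = 2 ^ 37 := by
  unfold evenSub
  rw [AddSubgroup.index_map, (AddMonoidHom.ker_eq_bot_iff dblHom).mpr dblHom_injective, sup_bot_eq,
    index_subB0, index_range_dblHom]
  norm_num

theorem resW_dbl (y : GolayPt → ℤ) (k : ℤ) :
    resW (dblHom y) k = if k % 4 = 0 then 1 + redHom y else if k % 4 = 2 then redHom y else 0 := by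
  funext i
  rw [resW_apply, dblHom_apply]
  rcases Int.emod_two_eq_zero_or_one (y i) with h | h
  · have hr : redHom y i = 0 := cast_of_even h
    by_cases h0 : k % 4 = 0
    · have hc : 2 * y i ≡ k [ZMOD 4] := by
        show (2 * y i) % 4 = k % 4
        omega
      rw [if_pos h0, if_pos hc, Pi.add_apply, hr]
      simp
    · have hc : ¬ 2 * y i ≡ k [ZMOD 4] := by
        show ¬ (2 * y i) % 4 = k % 4
        omega
      rw [if_neg h0, if_neg hc]
      by_cases h2 : k % 4 = 2
      · rw [if_pos h2, hr]
      · rw [if_neg h2]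
        rfl
  · have hr : redHom y i = 1 := cast_of_odd h
    by_cases h0 : k % 4 = 0
    · have hc : ¬ 2 * y i ≡ k [ZMOD 4] := by
        show ¬ (2 * y i) % 4 = k % 4
        omega
      rw [if_pos h0, if_neg hc, Pi.add_apply, hr]
      exact (self_add_self 1).symm
    · rw [if_neg h0]
      by_cases h2 : k % 4 = 2
      · have hc : 2 * y i ≡ k [ZMOD 4] := by
          show (2 * y i) % 4 = k % 4
          omega
        rw [if_pos h2, if_pos hc, hr]
      · have hc : ¬ 2 * y i ≡ k [ZMOD 4] := by
          show ¬ (2 * y i) % 4 = k % 4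
          omega
        rw [if_neg h2, if_neg hc]
        rfl

theorem evenSub_le : evenSub ≤ leechLattice := by
  rintro x ⟨y, hy, rfl⟩
  rw [SetLike.mem_coe, mem_subB0] at hy
  rw [mem_leechLattice_iff, mem_leechSet_iff]
  refine ⟨0, ?_, ?_, ?_⟩
  · intro i
    rw [dblHom_apply]
    unfold Int.ModEq
    omega
  · have : ∑ i, dblHom y i = 2 * ∑ i, y i := by
      rw [Finset.mul_sum]
      rfl
    rw [this]
    unfold Int.ModEq
    omega
  · intro k
    rw [resW_dbl]
    split_ifs
    · exact golayCode.add_mem one_mem_code hy.1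
    · exact hy.1
    · exact golayCode.zero_mem

/-- the parity of the vectors of the lattice. -/
def parHom : ↥leechLattice →+ ZMod 2 := (AddMonoidHom.fst _ _).comp sing

theorem parHom_apply (x : ↥leechLattice) :
    parHom x = (((x : GolayPt → ℤ) none : ℤ) : ZMod 2) := rfl

theorem parHom_surjective : Function.Surjective parHom := by
  have h1 : parHom ⟨vec31, (mem_leechLattice_iff _).mpr vec31_mem⟩ = 1 := by
    show (sing ⟨vec31, (mem_leechLattice_iff _).mpr vec31_mem⟩).1 = 1
    rw [sing_vec31]
  intro a
  rcases zmod2_cases a with h | h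
  · exact ⟨0, by rw [map_zero, h]⟩
  · exact ⟨_, by rw [h1, h]⟩

theorem evenSub_of : evenSub.addSubgroupOf leechLattice = parHom.ker := by
  ext x
  rw [AddSubgroup.mem_addSubgroupOf, AddMonoidHom.mem_ker, parHom_apply]
  constructor
  · rintro ⟨y, -, hyx⟩
    rw [← hyx, dblHom_apply]
    exact cast_of_even (by omega)
  · intro h
    rw [ZMod.intCast_zmod_eq_zero_iff_dvd] at h
    have h0 : (x : GolayPt → ℤ) none % 2 = 0 := by
      have h2 : (2 : ℤ) ∣ (x : GolayPt → ℤ) none := by exact_mod_cast h
      omega
    have hpar : ∀ i, (x : GolayPt → ℤ) i % 2 = 0 := fun i => by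
      rw [parity_eq x.2 i none]
      exact h0
    have hx := x.2
    rw [mem_leechLattice_iff, mem_leechSet_iff] at hx
    obtain ⟨m, hm, hsum, hres⟩ := hx
    have hm0 : m % 2 = 0 := by
      have := hm none
      unfold Int.ModEq at this
      omega
    have hxy : dblHom (fun i => (x : GolayPt → ℤ) i / 2) = (x : GolayPt → ℤ) := by
      funext i
      rw [dblHom_apply]
      have := hpar i
      omega
    refine ⟨fun i => (x : GolayPt → ℤ) i / 2, ?_, hxy⟩
    rw [SetLike.mem_coe, mem_subB0]
    constructor
    · have h2 := hres 2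
      rw [← hxy, resW_dbl, if_neg (by norm_num), if_pos (by norm_num)] at h2
      exact h2
    · have : ∑ i, (x : GolayPt → ℤ) i = 2 * ∑ i, (x : GolayPt → ℤ) i / 2 := by
        rw [Finset.mul_sum]
        apply Finset.sum_congr rfl
        intro i _
        have := hpar i
        omega
      rw [this] at hsum
      unfold Int.ModEq at hsum
      omega

theorem index_leech : leechLattice.index = 2 ^ 36 := by
  have h1 := AddSubgroup.relIndex_mul_index evenSub_le
  have h2 : evenSub.relIndex leechLattice = 2 := by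
    unfold AddSubgroup.relIndex
    rw [evenSub_of, AddSubgroup.index_ker, AddMonoidHom.range_eq_top.mpr parHom_surjective,
      AddSubgroup.card_top, Nat.card_zmod]
  rw [h2, index_evenSub] at h1
  omega

end Cfsg.Agent.Helper9.Leech
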