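import Mathlib
import Cfsg.Prelude.Def_Sporadic_a
import Cfsg.Prelude.Def_Spor_Conway
import Cfsg.Agent.Helper9.Leech.Index
import Cfsg.Agent.Helper9.Golay.Steiner

/-!
The minimal vectors of the lattice.
-/

set_option autoImplicit false

namespace Cfsg.Agent.Helper9.Leech

open Cfsg
open Cfsg.Agent.Helper9.Golay

/-- the vector with entries `-k` on `s`, `k` on `P \ s` and `0` elsewhere. -/
def pat (k : ℤ) (P s : Finset GolayPt) : GolayPt → ℤ :=
  fun i => if i ∈ s then -k else if i ∈ P then k else 0

theorem pat_of_mem_s {k : ℤ} {P s : Finset GolayPt} {i : GolayPt} (h : i ∈ s) :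
    pat k P s i = -k := by
  unfold pat
  rw [if_pos h]

theorem pat_of_mem_P {k : ℤ} {P s : Finset GolayPt} {i : GolayPt} (h : i ∉ s) (h' : i ∈ P) :
    pat k P s i = k := by
  unfold pat
  rw [if_neg h, if_pos h']

theorem pat_of_notMem {k : ℤ} {P s : Finset GolayPt} {i : GolayPt} (h : i ∉ s) (h' : i ∉ P) :
    pat k P s i = 0 := by
  unfold pat
  rw [if_neg h, if_neg h']

theorem mem_s_iff {k : ℤ} (hk : 0 < k) (P s : Finset GolayPt) (i : GolayPt) :
    i ∈ s ↔ pat k P s i < 0 := by
  constructor
  · intro h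
    rw [pat_of_mem_s h]
    omega
  · intro h
    by_contra hs
    by_cases hP : i ∈ P
    · rw [pat_of_mem_P hs hP] at h
      omega
    · rw [pat_of_notMem hs hP] at h
      omega

theorem mem_P_iff {k : ℤ} (hk : 0 < k) {P s : Finset GolayPt} (hs : s ⊆ P) (i : GolayPt) :
    i ∈ P ↔ pat k P s i ≠ 0 := by
  constructor
  · intro h
    by_cases h' : i ∈ s
    · rw [pat_of_mem_s h']
      omega
    · rw [pat_of_mem_P h' h]
      omega
  · intro h
    by_contra hP
    exact h (pat_of_notMem (fun h' => hP (hs h')) hP)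

theorem pat_inj {k : ℤ} (hk : 0 < k) {P s P' s' : Finset GolayPt} (hs : s ⊆ P) (hs' : s' ⊆ P')
    (h : pat k P s = pat k P' s') : P = P' ∧ s = s' := by
  constructor
  · ext i
    rw [mem_P_iff hk hs, mem_P_iff hk hs', h]
  · ext i
    rw [mem_s_iff hk P s, mem_s_iff hk P' s', h]

theorem pat_sq {k : ℤ} {P s : Finset GolayPt} (hs : s ⊆ P) (i : GolayPt) :
    pat k P s i ^ 2 = if i ∈ P then k ^ 2 else 0 := by
  by_cases h' : i ∈ s
  · rw [pat_of_mem_s h', if_pos (hs h')]
    ring
  · by_cases hP : i ∈ P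
    · rw [pat_of_mem_P h' hP, if_pos hP]
    · rw [pat_of_notMem h' hP, if_neg hP]
      ring

theorem sqNorm_pat {k : ℤ} {P s : Finset GolayPt} (hs : s ⊆ P) :
    sqNorm (pat k P s) = P.card * k ^ 2 := by
  unfold sqNorm
  simp only [pat_sq hs]
  rw [Finset.sum_ite_mem, Finset.univ_inter, Finset.sum_const, nsmul_eq_mul]

theorem pat_eq_sub {k : ℤ} {P s : Finset GolayPt} (hs : s ⊆ P) (i : GolayPt) :
    pat k P s i = (if i ∈ P then k else 0) - (if i ∈ s then 2 * k else 0) := by
  by_cases h' : i ∈ s
  · rw [pat_of_mem_s h', if_pos (hs h'), if_pos h']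
    ring
  · by_cases hP : i ∈ P
    · rw [pat_of_mem_P h' hP, if_pos hP, if_neg h']
      ring
    · rw [pat_of_notMem h' hP, if_neg hP, if_neg h']
      ring

theorem sum_pat {k : ℤ} {P s : Finset GolayPt} (hs : s ⊆ P) :
    ∑ i, pat k P s i = P.card * k - s.card * (2 * k) := by
  simp only [pat_eq_sub hs, Finset.sum_sub_distrib]
  rw [Finset.sum_ite_mem, Finset.univ_inter, Finset.sum_const, nsmul_eq_mul,
    Finset.sum_ite_mem, Finset.univ_inter, Finset.sum_const, nsmul_eq_mul]

theorem dblHom_pat (k : ℤ) (P s : Finset GolayPt) : dblHom (pat k P s) = pat (2 * k) P s := by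
  funext i
  rw [dblHom_apply]
  unfold pat
  split_ifs <;> ring

theorem redHom_pat_one {P s : Finset GolayPt} (hs : s ⊆ P) : redHom (pat 1 P s) = indW P := by
  funext i
  rw [redHom_apply]
  unfold indW
  by_cases h' : i ∈ s
  · rw [pat_of_mem_s h', if_pos (hs h')]
    exact cast_of_odd (by norm_num)
  · by_cases hP : i ∈ P
    · rw [pat_of_mem_P h' hP, if_pos hP]
      exact cast_of_odd (by norm_num)
    · rw [pat_of_notMem h' hP, if_neg hP]
      simp

theorem redHom_pat_two (P s : Finset GolayPt) : redHom (pat 2 P s) = 0 := by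
  funext i
  rw [redHom_apply]
  unfold pat
  split_ifs
  · exact cast_of_even (by norm_num)
  · exact cast_of_even (by norm_num)
  · simp

/-- the vectors of shape `(±2^8, 0^16)`. -/
theorem pat_two_mem {o s : Finset GolayPt} (ho : o ∈ octads) (hs : s ⊆ o) (he : Even s.card) :
    pat 2 o s ∈ leechLattice := by
  apply evenSub_le
  have h2 : pat 2 o s = dblHom (pat 1 o s) := by rw [dblHom_pat]; norm_num
  rw [h2]
  refine ⟨pat 1 o s, ?_, rfl⟩
  rw [SetLike.mem_coe, mem_subB0, redHom_pat_one hs, sum_pat hs]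
  refine ⟨indW_mem ho.1, ?_⟩
  have h8 : o.card = 8 := ho.2
  obtain ⟨r, hr⟩ := he
  rw [h8, hr]
  push_cast
  omega

/-- the vectors of shape `(±4^2, 0^22)`. -/
theorem pat_four_mem {P s : Finset GolayPt} (hP : P.card = 2) (hs : s ⊆ P) :
    pat 4 P s ∈ leechLattice := by
  apply evenSub_le
  have h2 : pat 4 P s = dblHom (pat 2 P s) := by rw [dblHom_pat]; norm_num
  rw [h2]
  refine ⟨pat 2 P s, ?_, rfl⟩
  rw [SetLike.mem_coe, mem_subB0, redHom_pat_two, sum_pat hs]
  refine ⟨golayCode.zero_mem, ?_⟩
  rw [hP]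
  push_cast
  omega

/-- a vector all of whose entries are `0`, `k` or `-k` is a pattern vector. -/
theorem eq_pat_of_entries {k : ℤ} (hk : 0 < k) (x : GolayPt → ℤ)
    (h : ∀ i, x i = 0 ∨ x i = k ∨ x i = -k) :
    x = pat k (Finset.univ.filter fun i => x i ≠ 0) (Finset.univ.filter fun i => x i < 0) := by
  funext i
  rcases h i with h0 | h1 | h2
  · rw [pat_of_notMem, h0]
    · rw [Finset.mem_filter, h0]
      simp
    · rw [Finset.mem_filter, h0]
      simp
  · rw [pat_of_mem_P, h1]
    · rw [Finset.mem_filter, h1]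
      simp only [Finset.mem_univ, true_and, not_lt]
      omega
    · rw [Finset.mem_filter, h1]
      simp only [Finset.mem_univ, true_and]
      omega
  · rw [pat_of_mem_s, h2]
    rw [Finset.mem_filter, h2]
    simp only [Finset.mem_univ, true_and]
    omega

theorem neg_subset_support (x : GolayPt → ℤ) :
    (Finset.univ.filter fun i => x i < 0) ⊆ (Finset.univ.filter fun i => x i ≠ 0) := by
  intro i hi
  rw [Finset.mem_filter] at hi ⊢
  exact ⟨hi.1, by omega⟩

theorem entries_of_sum_sq {y : GolayPt → ℤ} {o : Finset GolayPt} (ho : ∀ i ∈ o, y i ≠ 0)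
    (hsum : ∑ i, y i ^ 2 = o.card) : (∀ i ∈ o, y i ^ 2 = 1) ∧ ∀ i, i ∉ o → y i = 0 := by
  classical
  have hnn : ∀ i ∈ (Finset.univ : Finset GolayPt),
      0 ≤ (fun i => y i ^ 2 - (if i ∈ o then (1 : ℤ) else 0)) i := by
    intro i _
    show 0 ≤ y i ^ 2 - (if i ∈ o then (1 : ℤ) else 0)
    by_cases h : i ∈ o
    · rw [if_pos h]
      have h1 := ho i h
      have h2 : y i ^ 2 ≠ 0 := pow_ne_zero 2 h1
      have h3 := sq_nonneg (y i)
      omega
    · rw [if_neg h]
      have h3 := sq_nonneg (y i)
      omega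
  have hz : ∑ i, (fun i => y i ^ 2 - (if i ∈ o then (1 : ℤ) else 0)) i = 0 := by
    show ∑ i, (y i ^ 2 - (if i ∈ o then (1 : ℤ) else 0)) = 0
    rw [Finset.sum_sub_distrib, hsum, Finset.sum_ite_mem, Finset.univ_inter, Finset.sum_const,
      nsmul_eq_mul, mul_one, sub_self]
  have hall := (Finset.sum_eq_zero_iff_of_nonneg hnn).mp hz
  constructor
  · intro i hi
    have := hall i (Finset.mem_univ i)
    simp only [if_pos hi] at this
    omega
  · intro i hi
    have := hall i (Finset.mem_univ i)
    simp only [if_neg hi, sub_zero] at this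
    exact pow_eq_zero_iff (n := 2) (by norm_num) |>.mp this

theorem sqNorm_dblHom (y : GolayPt → ℤ) : sqNorm (dblHom y) = 4 * ∑ i, y i ^ 2 := by
  unfold sqNorm
  rw [Finset.mul_sum]
  apply Finset.sum_congr rfl
  intro i _
  rw [dblHom_apply]
  ring

theorem sum_dblHom (y : GolayPt → ℤ) : ∑ i, dblHom y i = 2 * ∑ i, y i := by
  rw [Finset.mul_sum]
  rfl

/-- the minimal vectors with even entries. -/
theorem even_min_classify {x : GolayPt → ℤ} (hx : x ∈ leechLattice) (hn : sqNorm x = 32)
    (h0 : x none % 2 = 0) :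
    (∃ o s : Finset GolayPt, o ∈ octads ∧ s ⊆ o ∧ Even s.card ∧ x = pat 2 o s) ∨
      (∃ P s : Finset GolayPt, P.card = 2 ∧ s ⊆ P ∧ x = pat 4 P s) := by
  classical
  have hker : (⟨x, hx⟩ : ↥leechLattice) ∈ parHom.ker := by
    rw [AddMonoidHom.mem_ker, parHom_apply]
    exact cast_of_even h0
  rw [← evenSub_of, AddSubgroup.mem_addSubgroupOf] at hker
  obtain ⟨y, hy, hyx⟩ := hker
  have hyx' : dblHom y = x := hyx
  rw [SetLike.mem_coe, mem_subB0] at hy
  obtain ⟨hyC, hy4⟩ := hy
  have hsq : ∑ i, y i ^ 2 = 8 := by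
    have := sqNorm_dblHom y
    rw [hyx', hn] at this
    omega
  have hxi : ∀ i, x i = 2 * y i := fun i => by rw [← hyx', dblHom_apply]
  have hoS : support₂ (redHom y) ∈ supports (golayCode : Set (GolayPt → ZMod 2)) :=
    ⟨redHom y, hyC, rfl⟩
  have hmem_o : ∀ i, i ∈ support₂ (redHom y) ↔ y i % 2 = 1 := by
    intro i
    unfold support₂
    rw [Finset.mem_filter, redHom_apply]
    simp only [Finset.mem_univ, true_and]
    rcases Int.emod_two_eq_zero_or_one (y i) with h | h
    · rw [cast_of_even h]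
      simp [h]
    · rw [cast_of_odd h]
      simp [h]
  have hne : ∀ i ∈ support₂ (redHom y), y i ≠ 0 := by
    intro i hi h
    rw [hmem_o, h] at hi
    norm_num at hi
  have hle : ((support₂ (redHom y)).card : ℤ) ≤ 8 := by
    rw [← hsq, Finset.card_eq_sum_ones, Nat.cast_sum]
    refine le_trans (Finset.sum_le_sum (fun i hi => ?_))
      (Finset.sum_le_univ_sum_of_nonneg (fun i => sq_nonneg (y i)))
    have h2 : y i ^ 2 ≠ 0 := pow_ne_zero 2 (hne i hi)
    have h3 := sq_nonneg (y i)
    push_cast
    omega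
  rcases card_of_mem_supports hoS with h | h | h | h | h
  · -- all entries of `y` even
    right
    have hev : ∀ i, y i % 2 = 0 := by
      intro i
      have : i ∉ support₂ (redHom y) := by
        rw [Finset.card_eq_zero.mp h]
        exact Finset.notMem_empty i
      rw [hmem_o] at this
      omega
    have hz2 : ∑ i, (y i / 2) ^ 2 = 2 := by
      have : ∑ i, y i ^ 2 = 4 * ∑ i, (y i / 2) ^ 2 := by
        rw [Finset.mul_sum]
        apply Finset.sum_congr rfl
        intro i _
        have h1 : y i = 2 * (y i / 2) := by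
          have := hev i
          omega
        rw [h1]
        have : 2 * (y i / 2) / 2 = y i / 2 := by omega
        rw [this]
        ring
      omega
    have hent : ∀ i, x i = 0 ∨ x i = 4 ∨ x i = -4 := by
      intro i
      have h1 : (y i / 2) ^ 2 ≤ 2 := by
        have := Finset.single_le_sum (f := fun i => (y i / 2) ^ 2) (fun j _ => sq_nonneg _)
          (Finset.mem_univ i)
        rw [hz2] at this
        exact this
      have h2 : -1 ≤ y i / 2 ∧ y i / 2 ≤ 1 := by
        constructor <;> nlinarith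
      have h3 := hxi i
      have h4 := hev i
      omega
    refine ⟨_, _, ?_, neg_subset_support x, eq_pat_of_entries (by norm_num) x hent⟩
    have h1 := sqNorm_pat (k := 4) (neg_subset_support x)
    rw [← eq_pat_of_entries (by norm_num) x hent, hn] at h1
    have : ((Finset.univ.filter fun i => x i ≠ 0).card : ℤ) = 2 := by omega
    exact_mod_cast this
  · -- an octad
    left
    obtain ⟨h1, h2⟩ := entries_of_sum_sq hne (by rw [hsq, h]; norm_num)
    have hent : ∀ i, x i = 0 ∨ x i = 2 ∨ x i = -2 := by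
      intro i
      by_cases hi : i ∈ support₂ (redHom y)
      · have h3 := h1 i hi
        have h4 : y i = 1 ∨ y i = -1 := by
          have : (y i - 1) * (y i + 1) = 0 := by ring_nf; omega
          rcases mul_eq_zero.mp this with h | h
          · left; omega
          · right; omega
        have h5 := hxi i
        omega
      · have h3 := h2 i hi
        have h5 := hxi i
        omega
    have hP : (Finset.univ.filter fun i => x i ≠ 0) = support₂ (redHom y) := by
      ext i
      rw [Finset.mem_filter]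
      simp only [Finset.mem_univ, true_and]
      constructor
      · intro hx0
        by_contra hi
        have h3 := h2 i hi
        have h5 := hxi i
        omega
      · intro hi
        have h3 := hne i hi
        have h5 := hxi i
        omega
    refine ⟨_, _, ?_, neg_subset_support x, ?_, eq_pat_of_entries (by norm_num) x hent⟩
    · rw [hP]
      exact ⟨hoS, h⟩
    · have h3 := sum_pat (k := 2) (neg_subset_support x)
      rw [← eq_pat_of_entries (by norm_num) x hent, hP, h] at h3
      have hsumx : ∑ i, x i = 2 * ∑ i, y i := by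
        rw [← hyx']
        exact sum_dblHom y
      rw [hsumx] at h3
      rw [Nat.even_iff]
      push_cast at h3
      omega
  · exfalso; rw [h] at hle; norm_num at hle
  · exfalso; rw [h] at hle; norm_num at hle
  · exfalso; rw [h] at hle; norm_num at hle

/-- the supports of the code words, as a finset. -/
noncomputable def suppFinset : Finset (Finset GolayPt) := codeList.toFinset.image suppM

theorem mem_suppFinset (c : Finset GolayPt) :
    c ∈ suppFinset ↔ c ∈ supports (golayCode : Set (GolayPt → ZMod 2)) := by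
  unfold suppFinset
  rw [mem_supports_iff, Finset.mem_image]
  simp only [List.mem_toFinset]

theorem card_suppFinset : suppFinset.card = 4096 := by
  unfold suppFinset
  rw [Finset.card_image_of_injOn]
  · rw [List.toFinset_card_of_nodup codeList_nodup]
    exact codeList_length
  · intro a ha b hb hab
    simp only [List.coe_toFinset, Set.mem_ofPred_eq] at ha hb
    exact support₂_decW_injOn (codeList_lt ha) (codeList_lt hb) hab

attribute [irreducible] suppFinset

/-- the vector `(-3, 1^23)` with the `-3` in position `j`. -/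
def baseOdd (j : GolayPt) : GolayPt → ℤ := fun i => if i = j then -3 else 1

theorem baseOdd_sq (j i : GolayPt) : baseOdd j i ^ 2 = if i = j then 9 else 1 := by
  unfold baseOdd
  split_ifs <;> norm_num

theorem baseOdd_mem (j : GolayPt) : baseOdd j ∈ leechSet := by
  apply Spor.mem_leechSet_of_const_mod_four (baseOdd j) 1 1 (by decide)
  · intro i
    unfold baseOdd
    split_ifs <;> decide
  · have h1 : ∀ i, baseOdd j i = 1 - (if i = j then 4 else 0) := by
      intro i
      unfold baseOdd
      split_ifs <;> norm_num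
    simp only [h1, Finset.sum_sub_distrib]
    rw [Finset.sum_ite_eq' Finset.univ j (fun _ => (4 : ℤ))]
    simp only [Finset.sum_const, Finset.card_univ, card_golayPt, Finset.mem_univ, if_true]
    decide

/-- the vectors of shape `(∓3, ±1^23)`. -/
def oddVec (j : GolayPt) (c : Finset GolayPt) : GolayPt → ℤ := signCh c (baseOdd j)

theorem oddVec_apply (j : GolayPt) (c : Finset GolayPt) (i : GolayPt) :
    oddVec j c i = if i ∈ c then -baseOdd j i else baseOdd j i := rfl

theorem oddVec_mem {j : GolayPt} {c : Finset GolayPt}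
    (hc : c ∈ supports (golayCode : Set (GolayPt → ZMod 2))) : oddVec j c ∈ leechLattice :=
  (mem_leechLattice_iff _).mpr (signCh_mem_leechSet hc (baseOdd_mem j))

theorem oddVec_sq (j : GolayPt) (c : Finset GolayPt) (i : GolayPt) :
    oddVec j c i ^ 2 = if i = j then 9 else 1 := by
  rw [oddVec_apply, ← baseOdd_sq]
  split_ifs <;> ring

theorem sqNorm_oddVec (j : GolayPt) (c : Finset GolayPt) : sqNorm (oddVec j c) = 32 := by
  unfold sqNorm
  simp only [oddVec_sq]
  have h1 : ∀ i : GolayPt, (if i = j then (9 : ℤ) else 1) = 1 + (if i = j then 8 else 0) := by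
    intro i
    split_ifs <;> norm_num
  simp only [h1, Finset.sum_add_distrib]
  rw [Finset.sum_ite_eq' Finset.univ j (fun _ => (8 : ℤ))]
  simp only [Finset.sum_const, Finset.card_univ, card_golayPt, Finset.mem_univ, if_true]
  decide

theorem oddVec_odd (j : GolayPt) (c : Finset GolayPt) (i : GolayPt) : oddVec j c i % 2 = 1 := by
  rw [oddVec_apply]
  unfold baseOdd
  split_ifs <;> decide

theorem mem_c_iff (j : GolayPt) (c : Finset GolayPt) (i : GolayPt) :
    i ∈ c ↔ oddVec j c i % 4 = 3 := by
  rw [oddVec_apply]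
  unfold baseOdd
  by_cases h : i ∈ c
  · rw [if_pos h]
    split_ifs <;> simp [h]
  · rw [if_neg h]
    split_ifs <;> simp [h]

theorem oddVec_inj {j j' : GolayPt} {c c' : Finset GolayPt} (h : oddVec j c = oddVec j' c') :
    j = j' ∧ c = c' := by
  constructor
  · have h1 := oddVec_sq j c j
    rw [h, oddVec_sq, if_pos rfl] at h1
    by_contra hne
    rw [if_neg hne] at h1
    norm_num at h1
  · ext i
    rw [mem_c_iff j c i, mem_c_iff j' c' i, h]

/-- the minimal vectors with odd entries. -/
theorem odd_min_classify {x : GolayPt → ℤ} (hx : x ∈ leechLattice) (hn : sqNorm x = 32)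
    (h1 : x none % 2 = 1) :
    ∃ j : GolayPt, ∃ c ∈ supports (golayCode : Set (GolayPt → ZMod 2)), x = oddVec j c := by
  classical
  have hodd : ∀ i, x i % 2 = 1 := fun i => by rw [parity_eq hx i none]; exact h1
  have hsq8 : ∀ i, 0 ≤ x i ^ 2 - 1 ∧ (x i ^ 2 - 1) % 8 = 0 := by
    intro i
    obtain ⟨k, hk⟩ : ∃ k, x i = 2 * k + 1 := ⟨x i / 2, by have := hodd i; omega⟩
    have h2 : x i ^ 2 - 1 = 4 * (k * (k + 1)) := by rw [hk]; ring
    have h3 : k * (k + 1) % 2 = 0 := Int.even_iff.mp (Int.even_mul_succ_self k)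
    have h4 : 0 ≤ k * (k + 1) := by nlinarith [sq_nonneg (2 * k + 1)]
    rw [h2]
    constructor <;> omega
  have hsum : ∑ i, (x i ^ 2 - 1) = 8 := by
    rw [Finset.sum_sub_distrib]
    have : ∑ i, x i ^ 2 = 32 := hn
    rw [this]
    simp only [Finset.sum_const, Finset.card_univ, card_golayPt]
    decide
  obtain ⟨j, hj⟩ : ∃ j, x j ^ 2 - 1 ≠ 0 := by
    by_contra hcon
    push Not at hcon
    rw [Finset.sum_congr rfl (fun i _ => hcon i)] at hsum
    simp at hsum
  have hj8 : x j ^ 2 - 1 = 8 := by
    have hle : x j ^ 2 - 1 ≤ 8 := by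
      rw [← hsum]
      exact Finset.single_le_sum (f := fun i => x i ^ 2 - 1) (fun i _ => (hsq8 i).1)
        (Finset.mem_univ j)
    have := hsq8 j
    omega
  have hrest : ∀ i, i ≠ j → x i ^ 2 - 1 = 0 := by
    have h2 := Finset.add_sum_erase Finset.univ (fun i => x i ^ 2 - 1) (Finset.mem_univ j)
    rw [hsum] at h2
    have h3 : ∑ i ∈ Finset.univ.erase j, (x i ^ 2 - 1) = 0 := by
      have h2' : x j ^ 2 - 1 + ∑ i ∈ Finset.univ.erase j, (x i ^ 2 - 1) = 8 := h2
      omega
    have h4 := (Finset.sum_eq_zero_iff_of_nonneg (fun i _ => (hsq8 i).1)).mp h3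
    intro i hi
    exact h4 i (Finset.mem_erase.mpr ⟨hi, Finset.mem_univ i⟩)
  have hxj : x j = 3 ∨ x j = -3 := by
    have : (x j - 3) * (x j + 3) = 0 := by ring_nf; omega
    rcases mul_eq_zero.mp this with h | h
    · left; omega
    · right; omega
  have hxi : ∀ i, i ≠ j → x i = 1 ∨ x i = -1 := by
    intro i hi
    have h2 := hrest i hi
    have : (x i - 1) * (x i + 1) = 0 := by ring_nf; omega
    rcases mul_eq_zero.mp this with h | h
    · left; omega
    · right; omega
  refine ⟨j, Finset.univ.filter (fun i => x i ≡ 3 [ZMOD 4]),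
    filter_mem_of_mem_leechSet ((mem_leechLattice_iff _).mp hx) 3, ?_⟩
  funext i
  rw [oddVec_apply]
  unfold baseOdd
  have hmem : i ∈ Finset.univ.filter (fun i => x i ≡ 3 [ZMOD 4]) ↔ x i % 4 = 3 := by
    rw [Finset.mem_filter]
    simp only [Finset.mem_univ, true_and]
    rfl
  by_cases hij : i = j
  · rw [if_pos hij]
    rw [hij] at hmem ⊢
    rcases hxj with h | h
    · rw [if_pos (hmem.mpr (by rw [h]; decide)), h]
      norm_num
    · rw [if_neg (fun hc => by have := hmem.mp hc; rw [h] at this; revert this; decide), h]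
  · rw [if_neg hij]
    rcases hxi i hij with h | h
    · rw [if_neg (fun hc => by have := hmem.mp hc; rw [h] at this; revert this; decide), h]
    · rw [if_pos (hmem.mpr (by rw [h]; decide)), h]

/-- half of the subsets of a non-empty set have even size. -/
theorem card_even_subsets (P : Finset GolayPt) (hP : P.Nonempty) :
    (P.powerset.filter (fun s => Even s.card)).card * 2 = 2 ^ P.card := by
  classical
  have h0 := Finset.sum_powerset_neg_one_pow_card_of_nonempty hP
  rw [← Finset.sum_filter_add_sum_filter_not P.powerset (fun s => Even s.card)] at h0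
  have h1 : ∑ m ∈ P.powerset.filter (fun s => Even s.card), (-1 : ℤ) ^ m.card =
      (P.powerset.filter (fun s => Even s.card)).card := by
    rw [Finset.sum_congr rfl (fun m hm => Even.neg_one_pow (Finset.mem_filter.mp hm).2)]
    simp
  have h2 : ∑ m ∈ P.powerset.filter (fun s => ¬ Even s.card), (-1 : ℤ) ^ m.card =
      -((P.powerset.filter (fun s => ¬ Even s.card)).card : ℤ) := by
    rw [Finset.sum_congr rfl (fun m hm =>
      Odd.neg_one_pow (Nat.not_even_iff_odd.mp (Finset.mem_filter.mp hm).2))]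
    simp
  rw [h1, h2] at h0
  have h3 := Finset.card_filter_add_card_filter_not (s := P.powerset) (fun s => Even s.card)
  rw [Finset.card_powerset] at h3
  rw [← h3]
  omega

/-- the index set of the vectors of shape `(±2^8, 0^16)`. -/
noncomputable def idxOct : Finset (Σ _ : Finset GolayPt, Finset GolayPt) :=
  octadFinset.sigma (fun o => o.powerset.filter (fun s => Even s.card))

theorem card_idxOct : idxOct.card = 97152 := by
  unfold idxOct
  rw [Finset.card_sigma]
  have h : ∀ o ∈ octadFinset, (o.powerset.filter (fun s => Even s.card)).card = 128 := by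
    intro o ho
    have h8 : o.card = 8 := ((mem_octadFinset o).mp ho).2
    have h1 := card_even_subsets o (Finset.card_pos.mp (by omega))
    rw [h8] at h1
    omega
  have e : (759 : ℕ) * 128 = 97152 := by norm_num
  rw [Finset.sum_congr rfl h, Finset.sum_const, card_octadFinset, smul_eq_mul, e]

/-- the index set of the vectors of shape `(±4^2, 0^22)`. -/
noncomputable def idxFour : Finset (Σ _ : Finset GolayPt, Finset GolayPt) :=
  ((Finset.univ : Finset GolayPt).powersetCard 2).sigma (fun P => P.powerset)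

theorem card_idxFour : idxFour.card = 1104 := by
  unfold idxFour
  rw [Finset.card_sigma]
  have h : ∀ P ∈ (Finset.univ : Finset GolayPt).powersetCard 2, P.powerset.card = 4 := by
    intro P hP
    rw [Finset.card_powerset, (Finset.mem_powersetCard.mp hP).2]
    rfl
  have e : Nat.choose 24 2 * 4 = 1104 := by norm_num [Nat.choose]
  rw [Finset.sum_congr rfl h, Finset.sum_const, Finset.card_powersetCard, Finset.card_univ,
    card_golayPt, smul_eq_mul, e]

theorem mem_idxOct (p : Σ _ : Finset GolayPt, Finset GolayPt) :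
    p ∈ idxOct ↔ p.1 ∈ octads ∧ p.2 ⊆ p.1 ∧ Even p.2.card := by
  unfold idxOct
  rw [Finset.mem_sigma, mem_octadFinset, Finset.mem_filter, Finset.mem_powerset]

theorem mem_idxFour (p : Σ _ : Finset GolayPt, Finset GolayPt) :
    p ∈ idxFour ↔ p.1.card = 2 ∧ p.2 ⊆ p.1 := by
  unfold idxFour
  rw [Finset.mem_sigma, Finset.mem_powersetCard, Finset.mem_powerset]
  simp

attribute [irreducible] idxOct idxFour

open Classical in
/-- the three families of minimal vectors. -/
noncomputable def famOdd : Finset (GolayPt → ℤ) :=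
  ((Finset.univ : Finset GolayPt) ×ˢ suppFinset).image (fun p => oddVec p.1 p.2)

open Classical in
noncomputable def famOct : Finset (GolayPt → ℤ) := idxOct.image (fun p => pat 2 p.1 p.2)

open Classical in
noncomputable def famFour : Finset (GolayPt → ℤ) := idxFour.image (fun p => pat 4 p.1 p.2)

theorem card_idxOdd : ((Finset.univ : Finset GolayPt) ×ˢ suppFinset).card = 98304 := by
  have e : (24 : ℕ) * 4096 = 98304 := by norm_num
  rw [Finset.card_product, Finset.card_univ, card_golayPt, card_suppFinset, e]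

theorem card_famOdd : famOdd.card = 98304 := by
  classical
  unfold famOdd
  rw [Finset.card_image_of_injOn]
  · exact card_idxOdd
  · rintro ⟨j, c⟩ - ⟨j', c'⟩ - h
    obtain ⟨h1, h2⟩ := oddVec_inj h
    exact Prod.ext h1 h2

theorem card_famOct : famOct.card = 97152 := by
  classical
  unfold famOct
  rw [Finset.card_image_of_injOn, card_idxOct]
  rintro ⟨o, s⟩ hp ⟨o', s'⟩ hp' h
  rw [Finset.mem_coe, mem_idxOct] at hp hp'
  obtain ⟨h1, h2⟩ := pat_inj (by norm_num) hp.2.1 hp'.2.1 h
  dsimp only at h1 h2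
  rw [h1, h2]

theorem card_famFour : famFour.card = 1104 := by
  classical
  unfold famFour
  rw [Finset.card_image_of_injOn, card_idxFour]
  rintro ⟨o, s⟩ hp ⟨o', s'⟩ hp' h
  rw [Finset.mem_coe, mem_idxFour] at hp hp'
  obtain ⟨h1, h2⟩ := pat_inj (by norm_num) hp.2 hp'.2 h
  dsimp only at h1 h2
  rw [h1, h2]

theorem mem_famOdd (x : GolayPt → ℤ) :
    x ∈ famOdd ↔ ∃ j : GolayPt, ∃ c ∈ supports (golayCode : Set (GolayPt → ZMod 2)),
      x = oddVec j c := by
  classical
  unfold famOdd
  rw [Finset.mem_image]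
  constructor
  · rintro ⟨⟨j, c⟩, hp, rfl⟩
    rw [Finset.mem_product] at hp
    exact ⟨j, c, (mem_suppFinset c).mp hp.2, rfl⟩
  · rintro ⟨j, c, hc, rfl⟩
    exact ⟨⟨j, c⟩, Finset.mem_product.mpr ⟨Finset.mem_univ j, (mem_suppFinset c).mpr hc⟩, rfl⟩

theorem mem_famOct (x : GolayPt → ℤ) :
    x ∈ famOct ↔ ∃ o s : Finset GolayPt, o ∈ octads ∧ s ⊆ o ∧ Even s.card ∧ x = pat 2 o s := by
  classical
  unfold famOct
  rw [Finset.mem_image]
  constructor
  · rintro ⟨⟨o, s⟩, hp, rfl⟩
    rw [mem_idxOct] at hp
    exact ⟨o, s, hp.1, hp.2.1, hp.2.2, rfl⟩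
  · rintro ⟨o, s, h1, h2, h3, rfl⟩
    exact ⟨⟨o, s⟩, (mem_idxOct _).mpr ⟨h1, h2, h3⟩, rfl⟩

theorem mem_famFour (x : GolayPt → ℤ) :
    x ∈ famFour ↔ ∃ P s : Finset GolayPt, P.card = 2 ∧ s ⊆ P ∧ x = pat 4 P s := by
  classical
  unfold famFour
  rw [Finset.mem_image]
  constructor
  · rintro ⟨⟨o, s⟩, hp, rfl⟩
    rw [mem_idxFour] at hp
    exact ⟨o, s, hp.1, hp.2, rfl⟩
  · rintro ⟨o, s, h1, h2, rfl⟩
    exact ⟨⟨o, s⟩, (mem_idxFour _).mpr ⟨h1, h2⟩, rfl⟩

attribute [irreducible] famOdd famOct famFour

theorem pat_even {k : ℤ} (hk : k % 2 = 0) (P s : Finset GolayPt) (i : GolayPt) :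
    pat k P s i % 2 = 0 := by
  unfold pat
  split_ifs <;> omega

/-- the minimal vectors. -/
theorem minVec_eq : {x : GolayPt → ℤ | x ∈ leechLattice ∧ sqNorm x = 32} =
    ↑(famOdd ∪ (famOct ∪ famFour)) := by
  classical
  ext x
  rw [Finset.mem_coe, Finset.mem_union, Finset.mem_union, mem_famOdd, mem_famOct, mem_famFour,
    Set.mem_ofPred_eq]
  constructor
  · rintro ⟨hx, hn⟩
    rcases Int.emod_two_eq_zero_or_one (x none) with h | h
    · right
      exact even_min_classify hx hn h
    · left
      exact odd_min_classify hx hn h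
  · rintro (⟨j, c, hc, rfl⟩ | ⟨o, s, ho, hs, he, rfl⟩ | ⟨P, s, hP, hs, rfl⟩)
    · exact ⟨oddVec_mem hc, sqNorm_oddVec j c⟩
    · refine ⟨pat_two_mem ho hs he, ?_⟩
      rw [sqNorm_pat hs, ho.2]
      norm_num
    · refine ⟨pat_four_mem hP hs, ?_⟩
      rw [sqNorm_pat hs, hP]
      norm_num

theorem card_minVec : {x : GolayPt → ℤ | x ∈ leechLattice ∧ sqNorm x = 32}.ncard = 196560 := by
  classical
  rw [minVec_eq, Set.ncard_coe_finset, Finset.card_union_of_disjoint,
    Finset.card_union_of_disjoint, card_famOdd, card_famOct, card_famFour]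
  · rw [Finset.disjoint_left]
    intro x h1 h2
    rw [mem_famOct] at h1
    rw [mem_famFour] at h2
    obtain ⟨o, s, ho, hs, -, rfl⟩ := h1
    obtain ⟨P, s', hP, hs', h⟩ := h2
    have e1 := sqNorm_pat (k := 2) hs
    have e2 := sqNorm_pat (k := 4) hs'
    have h8 : o.card = 8 := ho.2
    -- compare supports
    have hsupp : ∀ i, i ∈ o ↔ i ∈ P := by
      intro i
      rw [mem_P_iff (k := 2) (by norm_num) hs, mem_P_iff (k := 4) (by norm_num) hs', h]
    have : o = P := Finset.ext hsupp
    rw [this, hP] at h8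
    norm_num at h8
  · rw [Finset.disjoint_left]
    intro x h1 h2
    rw [mem_famOdd] at h1
    obtain ⟨j, c, -, rfl⟩ := h1
    have hodd := oddVec_odd j c none
    rw [Finset.mem_union, mem_famOct, mem_famFour] at h2
    rcases h2 with ⟨o, s, -, -, -, h⟩ | ⟨P, s, -, -, h⟩
    · rw [h, pat_even (by norm_num)] at hodd
      norm_num at hodd
    · rw [h, pat_even (by norm_num)] at hodd
      norm_num at hodd

end Cfsg.Agent.Helper9.Leech
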