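import Mathlib
import Cfsg.Prelude.Def_Sporadic_a
import Cfsg.Prelude.Def_Spor_Conway
import Cfsg.Agent.Helper9.Leech.MinVec
import Cfsg.Agent.Helper9.Golay.Fast

/-!
Counting, by evaluation in the kernel, the minimal vectors of the lattice with a prescribed inner
product with a vector given by the list of its coordinates.
-/

set_option autoImplicit false

namespace Cfsg.Agent.Helper9.Leech

open Cfsg
open Cfsg.Agent.Helper9.Golay

/-! ### the points as a list -/

/-- the point with a given index. -/
def mkPt (i : ℕ) : GolayPt := if h : i < 23 then some (⟨i, h⟩ : Fin 23) else none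

/-- the list of the points, by increasing index. -/
def pts : List GolayPt := (List.range 24).map mkPt

theorem ptIdx_mkPt : ∀ i < 24, ptIdx (mkPt i) = i := by decide

theorem mkPt_ptIdx : ∀ p : GolayPt, mkPt (ptIdx p) = p := by decide

theorem pts_nodup : pts.Nodup := by decide

theorem mem_pts (p : GolayPt) : p ∈ pts := by
  unfold pts
  rw [List.mem_map]
  exact ⟨ptIdx p, List.mem_range.mpr (ptIdx_lt p), mkPt_ptIdx p⟩

theorem pts_toFinset : pts.toFinset = Finset.univ := by
  ext p
  simp [mem_pts]

/-- the vector with a given list of coordinates. -/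
def toVec (al : List ℤ) : GolayPt → ℤ := fun p => al.getD (ptIdx p) 0

theorem sum_univ_eq (f : GolayPt → ℤ) : ∑ p, f p = (pts.map f).sum := by
  rw [← pts_toFinset, List.sum_toFinset f pts_nodup]

/-- the points of a mask, as a list. -/
def ptsOf (m : ℕ) : List GolayPt := pts.filter (fun p => m.testBit (ptIdx p))

theorem ptsOf_nodup (m : ℕ) : (ptsOf m).Nodup := pts_nodup.filter _

theorem ptsOf_toFinset (m : ℕ) : (ptsOf m).toFinset = suppM m := by
  ext p
  unfold ptsOf
  rw [List.mem_toFinset, List.mem_filter, mem_suppM]
  simp [mem_pts]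

theorem sum_suppM (f : GolayPt → ℤ) (m : ℕ) : ∑ p ∈ suppM m, f p = ((ptsOf m).map f).sum := by
  rw [← ptsOf_toFinset, List.sum_toFinset f (ptsOf_nodup m)]

/-- the coordinates at the points of a mask. -/
def valsOf : List ℤ → ℕ → List ℤ
  | [], _ => []
  | x :: l, m => if m % 2 = 1 then x :: valsOf l (m / 2) else valsOf l (m / 2)

theorem valsOf_eq (al : List ℤ) (m : ℕ) :
    valsOf al m = ((List.range al.length).filter (fun i => m.testBit i)).map
      (fun i => al.getD i 0) := by
  induction al generalizing m with
  | nil => rfl
  | cons x l ih =>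
    have e2 : (fun i => m.testBit i) ∘ Nat.succ = fun i => (m / 2).testBit i := by
      funext i
      simp only [Function.comp_apply]
      rw [Nat.testBit_succ]
    have e3 : ((fun i => (x :: l).getD i 0) ∘ Nat.succ) = fun i => l.getD i 0 := by
      funext i
      simp
    have key : (((List.range l.length).map Nat.succ).filter (fun i => m.testBit i)).map
        (fun i => (x :: l).getD i 0) = valsOf l (m / 2) := by
      rw [List.filter_map, List.map_map, e2, e3, ← ih]
    rw [List.length_cons, List.range_succ_eq_map, List.filter_cons, valsOf]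
    by_cases h : m % 2 = 1
    · have ht : m.testBit 0 = true := by
        rw [Nat.testBit_zero]
        exact decide_eq_true h
      rw [if_pos h, if_pos ht, List.map_cons, key]
      simp
    · have ht : ¬ m.testBit 0 = true := by
        rw [Nat.testBit_zero]
        simpa using h
      rw [if_neg h, if_neg ht, key]

theorem valsOf_toVec (al : List ℤ) (hal : al.length = 24) (m : ℕ) :
    valsOf al m = (ptsOf m).map (toVec al) := by
  rw [valsOf_eq, hal]
  unfold ptsOf pts
  rw [List.filter_map, List.map_map]
  have e1 : List.filter ((fun p => m.testBit (ptIdx p)) ∘ mkPt) (List.range 24) =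
      List.filter (fun i => m.testBit i) (List.range 24) := by
    apply List.filter_congr
    intro i hi
    simp only [Function.comp_apply]
    rw [ptIdx_mkPt i (List.mem_range.mp hi)]
  rw [e1]
  apply List.map_congr_left
  intro i hi
  have hi' := List.mem_range.mp (List.mem_filter.mp hi).1
  simp only [Function.comp_apply, toVec]
  rw [ptIdx_mkPt i hi']


/-! ### sublists -/

/-- the sublists of a list. -/
def subs {α : Type} : List α → List (List α)
  | [] => [[]]
  | p :: l => subs l ++ (subs l).map (fun s => p :: s)

theorem subs_map {α β : Type} (f : α → β) (l : List α) :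
    subs (l.map f) = (subs l).map (List.map f) := by
  induction l with
  | nil => rfl
  | cons p l ih =>
    rw [List.map_cons, subs, subs, ih, List.map_append, List.map_map, List.map_map]
    rfl

theorem sublist_of_mem_subs {α : Type} {l sl : List α} (h : sl ∈ subs l) : sl.Sublist l := by
  induction l generalizing sl with
  | nil =>
    rw [subs, List.mem_singleton] at h
    rw [h]
  | cons p l ih =>
    rw [subs, List.mem_append, List.mem_map] at h
    rcases h with h | ⟨t, ht, rfl⟩
    · exact (ih h).cons p
    · exact (ih ht).cons_cons p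

/-- counting the subsets of the set of a list without repetition. -/
theorem card_powerset_filter (l : List GolayPt) (hl : l.Nodup) (Q : Finset GolayPt → Prop)
    [DecidablePred Q] :
    ((l.toFinset.powerset).filter Q).card = ((subs l).filter (fun sl => Q sl.toFinset)).length := by
  classical
  induction l generalizing Q with
  | nil =>
    rw [List.toFinset_nil, Finset.powerset_empty, subs]
    by_cases h : Q ∅
    · rw [Finset.filter_singleton, if_pos h, Finset.card_singleton, List.filter_cons,
        List.toFinset_nil, decide_eq_true h, if_pos rfl]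
      rfl
    · rw [Finset.filter_singleton, if_neg h, Finset.card_empty, List.filter_cons,
        List.toFinset_nil, decide_eq_false h]
      rfl
  | cons p l ih =>
    have hp : p ∉ l := (List.nodup_cons.mp hl).1
    have hl' : l.Nodup := (List.nodup_cons.mp hl).2
    have hp' : p ∉ l.toFinset := by
      rw [List.mem_toFinset]
      exact hp
    rw [List.toFinset_cons, Finset.powerset_insert, Finset.filter_union,
      Finset.card_union_of_disjoint, Finset.filter_image, Finset.card_image_of_injOn,
      ih hl' Q, ih hl' (fun t => Q (insert p t)), subs, List.filter_append, List.length_append,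
      List.filter_map, List.length_map]
    · congr 2
      apply List.filter_congr
      intro sl _
      simp only [Function.comp_apply, List.toFinset_cons]
    · intro t ht t' ht' h
      rw [Finset.coe_filter, Set.mem_ofPred_eq, Finset.mem_powerset] at ht ht'
      have h1 : p ∉ t := fun hc => hp' (ht.1 hc)
      have h2 : p ∉ t' := fun hc => hp' (ht'.1 hc)
      have e := congrArg (fun u => Finset.erase u p) h
      simp only [Finset.erase_insert h1, Finset.erase_insert h2] at e
      exact e
    · rw [Finset.disjoint_left]
      intro t h1 h2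
      rw [Finset.mem_filter, Finset.mem_powerset] at h1
      rw [Finset.mem_filter, Finset.mem_image] at h2
      obtain ⟨⟨t', -, rfl⟩, -⟩ := h2
      exact hp' (h1.1 (Finset.mem_insert_self p t'))

/-! ### inner products with the vectors of the three shapes -/

theorem dot_pat (a : GolayPt → ℤ) {k : ℤ} {P s : Finset GolayPt} (hs : s ⊆ P) :
    dotInt a (pat k P s) = k * (∑ i ∈ P, a i - 2 * ∑ i ∈ s, a i) := by
  unfold dotInt
  simp only [pat_eq_sub hs, mul_sub, mul_ite, mul_zero, Finset.sum_sub_distrib]
  rw [Finset.sum_ite_mem, Finset.univ_inter, Finset.sum_ite_mem, Finset.univ_inter,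
    ← Finset.sum_mul, ← Finset.sum_mul]
  ring

theorem dot_oddVec (a : GolayPt → ℤ) (j : GolayPt) (c : Finset GolayPt) :
    dotInt a (oddVec j c) =
      ∑ i, a i - 2 * ∑ i ∈ c, a i - 4 * (if j ∈ c then - a j else a j) := by
  have h1 : ∀ i, a i * oddVec j c i =
      a i - (if i ∈ c then 2 * a i else 0) -
        (if i = j then 4 * (if j ∈ c then - a j else a j) else 0) := by
    intro i
    rw [oddVec_apply]
    unfold baseOdd
    by_cases hij : i = j
    · subst hij
      by_cases hc : i ∈ c
      · rw [if_pos hc, if_pos rfl, if_pos hc, if_pos rfl, if_pos hc]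
        ring
      · rw [if_neg hc, if_pos rfl, if_neg hc, if_pos rfl, if_neg hc]
        ring
    · by_cases hc : i ∈ c
      · rw [if_pos hc, if_neg hij, if_pos hc, if_neg hij]
        ring
      · rw [if_neg hc, if_neg hij, if_neg hc, if_neg hij]
        ring
  unfold dotInt
  simp only [h1, Finset.sum_sub_distrib]
  rw [Finset.sum_ite_mem, Finset.univ_inter, Finset.sum_ite_eq' Finset.univ j, if_pos (Finset.mem_univ j),
    ← Finset.mul_sum]


/-! ### counting the vectors `pat k P s` with `P` fixed -/

/-- the number of sublists `vs` of a list of values, of length allowed by `e`, with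
`k * (sum of all - 2 * sum of vs) = d`. -/
def cntSub (e : ℕ → Bool) (k d : ℤ) (vals : List ℤ) : ℕ :=
  ((subs vals).filter (fun vs => e vs.length && decide (k * (vals.sum - 2 * vs.sum) = d))).length

theorem card_pat_filter (a : GolayPt → ℤ) (l : List GolayPt) (hl : l.Nodup) (e : ℕ → Bool)
    (k d : ℤ) :
    ((l.toFinset.powerset).filter
      (fun s => e s.card = true ∧ dotInt a (pat k l.toFinset s) = d)).card =
      cntSub e k d (l.map a) := by
  classical
  rw [card_powerset_filter l hl]
  unfold cntSub
  rw [subs_map, List.filter_map, List.length_map]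
  congr 1
  apply List.filter_congr
  intro sl hsl
  have hsub := sublist_of_mem_subs hsl
  have hnd : sl.Nodup := hl.sublist hsub
  have hss : sl.toFinset ⊆ l.toFinset := by
    intro x hx
    rw [List.mem_toFinset] at hx ⊢
    exact hsub.subset hx
  simp only [Function.comp_apply, List.length_map]
  rw [dot_pat a hss, List.toFinset_card_of_nodup hnd, List.sum_toFinset a hl,
    List.sum_toFinset a hnd, Bool.decide_and, Bool.decide_eq_true]

/-! ### the vectors of shape `(±2^8, 0^16)` -/

theorem octL_nodup : octL.Nodup := by
  rw [← octL_eq]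
  exact codeList_nodup.filter _

theorem octL_sub : ∀ m ∈ octL, m ∈ codeList := by
  intro m hm
  rw [← octL_eq] at hm
  exact (List.mem_filter.mp hm).1

theorem octadFinset_eq : octadFinset = octL.toFinset.image suppM := by
  unfold octadFinset
  rw [octL_eq]

theorem sum_octadFinset (G : Finset GolayPt → ℕ) :
    ∑ o ∈ octadFinset, G o = (octL.map (fun m => G (suppM m))).sum := by
  rw [octadFinset_eq, Finset.sum_image, List.sum_toFinset _ octL_nodup]
  intro x hx y hy h
  rw [List.coe_toFinset] at hx hy
  exact suppM_injOn_of_sub octL octL_sub hx hy h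

/-- evenness of a number, as a boolean. -/
def evenB (n : ℕ) : Bool := n % 2 == 0

theorem evenB_iff (n : ℕ) : evenB n = true ↔ Even n := by
  unfold evenB
  rw [beq_iff_eq, Nat.even_iff]

theorem card_famOct_filter (al : List ℤ) (hal : al.length = 24) (d : ℤ) :
    (famOct.filter (fun x => dotInt (toVec al) x = d)).card =
      (octL.map (fun m => cntSub evenB 2 d (valsOf al m))).sum := by
  classical
  have e1 : famOct.filter (fun x => dotInt (toVec al) x = d) =
      (idxOct.filter (fun p => dotInt (toVec al) (pat 2 p.1 p.2) = d)).image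
        (fun p => pat 2 p.1 p.2) := by
    ext x
    rw [Finset.mem_filter, mem_famOct, Finset.mem_image]
    constructor
    · rintro ⟨⟨o, s, ho, hs, he, rfl⟩, hd⟩
      exact ⟨⟨o, s⟩, Finset.mem_filter.mpr ⟨(mem_idxOct _).mpr ⟨ho, hs, he⟩, hd⟩, rfl⟩
    · rintro ⟨⟨o, s⟩, hp, rfl⟩
      rw [Finset.mem_filter, mem_idxOct] at hp
      exact ⟨⟨o, s, hp.1.1, hp.1.2.1, hp.1.2.2, rfl⟩, hp.2⟩
  have e2 : idxOct.filter (fun p => dotInt (toVec al) (pat 2 p.1 p.2) = d) =
      octadFinset.sigma (fun o => o.powerset.filter
        (fun s => evenB s.card = true ∧ dotInt (toVec al) (pat 2 o s) = d)) := by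
    ext ⟨o, s⟩
    rw [Finset.mem_filter, mem_idxOct, Finset.mem_sigma, mem_octadFinset, Finset.mem_filter,
      Finset.mem_powerset, evenB_iff]
    tauto
  rw [e1, Finset.card_image_of_injOn, e2, Finset.card_sigma, sum_octadFinset]
  · congr 1
    apply List.map_congr_left
    intro m _
    rw [← ptsOf_toFinset, card_pat_filter (toVec al) (ptsOf m) (ptsOf_nodup m),
      valsOf_toVec al hal]
  · rintro ⟨o, s⟩ hp ⟨o', s'⟩ hp' h
    rw [Finset.mem_coe, Finset.mem_filter, mem_idxOct] at hp hp'
    obtain ⟨h1, h2⟩ := pat_inj (by norm_num) hp.1.2.1 hp'.1.2.1 h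
    dsimp only at h1 h2
    rw [h1, h2]


/-! ### the vectors of shape `(±4^2, 0^22)` -/

/-- the pairs of elements of a list, in order. -/
def pairsOf {α : Type} : List α → List (List α)
  | [] => []
  | p :: l => l.map (fun q => [p, q]) ++ pairsOf l

theorem pairsOf_map {α β : Type} (f : α → β) (l : List α) :
    pairsOf (l.map f) = (pairsOf l).map (List.map f) := by
  induction l with
  | nil => rfl
  | cons p l ih =>
    rw [List.map_cons, pairsOf, pairsOf, ih, List.map_append, List.map_map, List.map_map]
    rfl

theorem nodup_of_mem_pairsOf {α : Type} {l q : List α} (hl : l.Nodup) (h : q ∈ pairsOf l) :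
    q.Nodup := by
  induction l with
  | nil => simp [pairsOf] at h
  | cons p l ih =>
    rw [pairsOf, List.mem_append, List.mem_map] at h
    rcases h with ⟨r, hr, rfl⟩ | h
    · have hp : p ∉ l := (List.nodup_cons.mp hl).1
      have : p ≠ r := fun hc => hp (hc ▸ hr)
      simp [this]
    · exact ih (List.nodup_cons.mp hl).2 h

theorem sum_powersetCard_two (l : List GolayPt) (hl : l.Nodup) (G : Finset GolayPt → ℕ) :
    ∑ P ∈ l.toFinset.powersetCard 2, G P = ((pairsOf l).map (fun q => G q.toFinset)).sum := by
  classical
  induction l with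
  | nil =>
    rw [List.toFinset_nil, Finset.powersetCard_eq_empty.mpr (by simp)]
    rfl
  | cons p l ih =>
    have hp : p ∉ l := (List.nodup_cons.mp hl).1
    have hl' : l.Nodup := (List.nodup_cons.mp hl).2
    have hp' : p ∉ l.toFinset := by
      rw [List.mem_toFinset]
      exact hp
    rw [List.toFinset_cons, Finset.powersetCard_succ_insert hp', Finset.sum_union, ih hl',
      Finset.sum_image, Finset.powersetCard_one, Finset.sum_map, List.sum_toFinset _ hl', pairsOf,
      List.map_append, List.sum_append, List.map_map, add_comm]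
    · congr 2
      apply List.map_congr_left
      intro q _
      simp
    · intro t ht t' ht' h
      rw [Finset.mem_coe, Finset.mem_powersetCard] at ht ht'
      have h1 : p ∉ t := fun hc => hp' (ht.1 hc)
      have h2 : p ∉ t' := fun hc => hp' (ht'.1 hc)
      have e := congrArg (fun u => Finset.erase u p) h
      simp only [Finset.erase_insert h1, Finset.erase_insert h2] at e
      exact e
    · rw [Finset.disjoint_left]
      intro t h1 h2
      rw [Finset.mem_powersetCard] at h1
      rw [Finset.mem_image] at h2
      obtain ⟨t', -, rfl⟩ := h2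
      exact hp' (h1.1 (Finset.mem_insert_self p t'))

theorem pts_map_toVec (al : List ℤ) (hal : al.length = 24) : pts.map (toVec al) = al := by
  unfold pts
  rw [List.map_map]
  apply List.ext_getElem
  · rw [List.length_map, List.length_range, hal]
  · intro i h1 h2
    rw [List.getElem_map, List.getElem_range]
    simp only [Function.comp_apply, toVec]
    rw [List.length_map, List.length_range] at h1
    rw [ptIdx_mkPt i h1, List.getD_eq_getElem _ _ h2]

theorem card_famFour_filter (al : List ℤ) (hal : al.length = 24) (d : ℤ) :
    (famFour.filter (fun x => dotInt (toVec al) x = d)).card =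
      ((pairsOf al).map (fun q => cntSub (fun _ => true) 4 d q)).sum := by
  classical
  have e1 : famFour.filter (fun x => dotInt (toVec al) x = d) =
      (idxFour.filter (fun p => dotInt (toVec al) (pat 4 p.1 p.2) = d)).image
        (fun p => pat 4 p.1 p.2) := by
    ext x
    rw [Finset.mem_filter, mem_famFour, Finset.mem_image]
    constructor
    · rintro ⟨⟨o, s, ho, hs, rfl⟩, hd⟩
      exact ⟨⟨o, s⟩, Finset.mem_filter.mpr ⟨(mem_idxFour _).mpr ⟨ho, hs⟩, hd⟩, rfl⟩
    · rintro ⟨⟨o, s⟩, hp, rfl⟩
      rw [Finset.mem_filter, mem_idxFour] at hp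
      exact ⟨⟨o, s, hp.1.1, hp.1.2, rfl⟩, hp.2⟩
  have e2 : idxFour.filter (fun p => dotInt (toVec al) (pat 4 p.1 p.2) = d) =
      (pts.toFinset.powersetCard 2).sigma (fun o => o.powerset.filter
        (fun s => (fun _ : ℕ => true) s.card = true ∧ dotInt (toVec al) (pat 4 o s) = d)) := by
    ext ⟨o, s⟩
    rw [Finset.mem_filter, mem_idxFour, Finset.mem_sigma, Finset.mem_powersetCard,
      Finset.mem_filter, Finset.mem_powerset, pts_toFinset]
    simp only [Finset.subset_univ, true_and, and_assoc]
  rw [e1, Finset.card_image_of_injOn, e2, Finset.card_sigma, sum_powersetCard_two pts pts_nodup]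
  · have e3 : pairsOf al = (pairsOf pts).map (List.map (toVec al)) := by
      rw [← pairsOf_map, pts_map_toVec al hal]
    rw [e3, List.map_map]
    congr 1
    apply List.map_congr_left
    intro q hq
    exact card_pat_filter (toVec al) q (nodup_of_mem_pairsOf pts_nodup hq) (fun _ => true) 4 d
  · rintro ⟨o, s⟩ hp ⟨o', s'⟩ hp' h
    rw [Finset.mem_coe, Finset.mem_filter, mem_idxFour] at hp hp'
    obtain ⟨h1, h2⟩ := pat_inj (by norm_num) hp.1.2 hp'.1.2 h
    dsimp only at h1 h2
    rw [h1, h2]


/-! ### the vectors of shape `(∓3, ±1^23)` -/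

/-- the coordinates with the signs changed on a mask. -/
def sgnVals : List ℤ → ℕ → List ℤ
  | [], _ => []
  | x :: l, m => (if m % 2 = 1 then -x else x) :: sgnVals l (m / 2)

theorem sgnVals_eq (al : List ℤ) (m : ℕ) :
    sgnVals al m = (List.range al.length).map
      (fun i => if m.testBit i then - al.getD i 0 else al.getD i 0) := by
  induction al generalizing m with
  | nil => rfl
  | cons x l ih =>
    rw [List.length_cons, List.range_succ_eq_map, List.map_cons, List.map_map, sgnVals, ih (m / 2)]
    congr 1
    · rw [Nat.testBit_zero]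
      by_cases h : m % 2 = 1
      · rw [if_pos h, decide_eq_true h, if_pos rfl]
        rfl
      · rw [if_neg h, decide_eq_false h, if_neg (by simp)]
        rfl
    · apply List.map_congr_left
      intro i _
      simp only [Function.comp_apply]
      rw [Nat.testBit_succ]
      simp

theorem sgnVals_toVec (al : List ℤ) (hal : al.length = 24) (m : ℕ) :
    sgnVals al m = pts.map (fun j => if j ∈ suppM m then - toVec al j else toVec al j) := by
  rw [sgnVals_eq, hal]
  unfold pts
  rw [List.map_map]
  apply List.map_congr_left
  intro i hi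
  have hi' := List.mem_range.mp hi
  simp only [Function.comp_apply, toVec, mem_suppM]
  rw [ptIdx_mkPt i hi']

/-- the number of vectors of shape `(∓3, ±1^23)`, with signs given by a code word, that have a
given inner product with the vector of coordinates `al`. -/
def cntOddC (al : List ℤ) (d : ℤ) (c : ℕ) : ℕ :=
  ((sgnVals al c).filter
    (fun v => decide (al.sum - 2 * (valsOf al c).sum - 4 * v = d))).length

theorem suppFinset_eq : suppFinset = codeList.toFinset.image suppM := by
  ext c
  rw [mem_suppFinset, mem_supports_iff, Finset.mem_image]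
  simp only [List.mem_toFinset]

theorem sum_suppFinset (G : Finset GolayPt → ℕ) :
    ∑ c ∈ suppFinset, G c = (codeList.map (fun m => G (suppM m))).sum := by
  rw [suppFinset_eq, Finset.sum_image, List.sum_toFinset _ codeList_nodup]
  intro x hx y hy h
  rw [List.coe_toFinset] at hx hy
  exact suppM_injOn_of_sub codeList (fun m hm => hm) hx hy h

theorem card_univ_filter (Q : GolayPt → Prop) [DecidablePred Q] :
    (Finset.univ.filter Q).card = (pts.filter (fun j => decide (Q j))).length := by
  rw [← List.toFinset_card_of_nodup (pts_nodup.filter _), List.toFinset_filter, pts_toFinset]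
  congr 1
  apply Finset.filter_congr
  intro j _
  simp

theorem card_odd_code (al : List ℤ) (hal : al.length = 24) (d : ℤ) (c : ℕ) :
    (Finset.univ.filter (fun j => dotInt (toVec al) (oddVec j (suppM c)) = d)).card =
      cntOddC al d c := by
  rw [card_univ_filter]
  unfold cntOddC
  rw [sgnVals_toVec al hal, List.filter_map, List.length_map]
  refine congrArg List.length (List.filter_congr ?_)
  intro j _
  simp only [Function.comp_apply]
  rw [dot_oddVec, sum_univ_eq, pts_map_toVec al hal, sum_suppM, ← valsOf_toVec al hal]

theorem card_famOdd_filter (al : List ℤ) (hal : al.length = 24) (d : ℤ) :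
    (famOdd.filter (fun x => dotInt (toVec al) x = d)).card =
      (codeList.map (cntOddC al d)).sum := by
  classical
  have e1 : famOdd.filter (fun x => dotInt (toVec al) x = d) =
      (((Finset.univ : Finset GolayPt) ×ˢ suppFinset).filter
        (fun p => dotInt (toVec al) (oddVec p.1 p.2) = d)).image (fun p => oddVec p.1 p.2) := by
    ext x
    rw [Finset.mem_filter, mem_famOdd, Finset.mem_image]
    constructor
    · rintro ⟨⟨j, c, hc, rfl⟩, hd⟩
      exact ⟨⟨j, c⟩, Finset.mem_filter.mpr
        ⟨Finset.mem_product.mpr ⟨Finset.mem_univ j, (mem_suppFinset c).mpr hc⟩, hd⟩, rfl⟩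
    · rintro ⟨⟨j, c⟩, hp, rfl⟩
      rw [Finset.mem_filter, Finset.mem_product] at hp
      exact ⟨⟨j, c, (mem_suppFinset c).mp hp.1.2, rfl⟩, hp.2⟩
  rw [e1, Finset.card_image_of_injOn, Finset.card_filter, Finset.sum_product_right,
    sum_suppFinset]
  · refine congrArg List.sum (List.map_congr_left ?_)
    intro c _
    rw [← card_odd_code al hal d c, Finset.card_filter]
  · rintro ⟨j, c⟩ - ⟨j', c'⟩ - h
    obtain ⟨h1, h2⟩ := oddVec_inj h
    exact Prod.ext h1 h2


/-! ### the count -/

theorem disjoint_famOct_famFour : Disjoint famOct famFour := by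
  rw [Finset.disjoint_left]
  intro x h1 h2
  rw [mem_famOct] at h1
  rw [mem_famFour] at h2
  obtain ⟨o, s, ho, hs, -, rfl⟩ := h1
  obtain ⟨P, s', hP, hs', h⟩ := h2
  have h8 : o.card = 8 := ho.2
  have hsupp : ∀ i, i ∈ o ↔ i ∈ P := by
    intro i
    rw [mem_P_iff (k := 2) (by norm_num) hs, mem_P_iff (k := 4) (by norm_num) hs', h]
  have : o = P := Finset.ext hsupp
  rw [this, hP] at h8
  norm_num at h8

theorem disjoint_famOdd_even : Disjoint famOdd (famOct ∪ famFour) := by
  rw [Finset.disjoint_left]
  intro x h1 h2
  rw [mem_famOdd] at h1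
  obtain ⟨j, c, -, rfl⟩ := h1
  have hodd := oddVec_odd j c none
  rw [Finset.mem_union, mem_famOct, mem_famFour] at h2
  rcases h2 with ⟨o, s, -, -, -, h⟩ | ⟨P, s, -, -, h⟩
  · rw [h, pat_even (by norm_num)] at hodd
    norm_num at hodd
  · rw [h, pat_even (by norm_num)] at hodd
    norm_num at hodd

/-- the number of minimal vectors with a given inner product with the vector of coordinates
`al`, as a sum over the code words, the octads and the pairs of points. -/
def cntSpec (al : List ℤ) (d : ℤ) : ℕ :=
  (codeList.map (cntOddC al d)).sum +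
    ((octL.map (fun m => cntSub evenB 2 d (valsOf al m))).sum +
      ((pairsOf al).map (fun q => cntSub (fun _ => true) 4 d q)).sum)

theorem ncard_min_dot (al : List ℤ) (hal : al.length = 24) (d : ℤ) :
    {x : GolayPt → ℤ | x ∈ leechLattice ∧ sqNorm x = 32 ∧ dotInt (toVec al) x = d}.ncard =
      cntSpec al d := by
  classical
  have e : {x : GolayPt → ℤ | x ∈ leechLattice ∧ sqNorm x = 32 ∧ dotInt (toVec al) x = d} =
      ↑((famOdd ∪ (famOct ∪ famFour)).filter (fun x => dotInt (toVec al) x = d)) := by
    ext x
    have h := Set.ext_iff.mp minVec_eq x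
    rw [Set.mem_ofPred_eq, Finset.mem_coe] at h
    rw [Set.mem_ofPred_eq, Finset.mem_coe, Finset.mem_filter, ← h]
    tauto
  rw [e, Set.ncard_coe_finset, Finset.filter_union,
    Finset.card_union_of_disjoint
      (Finset.disjoint_filter_filter disjoint_famOdd_even),
    Finset.filter_union,
    Finset.card_union_of_disjoint
      (Finset.disjoint_filter_filter disjoint_famOct_famFour),
    card_famOdd_filter al hal, card_famOct_filter al hal, card_famFour_filter al hal]
  rfl

/-! ### evaluation in the kernel -/

/-- evaluate a number before passing it on. -/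
def forceN {α : Type} (n : ℕ) (f : ℕ → α) : α :=
  match n with
  | 0 => f 0
  | Nat.succ k => f (Nat.succ k)

theorem forceN_eq {α : Type} (n : ℕ) (f : ℕ → α) : forceN n f = f n := by
  cases n <;> rfl

/-- evaluate an integer before passing it on. -/
def forceZ {α : Type} (z : ℤ) (f : ℤ → α) : α :=
  match z with
  | Int.ofNat n => forceN n (fun n' => f (Int.ofNat n'))
  | Int.negSucc n => forceN n (fun n' => f (Int.negSucc n'))

theorem forceZ_eq {α : Type} (z : ℤ) (f : ℤ → α) : forceZ z f = f z := by
  cases z <;> simp only [forceZ, forceN_eq]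

/-- evaluate a list of integers before passing it on. -/
def forceL {α : Type} : List ℤ → (List ℤ → α) → α
  | [], f => f []
  | x :: l, f => forceZ x (fun x' => forceL l (fun l' => f (x' :: l')))

theorem forceL_eq {α : Type} (l : List ℤ) (f : List ℤ → α) : forceL l f = f l := by
  induction l generalizing f with
  | nil => rfl
  | cons x l ih => rw [forceL, forceZ_eq, ih]

/-- `valsOf`, evaluating the mask at each step. -/
def valsOfF : List ℤ → ℕ → List ℤ
  | [], _ => []
  | x :: l, m => forceN (m / 2) (fun m' => if m % 2 = 1 then x :: valsOfF l m' else valsOfF l m')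

theorem valsOfF_eq (al : List ℤ) (m : ℕ) : valsOfF al m = valsOf al m := by
  induction al generalizing m with
  | nil => rfl
  | cons x l ih => rw [valsOfF, forceN_eq, valsOf, ih]

/-- `sgnVals`, evaluating the mask at each step. -/
def sgnValsF : List ℤ → ℕ → List ℤ
  | [], _ => []
  | x :: l, m => forceN (m / 2) (fun m' => (if m % 2 = 1 then -x else x) :: sgnValsF l m')

theorem sgnValsF_eq (al : List ℤ) (m : ℕ) : sgnValsF al m = sgnVals al m := by
  induction al generalizing m with
  | nil => rfl
  | cons x l ih => rw [sgnValsF, forceN_eq, sgnVals, ih]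

/-- the count, arranged for evaluation. -/
def cntFast (al : List ℤ) (d : ℤ) : ℕ :=
  forceZ al.sum (fun A =>
    (codeList.map (fun c => forceN c (fun c' =>
      forceZ (A - 2 * (valsOfF al c').sum) (fun T =>
        forceL (sgnValsF al c') (fun sv =>
          (sv.filter (fun v => decide (T - 4 * v = d))).length))))).sum) +
    ((octL.map (fun m => forceL (valsOfF al m) (fun v => cntSub evenB 2 d v))).sum +
      ((pairsOf al).map (fun q => cntSub (fun _ => true) 4 d q)).sum)

theorem cntFast_eq (al : List ℤ) (d : ℤ) : cntFast al d = cntSpec al d := by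
  unfold cntFast cntSpec cntOddC
  simp only [forceZ_eq, forceN_eq, forceL_eq, valsOfF_eq, sgnValsF_eq]

theorem ncard_min_dot' (al : List ℤ) (hal : al.length = 24) (d : ℤ) (n : ℕ)
    (h : cntFast al d = n) :
    {x : GolayPt → ℤ | x ∈ leechLattice ∧ sqNorm x = 32 ∧ dotInt (toVec al) x = d}.ncard = n := by
  rw [ncard_min_dot al hal, ← cntFast_eq, h]

end Cfsg.Agent.Helper9.Leech
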