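import Mathlib
import Cfsg.Prelude.Def_Sporadic_a
import Cfsg.Prelude.Def_SporadicCombinatorics
import Cfsg.Agent.Helper9.Golay.Code
import Cfsg.Agent.Helper9.Leech.Norm
import Cfsg.Agent.Helper9.Leech.Basic

/-!
An automorphism of the lattice that is not monomial, built from a partition of the 24 points into
six sets of four points any two of which form an octad.
-/

set_option autoImplicit false

namespace Cfsg.Agent.Helper9.Leech

open Cfsg
open Cfsg.Agent.Helper9.Golay

/-- the index of the part of a point, by point index. -/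
def kapTab : List (Fin 6) :=
  [0, 0, 0, 1, 5, 1, 4, 4, 2, 3, 3, 2, 2, 5, 1, 3, 5, 1, 2, 4, 3, 4, 5, 0]

/-- the index of the part of a point. -/
def kap (p : GolayPt) : Fin 6 := kapTab.getD (ptIdx p) 0

/-- the union of some of the parts. -/
def tetU (S : Finset (Fin 6)) : Finset GolayPt := Finset.univ.filter (fun p => kap p ∈ S)

/-- the indicator word of a union of parts. -/
def tetW (S : Finset (Fin 6)) : GolayPt → ZMod 2 := fun p => if kap p ∈ S then 1 else 0

theorem tetW_codeList : ∀ S : Finset (Fin 6), Even S.card → encW (tetW S) ∈ codeList := by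
  decide +kernel

theorem tetU_mem (S : Finset (Fin 6)) (hS : Even S.card) :
    tetU S ∈ supports (golayCode : Set (GolayPt → ZMod 2)) := by
  refine ⟨tetW S, (mem_golayCode_iff _).mpr (tetW_codeList S hS), ?_⟩
  ext p
  unfold support₂ tetW tetU
  simp only [Finset.mem_filter, Finset.mem_univ, true_and]
  split_ifs with h
  · simp [h]
  · simp [h]

theorem card_tet : ∀ k : Fin 6, (Finset.univ.filter (fun p : GolayPt => kap p = k)).card = 4 := by
  decide +kernel

/-- vectors that are constant modulo 4 on the parts. -/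
theorem tetConst_mem (z : GolayPt → ℤ) (v : Fin 6 → ℤ) (a : ℤ)
    (hz : ∀ i, z i ≡ v (kap i) [ZMOD 4]) (hv : ∀ k, v k ≡ a [ZMOD 2])
    (hvs : ∑ k, v k ≡ 2 * a [ZMOD 4]) (hsum : ∑ i, z i ≡ 4 * a [ZMOD 8]) : z ∈ leechSet := by
  refine ⟨a, fun i => ((hz i).of_dvd (by norm_num)).trans (hv _), hsum, fun r => ?_⟩
  have hset : (Finset.univ.filter fun i => z i ≡ r [ZMOD 4]) =
      tetU (Finset.univ.filter fun k => v k ≡ r [ZMOD 4]) := by
    ext i
    unfold tetU
    simp only [Finset.mem_filter, Finset.mem_univ, true_and]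
    exact ⟨fun h => (hz i).symm.trans h, fun h => (hz i).trans h⟩
  rw [hset]
  apply tetU_mem
  by_cases hr : r ≡ a [ZMOD 2]
  · have hp : ∀ k, v k ≡ r + 2 * (if v k ≡ r [ZMOD 4] then 0 else 1) [ZMOD 4] := by
      intro k
      by_cases h : v k ≡ r [ZMOD 4]
      · rw [if_pos h, mul_zero, add_zero]
        exact h
      · rw [if_neg h, mul_one]
        have h1 := hv k
        unfold Int.ModEq at h h1 hr ⊢
        omega
    have hs1 : ∑ k, v k ≡ ∑ k : Fin 6, (r + 2 * (if v k ≡ r [ZMOD 4] then 0 else 1)) [ZMOD 4] :=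
      Int.ModEq.sum (fun k _ => hp k)
    rw [Finset.sum_add_distrib, Finset.sum_const, ← Finset.mul_sum, Finset.card_univ,
      Fintype.card_fin, nsmul_eq_mul] at hs1
    have hc : ((Finset.univ.filter fun k => v k ≡ r [ZMOD 4]).card : ℤ) +
        ∑ k : Fin 6, (if v k ≡ r [ZMOD 4] then (0 : ℤ) else 1) = 6 := by
      rw [Finset.card_filter]
      push_cast
      rw [← Finset.sum_add_distrib]
      have h1 : ∀ k : Fin 6, ((if v k ≡ r [ZMOD 4] then (1 : ℤ) else 0) +
          (if v k ≡ r [ZMOD 4] then (0 : ℤ) else 1)) = 1 := by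
        intro k
        split_ifs <;> norm_num
      rw [Finset.sum_congr rfl (fun k _ => h1 k)]
      simp
    rw [Nat.even_iff]
    generalize (∑ k : Fin 6, (if v k ≡ r [ZMOD 4] then (0 : ℤ) else 1)) = P at hs1 hc
    generalize (Finset.univ.filter fun k => v k ≡ r [ZMOD 4]).card = C at hc ⊢
    unfold Int.ModEq at hvs hs1 hr
    push_cast at hs1
    omega
  · have hempty : (Finset.univ.filter fun k => v k ≡ r [ZMOD 4]) = ∅ := by
      apply Finset.filter_false_of_mem
      intro k _ hk
      exact hr ((hk.of_dvd (by norm_num)).symm.trans (hv k))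
    rw [hempty]
    exact ⟨0, rfl⟩

/-! ### sums over the parts -/

/-- the sum of the entries over a part. -/
def tsum (x : GolayPt → ℤ) (k : Fin 6) : ℤ :=
  ∑ i ∈ Finset.univ.filter (fun p => kap p = k), x i

/-- half of it. -/
def hsum (x : GolayPt → ℤ) (k : Fin 6) : ℤ := tsum x k / 2

theorem sum_tsum_mul (f : Fin 6 → ℤ) (x : GolayPt → ℤ) :
    ∑ i, f (kap i) * x i = ∑ k, f k * tsum x k := by
  rw [← Finset.sum_fiberwise Finset.univ kap]
  apply Finset.sum_congr rfl
  intro k _
  unfold tsum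
  rw [Finset.mul_sum]
  apply Finset.sum_congr rfl
  intro i hi
  rw [(Finset.mem_filter.mp hi).2]

theorem sum_tsum (x : GolayPt → ℤ) : ∑ k, tsum x k = ∑ i, x i := by
  have h := sum_tsum_mul (fun _ => 1) x
  simp only [one_mul] at h
  exact h.symm

theorem sum_comp_kap (g : Fin 6 → ℤ) : ∑ i, g (kap i) = 4 * ∑ k, g k := by
  have h := sum_tsum_mul g (fun _ => 1)
  simp only [mul_one] at h
  rw [h, Finset.mul_sum]
  apply Finset.sum_congr rfl
  intro k _
  unfold tsum
  rw [Finset.sum_const, card_tet k]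
  ring

theorem tsum_add (x y : GolayPt → ℤ) (k : Fin 6) : tsum (x + y) k = tsum x k + tsum y k := by
  unfold tsum
  simp only [Pi.add_apply]
  rw [Finset.sum_add_distrib]

theorem tsum_pair {x : GolayPt → ℤ} (hx : x ∈ leechSet) {k l : Fin 6} (hkl : k ≠ l) :
    (tsum x k + tsum x l) % 4 = 0 := by
  have hc : tetU {k, l} ∈ supports (golayCode : Set (GolayPt → ZMod 2)) := by
    apply tetU_mem
    rw [Finset.card_pair hkl]
    exact ⟨1, rfl⟩
  have h := sum_on_codeword hx hc
  have e : ∑ i ∈ tetU {k, l}, x i = tsum x k + tsum x l := by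
    unfold tetU tsum
    rw [Finset.sum_filter, Finset.sum_filter, Finset.sum_filter, ← Finset.sum_add_distrib]
    apply Finset.sum_congr rfl
    intro i _
    by_cases h1 : kap i = k
    · have h2 : kap i ≠ l := fun h2 => hkl (h1.symm.trans h2)
      simp [h1, h2, hkl]
    · by_cases h2 : kap i = l
      · simp [h1, h2, Ne.symm hkl]
      · simp [h1, h2]
  rw [e] at h
  exact h

theorem fin6_others : ∀ k : Fin 6, ∃ l l' : Fin 6, k ≠ l ∧ k ≠ l' ∧ l ≠ l' := by decide

theorem tsum_even {x : GolayPt → ℤ} (hx : x ∈ leechSet) (k : Fin 6) : tsum x k % 2 = 0 := by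
  obtain ⟨l, l', h1, h2, h3⟩ := fin6_others k
  have e1 := tsum_pair hx h1
  have e2 := tsum_pair hx h2
  have e3 := tsum_pair hx h3
  omega

theorem two_mul_hsum {x : GolayPt → ℤ} (hx : x ∈ leechSet) (k : Fin 6) :
    2 * hsum x k = tsum x k := by
  have := tsum_even hx k
  unfold hsum
  omega

theorem hsum_parity {x : GolayPt → ℤ} (hx : x ∈ leechSet) (k l : Fin 6) :
    hsum x k % 2 = hsum x l % 2 := by
  by_cases hkl : k = l
  · rw [hkl]
  · have e1 := tsum_pair hx hkl
    have e2 := two_mul_hsum hx k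
    have e3 := two_mul_hsum hx l
    omega

theorem hsum_add {x y : GolayPt → ℤ} (hx : x ∈ leechSet) (hy : y ∈ leechSet) (k : Fin 6) :
    hsum (x + y) k = hsum x k + hsum y k := by
  have e1 := two_mul_hsum hx k
  have e2 := two_mul_hsum hy k
  have e3 := tsum_add x y k
  unfold hsum at *
  omega

theorem sum_hsum {x : GolayPt → ℤ} (hx : x ∈ leechSet) : 2 * ∑ k, hsum x k = ∑ i, x i := by
  rw [← sum_tsum, Finset.mul_sum]
  apply Finset.sum_congr rfl
  intro k _
  exact two_mul_hsum hx k

/-! ### the map -/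

/-- the image of a vector. -/
def xiFun (x : GolayPt → ℤ) : GolayPt → ℤ :=
  fun i => if kap i = 0 then x i - hsum x 0 else hsum x (kap i) - x i

/-- the sum of a vector and its image. -/
def zvec (x : GolayPt → ℤ) : GolayPt → ℤ :=
  fun i => if kap i = 0 then 2 * x i - hsum x 0 else hsum x (kap i)

theorem xiFun_eq (x : GolayPt → ℤ) : xiFun x = zvec x - x := by
  funext i
  unfold xiFun zvec
  rw [Pi.sub_apply]
  split_ifs <;> ring

theorem zvec_mem {x : GolayPt → ℤ} (hx : x ∈ leechSet) : zvec x ∈ leechSet := by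
  obtain ⟨m, hm1, hm2, -⟩ := id hx
  have hS := sum_hsum hx
  obtain ⟨g, hg⟩ : ∃ g : Fin 6 → ℤ, g = fun k => if k = 0 then -hsum x 0 else hsum x k := ⟨_, rfl⟩
  obtain ⟨f, hf⟩ : ∃ f : Fin 6 → ℤ, f = fun k => if k = 0 then 2 else 0 := ⟨_, rfl⟩
  have hz0 : ∀ i, zvec x i = g (kap i) + f (kap i) * x i := by
    intro i
    rw [hg, hf]
    unfold zvec
    dsimp only
    split_ifs <;> ring
  apply tetConst_mem (zvec x) (fun k => if k = 0 then 2 * m - hsum x 0 else hsum x k) (hsum x 0)
  · intro i
    unfold zvec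
    by_cases h : kap i = 0
    · rw [if_pos h, if_pos h]
      have := hm1 i
      unfold Int.ModEq at this ⊢
      omega
    · rw [if_neg h, if_neg h]
  · intro k
    by_cases h : k = 0
    · rw [if_pos h]
      unfold Int.ModEq
      omega
    · rw [if_neg h]
      exact hsum_parity hx k 0
  · rw [Fin.sum_univ_six]
    rw [Fin.sum_univ_six] at hS
    simp only [Fin.reduceEq, if_true, if_false]
    unfold Int.ModEq at hm2 ⊢
    rw [← hS] at hm2
    omega
  · simp only [hz0]
    rw [Finset.sum_add_distrib, sum_comp_kap g, sum_tsum_mul f x, Fin.sum_univ_six,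
      Fin.sum_univ_six, hg, hf]
    rw [Fin.sum_univ_six] at hS
    simp only [Fin.reduceEq, if_true, if_false]
    have e0 := two_mul_hsum hx 0
    unfold Int.ModEq at hm2 ⊢
    rw [← hS] at hm2
    omega

theorem xiFun_mem {x : GolayPt → ℤ} (hx : x ∈ leechLattice) : xiFun x ∈ leechLattice := by
  rw [xiFun_eq]
  exact leechLattice.sub_mem ((mem_leechLattice_iff _).mpr
    (zvec_mem ((mem_leechLattice_iff _).mp hx))) hx

theorem tsum_xiFun {x : GolayPt → ℤ} (hx : x ∈ leechSet) (k : Fin 6) :
    tsum (xiFun x) k = if k = 0 then -(2 * hsum x 0) else 2 * hsum x k := by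
  have e := two_mul_hsum hx k
  unfold tsum at e ⊢
  have h1 : ∀ i ∈ Finset.univ.filter (fun p => kap p = k),
      xiFun x i = if k = 0 then x i - hsum x 0 else hsum x k - x i := by
    intro i hi
    unfold xiFun
    rw [(Finset.mem_filter.mp hi).2]
  rw [Finset.sum_congr rfl h1]
  by_cases hk : k = 0
  · simp only [hk, if_true]
    rw [Finset.sum_sub_distrib, Finset.sum_const, card_tet 0]
    rw [hk] at e
    rw [← e]
    simp
    ring
  · simp only [hk, if_false]
    rw [Finset.sum_sub_distrib, Finset.sum_const, card_tet k, ← e]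
    simp
    ring

theorem hsum_xiFun {x : GolayPt → ℤ} (hx : x ∈ leechSet) (k : Fin 6) :
    hsum (xiFun x) k = if k = 0 then -hsum x 0 else hsum x k := by
  rw [show hsum (xiFun x) k = tsum (xiFun x) k / 2 from rfl, tsum_xiFun hx k]
  split_ifs <;> omega

theorem xiFun_xiFun {x : GolayPt → ℤ} (hx : x ∈ leechSet) : xiFun (xiFun x) = x := by
  funext i
  have h0 := hsum_xiFun hx 0
  have hk := hsum_xiFun hx (kap i)
  rw [if_pos rfl] at h0
  by_cases h : kap i = 0
  · have e1 : xiFun (xiFun x) i = xiFun x i - hsum (xiFun x) 0 := by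
      show (if kap i = 0 then _ else _) = _
      rw [if_pos h]
    have e2 : xiFun x i = x i - hsum x 0 := by
      show (if kap i = 0 then _ else _) = _
      rw [if_pos h]
    rw [e1, e2, h0]
    ring
  · rw [if_neg h] at hk
    have e1 : xiFun (xiFun x) i = hsum (xiFun x) (kap i) - xiFun x i := by
      show (if kap i = 0 then _ else _) = _
      rw [if_neg h]
    have e2 : xiFun x i = hsum x (kap i) - x i := by
      show (if kap i = 0 then _ else _) = _
      rw [if_neg h]
    rw [e1, e2, hk]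
    ring

theorem xiFun_add {x y : GolayPt → ℤ} (hx : x ∈ leechSet) (hy : y ∈ leechSet) :
    xiFun (x + y) = xiFun x + xiFun y := by
  funext i
  unfold xiFun
  rw [Pi.add_apply, Pi.add_apply, hsum_add hx hy, hsum_add hx hy]
  split_ifs <;> ring

theorem sqNorm_xiFun {x : GolayPt → ℤ} (hx : x ∈ leechSet) : sqNorm (xiFun x) = sqNorm x := by
  unfold sqNorm
  have h1 : ∀ i, xiFun x i ^ 2 = hsum x (kap i) ^ 2 - 2 * (hsum x (kap i) * x i) + x i ^ 2 := by
    intro i
    unfold xiFun
    by_cases h : kap i = 0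
    · rw [if_pos h, h]
      ring
    · rw [if_neg h]
      ring
  simp only [h1]
  rw [Finset.sum_add_distrib, Finset.sum_sub_distrib, ← Finset.mul_sum,
    sum_comp_kap (fun k => hsum x k ^ 2), sum_tsum_mul (fun k => hsum x k) x]
  have h2 : ∀ k : Fin 6, hsum x k * tsum x k = 2 * hsum x k ^ 2 := by
    intro k
    rw [← two_mul_hsum hx k]
    ring
  rw [Finset.sum_congr rfl (fun k _ => h2 k), ← Finset.mul_sum]
  ring

/-- the automorphism. -/
def xiPerm : Equiv.Perm ↥leechLattice where
  toFun v := ⟨xiFun v.1, xiFun_mem v.2⟩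
  invFun v := ⟨xiFun v.1, xiFun_mem v.2⟩
  left_inv v := Subtype.ext (xiFun_xiFun ((mem_leechLattice_iff _).mp v.2))
  right_inv v := Subtype.ext (xiFun_xiFun ((mem_leechLattice_iff _).mp v.2))

theorem xiPerm_apply (v : ↥leechLattice) : ((xiPerm v : ↥leechLattice) : GolayPt → ℤ) = xiFun v.1 :=
  rfl

theorem xiPerm_mem : xiPerm ∈ Co0 := by
  refine ⟨fun v w => ?_, fun v => ?_⟩
  · apply Subtype.ext
    show xiFun (v.1 + w.1) = xiFun v.1 + xiFun w.1
    exact xiFun_add ((mem_leechLattice_iff _).mp v.2) ((mem_leechLattice_iff _).mp w.2)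
  · exact sqNorm_xiFun ((mem_leechLattice_iff _).mp v.2)

end Cfsg.Agent.Helper9.Leech
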