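import Mathlib
import Cfsg.Prelude.Def_Sporadic_a
import Cfsg.Prelude.Def_Spor_Conway
import Cfsg.Agent.Helper9.Leech.Norm
import Cfsg.Agent.S0372

set_option autoImplicit false

/-!
The negation map of the lattice is the square of an automorphism, so that the subgroup of order 2
it generates has no complement in the group of automorphisms of the lattice.
-/

namespace Cfsg.Agent.Helper9.Leech

open Cfsg
open Cfsg.Agent.Helper9.Golay

/-- a dodecad meeting every orbit of the involution `x ↦ -1/x` in one point. -/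
def nsMask : ℕ := 340831

theorem nsMask_mem : nsMask ∈ codeList := by decide +kernel

theorem nsMask_split : ∀ p : GolayPt,
    nsMask.testBit (ptIdx p) = !nsMask.testBit (ptIdx (projInv p)) := by decide +kernel

theorem projInv_projInv (p : GolayPt) : projInv (projInv p) = p := by
  revert p
  decide +kernel

theorem nsMask_supp : suppM nsMask ∈ supports (golayCode : Set (GolayPt → ZMod 2)) :=
  (mem_supports_iff _).mpr ⟨nsMask, nsMask_mem, rfl⟩

theorem mem_ns_iff (p : GolayPt) : p ∈ suppM nsMask ↔ projInv p ∉ suppM nsMask := by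
  rw [mem_suppM, mem_suppM, nsMask_split p]
  cases nsMask.testBit (ptIdx (projInv p)) <;> simp

/-- the signed permutation of the vectors. -/
def nsFun (x : GolayPt → ℤ) : GolayPt → ℤ := signCh (suppM nsMask) (fun i => x (projInv i))

theorem nsFun_nsFun (x : GolayPt → ℤ) : nsFun (nsFun x) = -x := by
  funext i
  have h1 := mem_ns_iff i
  have h2 := projInv_projInv i
  simp only [nsFun, signCh, Pi.neg_apply, h2]
  by_cases hi : i ∈ suppM nsMask
  · have hj : projInv i ∉ suppM nsMask := h1.mp hi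
    rw [if_pos hi, if_neg hj]
  · have hj : projInv i ∈ suppM nsMask := by
      by_contra hj
      exact hi (h1.mpr hj)
    rw [if_neg hi, if_pos hj]

theorem nsFun_add (x y : GolayPt → ℤ) : nsFun (x + y) = nsFun x + nsFun y := by
  funext i
  simp only [nsFun, signCh, Pi.add_apply]
  split_ifs <;> ring

theorem nsFun_neg (x : GolayPt → ℤ) : nsFun (-x) = -nsFun x := by
  funext i
  simp only [nsFun, signCh, Pi.neg_apply]
  split_ifs <;> ring

theorem sqNorm_nsFun (x : GolayPt → ℤ) : sqNorm (nsFun x) = sqNorm x := by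
  unfold sqNorm
  have h1 : ∀ i, nsFun x i ^ 2 = (fun j => x j ^ 2) (projInv i) := by
    intro i
    simp only [nsFun, signCh]
    split_ifs <;> ring
  simp only [h1]
  exact Equiv.sum_comp projInv (fun j => x j ^ 2)

theorem nsFun_mem {x : GolayPt → ℤ} (hx : x ∈ leechLattice) : nsFun x ∈ leechLattice := by
  rw [mem_leechLattice_iff] at *
  exact signCh_mem_leechSet nsMask_supp (comp_mem_leechSet Cfsg.Agent.S0372.result hx)

/-- the automorphism whose square is the negation. -/
def nsPerm : Equiv.Perm ↥leechLattice where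
  toFun v := ⟨nsFun v, nsFun_mem v.2⟩
  invFun v := ⟨-nsFun v, neg_mem (nsFun_mem v.2)⟩
  left_inv v := by
    apply Subtype.ext
    change -nsFun (nsFun v) = v
    rw [nsFun_nsFun, neg_neg]
  right_inv v := by
    apply Subtype.ext
    change nsFun (-nsFun v) = v
    rw [nsFun_neg, nsFun_nsFun, neg_neg]

theorem nsPerm_mem : nsPerm ∈ Co0 := by
  refine ⟨fun v w => ?_, fun v => ?_⟩
  · apply Subtype.ext
    change nsFun ((v : GolayPt → ℤ) + w) = nsFun v + nsFun w
    exact nsFun_add _ _
  · exact sqNorm_nsFun _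

/-- the negation map. -/
def negPerm : Equiv.Perm ↥leechLattice := Equiv.neg _

theorem negPerm_mem : negPerm ∈ Co0 := by
  refine ⟨fun v w => ?_, fun v => ?_⟩
  · change -(v + w) = -v + -w
    rw [neg_add]
  · change sqNorm (-(v : GolayPt → ℤ)) = _
    unfold sqNorm
    simp

theorem nsPerm_sq : nsPerm * nsPerm = negPerm := by
  apply Equiv.ext
  intro v
  apply Subtype.ext
  change nsFun (nsFun v) = -(v : GolayPt → ℤ)
  exact nsFun_nsFun _

theorem map_neg_of_mem {f : Equiv.Perm ↥leechLattice} (hf : f ∈ Co0) (v : ↥leechLattice) :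
    f (-v) = -f v := by
  have h0 : f 0 = 0 := by
    have := hf.1 0 0
    rw [add_zero] at this
    exact left_eq_add.mp this
  have h1 := hf.1 v (-v)
  rw [add_neg_cancel, h0] at h1
  exact (neg_eq_of_add_eq_zero_right h1.symm).symm

theorem nonsplit : ∃ n : ↥Co0,
    (∀ v : ↥leechLattice, ((n • v : ↥leechLattice) : GolayPt → ℤ) = -(v : GolayPt → ℤ)) ∧
    ∀ K : Subgroup ↥Co0, ¬ (Subgroup.zpowers n).IsComplement' K := by
  refine ⟨⟨negPerm, negPerm_mem⟩, fun v => rfl, ?_⟩
  intro K hK
  have hg2 : (⟨nsPerm, nsPerm_mem⟩ : ↥Co0) * ⟨nsPerm, nsPerm_mem⟩ = ⟨negPerm, negPerm_mem⟩ :=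
    Subtype.ext nsPerm_sq
  have hn2 : (⟨negPerm, negPerm_mem⟩ : ↥Co0) ^ 2 = 1 := by
    rw [pow_two]
    apply Subtype.ext
    apply Equiv.ext
    intro v
    change - -v = v
    rw [neg_neg]
  have hcentral : ∀ f : ↥Co0, Commute (⟨negPerm, negPerm_mem⟩ : ↥Co0) f := by
    intro f
    apply Subtype.ext
    apply Equiv.ext
    intro v
    change -(f.1 v) = f.1 (-v)
    rw [map_neg_of_mem f.2]
  obtain ⟨⟨a, k⟩, hak, -⟩ := hK.existsUnique (⟨nsPerm, nsPerm_mem⟩ : ↥Co0)
  obtain ⟨j, hj⟩ := Subgroup.mem_zpowers_iff.mp a.2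
  have hac : Commute (a : ↥Co0) (k : ↥Co0) := by
    rw [← hj]
    exact (hcentral _).zpow_left j
  have ha2 : (a : ↥Co0) * a = 1 := by
    rw [← hj, ← zpow_add, ← two_mul, zpow_mul, zpow_two, ← pow_two, hn2, one_zpow]
  have hkk : (⟨negPerm, negPerm_mem⟩ : ↥Co0) = (k : ↥Co0) * k := by
    rw [← hg2]
    have hak' : (a : ↥Co0) * (k : ↥Co0) = ⟨nsPerm, nsPerm_mem⟩ := hak
    rw [← hak']
    calc (a : ↥Co0) * k * (a * k) = (a * a) * (k * k) := by
          rw [mul_assoc, ← mul_assoc (k : ↥Co0), ← hac.eq, mul_assoc, ← mul_assoc]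
      _ = k * k := by rw [ha2, one_mul]
  have hnK : (⟨negPerm, negPerm_mem⟩ : ↥Co0) ∈ K := by
    rw [hkk]
    exact K.mul_mem k.2 k.2
  have h1 : (⟨negPerm, negPerm_mem⟩ : ↥Co0) = 1 :=
    Subgroup.disjoint_def.mp hK.disjoint (Subgroup.mem_zpowers _) hnK
  have h2 := congrArg (fun f : ↥Co0 => ((f.1 Spor.leechU : ↥leechLattice) : GolayPt → ℤ) none) h1
  change -(Spor.vecU none) = Spor.vecU none at h2
  unfold Spor.vecU at h2
  simp at h2

end Cfsg.Agent.Helper9.Leech
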