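import Mathlib
import Cfsg.Prelude.Def_Sporadic_a
import Cfsg.Prelude.Def_Spor_Conway
import Cfsg.Prelude.Def_SporadicCombinatorics
import Cfsg.Agent.Helper9.Leech.Monomial
import Cfsg.Agent.Helper9.Leech.NonSplit
import Cfsg.Agent.Helper9.Golay.M24Trans

set_option autoImplicit false

/-!
The centre of the group of automorphisms of the lattice consists of the identity and the negation.
-/

namespace Cfsg.Agent.Helper9.Leech

open Cfsg
open Cfsg.Agent.Helper9.Golay
open scoped Pointwise

/-- two different points are separated by a code word. -/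
theorem exists_codeword_sep {i j : GolayPt} (hij : j ≠ i) :
    ∃ c ∈ supports (golayCode : Set (GolayPt → ZMod 2)), j ∈ c ∧ i ∉ c := by
  have h0 : (none : GolayPt) ∈ suppM nsMask ↔ projInv none ∉ suppM nsMask := mem_ns_iff none
  have hne : projInv (none : GolayPt) ≠ none := by decide
  by_cases hn : (none : GolayPt) ∈ suppM nsMask
  · obtain ⟨g, hg, hg1, hg2⟩ := m24_two_trans (a := none) (b := projInv none) (c := j) (d := i)
      (Ne.symm hne) hij
    refine ⟨g • suppM nsMask, smul_mem_supports hg nsMask_supp, ?_, ?_⟩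
    · rw [← hg1]
      exact Finset.smul_mem_smul_finset hn
    · rw [← hg2]
      intro h
      exact (h0.mp hn) ((Finset.smul_mem_smul_finset_iff g).mp h)
  · have hn' : projInv (none : GolayPt) ∈ suppM nsMask := by
      by_contra h
      exact hn (h0.mpr h)
    obtain ⟨g, hg, hg1, hg2⟩ := m24_two_trans (a := projInv none) (b := none) (c := j) (d := i)
      hne hij
    refine ⟨g • suppM nsMask, smul_mem_supports hg nsMask_supp, ?_, ?_⟩
    · rw [← hg1]
      exact Finset.smul_mem_smul_finset hn'
    · rw [← hg2]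
      intro h
      exact hn ((Finset.smul_mem_smul_finset_iff g).mp h)

theorem sqNorm_e8 (i : GolayPt) : sqNorm ((e8 i : ↥leechLattice) : GolayPt → ℤ) = 64 := by
  unfold sqNorm
  simp only [e8_apply]
  rw [Finset.sum_eq_single i]
  · simp
  · intro j _ hj
    simp [hj]
  · intro h
    exact absurd (Finset.mem_univ i) h

/-- a central automorphism maps each `e8 i` to itself or to its opposite. -/
theorem central_e8 {z : Equiv.Perm ↥leechLattice} (hz : z ∈ Co0)
    (hcomm : ∀ f ∈ Co0, z * f = f * z) (i : GolayPt) :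
    z (e8 i) = e8 i ∨ z (e8 i) = -e8 i := by
  have hzero : ∀ j, j ≠ i → ((z (e8 i) : ↥leechLattice) : GolayPt → ℤ) j = 0 := by
    intro j hj
    obtain ⟨c, hc, hjc, hic⟩ := exists_codeword_sep hj
    have h1 := hcomm _ (monoPerm_mem 1 M24.one_mem c hc)
    have h2 := congrArg (fun f : Equiv.Perm ↥leechLattice =>
      ((f (e8 i) : ↥leechLattice) : GolayPt → ℤ) j) h1
    simp only [Equiv.Perm.mul_apply] at h2
    have h3 : monoPerm 1 M24.one_mem c hc (e8 i) = e8 i := by
      apply Subtype.ext
      funext k
      rw [monoPerm_apply]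
      simp only [signedPerm, Equiv.Perm.one_symm, Equiv.Perm.one_apply, e8_apply]
      by_cases hk : k = i
      · rw [hk, if_neg hic]
      · rw [if_neg hk]
        simp
    rw [h3, monoPerm_apply] at h2
    simp only [signedPerm, Equiv.Perm.one_symm, Equiv.Perm.one_apply, if_pos hjc] at h2
    omega
  have hnorm := hz.2 (e8 i)
  rw [sqNorm_e8] at hnorm
  unfold sqNorm at hnorm
  rw [Finset.sum_eq_single i (fun j _ hj => by rw [hzero j hj]; ring)
    (fun h => absurd (Finset.mem_univ i) h)] at hnorm
  have hsq : ((z (e8 i) : ↥leechLattice) : GolayPt → ℤ) i = 8 ∨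
      ((z (e8 i) : ↥leechLattice) : GolayPt → ℤ) i = -8 := by
    have : (((z (e8 i) : ↥leechLattice) : GolayPt → ℤ) i - 8) *
        (((z (e8 i) : ↥leechLattice) : GolayPt → ℤ) i + 8) = 0 := by
      ring_nf
      ring_nf at hnorm
      omega
    rcases mul_eq_zero.mp this with h | h
    · left; omega
    · right; omega
  rcases hsq with h | h
  · left
    apply Subtype.ext
    funext j
    by_cases hj : j = i
    · rw [hj, h, e8_apply, if_pos rfl]
    · rw [hzero j hj, e8_apply, if_neg hj]
  · right
    apply Subtype.ext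
    funext j
    change _ = -(((e8 i : ↥leechLattice) : GolayPt → ℤ) j)
    by_cases hj : j = i
    · rw [hj, h, e8_apply, if_pos rfl]
    · rw [hzero j hj, e8_apply, if_neg hj]
      simp

theorem e8_ne_neg (i : GolayPt) : e8 i ≠ -e8 i := by
  intro h
  have := congrArg (fun v : ↥leechLattice => (v : GolayPt → ℤ) i) h
  change ((e8 i : ↥leechLattice) : GolayPt → ℤ) i = -(((e8 i : ↥leechLattice) : GolayPt → ℤ) i)
    at this
  rw [e8_apply, if_pos rfl] at this
  omega

/-- the coordinate permutations move the vectors `e8 i`. -/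
theorem monoPerm_e8 (σ : Equiv.Perm GolayPt) (hσ : σ ∈ M24) (i : GolayPt) :
    monoPerm σ hσ ∅ Spor.empty_mem_supports_golayCode (e8 i) = e8 (σ i) := by
  apply Subtype.ext
  funext k
  rw [monoPerm_apply]
  simp only [signedPerm, Finset.notMem_empty, if_false, e8_apply]
  by_cases hk : k = σ i
  · rw [hk, Equiv.symm_apply_apply, if_pos rfl, if_pos rfl]
  · rw [if_neg hk, if_neg]
    intro h
    apply hk
    rw [← h, Equiv.apply_symm_apply]

/-- a central automorphism is the identity or the negation. -/
theorem central_eq {z : Equiv.Perm ↥leechLattice} (hz : z ∈ Co0)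
    (hcomm : ∀ f ∈ Co0, z * f = f * z) : z = 1 ∨ z = negPerm := by
  have hmove : ∀ i j : GolayPt, z (e8 i) = e8 i → z (e8 j) = e8 j := by
    intro i j hi
    obtain ⟨σ, hσ, hσij⟩ := m24_trans i j
    have h1 := hcomm _ (monoPerm_mem σ hσ ∅ Spor.empty_mem_supports_golayCode)
    have h2 := congrArg (fun f : Equiv.Perm ↥leechLattice => f (e8 i)) h1
    simp only [Equiv.Perm.mul_apply] at h2
    rw [monoPerm_e8, hi, monoPerm_e8, hσij] at h2
    exact h2
  have hlin : ∀ (s : ℤ), (∀ i, z (e8 i) = s • e8 i) → ∀ v : ↥leechLattice, z v = s • v := by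
    intro s hs v
    have h8 : (8 : ℤ) • z v = (8 : ℤ) • (s • v) := by
      have h1 : (8 : ℤ) • z v = toAddHom hz ((8 : ℤ) • v) := by
        rw [map_zsmul]
        rfl
      rw [h1, eight_smul_eq, map_sum]
      have h2 : ∀ i, toAddHom hz (((v : GolayPt → ℤ) i) • e8 i) =
          ((v : GolayPt → ℤ) i) • (s • e8 i) := by
        intro i
        rw [map_zsmul, toAddHom_apply, hs i]
      simp only [h2]
      rw [smul_comm (8 : ℤ) s v, eight_smul_eq, Finset.smul_sum]
      apply Finset.sum_congr rfl
      intro i _
      rw [smul_comm]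
    apply Subtype.ext
    funext j
    have := congrArg (fun w : ↥leechLattice => (w : GolayPt → ℤ) j) h8
    simp only [AddSubgroup.coe_zsmul, Pi.smul_apply, smul_eq_mul] at this
    simp only [AddSubgroup.coe_zsmul, Pi.smul_apply, smul_eq_mul]
    omega
  rcases central_e8 hz hcomm none with h | h
  · left
    apply Equiv.ext
    intro v
    rw [hlin 1 (fun i => by rw [one_smul]; exact hmove none i h) v, one_smul]
    rfl
  · right
    have hall : ∀ i, z (e8 i) = -e8 i := by
      intro i
      rcases central_e8 hz hcomm i with hi | hi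
      · exfalso
        have := hmove i none hi
        rw [h] at this
        exact e8_ne_neg none this.symm
      · exact hi
    apply Equiv.ext
    intro v
    rw [hlin (-1) (fun i => by rw [neg_one_smul]; exact hall i) v, neg_one_smul]
    rfl

theorem negPerm_central (f : ↥Co0) :
    (⟨negPerm, negPerm_mem⟩ : ↥Co0) * f = f * ⟨negPerm, negPerm_mem⟩ := by
  apply Subtype.ext
  apply Equiv.ext
  intro v
  change -(f.1 v) = f.1 (-v)
  rw [map_neg_of_mem f.2]

theorem negPerm_ne_one : negPerm ≠ 1 := by
  intro h
  have h2 := congrArg (fun f : Equiv.Perm ↥leechLattice => f (e8 none)) h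
  exact e8_ne_neg none h2.symm

theorem card_center : Nat.card (Subgroup.center Co0) = 2 := by
  rw [Nat.card_eq_two_iff]
  have hn : (⟨negPerm, negPerm_mem⟩ : ↥Co0) ∈ Subgroup.center ↥Co0 := by
    rw [Subgroup.mem_center_iff]
    intro f
    exact (negPerm_central f).symm
  refine ⟨1, ⟨⟨negPerm, negPerm_mem⟩, hn⟩, ?_, ?_⟩
  · intro h
    have := congrArg (fun z : ↥(Subgroup.center ↥Co0) => ((z : ↥Co0) : Equiv.Perm ↥leechLattice)) h
    exact negPerm_ne_one this.symm
  · apply Set.eq_univ_of_forall
    intro z
    have hz := Subgroup.mem_center_iff.mp z.2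
    have := central_eq (z := ((z : ↥Co0) : Equiv.Perm ↥leechLattice)) z.1.2 (by
      intro f hf
      have := hz ⟨f, hf⟩
      exact (congrArg (fun w : ↥Co0 => (w : Equiv.Perm ↥leechLattice)) this).symm)
    rcases this with h | h
    · left
      apply Subtype.ext
      apply Subtype.ext
      exact h
    · right
      rw [Set.mem_singleton_iff]
      apply Subtype.ext
      apply Subtype.ext
      exact h

end Cfsg.Agent.Helper9.Leech
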