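import Mathlib
import Cfsg.Prelude.Def_Sporadic_a
import Cfsg.Prelude.Def_Spor_Conway
import Cfsg.Agent.Helper9.Leech.MinVec

/-!
The lattice vectors of sum of squares 48.
-/

set_option autoImplicit false

namespace Cfsg.Agent.Helper9.Leech

open Cfsg
open Cfsg.Agent.Helper9.Golay

/-! ### vectors with odd entries -/

theorem signCh_signCh (c : Finset GolayPt) (x : GolayPt → ℤ) : signCh c (signCh c x) = x := by
  funext i
  unfold signCh
  split_ifs <;> ring

theorem sqNorm_signCh (c : Finset GolayPt) (x : GolayPt → ℤ) : sqNorm (signCh c x) = sqNorm x := by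
  unfold sqNorm signCh
  apply Finset.sum_congr rfl
  intro i _
  split_ifs <;> ring

theorem abs_signCh (c : Finset GolayPt) (x : GolayPt → ℤ) (i : GolayPt) :
    |signCh c x i| = |x i| := by
  unfold signCh
  split_ifs
  · exact abs_neg _
  · rfl

/-- the positions of the entries congruent to 3 modulo 4. -/
def threeSet (x : GolayPt → ℤ) : Finset GolayPt := Finset.univ.filter (fun i => x i ≡ 3 [ZMOD 4])

theorem mem_threeSet (x : GolayPt → ℤ) (i : GolayPt) : i ∈ threeSet x ↔ x i % 4 = 3 := by
  unfold threeSet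
  rw [Finset.mem_filter]
  simp only [Finset.mem_univ, true_and]
  rfl

theorem threeSet_mem {x : GolayPt → ℤ} (hx : x ∈ leechLattice) :
    threeSet x ∈ supports (golayCode : Set (GolayPt → ZMod 2)) :=
  filter_mem_of_mem_leechSet ((mem_leechLattice_iff _).mp hx) 3

theorem signCh_mem {c : Finset GolayPt}
    (hc : c ∈ supports (golayCode : Set (GolayPt → ZMod 2))) {x : GolayPt → ℤ}
    (hx : x ∈ leechLattice) : signCh c x ∈ leechLattice :=
  (mem_leechLattice_iff _).mpr (signCh_mem_leechSet hc ((mem_leechLattice_iff _).mp hx))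

/-- the normalised form of a vector with odd entries. -/
theorem signCh_threeSet_mod {x : GolayPt → ℤ} (hodd : ∀ i, x i % 2 = 1) (i : GolayPt) :
    signCh (threeSet x) x i % 4 = 1 := by
  unfold signCh
  have := hodd i
  by_cases h : i ∈ threeSet x
  · rw [if_pos h]
    rw [mem_threeSet] at h
    omega
  · rw [if_neg h]
    rw [mem_threeSet] at h
    omega

theorem threeSet_signCh {c : Finset GolayPt} {b : GolayPt → ℤ} (hb : ∀ i, b i % 4 = 1) :
    threeSet (signCh c b) = c := by
  ext i
  rw [mem_threeSet]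
  unfold signCh
  have := hb i
  by_cases h : i ∈ c
  · rw [if_pos h]
    simp only [h, iff_true]
    omega
  · rw [if_neg h]
    simp only [h, iff_false]
    omega

theorem signCh_inj {c c' : Finset GolayPt} {b b' : GolayPt → ℤ} (hb : ∀ i, b i % 4 = 1)
    (hb' : ∀ i, b' i % 4 = 1) (h : signCh c b = signCh c' b') : c = c' ∧ b = b' := by
  have hc : c = c' := by
    rw [← threeSet_signCh (c := c) hb, ← threeSet_signCh (c := c') hb', h]
  refine ⟨hc, ?_⟩
  rw [← signCh_signCh c b, h, hc, signCh_signCh]

/-- the vector with entries `v` on `T` and `1` elsewhere. -/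
def baseP (T : Finset GolayPt) (v : ℤ) : GolayPt → ℤ := fun i => if i ∈ T then v else 1

theorem baseP_mod {T : Finset GolayPt} {v : ℤ} (hv : v % 4 = 1) (i : GolayPt) :
    baseP T v i % 4 = 1 := by
  unfold baseP
  split_ifs
  · exact hv
  · rfl

theorem sum_baseP (T : Finset GolayPt) (v : ℤ) : ∑ i, baseP T v i = 24 + T.card * (v - 1) := by
  have h1 : ∀ i, baseP T v i = 1 + (if i ∈ T then v - 1 else 0) := by
    intro i
    unfold baseP
    split_ifs <;> ring
  simp only [h1, Finset.sum_add_distrib]
  rw [Finset.sum_ite_mem, Finset.univ_inter, Finset.sum_const, nsmul_eq_mul]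
  simp only [Finset.sum_const, Finset.card_univ, card_golayPt]
  norm_num

theorem sqNorm_baseP (T : Finset GolayPt) (v : ℤ) :
    sqNorm (baseP T v) = 24 + T.card * (v ^ 2 - 1) := by
  unfold sqNorm
  have h1 : ∀ i, baseP T v i ^ 2 = 1 + (if i ∈ T then v ^ 2 - 1 else 0) := by
    intro i
    unfold baseP
    split_ifs <;> ring
  simp only [h1, Finset.sum_add_distrib]
  rw [Finset.sum_ite_mem, Finset.univ_inter, Finset.sum_const, nsmul_eq_mul]
  simp only [Finset.sum_const, Finset.card_univ, card_golayPt]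
  norm_num

theorem baseP_mem {T : Finset GolayPt} {v : ℤ} (hv : v % 4 = 1)
    (hsum : (24 + (T.card : ℤ) * (v - 1)) % 8 = 4) : baseP T v ∈ leechLattice := by
  rw [mem_leechLattice_iff]
  apply Spor.mem_leechSet_of_const_mod_four (baseP T v) 1 1 (by decide)
  · intro i
    exact baseP_mod hv i
  · rw [sum_baseP]
    exact hsum

theorem baseP_inj {T T' : Finset GolayPt} {v : ℤ} (hv : v ≠ 1) (h : baseP T v = baseP T' v) :
    T = T' := by
  ext i
  have h1 := congrFun h i
  unfold baseP at h1
  by_cases hi : i ∈ T <;> by_cases hi' : i ∈ T'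
  · simp [hi, hi']
  · rw [if_pos hi, if_neg hi'] at h1
    exact absurd h1 hv
  · rw [if_neg hi, if_pos hi'] at h1
    exact absurd h1.symm hv
  · simp [hi, hi']

/-- the normalised vectors of sum of squares 48. -/
theorem base48_classify {b : GolayPt → ℤ} (hb : ∀ i, b i % 4 = 1) (hn : sqNorm b = 48) :
    (∃ T : Finset GolayPt, T.card = 3 ∧ b = baseP T (-3)) ∨ (∃ j : GolayPt, b = baseP {j} 5) := by
  classical
  have hsum : ∑ i, (b i ^ 2 - 1) = 24 := by
    rw [Finset.sum_sub_distrib]
    have : ∑ i, b i ^ 2 = 48 := hn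
    rw [this]
    simp only [Finset.sum_const, Finset.card_univ, card_golayPt]
    norm_num
  have hnn : ∀ i, 0 ≤ b i ^ 2 - 1 := by
    intro i
    have h1 := hb i
    have h2 : b i ≠ 0 := by
      intro h
      rw [h] at h1
      norm_num at h1
    have h3 : b i ^ 2 ≠ 0 := pow_ne_zero 2 h2
    have h4 := sq_nonneg (b i)
    omega
  have hvals : ∀ i, b i = -3 ∨ b i = 1 ∨ b i = 5 := by
    intro i
    have hle : b i ^ 2 - 1 ≤ 24 := by
      have := Finset.single_le_sum (f := fun i => b i ^ 2 - 1) (fun i _ => hnn i)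
        (Finset.mem_univ i)
      rw [hsum] at this
      exact this
    have h1 := hb i
    have h2 : -5 ≤ b i ∧ b i ≤ 5 := by
      constructor <;> nlinarith
    omega
  have hterm : ∀ i, b i ^ 2 - 1 = (if b i = -3 then 8 else 0) + (if b i = 5 then 24 else 0) := by
    intro i
    rcases hvals i with h | h | h <;> rw [h] <;> norm_num
  have hcount' : ∑ i, (b i ^ 2 - 1) = (8 : ℤ) * (Finset.univ.filter fun i => b i = -3).card +
      24 * (Finset.univ.filter fun i => b i = 5).card := by
    simp only [hterm, Finset.sum_add_distrib]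
    rw [← Finset.sum_filter, ← Finset.sum_filter, Finset.sum_const, Finset.sum_const,
      nsmul_eq_mul, nsmul_eq_mul]
    ring
  have hcount : (8 : ℤ) * (Finset.univ.filter fun i => b i = -3).card +
      24 * (Finset.univ.filter fun i => b i = 5).card = 24 := by
    rw [← hcount', hsum]
  have hcases : ((Finset.univ.filter fun i => b i = -3).card = 3 ∧
      (Finset.univ.filter fun i => b i = 5).card = 0) ∨
      ((Finset.univ.filter fun i => b i = -3).card = 0 ∧
      (Finset.univ.filter fun i => b i = 5).card = 1) := by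
    omega
  rcases hcases with ⟨h3, h5⟩ | ⟨h3, h5⟩
  · left
    refine ⟨_, h3, ?_⟩
    funext i
    unfold baseP
    rcases hvals i with h | h | h
    · rw [if_pos (by rw [Finset.mem_filter]; exact ⟨Finset.mem_univ i, h⟩), h]
    · rw [if_neg (by rw [Finset.mem_filter, h]; norm_num), h]
    · exfalso
      have : i ∈ Finset.univ.filter fun i => b i = 5 := by
        rw [Finset.mem_filter]
        exact ⟨Finset.mem_univ i, h⟩
      rw [Finset.card_eq_zero.mp h5] at this
      exact Finset.notMem_empty i this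
  · right
    obtain ⟨j, hj⟩ := Finset.card_eq_one.mp h5
    refine ⟨j, ?_⟩
    funext i
    unfold baseP
    have hmem : ∀ k, k ∈ ({j} : Finset GolayPt) ↔ b k = 5 := by
      intro k
      rw [← hj, Finset.mem_filter]
      simp
    rcases hvals i with h | h | h
    · exfalso
      have : i ∈ Finset.univ.filter fun i => b i = -3 := by
        rw [Finset.mem_filter]
        exact ⟨Finset.mem_univ i, h⟩
      rw [Finset.card_eq_zero.mp h3] at this
      exact Finset.notMem_empty i this
    · rw [if_neg (by rw [hmem, h]; norm_num), h]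
    · rw [if_pos ((hmem i).mpr h), h]

/-- the vectors of sum of squares 48 with odd entries. -/
theorem odd48_classify {x : GolayPt → ℤ} (hx : x ∈ leechLattice) (hn : sqNorm x = 48)
    (h1 : x none % 2 = 1) :
    ∃ c ∈ supports (golayCode : Set (GolayPt → ZMod 2)),
      (∃ T : Finset GolayPt, T.card = 3 ∧ x = signCh c (baseP T (-3))) ∨
        (∃ j : GolayPt, x = signCh c (baseP {j} 5)) := by
  have hodd : ∀ i, x i % 2 = 1 := fun i => by rw [parity_eq hx i none]; exact h1
  refine ⟨threeSet x, threeSet_mem hx, ?_⟩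
  have hb := signCh_threeSet_mod hodd
  have hnb : sqNorm (signCh (threeSet x) x) = 48 := by rw [sqNorm_signCh, hn]
  rcases base48_classify hb hnb with ⟨T, hT, h⟩ | ⟨j, h⟩
  · left
    refine ⟨T, hT, ?_⟩
    rw [← h, signCh_signCh]
  · right
    refine ⟨j, ?_⟩
    rw [← h, signCh_signCh]

/-! ### vectors with even entries -/

theorem even_decomp {x : GolayPt → ℤ} (hx : x ∈ leechLattice) (h0 : x none % 2 = 0) :
    ∃ y : GolayPt → ℤ, redHom y ∈ golayCode ∧ (∑ i, y i) % 4 = 0 ∧ dblHom y = x := by
  have hker : (⟨x, hx⟩ : ↥leechLattice) ∈ parHom.ker := by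
    rw [AddMonoidHom.mem_ker, parHom_apply]
    exact cast_of_even h0
  rw [← evenSub_of, AddSubgroup.mem_addSubgroupOf] at hker
  obtain ⟨y, hy, hyx⟩ := hker
  rw [SetLike.mem_coe, mem_subB0] at hy
  exact ⟨y, hy.1, hy.2, hyx⟩

theorem mem_supp_red (y : GolayPt → ℤ) (i : GolayPt) :
    i ∈ support₂ (redHom y) ↔ y i % 2 = 1 := by
  unfold support₂
  rw [Finset.mem_filter, redHom_apply]
  simp only [Finset.mem_univ, true_and]
  rcases Int.emod_two_eq_zero_or_one (y i) with h | h
  · rw [cast_of_even h]
    simp [h]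
  · rw [cast_of_odd h]
    simp [h]

theorem card_supp_le (y : GolayPt → ℤ) :
    ((support₂ (redHom y)).card : ℤ) ≤ ∑ i, y i ^ 2 := by
  rw [Finset.card_eq_sum_ones, Nat.cast_sum]
  refine le_trans (Finset.sum_le_sum (fun i hi => ?_))
    (Finset.sum_le_univ_sum_of_nonneg (fun i => sq_nonneg (y i)))
  have h1 : y i ≠ 0 := by
    intro h
    rw [mem_supp_red, h] at hi
    norm_num at hi
  have h2 : y i ^ 2 ≠ 0 := pow_ne_zero 2 h1
  have h3 := sq_nonneg (y i)
  push_cast
  omega

/-- the case where the sum of squares of the half vector equals the number of odd entries. -/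
theorem even_full {y : GolayPt → ℤ} (hsq : ∑ i, y i ^ 2 = (support₂ (redHom y)).card) :
    ∃ s : Finset GolayPt, s ⊆ support₂ (redHom y) ∧ dblHom y = pat 2 (support₂ (redHom y)) s := by
  classical
  have hne : ∀ i ∈ support₂ (redHom y), y i ≠ 0 := by
    intro i hi h
    rw [mem_supp_red, h] at hi
    norm_num at hi
  obtain ⟨h1, h2⟩ := entries_of_sum_sq hne hsq
  have hent : ∀ i, dblHom y i = 0 ∨ dblHom y i = 2 ∨ dblHom y i = -2 := by
    intro i
    rw [dblHom_apply]
    by_cases hi : i ∈ support₂ (redHom y)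
    · have h3 := h1 i hi
      have h4 : y i = 1 ∨ y i = -1 := by
        have : (y i - 1) * (y i + 1) = 0 := by ring_nf; omega
        rcases mul_eq_zero.mp this with h | h
        · left; omega
        · right; omega
      omega
    · have h3 := h2 i hi
      omega
  have hP : (Finset.univ.filter fun i => dblHom y i ≠ 0) = support₂ (redHom y) := by
    ext i
    rw [Finset.mem_filter, dblHom_apply]
    simp only [Finset.mem_univ, true_and]
    constructor
    · intro hx0
      by_contra hi
      have h3 := h2 i hi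
      omega
    · intro hi
      have h3 := hne i hi
      omega
  refine ⟨Finset.univ.filter fun i => dblHom y i < 0, ?_, ?_⟩
  · rw [← hP]
    exact neg_subset_support _
  · have := eq_pat_of_entries (by norm_num) (dblHom y) hent
    rw [hP] at this
    exact this

/-- the vector `pat 2 o s` with the entry at `p` replaced by `±4`. -/
def mix (o s : Finset GolayPt) (p : GolayPt) (ε : Bool) : GolayPt → ℤ :=
  fun i => if i = p then (if ε then -4 else 4) else pat 2 o s i

theorem mix_self (o s : Finset GolayPt) (p : GolayPt) (ε : Bool) :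
    mix o s p ε p = if ε then -4 else 4 := by
  unfold mix
  rw [if_pos rfl]

theorem mix_ne (o s : Finset GolayPt) {p i : GolayPt} (ε : Bool) (h : i ≠ p) :
    mix o s p ε i = pat 2 o s i := by
  unfold mix
  rw [if_neg h]

theorem mix_eq_add {o s : Finset GolayPt} {p : GolayPt} (ε : Bool) (hs : s ⊆ o) (hp : p ∉ o) :
    mix o s p ε = pat 2 o s + pat 4 {p} (if ε then {p} else ∅) := by
  funext i
  rw [Pi.add_apply]
  by_cases h : i = p
  · rw [h, mix_self, pat_of_notMem (fun h' => hp (hs h')) hp]
    cases ε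
    · rw [pat_of_mem_P (by simp) (by simp)]
      simp
    · rw [pat_of_mem_s (by simp)]
      simp
  · rw [mix_ne o s ε h, pat_of_notMem (s := if ε = true then {p} else ∅) (P := {p})]
    · ring
    · cases ε <;> simp [h]
    · simp [h]

theorem card_bool_set (p : GolayPt) (ε : Bool) :
    ((if ε = true then ({p} : Finset GolayPt) else ∅).card : ℤ) = if ε then 1 else 0 := by
  cases ε <;> simp

theorem bool_set_subset (p : GolayPt) (ε : Bool) :
    (if ε = true then ({p} : Finset GolayPt) else ∅) ⊆ {p} := by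
  cases ε <;> simp

theorem sqNorm_mix {o s : Finset GolayPt} {p : GolayPt} (ε : Bool) (hs : s ⊆ o) (hp : p ∉ o) :
    sqNorm (mix o s p ε) = o.card * 4 + 16 := by
  classical
  unfold sqNorm
  have h1 : ∀ i, mix o s p ε i ^ 2 = pat 2 o s i ^ 2 + (if i = p then 16 else 0) := by
    intro i
    by_cases h : i = p
    · rw [h, mix_self, pat_of_notMem (fun h' => hp (hs h')) hp, if_pos rfl]
      cases ε <;> norm_num
    · rw [mix_ne o s ε h, if_neg h, add_zero]
  simp only [h1, Finset.sum_add_distrib]
  have h2 := sqNorm_pat (k := 2) hs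
  unfold sqNorm at h2
  rw [h2, Finset.sum_ite_eq' Finset.univ p (fun _ => (16 : ℤ))]
  simp

theorem sum_mix {o s : Finset GolayPt} {p : GolayPt} (ε : Bool) (hs : s ⊆ o) (hp : p ∉ o) :
    ∑ i, mix o s p ε i = o.card * 2 - s.card * 4 + (if ε then -4 else 4) := by
  rw [mix_eq_add ε hs hp]
  simp only [Pi.add_apply, Finset.sum_add_distrib]
  rw [sum_pat hs, sum_pat (bool_set_subset p ε), card_bool_set]
  cases ε <;> simp

theorem mix_mem {o s : Finset GolayPt} {p : GolayPt} (ε : Bool) (ho : o ∈ octads) (hs : s ⊆ o)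
    (hodd : Odd s.card) (hp : p ∉ o) : mix o s p ε ∈ leechLattice := by
  apply evenSub_le
  have h2 : mix o s p ε = dblHom (pat 1 o s + pat 2 {p} (if ε then {p} else ∅)) := by
    rw [map_add, dblHom_pat, dblHom_pat, mix_eq_add ε hs hp]
    norm_num
  rw [h2]
  refine ⟨_, ?_, rfl⟩
  rw [SetLike.mem_coe, mem_subB0, map_add, redHom_pat_one hs, redHom_pat_two, add_zero]
  refine ⟨indW_mem ho.1, ?_⟩
  simp only [Pi.add_apply, Finset.sum_add_distrib]
  rw [sum_pat hs, sum_pat (bool_set_subset p ε), card_bool_set]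
  have h8 : o.card = 8 := ho.2
  obtain ⟨r, hr⟩ := hodd
  rw [h8, hr]
  cases ε <;> simp <;> omega

/-- the vectors of sum of squares 48 with even entries. -/
theorem even48_classify {x : GolayPt → ℤ} (hx : x ∈ leechLattice) (hn : sqNorm x = 48)
    (h0 : x none % 2 = 0) :
    (∃ d s : Finset GolayPt, d ∈ dodecads ∧ s ⊆ d ∧ Even s.card ∧ x = pat 2 d s) ∨
      (∃ (o s : Finset GolayPt) (p : GolayPt) (ε : Bool), o ∈ octads ∧ s ⊆ o ∧ Odd s.card ∧
        p ∉ o ∧ x = mix o s p ε) := by
  classical
  obtain ⟨y, hyC, hy4, hyx⟩ := even_decomp hx h0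
  have hsq : ∑ i, y i ^ 2 = 12 := by
    have := sqNorm_dblHom y
    rw [hyx, hn] at this
    omega
  have hxi : ∀ i, x i = 2 * y i := fun i => by rw [← hyx, dblHom_apply]
  have hsumx : ∑ i, x i = 2 * ∑ i, y i := by
    rw [← hyx]
    exact sum_dblHom y
  have hoS : support₂ (redHom y) ∈ supports (golayCode : Set (GolayPt → ZMod 2)) :=
    ⟨redHom y, hyC, rfl⟩
  have hle := card_supp_le y
  rw [hsq] at hle
  rcases card_of_mem_supports hoS with h | h | h | h | h
  · -- all entries of `y` even: impossible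
    exfalso
    have hev : ∀ i, y i % 2 = 0 := by
      intro i
      have : i ∉ support₂ (redHom y) := by
        rw [Finset.card_eq_zero.mp h]
        exact Finset.notMem_empty i
      rw [mem_supp_red] at this
      omega
    have hz2 : ∑ i, (y i / 2) ^ 2 = 3 := by
      have : ∑ i, y i ^ 2 = 4 * ∑ i, (y i / 2) ^ 2 := by
        rw [Finset.mul_sum]
        apply Finset.sum_congr rfl
        intro i _
        have h1 : y i = 2 * (y i / 2) := by
          have := hev i
          omega
        rw [h1]
        have : 2 * (y i / 2) / 2 = y i / 2 := by omega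
        rw [this]
        ring
      omega
    have hz1 : ∑ i, y i = 2 * ∑ i, (y i / 2) := by
      rw [Finset.mul_sum]
      apply Finset.sum_congr rfl
      intro i _
      have := hev i
      omega
    have hpar : (∑ i, (y i / 2) ^ 2 - ∑ i, (y i / 2)) % 2 = 0 := by
      rw [← Finset.sum_sub_distrib]
      apply Int.emod_eq_zero_of_dvd
      apply Finset.dvd_sum
      intro i _
      have : (y i / 2) ^ 2 - y i / 2 = (y i / 2 - 1) * (y i / 2) := by ring
      rw [this]
      have h2 := Int.even_mul_succ_self (y i / 2 - 1)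
      rw [sub_add_cancel] at h2
      exact even_iff_two_dvd.mp h2
    omega
  · -- an octad
    right
    have hnn : ∀ i, 0 ≤ y i ^ 2 - (if i ∈ support₂ (redHom y) then (1 : ℤ) else 0) := by
      intro i
      by_cases hi : i ∈ support₂ (redHom y)
      · rw [if_pos hi]
        have h1 : y i ≠ 0 := by
          intro h'
          rw [mem_supp_red, h'] at hi
          norm_num at hi
        have h2 : y i ^ 2 ≠ 0 := pow_ne_zero 2 h1
        have h3 := sq_nonneg (y i)
        omega
      · rw [if_neg hi]
        have h3 := sq_nonneg (y i)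
        omega
    have hu : ∑ i, (y i ^ 2 - (if i ∈ support₂ (redHom y) then (1 : ℤ) else 0)) = 4 := by
      rw [Finset.sum_sub_distrib, hsq, Finset.sum_ite_mem, Finset.univ_inter, Finset.sum_const,
        nsmul_eq_mul, mul_one, h]
      norm_num
    have hule : ∀ i, y i ^ 2 - (if i ∈ support₂ (redHom y) then (1 : ℤ) else 0) ≤ 4 := by
      intro i
      have := Finset.single_le_sum
        (f := fun i => y i ^ 2 - (if i ∈ support₂ (redHom y) then (1 : ℤ) else 0))
        (fun i _ => hnn i) (Finset.mem_univ i)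
      rw [hu] at this
      exact this
    have hin : ∀ i ∈ support₂ (redHom y), y i = 1 ∨ y i = -1 := by
      intro i hi
      have h1 := hule i
      rw [if_pos hi] at h1
      have h2 := (mem_supp_red y i).mp hi
      have h3 : -2 ≤ y i ∧ y i ≤ 2 := by
        constructor <;> nlinarith
      omega
    have hout : ∀ i, i ∉ support₂ (redHom y) → y i = 0 ∨ y i = 2 ∨ y i = -2 := by
      intro i hi
      have h1 := hule i
      rw [if_neg hi, sub_zero] at h1
      have h2 : y i % 2 = 0 := by
        rw [mem_supp_red] at hi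
        omega
      have h3 : -2 ≤ y i ∧ y i ≤ 2 := by
        constructor <;> nlinarith
      omega
    have hterm : ∀ i, y i ^ 2 - (if i ∈ support₂ (redHom y) then (1 : ℤ) else 0) =
        if (i ∉ support₂ (redHom y) ∧ y i ≠ 0) then 4 else 0 := by
      intro i
      by_cases hi : i ∈ support₂ (redHom y)
      · rw [if_pos hi, if_neg (by tauto)]
        rcases hin i hi with h' | h' <;> rw [h'] <;> norm_num
      · rw [if_neg hi, sub_zero]
        rcases hout i hi with h' | h' | h'
        · rw [if_neg (by tauto), h']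
          norm_num
        · rw [if_pos ⟨hi, by omega⟩, h']
          norm_num
        · rw [if_pos ⟨hi, by omega⟩, h']
          norm_num
    have hQ : (Finset.univ.filter fun i => i ∉ support₂ (redHom y) ∧ y i ≠ 0).card = 1 := by
      have h1 : ∑ i, (y i ^ 2 - (if i ∈ support₂ (redHom y) then (1 : ℤ) else 0)) =
          4 * (Finset.univ.filter fun i => i ∉ support₂ (redHom y) ∧ y i ≠ 0).card := by
        simp only [hterm]
        rw [← Finset.sum_filter, Finset.sum_const, nsmul_eq_mul]
        ring
      rw [hu] at h1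
      have : ((Finset.univ.filter fun i => i ∉ support₂ (redHom y) ∧ y i ≠ 0).card : ℤ) = 1 := by
        omega
      exact_mod_cast this
    obtain ⟨p, hp⟩ := Finset.card_eq_one.mp hQ
    have hmemQ : ∀ i, (i ∉ support₂ (redHom y) ∧ y i ≠ 0) ↔ i = p := by
      intro i
      have : i ∈ (Finset.univ.filter fun i => i ∉ support₂ (redHom y) ∧ y i ≠ 0) ↔
          i ∈ ({p} : Finset GolayPt) := by rw [hp]
      rw [Finset.mem_filter, Finset.mem_singleton] at this
      simp only [Finset.mem_univ, true_and] at this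
      exact this
    have hpo : p ∉ support₂ (redHom y) := ((hmemQ p).mpr rfl).1
    have hyp : y p = 2 ∨ y p = -2 := by
      have h1 := ((hmemQ p).mpr rfl).2
      rcases hout p hpo with h' | h' | h'
      · exact absurd h' h1
      · left; exact h'
      · right; exact h'
    have hss : (Finset.univ.filter fun i => i ∈ support₂ (redHom y) ∧ y i < 0) ⊆
        support₂ (redHom y) := by
      intro i hi
      exact (Finset.mem_filter.mp hi).2.1
    have hxmix : x = mix (support₂ (redHom y))
        (Finset.univ.filter fun i => i ∈ support₂ (redHom y) ∧ y i < 0) p (decide (y p < 0)) := by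
      funext i
      rw [hxi]
      by_cases hip : i = p
      · rw [hip, mix_self]
        rcases hyp with h' | h'
        · rw [h']
          norm_num
        · rw [h']
          norm_num
      · rw [mix_ne _ _ _ hip]
        by_cases hi : i ∈ support₂ (redHom y)
        · rcases hin i hi with h' | h'
          · rw [pat_of_mem_P (by rw [Finset.mem_filter, h']; norm_num) hi, h']
            norm_num
          · rw [pat_of_mem_s (by rw [Finset.mem_filter, h']; exact ⟨Finset.mem_univ i, hi, by norm_num⟩),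
              h']
            norm_num
        · rw [pat_of_notMem (fun h' => hi (hss h')) hi]
          have h1 : ¬ (i ∉ support₂ (redHom y) ∧ y i ≠ 0) := fun h' => hip ((hmemQ i).mp h')
          have h2 : y i = 0 := by
            by_contra h'
            exact h1 ⟨hi, h'⟩
          rw [h2]
          norm_num
    refine ⟨_, _, p, _, ⟨hoS, h⟩, hss, ?_, hpo, hxmix⟩
    have h3 := sum_mix (decide (y p < 0)) hss hpo
    rw [← hxmix, hsumx, h] at h3
    rw [Nat.odd_iff]
    push_cast at h3
    split_ifs at h3 <;> omega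
  · -- a dodecad
    left
    obtain ⟨s, hs, hpat⟩ := even_full (y := y) (by rw [hsq, h]; norm_num)
    rw [hyx] at hpat
    refine ⟨_, s, ⟨hoS, h⟩, hs, ?_, hpat⟩
    have h3 := sum_pat (k := 2) hs
    rw [← hpat, hsumx, h] at h3
    rw [Nat.even_iff]
    push_cast at h3
    omega
  · exfalso; rw [h] at hle; norm_num at hle
  · exfalso; rw [h] at hle; norm_num at hle

/-! ### counting -/

/-- the dodecads as a finset. -/
noncomputable def dodFinset : Finset (Finset GolayPt) :=
  ((codeList.filter (fun m => popc m == 12)).toFinset).image suppM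

theorem mem_dodFinset (b : Finset GolayPt) : b ∈ dodFinset ↔ b ∈ dodecads := by
  unfold dodFinset dodecads
  rw [wordsOfWeight_eq]
  simp only [Finset.mem_image, List.mem_toFinset, Set.mem_image, Set.mem_ofPred_eq]

theorem card_dodFinset : dodFinset.card = 2576 := by
  unfold dodFinset
  rw [Finset.card_image_of_injOn]
  · rw [List.toFinset_card_of_nodup (codeList_nodup.filter _)]
    exact count_weight12
  · intro a ha b hb hab
    simp only [List.coe_toFinset, Set.mem_ofPred_eq, List.mem_filter] at ha hb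
    exact support₂_decW_injOn (codeList_lt ha.1) (codeList_lt hb.1) hab

attribute [irreducible] dodFinset

theorem card_odd_subsets (P : Finset GolayPt) (hP : P.Nonempty) :
    (P.powerset.filter (fun s => Odd s.card)).card * 2 = 2 ^ P.card := by
  classical
  have h1 := card_even_subsets P hP
  have h3 := Finset.card_filter_add_card_filter_not (s := P.powerset) (fun s => Even s.card)
  rw [Finset.card_powerset] at h3
  have h4 : P.powerset.filter (fun s => ¬ Even s.card) = P.powerset.filter (fun s => Odd s.card) := by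
    apply Finset.filter_congr
    intro s _
    exact Nat.not_even_iff_odd
  rw [h4] at h3
  omega

/-- index sets of the four families. -/
noncomputable def idx12 : Finset (Σ _ : Finset GolayPt, Finset GolayPt) :=
  dodFinset.sigma (fun d => d.powerset.filter (fun s => Even s.card))

theorem card_idx12 : idx12.card = 5275648 := by
  unfold idx12
  rw [Finset.card_sigma]
  have h : ∀ d ∈ dodFinset, (d.powerset.filter (fun s => Even s.card)).card = 2048 := by
    intro d hd
    have h12 : d.card = 12 := ((mem_dodFinset d).mp hd).2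
    have h1 := card_even_subsets d (Finset.card_pos.mp (by omega))
    rw [h12] at h1
    omega
  have e : (2576 : ℕ) * 2048 = 5275648 := by norm_num
  rw [Finset.sum_congr rfl h, Finset.sum_const, card_dodFinset, smul_eq_mul, e]

theorem mem_idx12 (p : Σ _ : Finset GolayPt, Finset GolayPt) :
    p ∈ idx12 ↔ p.1 ∈ dodecads ∧ p.2 ⊆ p.1 ∧ Even p.2.card := by
  unfold idx12
  rw [Finset.mem_sigma, mem_dodFinset, Finset.mem_filter, Finset.mem_powerset]

noncomputable def idx4 : Finset (Σ _ : Finset GolayPt, (Finset GolayPt × GolayPt) × Bool) :=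
  octadFinset.sigma (fun o => ((o.powerset.filter (fun s => Odd s.card)) ×ˢ oᶜ) ×ˢ
    (Finset.univ : Finset Bool))

theorem card_idx4 : idx4.card = 3108864 := by
  unfold idx4
  rw [Finset.card_sigma]
  have h : ∀ o ∈ octadFinset, (((o.powerset.filter (fun s => Odd s.card)) ×ˢ oᶜ) ×ˢ
      (Finset.univ : Finset Bool)).card = 4096 := by
    intro o ho
    have h8 : o.card = 8 := ((mem_octadFinset o).mp ho).2
    have h1 := card_odd_subsets o (Finset.card_pos.mp (by omega))
    rw [h8] at h1
    rw [Finset.card_product, Finset.card_product, Finset.card_compl, card_golayPt, h8,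
      Finset.card_univ, Fintype.card_bool]
    omega
  have e : (759 : ℕ) * 4096 = 3108864 := by norm_num
  rw [Finset.sum_congr rfl h, Finset.sum_const, card_octadFinset, smul_eq_mul, e]

theorem mem_idx4 (q : Σ _ : Finset GolayPt, (Finset GolayPt × GolayPt) × Bool) :
    q ∈ idx4 ↔ q.1 ∈ octads ∧ q.2.1.1 ⊆ q.1 ∧ Odd q.2.1.1.card ∧ q.2.1.2 ∉ q.1 := by
  unfold idx4
  rw [Finset.mem_sigma, mem_octadFinset, Finset.mem_product, Finset.mem_product,
    Finset.mem_filter, Finset.mem_powerset, Finset.mem_compl]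
  simp only [Finset.mem_univ, and_true]
  tauto

noncomputable def idx3 : Finset (Finset GolayPt × Finset GolayPt) :=
  suppFinset ×ˢ (Finset.univ : Finset GolayPt).powersetCard 3

theorem card_idx3 : idx3.card = 8290304 := by
  unfold idx3
  have e : (4096 : ℕ) * Nat.choose 24 3 = 8290304 := by norm_num [Nat.choose]
  rw [Finset.card_product, card_suppFinset, Finset.card_powersetCard, Finset.card_univ,
    card_golayPt, e]

theorem mem_idx3 (q : Finset GolayPt × Finset GolayPt) :
    q ∈ idx3 ↔ q.1 ∈ supports (golayCode : Set (GolayPt → ZMod 2)) ∧ q.2.card = 3 := by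
  unfold idx3
  rw [Finset.mem_product, mem_suppFinset, Finset.mem_powersetCard]
  simp

noncomputable def idx5 : Finset (Finset GolayPt × GolayPt) :=
  suppFinset ×ˢ (Finset.univ : Finset GolayPt)

theorem card_idx5 : idx5.card = 98304 := by
  unfold idx5
  have e : (4096 : ℕ) * 24 = 98304 := by norm_num
  rw [Finset.card_product, card_suppFinset, Finset.card_univ, card_golayPt, e]

theorem mem_idx5 (q : Finset GolayPt × GolayPt) :
    q ∈ idx5 ↔ q.1 ∈ supports (golayCode : Set (GolayPt → ZMod 2)) := by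
  unfold idx5
  rw [Finset.mem_product, mem_suppFinset]
  simp

attribute [irreducible] idx12 idx4 idx3 idx5

open Classical in
/-- the four families. -/
noncomputable def fam12 : Finset (GolayPt → ℤ) := idx12.image (fun p => pat 2 p.1 p.2)

open Classical in
noncomputable def fam4 : Finset (GolayPt → ℤ) :=
  idx4.image (fun q => mix q.1 q.2.1.1 q.2.1.2 q.2.2)

open Classical in
noncomputable def fam3 : Finset (GolayPt → ℤ) :=
  idx3.image (fun q => signCh q.1 (baseP q.2 (-3)))

open Classical in
noncomputable def fam5 : Finset (GolayPt → ℤ) :=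
  idx5.image (fun q => signCh q.1 (baseP {q.2} 5))

theorem card_fam12 : fam12.card = 5275648 := by
  classical
  unfold fam12
  rw [Finset.card_image_of_injOn, card_idx12]
  rintro ⟨o, s⟩ hp ⟨o', s'⟩ hp' h
  rw [Finset.mem_coe, mem_idx12] at hp hp'
  obtain ⟨h1, h2⟩ := pat_inj (by norm_num) hp.2.1 hp'.2.1 h
  dsimp only at h1 h2
  rw [h1, h2]

theorem pat_two_abs_le {o s : Finset GolayPt} (i : GolayPt) :
    pat 2 o s i = 0 ∨ pat 2 o s i = 2 ∨ pat 2 o s i = -2 := by
  unfold pat
  split_ifs <;> simp

theorem mix_inj {o s o' s' : Finset GolayPt} {p p' : GolayPt} {ε ε' : Bool} (hs : s ⊆ o)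
    (hs' : s' ⊆ o') (hp : p ∉ o) (hp' : p' ∉ o') (h : mix o s p ε = mix o' s' p' ε') :
    o = o' ∧ s = s' ∧ p = p' ∧ ε = ε' := by
  have hpp : p = p' := by
    by_contra hne
    have h1 := congrFun h p
    rw [mix_self, mix_ne _ _ _ hne] at h1
    rcases pat_two_abs_le (o := o') (s := s') p with h2 | h2 | h2 <;> rw [h2] at h1 <;>
      cases ε <;> simp at h1
  subst hpp
  have hε : ε = ε' := by
    have h1 := congrFun h p
    rw [mix_self, mix_self] at h1
    cases ε <;> cases ε' <;> simp at h1 <;> rfl
  have hpat : pat 2 o s = pat 2 o' s' := by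
    funext i
    by_cases hi : i = p
    · rw [hi, pat_of_notMem (fun h' => hp (hs h')) hp, pat_of_notMem (fun h' => hp' (hs' h')) hp']
    · have h1 := congrFun h i
      rw [mix_ne _ _ _ hi, mix_ne _ _ _ hi] at h1
      exact h1
  obtain ⟨h1, h2⟩ := pat_inj (by norm_num) hs hs' hpat
  exact ⟨h1, h2, rfl, hε⟩

theorem card_fam4 : fam4.card = 3108864 := by
  classical
  unfold fam4
  rw [Finset.card_image_of_injOn, card_idx4]
  rintro ⟨o, ⟨s, p⟩, ε⟩ hq ⟨o', ⟨s', p'⟩, ε'⟩ hq' h
  rw [Finset.mem_coe, mem_idx4] at hq hq'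
  obtain ⟨h1, h2, h3, h4⟩ := mix_inj hq.2.1 hq'.2.1 hq.2.2.2 hq'.2.2.2 h
  dsimp only at h1 h2 h3 h4
  rw [h1, h2, h3, h4]

theorem card_fam3 : fam3.card = 8290304 := by
  classical
  unfold fam3
  rw [Finset.card_image_of_injOn, card_idx3]
  rintro ⟨c, T⟩ - ⟨c', T'⟩ - h
  obtain ⟨h1, h2⟩ := signCh_inj (baseP_mod (by norm_num)) (baseP_mod (by norm_num)) h
  dsimp only at h1 h2
  rw [h1, baseP_inj (by norm_num) h2]

theorem card_fam5 : fam5.card = 98304 := by
  classical
  unfold fam5
  rw [Finset.card_image_of_injOn, card_idx5]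
  rintro ⟨c, j⟩ - ⟨c', j'⟩ - h
  obtain ⟨h1, h2⟩ := signCh_inj (baseP_mod (by norm_num)) (baseP_mod (by norm_num)) h
  dsimp only at h1 h2
  rw [h1, Finset.singleton_injective (baseP_inj (by norm_num) h2)]

theorem mem_fam12 (x : GolayPt → ℤ) :
    x ∈ fam12 ↔ ∃ d s : Finset GolayPt, d ∈ dodecads ∧ s ⊆ d ∧ Even s.card ∧ x = pat 2 d s := by
  classical
  unfold fam12
  rw [Finset.mem_image]
  constructor
  · rintro ⟨⟨o, s⟩, hp, rfl⟩
    rw [mem_idx12] at hp
    exact ⟨o, s, hp.1, hp.2.1, hp.2.2, rfl⟩
  · rintro ⟨o, s, h1, h2, h3, rfl⟩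
    exact ⟨⟨o, s⟩, (mem_idx12 _).mpr ⟨h1, h2, h3⟩, rfl⟩

theorem mem_fam4 (x : GolayPt → ℤ) :
    x ∈ fam4 ↔ ∃ (o s : Finset GolayPt) (p : GolayPt) (ε : Bool), o ∈ octads ∧ s ⊆ o ∧
      Odd s.card ∧ p ∉ o ∧ x = mix o s p ε := by
  classical
  unfold fam4
  rw [Finset.mem_image]
  constructor
  · rintro ⟨⟨o, ⟨s, p⟩, ε⟩, hq, rfl⟩
    rw [mem_idx4] at hq
    exact ⟨o, s, p, ε, hq.1, hq.2.1, hq.2.2.1, hq.2.2.2, rfl⟩
  · rintro ⟨o, s, p, ε, h1, h2, h3, h4, rfl⟩
    exact ⟨⟨o, ⟨s, p⟩, ε⟩, (mem_idx4 _).mpr ⟨h1, h2, h3, h4⟩, rfl⟩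

theorem mem_fam3 (x : GolayPt → ℤ) :
    x ∈ fam3 ↔ ∃ c ∈ supports (golayCode : Set (GolayPt → ZMod 2)), ∃ T : Finset GolayPt,
      T.card = 3 ∧ x = signCh c (baseP T (-3)) := by
  classical
  unfold fam3
  rw [Finset.mem_image]
  constructor
  · rintro ⟨⟨c, T⟩, hq, rfl⟩
    rw [mem_idx3] at hq
    exact ⟨c, hq.1, T, hq.2, rfl⟩
  · rintro ⟨c, hc, T, hT, rfl⟩
    exact ⟨⟨c, T⟩, (mem_idx3 _).mpr ⟨hc, hT⟩, rfl⟩

theorem mem_fam5 (x : GolayPt → ℤ) :
    x ∈ fam5 ↔ ∃ c ∈ supports (golayCode : Set (GolayPt → ZMod 2)), ∃ j : GolayPt,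
      x = signCh c (baseP {j} 5) := by
  classical
  unfold fam5
  rw [Finset.mem_image]
  constructor
  · rintro ⟨⟨c, j⟩, hq, rfl⟩
    rw [mem_idx5] at hq
    exact ⟨c, hq, j, rfl⟩
  · rintro ⟨c, hc, j, rfl⟩
    exact ⟨⟨c, j⟩, (mem_idx5 _).mpr hc, rfl⟩

attribute [irreducible] fam12 fam4 fam3 fam5

/-! ### the entries of the members of the four families -/

theorem abs_baseP (T : Finset GolayPt) (v : ℤ) (i : GolayPt) :
    |baseP T v i| = if i ∈ T then |v| else 1 := by
  unfold baseP
  split_ifs
  · rfl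
  · exact abs_one

theorem entries12 {x : GolayPt → ℤ} (hx : x ∈ fam12) : ∀ i, x i = 0 ∨ x i = 2 ∨ x i = -2 := by
  rw [mem_fam12] at hx
  obtain ⟨d, s, -, -, -, rfl⟩ := hx
  exact fun i => pat_two_abs_le i

theorem entries4 {x : GolayPt → ℤ} (hx : x ∈ fam4) :
    (∀ i, x i % 2 = 0) ∧ ∃ i, |x i| = 4 := by
  rw [mem_fam4] at hx
  obtain ⟨o, s, p, ε, -, -, -, -, rfl⟩ := hx
  constructor
  · intro i
    by_cases hi : i = p
    · rw [hi, mix_self]
      cases ε <;> simp
    · rw [mix_ne _ _ _ hi]
      exact pat_even (by norm_num) o s i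
  · refine ⟨p, ?_⟩
    rw [mix_self]
    cases ε <;> simp

theorem entries3 {x : GolayPt → ℤ} (hx : x ∈ fam3) :
    (∀ i, |x i| = 1 ∨ |x i| = 3) ∧
      ∃ i j k, i ≠ j ∧ j ≠ k ∧ i ≠ k ∧ |x i| = 3 ∧ |x j| = 3 ∧ |x k| = 3 := by
  rw [mem_fam3] at hx
  obtain ⟨c, -, T, hT, rfl⟩ := hx
  constructor
  · intro i
    rw [abs_signCh, abs_baseP]
    split_ifs
    · right; norm_num
    · left; rfl
  · obtain ⟨i, j, k, hij, hik, hjk, rfl⟩ := Finset.card_eq_three.mp hT
    refine ⟨i, j, k, hij, hjk, hik, ?_, ?_, ?_⟩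
    · rw [abs_signCh, abs_baseP, if_pos (by simp)]
      norm_num
    · rw [abs_signCh, abs_baseP, if_pos (by simp)]
      norm_num
    · rw [abs_signCh, abs_baseP, if_pos (by simp)]
      norm_num

theorem entries5 {x : GolayPt → ℤ} (hx : x ∈ fam5) :
    (∀ i, |x i| = 1 ∨ |x i| = 5) ∧ ∃ i, |x i| = 5 := by
  rw [mem_fam5] at hx
  obtain ⟨c, -, j, rfl⟩ := hx
  constructor
  · intro i
    rw [abs_signCh, abs_baseP]
    split_ifs
    · right; norm_num
    · left; rfl
  · refine ⟨j, ?_⟩
    rw [abs_signCh, abs_baseP, if_pos (by simp)]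
    norm_num

/-- all lattice vectors of sum of squares 48. -/
theorem mem48_iff (x : GolayPt → ℤ) :
    (x ∈ leechLattice ∧ sqNorm x = 48) ↔ x ∈ fam12 ∨ x ∈ fam4 ∨ x ∈ fam3 ∨ x ∈ fam5 := by
  constructor
  · rintro ⟨hx, hn⟩
    rcases Int.emod_two_eq_zero_or_one (x none) with h | h
    · rcases even48_classify hx hn h with h1 | h1
      · left
        exact (mem_fam12 x).mpr h1
      · right; left
        exact (mem_fam4 x).mpr h1
    · obtain ⟨c, hc, h1 | h1⟩ := odd48_classify hx hn h
      · right; right; left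
        exact (mem_fam3 x).mpr ⟨c, hc, h1⟩
      · right; right; right
        exact (mem_fam5 x).mpr ⟨c, hc, h1⟩
  · rintro (h | h | h | h)
    · rw [mem_fam12] at h
      obtain ⟨d, s, hd, hs, he, rfl⟩ := h
      have h12 : d.card = 12 := hd.2
      refine ⟨?_, ?_⟩
      · apply evenSub_le
        have h2 : pat 2 d s = dblHom (pat 1 d s) := by rw [dblHom_pat]; norm_num
        rw [h2]
        refine ⟨pat 1 d s, ?_, rfl⟩
        rw [SetLike.mem_coe, mem_subB0, redHom_pat_one hs, sum_pat hs]
        refine ⟨indW_mem hd.1, ?_⟩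
        obtain ⟨r, hr⟩ := he
        rw [h12, hr]
        push_cast
        omega
      · rw [sqNorm_pat hs, h12]
        norm_num
    · rw [mem_fam4] at h
      obtain ⟨o, s, p, ε, ho, hs, hodd, hp, rfl⟩ := h
      refine ⟨mix_mem ε ho hs hodd hp, ?_⟩
      rw [sqNorm_mix ε hs hp, ho.2]
      norm_num
    · rw [mem_fam3] at h
      obtain ⟨c, hc, T, hT, rfl⟩ := h
      refine ⟨signCh_mem hc (baseP_mem (by norm_num) (by rw [hT]; norm_num)), ?_⟩
      rw [sqNorm_signCh, sqNorm_baseP, hT]
      norm_num
    · rw [mem_fam5] at h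
      obtain ⟨c, hc, j, rfl⟩ := h
      refine ⟨signCh_mem hc (baseP_mem (by norm_num) (by rw [Finset.card_singleton]; norm_num)), ?_⟩
      rw [sqNorm_signCh, sqNorm_baseP, Finset.card_singleton]
      norm_num

theorem not_12_4 {x : GolayPt → ℤ} (h1 : x ∈ fam12) (h2 : x ∈ fam4) : False := by
  obtain ⟨i, hi⟩ := (entries4 h2).2
  have := entries12 h1 i
  rcases abs_cases (x i) with h | h <;> omega

theorem not_12_3 {x : GolayPt → ℤ} (h1 : x ∈ fam12) (h2 : x ∈ fam3) : False := by
  have h3 := (entries3 h2).1 none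
  have := entries12 h1 none
  rcases abs_cases (x none) with h | h <;> omega

theorem not_12_5 {x : GolayPt → ℤ} (h1 : x ∈ fam12) (h2 : x ∈ fam5) : False := by
  have h3 := (entries5 h2).1 none
  have := entries12 h1 none
  rcases abs_cases (x none) with h | h <;> omega

theorem not_4_3 {x : GolayPt → ℤ} (h1 : x ∈ fam4) (h2 : x ∈ fam3) : False := by
  have h3 := (entries3 h2).1 none
  have := (entries4 h1).1 none
  rcases abs_cases (x none) with h | h <;> omega

theorem not_4_5 {x : GolayPt → ℤ} (h1 : x ∈ fam4) (h2 : x ∈ fam5) : False := by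
  have h3 := (entries5 h2).1 none
  have := (entries4 h1).1 none
  rcases abs_cases (x none) with h | h <;> omega

theorem not_3_5 {x : GolayPt → ℤ} (h1 : x ∈ fam3) (h2 : x ∈ fam5) : False := by
  obtain ⟨i, hi⟩ := (entries5 h2).2
  have := (entries3 h1).1 i
  omega

theorem card48 : {x : GolayPt → ℤ | x ∈ leechLattice ∧ sqNorm x = 48}.ncard = 16773120 := by
  classical
  have hset : {x : GolayPt → ℤ | x ∈ leechLattice ∧ sqNorm x = 48} =
      ↑(fam12 ∪ (fam4 ∪ (fam3 ∪ fam5))) := by
    ext x
    rw [Set.mem_ofPred_eq, mem48_iff, Finset.mem_coe, Finset.mem_union, Finset.mem_union,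
      Finset.mem_union]
  have e : (5275648 : ℕ) + (3108864 + (8290304 + 98304)) = 16773120 := by norm_num
  rw [hset, Set.ncard_coe_finset, Finset.card_union_of_disjoint, Finset.card_union_of_disjoint,
    Finset.card_union_of_disjoint, card_fam12, card_fam4, card_fam3, card_fam5, e]
  · rw [Finset.disjoint_left]
    exact fun x h1 h2 => not_3_5 h1 h2
  · rw [Finset.disjoint_left]
    intro x h1 h2
    rcases Finset.mem_union.mp h2 with h | h
    · exact not_4_3 h1 h
    · exact not_4_5 h1 h
  · rw [Finset.disjoint_left]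
    intro x h1 h2
    rcases Finset.mem_union.mp h2 with h | h
    · exact not_12_4 h1 h
    · rcases Finset.mem_union.mp h with h | h
      · exact not_12_3 h1 h
      · exact not_12_5 h1 h

theorem census48 :
    {x : GolayPt → ℤ | x ∈ leechLattice ∧ sqNorm x = 48 ∧
      ∀ i, x i = 0 ∨ x i = 2 ∨ x i = -2}.ncard = 5275648 ∧
    {x : GolayPt → ℤ | x ∈ leechLattice ∧ sqNorm x = 48 ∧
      ∃ i j k, i ≠ j ∧ j ≠ k ∧ i ≠ k ∧ |x i| = 3 ∧ |x j| = 3 ∧ |x k| = 3}.ncard = 8290304 ∧
    {x : GolayPt → ℤ | x ∈ leechLattice ∧ sqNorm x = 48 ∧ ∃ i, |x i| = 4}.ncard = 3108864 ∧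
    {x : GolayPt → ℤ | x ∈ leechLattice ∧ sqNorm x = 48 ∧ ∃ i, |x i| = 5}.ncard = 98304 := by
  refine ⟨?_, ?_, ?_, ?_⟩
  · have hset : {x : GolayPt → ℤ | x ∈ leechLattice ∧ sqNorm x = 48 ∧
        ∀ i, x i = 0 ∨ x i = 2 ∨ x i = -2} = ↑fam12 := by
      ext x
      rw [Set.mem_ofPred_eq, Finset.mem_coe, ← and_assoc, mem48_iff]
      constructor
      · rintro ⟨h | h | h | h, hc⟩
        · exact h
        · exfalso
          obtain ⟨i, hi⟩ := (entries4 h).2
          have := hc i
          rcases abs_cases (x i) with h' | h' <;> omega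
        · exfalso
          have h3 := (entries3 h).1 none
          have := hc none
          rcases abs_cases (x none) with h' | h' <;> omega
        · exfalso
          have h3 := (entries5 h).1 none
          have := hc none
          rcases abs_cases (x none) with h' | h' <;> omega
      · intro h
        exact ⟨Or.inl h, entries12 h⟩
    rw [hset, Set.ncard_coe_finset, card_fam12]
  · have hset : {x : GolayPt → ℤ | x ∈ leechLattice ∧ sqNorm x = 48 ∧
        ∃ i j k, i ≠ j ∧ j ≠ k ∧ i ≠ k ∧ |x i| = 3 ∧ |x j| = 3 ∧ |x k| = 3} = ↑fam3 := by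
      ext x
      rw [Set.mem_ofPred_eq, Finset.mem_coe, ← and_assoc, mem48_iff]
      constructor
      · rintro ⟨h | h | h | h, ⟨i, j, k, -, -, -, hi, -, -⟩⟩
        · exfalso
          have := entries12 h i
          rcases abs_cases (x i) with h' | h' <;> omega
        · exfalso
          have := (entries4 h).1 i
          rcases abs_cases (x i) with h' | h' <;> omega
        · exact h
        · exfalso
          have := (entries5 h).1 i
          omega
      · intro h
        exact ⟨Or.inr (Or.inr (Or.inl h)), (entries3 h).2⟩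
    rw [hset, Set.ncard_coe_finset, card_fam3]
  · have hset : {x : GolayPt → ℤ | x ∈ leechLattice ∧ sqNorm x = 48 ∧ ∃ i, |x i| = 4} =
        ↑fam4 := by
      ext x
      rw [Set.mem_ofPred_eq, Finset.mem_coe, ← and_assoc, mem48_iff]
      constructor
      · rintro ⟨h | h | h | h, ⟨i, hi⟩⟩
        · exfalso
          have := entries12 h i
          rcases abs_cases (x i) with h' | h' <;> omega
        · exact h
        · exfalso
          have := (entries3 h).1 i
          omega
        · exfalso
          have := (entries5 h).1 i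
          omega
      · intro h
        exact ⟨Or.inr (Or.inl h), (entries4 h).2⟩
    rw [hset, Set.ncard_coe_finset, card_fam4]
  · have hset : {x : GolayPt → ℤ | x ∈ leechLattice ∧ sqNorm x = 48 ∧ ∃ i, |x i| = 5} =
        ↑fam5 := by
      ext x
      rw [Set.mem_ofPred_eq, Finset.mem_coe, ← and_assoc, mem48_iff]
      constructor
      · rintro ⟨h | h | h | h, ⟨i, hi⟩⟩
        · exfalso
          have := entries12 h i
          rcases abs_cases (x i) with h' | h' <;> omega
        · exfalso
          have := (entries4 h).1 i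
          rcases abs_cases (x i) with h' | h' <;> omega
        · exfalso
          have := (entries3 h).1 i
          omega
        · exact h
      · intro h
        exact ⟨Or.inr (Or.inr (Or.inr h)), (entries5 h).2⟩
    rw [hset, Set.ncard_coe_finset, card_fam5]

end Cfsg.Agent.Helper9.Leech
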