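import Mathlib
import Cfsg.Prelude.Def_Sporadic_a
import Cfsg.Prelude.Def_SporadicCombinatorics
import Cfsg.Agent.Helper9.Leech.Norm48

/-!
Families of lattice vectors of sum of squares 64, and a lower bound for their number.
-/

set_option autoImplicit false

namespace Cfsg.Agent.Helper9.Leech

open Cfsg
open Cfsg.Agent.Helper9.Golay

/-- power sums of the entries. -/
def pw (e : ℕ) (x : GolayPt → ℤ) : ℤ := ∑ i, x i ^ e

theorem sqNorm_eq_pw (x : GolayPt → ℤ) : sqNorm x = pw 2 x := rfl

theorem pw_dblHom (e : ℕ) (y : GolayPt → ℤ) : pw e (dblHom y) = 2 ^ e * pw e y := by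
  unfold pw
  rw [Finset.mul_sum]
  apply Finset.sum_congr rfl
  intro i _
  rw [dblHom_apply, mul_pow]

theorem pw_signCh {e : ℕ} (he : Even e) (c : Finset GolayPt) (b : GolayPt → ℤ) :
    pw e (signCh c b) = pw e b := by
  unfold pw signCh
  apply Finset.sum_congr rfl
  intro i _
  split_ifs
  · exact he.neg_pow _
  · rfl

theorem pat_pow {k : ℤ} {P s : Finset GolayPt} (hs : s ⊆ P) {e : ℕ} (he : Even e) (he0 : e ≠ 0)
    (i : GolayPt) : pat k P s i ^ e = if i ∈ P then k ^ e else 0 := by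
  by_cases h' : i ∈ s
  · rw [pat_of_mem_s h', if_pos (hs h'), he.neg_pow]
  · by_cases hP : i ∈ P
    · rw [pat_of_mem_P h' hP, if_pos hP]
    · rw [pat_of_notMem h' hP, if_neg hP, zero_pow he0]

theorem pw_pat {k : ℤ} {P s : Finset GolayPt} (hs : s ⊆ P) {e : ℕ} (he : Even e) (he0 : e ≠ 0) :
    pw e (pat k P s) = P.card * k ^ e := by
  unfold pw
  simp only [pat_pow hs he he0]
  rw [Finset.sum_ite_mem, Finset.univ_inter, Finset.sum_const, nsmul_eq_mul]

theorem pw_add_of_disj {e : ℕ} (he0 : e ≠ 0) {a b : GolayPt → ℤ} (h : ∀ i, a i = 0 ∨ b i = 0) :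
    pw e (a + b) = pw e a + pw e b := by
  unfold pw
  rw [← Finset.sum_add_distrib]
  apply Finset.sum_congr rfl
  intro i _
  rw [Pi.add_apply]
  rcases h i with h0 | h0
  · rw [h0, zero_add, zero_pow he0, zero_add]
  · rw [h0, add_zero, zero_pow he0, add_zero]

theorem redHom_pat_even {k : ℤ} (hk : k % 2 = 0) (P s : Finset GolayPt) :
    redHom (pat k P s) = 0 := by
  funext i
  rw [redHom_apply]
  unfold pat
  split_ifs
  · exact cast_of_even (by omega)
  · exact cast_of_even hk
  · simp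

theorem compl_mem_supports {P : Finset GolayPt}
    (hP : P ∈ supports (golayCode : Set (GolayPt → ZMod 2))) :
    Pᶜ ∈ supports (golayCode : Set (GolayPt → ZMod 2)) := by
  refine ⟨1 + indW P, golayCode.add_mem one_mem_code (indW_mem hP), ?_⟩
  ext i
  unfold support₂ indW
  rw [Finset.mem_filter, Finset.mem_compl]
  simp only [Finset.mem_univ, true_and, Pi.add_apply, Pi.one_apply]
  by_cases h : i ∈ P
  · rw [if_pos h]
    simp only [h, not_true_eq_false, iff_false, not_not]
    decide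
  · rw [if_neg h]
    simp [h]

/-- membership of the double of a vector. -/
theorem dbl_mem {y : GolayPt → ℤ} (hred : redHom y ∈ golayCode) (hsum : (∑ i, y i) % 4 = 0) :
    dblHom y ∈ leechLattice :=
  evenSub_le (AddSubgroup.mem_map.mpr ⟨y, (mem_subB0 y).mpr ⟨hred, hsum⟩, rfl⟩)

theorem pat_one_cases (P s : Finset GolayPt) (i : GolayPt) :
    pat 1 P s i = 0 ∨ pat 1 P s i = 1 ∨ pat 1 P s i = -1 := by
  unfold pat
  split_ifs <;> simp

/-! ### the first kind of even vectors -/

theorem mem_P_iff_odd {P s : Finset GolayPt} {v : GolayPt → ℤ} (hs : s ⊆ P)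
    (hv : ∀ i, v i % 2 = 0) (i : GolayPt) : i ∈ P ↔ (pat 1 P s + v) i % 2 = 1 := by
  rw [Pi.add_apply]
  have h2 := hv i
  by_cases h' : i ∈ s
  · rw [pat_of_mem_s h']
    simp only [hs h', true_iff]
    omega
  · by_cases hP : i ∈ P
    · rw [pat_of_mem_P h' hP]
      simp only [hP, true_iff]
      omega
    · rw [pat_of_notMem h' hP]
      simp only [hP, false_iff]
      omega

theorem mem_s_iff_neg {P s : Finset GolayPt} {v : GolayPt → ℤ} (hs : s ⊆ P)
    (hvP : ∀ i ∈ P, v i = 0) (i : GolayPt) : i ∈ s ↔ i ∈ P ∧ (pat 1 P s + v) i < 0 := by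
  rw [Pi.add_apply]
  constructor
  · intro h
    refine ⟨hs h, ?_⟩
    rw [hvP i (hs h), pat_of_mem_s h]
    norm_num
  · rintro ⟨hP, h⟩
    rw [hvP i hP, add_zero] at h
    exact (mem_s_iff (by norm_num) P s i).mpr h

theorem yE_inj {P s P' s' : Finset GolayPt} {v v' : GolayPt → ℤ} (hs : s ⊆ P) (hs' : s' ⊆ P')
    (hv : ∀ i, v i % 2 = 0) (hv' : ∀ i, v' i % 2 = 0) (hvP : ∀ i ∈ P, v i = 0)
    (hvP' : ∀ i ∈ P', v' i = 0) (h : pat 1 P s + v = pat 1 P' s' + v') :
    P = P' ∧ s = s' ∧ v = v' := by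
  have hP : P = P' := by
    ext i
    rw [mem_P_iff_odd hs hv, mem_P_iff_odd hs' hv', h]
  subst hP
  have hss : s = s' := by
    ext i
    rw [mem_s_iff_neg hs hvP, mem_s_iff_neg hs' hvP', h]
  subst hss
  exact ⟨rfl, rfl, add_left_cancel h⟩

open Classical in
/-- the second summands. -/
noncomputable def vSet (P : Finset GolayPt) (m : ℕ) (K : ℤ) : Finset (GolayPt → ℤ) :=
  ((Pᶜ.powersetCard m).sigma (fun Q => Q.powerset)).image (fun q => pat K q.1 q.2)

theorem mem_vSet (P : Finset GolayPt) (m : ℕ) (K : ℤ) (v : GolayPt → ℤ) :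
    v ∈ vSet P m K ↔ ∃ Q t : Finset GolayPt, Q ⊆ Pᶜ ∧ Q.card = m ∧ t ⊆ Q ∧ v = pat K Q t := by
  classical
  unfold vSet
  rw [Finset.mem_image]
  constructor
  · rintro ⟨⟨Q, t⟩, hq, rfl⟩
    rw [Finset.mem_sigma, Finset.mem_powersetCard, Finset.mem_powerset] at hq
    exact ⟨Q, t, hq.1.1, hq.1.2, hq.2, rfl⟩
  · rintro ⟨Q, t, h1, h2, h3, rfl⟩
    refine ⟨⟨Q, t⟩, ?_, rfl⟩
    rw [Finset.mem_sigma, Finset.mem_powersetCard, Finset.mem_powerset]
    exact ⟨⟨h1, h2⟩, h3⟩

theorem card_vSet (P : Finset GolayPt) (m : ℕ) {K : ℤ} (hK : 0 < K) :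
    (vSet P m K).card = (24 - P.card).choose m * 2 ^ m := by
  classical
  unfold vSet
  rw [Finset.card_image_of_injOn]
  · rw [Finset.card_sigma]
    have h : ∀ Q ∈ Pᶜ.powersetCard m, Q.powerset.card = 2 ^ m := by
      intro Q hQ
      rw [Finset.card_powerset, (Finset.mem_powersetCard.mp hQ).2]
    rw [Finset.sum_const_nat h, Finset.card_powersetCard, Finset.card_compl, card_golayPt]
  · rintro ⟨Q, t⟩ hq ⟨Q', t'⟩ hq' h
    rw [Finset.mem_coe, Finset.mem_sigma, Finset.mem_powerset] at hq hq'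
    obtain ⟨h1, h2⟩ := pat_inj hK hq.2 hq'.2 h
    dsimp only at h1 h2
    rw [h1, h2]

theorem vSet_props {P : Finset GolayPt} {m : ℕ} {k : ℤ} {v : GolayPt → ℤ}
    (hv : v ∈ vSet P m (2 * k)) :
    (∀ i, v i % 2 = 0) ∧ (∀ i ∈ P, v i = 0) ∧ redHom v = 0 ∧
    (∃ r : ℤ, ∑ i, v i = 2 * k * m - 4 * r) ∧
    ∀ e : ℕ, Even e → e ≠ 0 → pw e v = m * (2 * k) ^ e := by
  obtain ⟨Q, t, hQ, hm, ht, rfl⟩ := (mem_vSet P m _ v).mp hv
  refine ⟨?_, ?_, redHom_pat_even (by omega) Q t, ?_, ?_⟩
  · intro i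
    unfold pat
    split_ifs <;> omega
  · intro i hi
    have hiQ : i ∉ Q := fun h => (Finset.mem_compl.mp (hQ h)) hi
    exact pat_of_notMem (fun h => hiQ (ht h)) hiQ
  · refine ⟨t.card * k, ?_⟩
    rw [sum_pat ht, hm]
    ring
  · intro e he he0
    rw [pw_pat ht he he0, hm]

open Classical in
/-- the first kind of even vectors. -/
noncomputable def famE (PP : Finset (Finset GolayPt)) (par : ℕ → Prop) [DecidablePred par]
    (m : ℕ) (K : ℤ) : Finset (GolayPt → ℤ) :=
  (PP.sigma (fun P => (P.powerset.filter (fun s => par s.card)) ×ˢ vSet P m K)).image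
    (fun q => dblHom (pat 1 q.1 q.2.1 + q.2.2))

theorem famE_main (PP : Finset (Finset GolayPt)) (par : ℕ → Prop) [DecidablePred par]
    (S n m : ℕ) (k : ℤ) (hk : 0 < k)
    (hPP : ∀ P ∈ PP, P ∈ supports (golayCode : Set (GolayPt → ZMod 2)) ∧ P.card = n)
    (hS : ∀ P ∈ PP, (P.powerset.filter (fun s => par s.card)).card = S)
    (hpar : ∀ c : ℕ, par c → ((n : ℤ) - 2 * c + 2 * k * m) % 4 = 0) :
    (famE PP par m (2 * k)).card = PP.card * (S * ((24 - n).choose m * 2 ^ m)) ∧
    ∀ x ∈ famE PP par m (2 * k), x ∈ leechLattice ∧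
      ∀ e : ℕ, Even e → e ≠ 0 → pw e x = 2 ^ e * (n + m * (2 * k) ^ e) := by
  classical
  constructor
  · unfold famE
    rw [Finset.card_image_of_injOn]
    · rw [Finset.card_sigma]
      have h : ∀ P ∈ PP, ((P.powerset.filter (fun s => par s.card)) ×ˢ vSet P m (2 * k)).card =
          S * ((24 - n).choose m * 2 ^ m) := by
        intro P hP
        rw [Finset.card_product, hS P hP, card_vSet P m (by omega), (hPP P hP).2]
      rw [Finset.sum_const_nat h]
    · rintro ⟨P, s, v⟩ hq ⟨P', s', v'⟩ hq' h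
      rw [Finset.mem_coe, Finset.mem_sigma, Finset.mem_product, Finset.mem_filter,
        Finset.mem_powerset] at hq hq'
      obtain ⟨hv1, hv2, -, -, -⟩ := vSet_props hq.2.2
      obtain ⟨hv1', hv2', -, -, -⟩ := vSet_props hq'.2.2
      obtain ⟨h1, h2, h3⟩ := yE_inj hq.2.1.1 hq'.2.1.1 hv1 hv1' hv2 hv2' (dblHom_injective h)
      dsimp only at h1 h2 h3
      rw [h1, h2, h3]
  · intro x hx
    unfold famE at hx
    obtain ⟨⟨P, s, v⟩, hq, rfl⟩ := Finset.mem_image.mp hx
    rw [Finset.mem_sigma, Finset.mem_product, Finset.mem_filter, Finset.mem_powerset] at hq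
    dsimp only at hq
    obtain ⟨hv1, hv2, hv3, ⟨r, hv4⟩, hv5⟩ := vSet_props hq.2.2
    dsimp only
    constructor
    · apply dbl_mem
      · rw [map_add, hv3, add_zero, redHom_pat_one hq.2.1.1]
        exact indW_mem (hPP P hq.1).1
      · rw [Finset.sum_congr rfl (fun i _ => Pi.add_apply (pat 1 P s) v i),
          Finset.sum_add_distrib, sum_pat hq.2.1.1, hv4, (hPP P hq.1).2]
        have := hpar s.card hq.2.1.2
        omega
    · intro e he he0
      rw [pw_dblHom, pw_add_of_disj he0, pw_pat hq.2.1.1 he he0, hv5 e he he0, (hPP P hq.1).2,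
        one_pow, mul_one]
      intro i
      by_cases hi : i ∈ P
      · exact Or.inr (hv2 i hi)
      · exact Or.inl (pat_of_notMem (fun h => hi (hq.2.1.1 h)) hi)

/-- the shape of the statements on the families. -/
def IsFam (N : ℕ) (q : ℤ) : Prop :=
  ∃ F : Finset (GolayPt → ℤ), F.card = N ∧
    ∀ x ∈ F, x ∈ leechLattice ∧ sqNorm x = 64 ∧ pw 4 x = q

theorem famE_cor (PP : Finset (Finset GolayPt)) (par : ℕ → Prop) [DecidablePred par]
    (S n m : ℕ) (k : ℤ) (hk : 0 < k)
    (hPP : ∀ P ∈ PP, P ∈ supports (golayCode : Set (GolayPt → ZMod 2)) ∧ P.card = n)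
    (hS : ∀ P ∈ PP, (P.powerset.filter (fun s => par s.card)).card = S)
    (hpar : ∀ c : ℕ, par c → ((n : ℤ) - 2 * c + 2 * k * m) % 4 = 0) (N : ℕ) (q : ℤ)
    (hN : PP.card * (S * ((24 - n).choose m * 2 ^ m)) = N)
    (h2 : 2 ^ 2 * ((n : ℤ) + m * (2 * k) ^ 2) = 64) (h4 : 2 ^ 4 * ((n : ℤ) + m * (2 * k) ^ 4) = q) :
    IsFam N q := by
  obtain ⟨h1, h3⟩ := famE_main PP par S n m k hk hPP hS hpar
  refine ⟨famE PP par m (2 * k), h1.trans hN, fun x hx => ⟨(h3 x hx).1, ?_, ?_⟩⟩
  · rw [sqNorm_eq_pw, (h3 x hx).2 2 (by decide) (by decide), h2]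
  · rw [(h3 x hx).2 4 (by decide) (by decide), h4]

theorem card_filter_empty : ((∅ : Finset GolayPt).powerset.filter (fun s => s.card = 0)).card = 1 := by
  rw [Finset.powerset_empty]
  rfl

theorem fam_E0 : IsFam 170016 1024 := by
  have e : (1 : ℕ) * (1 * ((24 - 0).choose 4 * 2 ^ 4)) = 170016 := by norm_num [Nat.choose]
  refine famE_cor {∅} (fun c => c = 0) 1 0 4 1 (by norm_num) ?_ ?_ ?_ 170016 1024 ?_
    (by norm_num) (by norm_num)
  · intro P hP
    rw [Finset.mem_singleton.mp hP]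
    exact ⟨Spor.empty_mem_supports_golayCode, rfl⟩
  · intro P hP
    rw [Finset.mem_singleton.mp hP]
    exact card_filter_empty
  · intro c hc
    rw [hc]
    norm_num
  · rw [Finset.card_singleton]
    exact e

theorem fam_F1 : IsFam 48 4096 := by
  have e : (1 : ℕ) * (1 * ((24 - 0).choose 1 * 2 ^ 1)) = 48 := by norm_num [Nat.choose]
  refine famE_cor {∅} (fun c => c = 0) 1 0 1 2 (by norm_num) ?_ ?_ ?_ 48 4096 ?_
    (by norm_num) (by norm_num)
  · intro P hP
    rw [Finset.mem_singleton.mp hP]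
    exact ⟨Spor.empty_mem_supports_golayCode, rfl⟩
  · intro P hP
    rw [Finset.mem_singleton.mp hP]
    exact card_filter_empty
  · intro c hc
    rw [hc]
    norm_num
  · rw [Finset.card_singleton]
    exact e

theorem fam_E8 : IsFam 46632960 640 := by
  have e : (759 : ℕ) * (128 * ((24 - 8).choose 2 * 2 ^ 2)) = 46632960 := by norm_num [Nat.choose]
  refine famE_cor octadFinset Even 128 8 2 1 (by norm_num) ?_ ?_ ?_ 46632960 640 ?_
    (by norm_num) (by norm_num)
  · intro P hP
    exact (mem_octadFinset P).mp hP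
  · intro P hP
    have h8 : P.card = 8 := ((mem_octadFinset P).mp hP).2
    have h1 := card_even_subsets P (Finset.card_pos.mp (by omega))
    rw [h8] at h1
    omega
  · rintro c ⟨r, rfl⟩
    push_cast
    omega
  · rw [card_octadFinset]
    exact e

theorem fam_E12 : IsFam 126615552 448 := by
  have e : (2576 : ℕ) * (2048 * ((24 - 12).choose 1 * 2 ^ 1)) = 126615552 := by
    norm_num [Nat.choose]
  refine famE_cor dodFinset Odd 2048 12 1 1 (by norm_num) ?_ ?_ ?_ 126615552 448 ?_
    (by norm_num) (by norm_num)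
  · intro P hP
    exact (mem_dodFinset P).mp hP
  · intro P hP
    have h12 : P.card = 12 := ((mem_dodFinset P).mp hP).2
    have h1 := card_odd_subsets P (Finset.card_pos.mp (by omega))
    rw [h12] at h1
    omega
  · rintro c ⟨r, rfl⟩
    push_cast
    omega
  · rw [card_dodFinset]
    exact e

theorem fam_E16 : IsFam 24870912 256 := by
  classical
  have e : (759 : ℕ) * (32768 * ((24 - 16).choose 0 * 2 ^ 0)) = 24870912 := by norm_num
  refine famE_cor (octadFinset.image compl) Even 32768 16 0 1 (by norm_num) ?_ ?_ ?_ 24870912 256 ?_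
    (by norm_num) (by norm_num)
  · intro P hP
    obtain ⟨o, ho, rfl⟩ := Finset.mem_image.mp hP
    have ho' := (mem_octadFinset o).mp ho
    refine ⟨compl_mem_supports ho'.1, ?_⟩
    rw [Finset.card_compl, card_golayPt, ho'.2]
  · intro P hP
    obtain ⟨o, ho, rfl⟩ := Finset.mem_image.mp hP
    have ho' := (mem_octadFinset o).mp ho
    have h16 : oᶜ.card = 16 := by
      rw [Finset.card_compl, card_golayPt, ho'.2]
    have h1 := card_even_subsets oᶜ (Finset.card_pos.mp (by omega))
    rw [h16] at h1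
    omega
  · rintro c ⟨r, rfl⟩
    push_cast
    omega
  · rw [Finset.card_image_of_injective _ compl_injective, card_octadFinset]
    exact e

/-! ### the second kind of even vectors -/

/-- the vector `pat 1 P s` with the entry at `p` tripled. -/
def trip (P s : Finset GolayPt) (p : GolayPt) : GolayPt → ℤ :=
  fun i => if i = p then 3 * pat 1 P s i else pat 1 P s i

theorem trip_self (P s : Finset GolayPt) (p : GolayPt) : trip P s p p = 3 * pat 1 P s p := by
  unfold trip
  rw [if_pos rfl]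

theorem trip_ne (P s : Finset GolayPt) {p i : GolayPt} (h : i ≠ p) :
    trip P s p i = pat 1 P s i := by
  unfold trip
  rw [if_neg h]

theorem trip_eq_add (P s : Finset GolayPt) (p i : GolayPt) :
    trip P s p i = pat 1 P s i + (if i = p then 2 * pat 1 P s i else 0) := by
  unfold trip
  split_ifs <;> ring

theorem trip_inj {P s P' s' : Finset GolayPt} {p p' : GolayPt} (hs : s ⊆ P) (hs' : s' ⊆ P')
    (hp : p ∈ P) (h : trip P s p = trip P' s' p') : P = P' ∧ s = s' ∧ p = p' := by
  have key : ∀ (P s : Finset GolayPt) (p i : GolayPt),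
      (trip P s p i ≠ 0 ↔ pat 1 P s i ≠ 0) ∧ (trip P s p i < 0 ↔ pat 1 P s i < 0) := by
    intro P s p i
    unfold trip
    split_ifs
    · constructor <;> constructor <;> intro h <;> omega
    · exact ⟨Iff.rfl, Iff.rfl⟩
  refine ⟨?_, ?_, ?_⟩
  · ext i
    rw [mem_P_iff (k := 1) (by norm_num) hs, mem_P_iff (k := 1) (by norm_num) hs', ← (key P s p i).1,
      ← (key P' s' p' i).1, h]
  · ext i
    rw [mem_s_iff (k := 1) (by norm_num) P s, mem_s_iff (k := 1) (by norm_num) P' s', ← (key P s p i).2,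
      ← (key P' s' p' i).2, h]
  · by_contra hne
    have h1 := congrFun h p
    rw [trip_self, trip_ne _ _ hne] at h1
    have h2 := (mem_P_iff (k := 1) (by norm_num) hs p).mp hp
    rcases pat_one_cases P s p with h3 | h3 | h3 <;>
      rcases pat_one_cases P' s' p with h4 | h4 | h4 <;> omega

theorem redHom_trip {P s : Finset GolayPt} (hs : s ⊆ P) (p : GolayPt) :
    redHom (trip P s p) = indW P := by
  rw [← redHom_pat_one hs]
  funext i
  rw [redHom_apply, redHom_apply]
  unfold trip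
  split_ifs
  · rw [Int.cast_mul]
    have h3 : ((3 : ℤ) : ZMod 2) = 1 := by decide
    rw [h3, one_mul]
  · rfl

theorem sum_trip {P s : Finset GolayPt} (hs : s ⊆ P) (p : GolayPt) :
    ∑ i, trip P s p i = P.card * 1 - s.card * (2 * 1) + 2 * pat 1 P s p := by
  simp only [trip_eq_add]
  rw [Finset.sum_add_distrib, sum_pat hs, Finset.sum_ite_eq' Finset.univ p, if_pos (Finset.mem_univ p)]

theorem pw_trip {P s : Finset GolayPt} (hs : s ⊆ P) {p : GolayPt} (hp : p ∈ P) {e : ℕ}
    (he : Even e) (he0 : e ≠ 0) : pw e (trip P s p) = P.card + (3 ^ e - 1) := by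
  have h1 : ∀ i, trip P s p i ^ e =
      pat 1 P s i ^ e + (if i = p then (3 ^ e - 1) * pat 1 P s i ^ e else 0) := by
    intro i
    unfold trip
    split_ifs
    · rw [mul_pow]
      ring
    · ring
  unfold pw
  simp only [h1]
  rw [Finset.sum_add_distrib, Finset.sum_ite_eq' Finset.univ p, if_pos (Finset.mem_univ p)]
  have h2 := pw_pat (k := 1) hs he he0
  unfold pw at h2
  rw [h2, pat_pow hs he he0, if_pos hp, one_pow, mul_one, mul_one]

open Classical in
/-- the second kind of even vectors. -/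
noncomputable def famT (PP : Finset (Finset GolayPt)) : Finset (GolayPt → ℤ) :=
  (PP.sigma (fun P => (P.powerset.filter (fun s => Odd s.card)) ×ˢ P)).image
    (fun q => dblHom (trip q.1 q.2.1 q.2.2))

theorem famT_main (PP : Finset (Finset GolayPt)) (hPP : ∀ P ∈ PP, P ∈ octads) :
    (famT PP).card = PP.card * 1024 ∧
    ∀ x ∈ famT PP, x ∈ leechLattice ∧ sqNorm x = 64 ∧ pw 4 x = 1408 := by
  classical
  refine ⟨?_, ?_⟩
  · unfold famT
    rw [Finset.card_image_of_injOn]
    · rw [Finset.card_sigma]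
      have h : ∀ P ∈ PP, ((P.powerset.filter (fun s => Odd s.card)) ×ˢ P).card = 1024 := by
        intro P hP
        have h8 : P.card = 8 := (hPP P hP).2
        have h1 := card_odd_subsets P (Finset.card_pos.mp (by omega))
        rw [h8] at h1
        rw [Finset.card_product, h8]
        omega
      rw [Finset.sum_const_nat h]
    · rintro ⟨P, s, p⟩ hq ⟨P', s', p'⟩ hq' h
      rw [Finset.mem_coe, Finset.mem_sigma, Finset.mem_product, Finset.mem_filter,
        Finset.mem_powerset] at hq hq'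
      obtain ⟨h1, h2, h3⟩ := trip_inj hq.2.1.1 hq'.2.1.1 hq.2.2 (dblHom_injective h)
      dsimp only at h1 h2 h3
      rw [h1, h2, h3]
  · intro x hx
    unfold famT at hx
    obtain ⟨⟨P, s, p⟩, hq, rfl⟩ := Finset.mem_image.mp hx
    rw [Finset.mem_sigma, Finset.mem_product, Finset.mem_filter, Finset.mem_powerset] at hq
    dsimp only at hq
    dsimp only
    have hP := hPP P hq.1
    refine ⟨?_, ?_, ?_⟩
    · apply dbl_mem
      · rw [redHom_trip hq.2.1.1]
        exact indW_mem hP.1
      · rw [sum_trip hq.2.1.1, hP.2]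
        obtain ⟨r, hr⟩ := hq.2.1.2
        rw [hr]
        push_cast
        rcases pat_one_cases P s p with h3 | h3 | h3
        · exact absurd h3 ((mem_P_iff (k := 1) (by norm_num) hq.2.1.1 p).mp hq.2.2)
        · rw [h3]
          omega
        · rw [h3]
          omega
    · rw [sqNorm_eq_pw, pw_dblHom, pw_trip hq.2.1.1 hq.2.2 (by decide) (by decide), hP.2]
      norm_num
    · rw [pw_dblHom, pw_trip hq.2.1.1 hq.2.2 (by decide) (by decide), hP.2]
      norm_num

theorem fam_F6 : IsFam 777216 1408 := by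
  have e : (759 : ℕ) * 1024 = 777216 := by norm_num
  obtain ⟨h1, h2⟩ := famT_main octadFinset (fun P hP => (mem_octadFinset P).mp hP)
  refine ⟨famT octadFinset, ?_, h2⟩
  rw [h1, card_octadFinset, e]

/-! ### the odd vectors -/

open Classical in
/-- the odd vectors with the given normalised forms. -/
noncomputable def famO (CC : Finset (Finset GolayPt)) (B : Finset (GolayPt → ℤ)) :
    Finset (GolayPt → ℤ) :=
  (CC ×ˢ B).image (fun q => signCh q.1 q.2)

theorem famO_main (CC : Finset (Finset GolayPt)) (B : Finset (GolayPt → ℤ)) (q : ℤ)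
    (hCC : ∀ c ∈ CC, c ∈ supports (golayCode : Set (GolayPt → ZMod 2)))
    (hB : ∀ b ∈ B, (∀ i, b i % 4 = 1) ∧ b ∈ leechLattice ∧ pw 2 b = 64 ∧ pw 4 b = q) :
    (famO CC B).card = CC.card * B.card ∧
    ∀ x ∈ famO CC B, x ∈ leechLattice ∧ sqNorm x = 64 ∧ pw 4 x = q := by
  classical
  refine ⟨?_, ?_⟩
  · unfold famO
    rw [Finset.card_image_of_injOn, Finset.card_product]
    rintro ⟨c, b⟩ hq ⟨c', b'⟩ hq' h
    rw [Finset.mem_coe, Finset.mem_product] at hq hq'
    obtain ⟨h1, h2⟩ := signCh_inj (hB b hq.2).1 (hB b' hq'.2).1 h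
    dsimp only at h1 h2
    rw [h1, h2]
  · intro x hx
    unfold famO at hx
    obtain ⟨⟨c, b⟩, hq, rfl⟩ := Finset.mem_image.mp hx
    rw [Finset.mem_product] at hq
    dsimp only at hq
    dsimp only
    obtain ⟨-, hb2, hb3, hb4⟩ := hB b hq.2
    refine ⟨signCh_mem (hCC c hq.1) hb2, ?_, ?_⟩
    · rw [sqNorm_eq_pw, pw_signCh (by decide), hb3]
    · rw [pw_signCh (by decide), hb4]

theorem pw_baseP (T : Finset GolayPt) (v : ℤ) (e : ℕ) :
    pw e (baseP T v) = 24 + T.card * (v ^ e - 1) := by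
  unfold pw
  have h1 : ∀ i, baseP T v i ^ e = 1 + (if i ∈ T then v ^ e - 1 else 0) := by
    intro i
    unfold baseP
    split_ifs
    · ring
    · rw [one_pow, add_zero]
  simp only [h1, Finset.sum_add_distrib]
  rw [Finset.sum_ite_mem, Finset.univ_inter, Finset.sum_const, nsmul_eq_mul]
  simp only [Finset.sum_const, Finset.card_univ, card_golayPt]
  norm_num

open Classical in
/-- the first normalised forms. -/
noncomputable def setB7 : Finset (GolayPt → ℤ) :=
  ((Finset.univ : Finset GolayPt).powersetCard 5).image (fun T => baseP T (-3))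

theorem card_setB7 : setB7.card = 42504 := by
  classical
  unfold setB7
  have e : Nat.choose 24 5 = 42504 := by norm_num [Nat.choose]
  rw [Finset.card_image_of_injective _ (fun T T' h => baseP_inj (by norm_num) h),
    Finset.card_powersetCard, Finset.card_univ, card_golayPt, e]

theorem setB7_props (b : GolayPt → ℤ) (hb : b ∈ setB7) :
    (∀ i, b i % 4 = 1) ∧ b ∈ leechLattice ∧ pw 2 b = 64 ∧ pw 4 b = 424 := by
  classical
  unfold setB7 at hb
  obtain ⟨T, hT, rfl⟩ := Finset.mem_image.mp hb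
  have h5 : T.card = 5 := (Finset.mem_powersetCard.mp hT).2
  refine ⟨baseP_mod (by norm_num), baseP_mem (by norm_num) ?_, ?_, ?_⟩
  · rw [h5]
    norm_num
  · rw [pw_baseP, h5]
    norm_num
  · rw [pw_baseP, h5]
    norm_num

/-- the second normalised forms. -/
def base2 (j : GolayPt) (T : Finset GolayPt) : GolayPt → ℤ :=
  fun i => if i = j then 5 else if i ∈ T then -3 else 1

theorem base2_eq_add {j : GolayPt} {T : Finset GolayPt} (hj : j ∉ T) (i : GolayPt) :
    base2 j T i = baseP T (-3) i + (if i = j then 4 else 0) := by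
  unfold base2 baseP
  by_cases h : i = j
  · rw [if_pos h, if_pos h, h, if_neg hj]
    norm_num
  · rw [if_neg h, if_neg h, add_zero]

theorem base2_pow {j : GolayPt} {T : Finset GolayPt} (hj : j ∉ T) (e : ℕ) (i : GolayPt) :
    base2 j T i ^ e = baseP T (-3) i ^ e + (if i = j then 5 ^ e - 1 else 0) := by
  unfold base2 baseP
  by_cases h : i = j
  · rw [if_pos h, if_pos h, h, if_neg hj, one_pow]
    ring
  · rw [if_neg h, if_neg h, add_zero]

theorem base2_mod (j : GolayPt) (T : Finset GolayPt) (i : GolayPt) : base2 j T i % 4 = 1 := by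
  unfold base2
  split_ifs <;> rfl

theorem sum_base2 {j : GolayPt} {T : Finset GolayPt} (hj : j ∉ T) :
    ∑ i, base2 j T i = 24 + T.card * (-3 - 1) + 4 := by
  simp only [base2_eq_add hj]
  rw [Finset.sum_add_distrib, sum_baseP, Finset.sum_ite_eq' Finset.univ j,
    if_pos (Finset.mem_univ j)]

theorem pw_base2 {j : GolayPt} {T : Finset GolayPt} (hj : j ∉ T) (e : ℕ) :
    pw e (base2 j T) = 24 + T.card * ((-3) ^ e - 1) + (5 ^ e - 1) := by
  have h := pw_baseP T (-3) e
  unfold pw at h ⊢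
  simp only [base2_pow hj]
  rw [Finset.sum_add_distrib, h, Finset.sum_ite_eq' Finset.univ j, if_pos (Finset.mem_univ j)]

theorem base2_inj {j j' : GolayPt} {T T' : Finset GolayPt} (hj : j ∉ T) (hj' : j' ∉ T')
    (h : base2 j T = base2 j' T') : j = j' ∧ T = T' := by
  have hjj : j = j' := by
    by_contra hne
    have h1 := congrFun h j
    unfold base2 at h1
    rw [if_pos rfl, if_neg hne] at h1
    split_ifs at h1 <;> omega
  subst hjj
  refine ⟨rfl, ?_⟩
  ext i
  have h1 := congrFun h i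
  unfold base2 at h1
  by_cases hi : i = j
  · rw [hi]
    simp only [hj, hj']
  · rw [if_neg hi, if_neg hi] at h1
    by_cases h2 : i ∈ T <;> by_cases h3 : i ∈ T'
    · simp only [h2, h3]
    · rw [if_pos h2, if_neg h3] at h1
      omega
    · rw [if_neg h2, if_pos h3] at h1
      omega
    · simp only [h2, h3]

open Classical in
/-- the second normalised forms, as a finset. -/
noncomputable def setB8 : Finset (GolayPt → ℤ) :=
  ((Finset.univ : Finset GolayPt).sigma (fun j => (Finset.univ.erase j).powersetCard 2)).image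
    (fun q => base2 q.1 q.2)

theorem card_setB8 : setB8.card = 6072 := by
  classical
  unfold setB8
  rw [Finset.card_image_of_injOn]
  · rw [Finset.card_sigma]
    have h : ∀ j ∈ (Finset.univ : Finset GolayPt),
        ((Finset.univ.erase j).powersetCard 2).card = 253 := by
      intro j _
      have e : Nat.choose 23 2 = 253 := by norm_num [Nat.choose]
      rw [Finset.card_powersetCard, Finset.card_erase_of_mem (Finset.mem_univ j), Finset.card_univ,
        card_golayPt, e]
    have e : (24 : ℕ) * 253 = 6072 := by norm_num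
    rw [Finset.sum_const_nat h, Finset.card_univ, card_golayPt, e]
  · rintro ⟨j, T⟩ hq ⟨j', T'⟩ hq' h
    rw [Finset.mem_coe, Finset.mem_sigma, Finset.mem_powersetCard] at hq hq'
    have hj : j ∉ T := fun h' => (Finset.mem_erase.mp (hq.2.1 h')).1 rfl
    have hj' : j' ∉ T' := fun h' => (Finset.mem_erase.mp (hq'.2.1 h')).1 rfl
    obtain ⟨h1, h2⟩ := base2_inj hj hj' h
    rw [h1, h2]

theorem setB8_props (b : GolayPt → ℤ) (hb : b ∈ setB8) :
    (∀ i, b i % 4 = 1) ∧ b ∈ leechLattice ∧ pw 2 b = 64 ∧ pw 4 b = 808 := by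
  classical
  unfold setB8 at hb
  obtain ⟨⟨j, T⟩, hq, rfl⟩ := Finset.mem_image.mp hb
  rw [Finset.mem_sigma, Finset.mem_powersetCard] at hq
  dsimp only at hq
  dsimp only
  have hj : j ∉ T := fun h' => (Finset.mem_erase.mp (hq.2.1 h')).1 rfl
  refine ⟨base2_mod j T, ?_, ?_, ?_⟩
  · rw [mem_leechLattice_iff]
    apply Spor.mem_leechSet_of_const_mod_four (base2 j T) 1 1 (by decide)
    · intro i
      exact base2_mod j T i
    · rw [sum_base2 hj, hq.2.2]
      rfl
  · rw [pw_base2 hj, hq.2.2]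
    norm_num
  · rw [pw_base2 hj, hq.2.2]
    norm_num

theorem fam_O7 : IsFam 174096384 424 := by
  have e : (4096 : ℕ) * 42504 = 174096384 := by norm_num
  obtain ⟨h1, h2⟩ := famO_main suppFinset setB7 424 (fun c hc => (mem_suppFinset c).mp hc) setB7_props
  refine ⟨famO suppFinset setB7, ?_, h2⟩
  rw [h1, card_suppFinset, card_setB7, e]

theorem fam_O8 : IsFam 24870912 808 := by
  have e : (4096 : ℕ) * 6072 = 24870912 := by norm_num
  obtain ⟨h1, h2⟩ := famO_main suppFinset setB8 808 (fun c hc => (mem_suppFinset c).mp hc) setB8_props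
  refine ⟨famO suppFinset setB8, ?_, h2⟩
  rw [h1, card_suppFinset, card_setB8, e]

end Cfsg.Agent.Helper9.Leech
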