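import Mathlib
import Cfsg.Prelude.Def_Sporadic_a
import Cfsg.Prelude.Def_SporadicCombinatorics
import Cfsg.Agent.Helper9.CosetLeader3
import Cfsg.Agent.Helper9.Golay.FixCoset
import Cfsg.Agent.Helper9.Leech.CrossStab
import Cfsg.Agent.Helper9.Leech.Norm64
import Cfsg.Agent.S0358
import Cfsg.Agent.S0359

/-!
The lattice is generated by its vectors of sum of squares 32.
-/

set_option autoImplicit false

namespace Cfsg.Agent.Helper9.Leech

open Cfsg
open Cfsg.Agent.Helper9.Golay

/-- the subgroup generated by the minimal vectors. -/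
def minGen : AddSubgroup (GolayPt → ℤ) :=
  AddSubgroup.closure {x : GolayPt → ℤ | x ∈ leechLattice ∧ sqNorm x = 32}

theorem minGen_le : minGen ≤ leechLattice := by
  unfold minGen
  rw [AddSubgroup.closure_le]
  intro x hx
  exact hx.1

theorem mem_minGen_of {x : GolayPt → ℤ} (hx : x ∈ leechLattice) (hn : sqNorm x = 32) :
    x ∈ minGen :=
  AddSubgroup.subset_closure ⟨hx, hn⟩

theorem redHom_of_even {y : GolayPt → ℤ} (h : ∀ i, y i % 2 = 0) : redHom y = 0 := by
  funext i
  rw [redHom_apply]
  exact cast_of_even (h i)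

theorem pw_single {e : ℕ} (he0 : e ≠ 0) (i : GolayPt) (a : ℤ) : pw e (Pi.single i a) = a ^ e := by
  unfold pw
  rw [Finset.sum_eq_single i]
  · rw [Pi.single_eq_same]
  · intro j _ hj
    rw [Pi.single_eq_of_ne hj, zero_pow he0]
  · intro h
    exact absurd (Finset.mem_univ i) h

/-- the vectors with two entries `±4`. -/
theorem two_four_mem {i j : GolayPt} (hij : i ≠ j) {a b : ℤ} (ha : a = 2 ∨ a = -2)
    (hb : b = 2 ∨ b = -2) :
    dblHom ((Pi.single i a : GolayPt → ℤ) + Pi.single j b) ∈ minGen := by
  apply mem_minGen_of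
  · apply dbl_mem
    · have h0 : redHom ((Pi.single i a : GolayPt → ℤ) + Pi.single j b) = 0 := by
        apply redHom_of_even
        intro k
        rw [Pi.add_apply]
        by_cases hki : k = i
        · rw [hki, Pi.single_eq_same, Pi.single_eq_of_ne hij]
          rcases ha with rfl | rfl <;> norm_num
        · rw [Pi.single_eq_of_ne hki]
          by_cases hkj : k = j
          · rw [hkj, Pi.single_eq_same]
            rcases hb with rfl | rfl <;> norm_num
          · rw [Pi.single_eq_of_ne hkj]
            norm_num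
      rw [h0]
      exact golayCode.zero_mem
    · simp only [Pi.add_apply]
      rw [Finset.sum_add_distrib, Finset.sum_pi_single', Finset.sum_pi_single',
        if_pos (Finset.mem_univ i), if_pos (Finset.mem_univ j)]
      rcases ha with rfl | rfl <;> rcases hb with rfl | rfl <;> norm_num
  · rw [sqNorm_eq_pw, pw_dblHom, pw_add_of_disj (by decide), pw_single (by decide),
      pw_single (by decide)]
    · rcases ha with rfl | rfl <;> rcases hb with rfl | rfl <;> norm_num
    · intro k
      by_cases hki : k = i
      · right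
        rw [hki, Pi.single_eq_of_ne hij]
      · left
        rw [Pi.single_eq_of_ne hki]

/-- the multiples of 4 of the vectors with even sum. -/
theorem four_mul_mem (w : GolayPt → ℤ) (hw : (∑ i, w i) % 2 = 0) :
    dblHom (dblHom w) ∈ minGen := by
  classical
  let K : AddSubgroup (GolayPt → ℤ) := minGen.comap (dblHom.comp dblHom)
  show w ∈ K
  have hK : ∀ v : GolayPt → ℤ, v ∈ K ↔ dblHom (dblHom v) ∈ minGen := fun v => Iff.rfl
  have h1 : ∀ i j : GolayPt, i ≠ j → ∀ b : ℤ, b = 1 ∨ b = -1 →
      (Pi.single i 1 : GolayPt → ℤ) + Pi.single j b ∈ K := by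
    intro i j hij b hb
    rw [hK]
    have e : dblHom ((Pi.single i 1 : GolayPt → ℤ) + Pi.single j b) =
        (Pi.single i 2 : GolayPt → ℤ) + Pi.single j (2 * b) := by
      funext k
      rw [dblHom_apply, Pi.add_apply, Pi.add_apply]
      by_cases hki : k = i
      · rw [hki, Pi.single_eq_same, Pi.single_eq_same, Pi.single_eq_of_ne hij,
          Pi.single_eq_of_ne hij]
        ring
      · rw [Pi.single_eq_of_ne hki, Pi.single_eq_of_ne hki]
        by_cases hkj : k = j
        · rw [hkj, Pi.single_eq_same, Pi.single_eq_same]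
          ring
        · rw [Pi.single_eq_of_ne hkj, Pi.single_eq_of_ne hkj]
          ring
    rw [e]
    apply two_four_mem hij (Or.inl rfl)
    rcases hb with rfl | rfl
    · left; norm_num
    · right; norm_num
  have hex : ∃ j : GolayPt, j ≠ none := ⟨some 0, by simp⟩
  have h2 : ∀ i : GolayPt, i ≠ none →
      (Pi.single i (1 : ℤ) : GolayPt → ℤ) - Pi.single none 1 ∈ K := by
    intro i hi
    have := h1 i none hi (-1) (Or.inr rfl)
    rw [Pi.single_neg, ← sub_eq_add_neg] at this
    exact this
  have h3 : (Pi.single (none : GolayPt) (2 : ℤ) : GolayPt → ℤ) ∈ K := by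
    obtain ⟨j, hj⟩ := hex
    have ha := h1 none j (Ne.symm hj) 1 (Or.inl rfl)
    have hb := h1 none j (Ne.symm hj) (-1) (Or.inr rfl)
    have hab := K.add_mem ha hb
    have e : (Pi.single (none : GolayPt) (1 : ℤ) : GolayPt → ℤ) + Pi.single j 1 +
        (Pi.single none 1 + Pi.single j (-1)) = Pi.single none 2 := by
      rw [Pi.single_neg]
      have : (Pi.single (none : GolayPt) (2 : ℤ) : GolayPt → ℤ) =
          Pi.single none 1 + Pi.single none 1 := by
        rw [← Pi.single_add]
        norm_num
      rw [this]
      abel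
    rw [e] at hab
    exact hab
  have hdec : w = (∑ i, w i • ((Pi.single i (1 : ℤ) : GolayPt → ℤ) - Pi.single none 1)) +
      (∑ i, w i) • (Pi.single (none : GolayPt) (1 : ℤ) : GolayPt → ℤ) := by
    have e1 : ∀ i : GolayPt, w i • ((Pi.single i (1 : ℤ) : GolayPt → ℤ) - Pi.single none 1) =
        (Pi.single i (w i) : GolayPt → ℤ) - w i • (Pi.single none 1 : GolayPt → ℤ) := by
      intro i
      rw [smul_sub]
      congr 1
      rw [← Pi.single_smul, smul_eq_mul, mul_one]
    rw [Finset.sum_congr rfl (fun i _ => e1 i), Finset.sum_sub_distrib, Finset.univ_sum_single,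
      ← Finset.sum_smul]
    abel
  rw [hdec]
  apply K.add_mem
  · apply K.sum_mem
    intro i _
    apply K.zsmul_mem
    by_cases hi : i = none
    · rw [hi, sub_self]
      exact K.zero_mem
    · exact h2 i hi
  · obtain ⟨t, ht⟩ : ∃ t : ℤ, ∑ i, w i = 2 * t := ⟨(∑ i, w i) / 2, by omega⟩
    rw [ht, mul_comm, mul_smul]
    apply K.zsmul_mem
    have e : (2 : ℤ) • (Pi.single (none : GolayPt) (1 : ℤ) : GolayPt → ℤ) = Pi.single none 2 := by
      rw [← Pi.single_smul, smul_eq_mul, mul_one]
    rw [e]
    exact h3

/-- the lift of a word with entries 0 and 1. -/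
def lift01 (c : GolayPt → ZMod 2) : GolayPt → ℤ := fun i => if c i ≠ 0 then 1 else 0

theorem redHom_lift01 (c : GolayPt → ZMod 2) : redHom (lift01 c) = c := by
  funext i
  rw [redHom_apply]
  unfold lift01
  rcases zmod2_cases (c i) with h | h
  · rw [h]
    simp
  · rw [h]
    simp

theorem sum_lift01 (c : GolayPt → ZMod 2) : ∑ i, lift01 c i = (hammingNorm c : ℤ) := by
  unfold lift01 hammingNorm
  rw [Finset.sum_boole]

theorem even_gen_zero (y : GolayPt → ℤ) (hred : redHom y = 0) (hsum : (∑ i, y i) % 4 = 0) :
    dblHom y ∈ minGen := by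
  have hev : ∀ i, y i % 2 = 0 := by
    intro i
    have h := congrFun hred i
    rw [redHom_apply, Pi.zero_apply, ZMod.intCast_zmod_eq_zero_iff_dvd] at h
    exact Int.emod_eq_zero_of_dvd h
  have hy : y = dblHom (fun i => y i / 2) := by
    funext i
    rw [dblHom_apply]
    have := hev i
    omega
  have hs : (∑ i, y i / 2) % 2 = 0 := by
    have h2 : ∑ i, y i = 2 * ∑ i, y i / 2 := by
      rw [Finset.mul_sum]
      apply Finset.sum_congr rfl
      intro i _
      have := hev i
      omega
    rw [h2] at hsum
    omega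
  rw [hy]
  exact four_mul_mem _ hs

theorem octad_vec_mem {o : Finset GolayPt} (ho : o ∈ octads) : dblHom (pat 1 o ∅) ∈ minGen := by
  apply mem_minGen_of
  · apply dbl_mem
    · rw [redHom_pat_one (Finset.empty_subset o)]
      exact indW_mem ho.1
    · rw [sum_pat (Finset.empty_subset o), ho.2]
      norm_num
  · rw [sqNorm_eq_pw, pw_dblHom, pw_pat (Finset.empty_subset o) (by decide) (by decide), ho.2]
    norm_num

theorem even_gen (c : GolayPt → ZMod 2) (hc : c ∈ golayCode) :
    ∀ y : GolayPt → ℤ, redHom y = c → (∑ i, y i) % 4 = 0 → dblHom y ∈ minGen := by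
  have hspan : c ∈ Submodule.span (ZMod 2)
      {w : GolayPt → ZMod 2 | w ∈ golayCode ∧ hammingNorm w = 8} := by
    rw [Cfsg.Agent.Helper9.span_octads card_golayPt golayCode Cfsg.Agent.S0358.result
      Cfsg.Agent.Helper9.FixCoset.hmin]
    exact hc
  clear hc
  induction hspan using Submodule.span_induction with
  | mem x hx =>
    intro y hy hsum
    have ho : support₂ x ∈ octads := ⟨⟨x, hx.1, rfl⟩, hx.2⟩
    have hind : indW (support₂ x) = x := eq_of_support₂_eq (support₂_indW _)
    have h1 : dblHom (y - pat 1 (support₂ x) ∅) ∈ minGen := by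
      apply even_gen_zero
      · rw [map_sub, hy, redHom_pat_one (Finset.empty_subset _), hind, sub_self]
      · simp only [Pi.sub_apply]
        rw [Finset.sum_sub_distrib, sum_pat (Finset.empty_subset _), ho.2, Finset.card_empty]
        push_cast
        omega
    have h2 := minGen.add_mem h1 (octad_vec_mem ho)
    rw [← map_add, sub_add_cancel] at h2
    exact h2
  | zero =>
    intro y hy hsum
    exact even_gen_zero y hy hsum
  | add x z hx hz ihx ihz =>
    intro y hy hsum
    have hxc : x ∈ golayCode := by
      have hle : Submodule.span (ZMod 2)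
          {w : GolayPt → ZMod 2 | w ∈ golayCode ∧ hammingNorm w = 8} ≤ golayCode := by
        rw [Submodule.span_le]
        intro w hw
        exact hw.1
      exact hle hx
    have h4 : (∑ i, lift01 x i) % 4 = 0 := by
      rw [sum_lift01]
      rcases Cfsg.Agent.S0359.result x hxc with h | h | h | h | h <;> rw [h] <;> norm_num
    have h1 := ihx (lift01 x) (redHom_lift01 x) h4
    have h2 : dblHom (y - lift01 x) ∈ minGen := by
      apply ihz
      · rw [map_sub, hy, redHom_lift01, add_sub_cancel_left]
      · simp only [Pi.sub_apply]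
        rw [Finset.sum_sub_distrib]
        omega
    have h3 := minGen.add_mem h2 h1
    rw [← map_add, sub_add_cancel] at h3
    exact h3
  | smul a x hx ihx =>
    intro y hy hsum
    rcases zmod2_cases a with h | h
    · rw [h, zero_smul] at hy
      exact even_gen_zero y hy hsum
    · rw [h, one_smul] at hy
      exact ihx y hy hsum

theorem even_mem_minGen {x : GolayPt → ℤ} (hx : x ∈ leechLattice) (hpar : x none % 2 = 0) :
    x ∈ minGen := by
  have h1 : (⟨x, hx⟩ : ↥leechLattice) ∈ parHom.ker := by
    rw [AddMonoidHom.mem_ker, parHom_apply]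
    exact cast_of_even hpar
  rw [← evenSub_of, AddSubgroup.mem_addSubgroupOf] at h1
  obtain ⟨y, hy, hyx⟩ := h1
  rw [SetLike.mem_coe, mem_subB0] at hy
  have hyx' : dblHom y = x := hyx
  rw [← hyx']
  exact even_gen _ hy.1 y rfl hy.2

theorem sqNorm_vec31 : sqNorm vec31 = 32 := by
  have h : vec31 = baseP {none} (-3) := by
    funext i
    unfold vec31 baseP
    simp only [Finset.mem_singleton]
  rw [h, sqNorm_baseP, Finset.card_singleton]
  norm_num

theorem minGen_eq : minGen = leechLattice := by
  apply le_antisymm minGen_le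
  intro x hx
  by_cases hpar : x none % 2 = 0
  · exact even_mem_minGen hx hpar
  · have hv : vec31 ∈ leechLattice := (mem_leechLattice_iff _).mpr vec31_mem
    have hd : x - vec31 ∈ minGen := by
      apply even_mem_minGen (leechLattice.sub_mem hx hv)
      rw [Pi.sub_apply]
      have : vec31 none = -3 := by
        unfold vec31
        rw [if_pos rfl]
      rw [this]
      omega
    have h2 := minGen.add_mem hd (mem_minGen_of hv sqNorm_vec31)
    rw [sub_add_cancel] at h2
    exact h2

end Cfsg.Agent.Helper9.Leech
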