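import Mathlib
import Cfsg.Prelude.Def_Sporadic_a
import Cfsg.Prelude.Def_Spor_Conway
import Cfsg.Agent.Helper9.Leech.Norm

set_option autoImplicit false

namespace Cfsg.Agent.Helper9.Leech

open Cfsg Cfsg.Agent.Helper9.Golay
open scoped Pointwise

theorem sq_mod16_even (a : ℤ) (h : a ≡ 0 [ZMOD 2]) :
    a ^ 2 ≡ 4 * (if a ≡ 2 [ZMOD 4] then 1 else 0) [ZMOD 16] := by
  obtain ⟨t, rfl⟩ : ∃ t, a = 2 * t := by
    refine ⟨a / 2, ?_⟩
    unfold Int.ModEq at h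
    omega
  rcases Int.emod_two_eq_zero_or_one t with ht | ht
  · obtain ⟨s, rfl⟩ : ∃ s, t = 2 * s := ⟨t / 2, by omega⟩
    rw [if_neg (by unfold Int.ModEq; omega)]
    have : (2 * (2 * s)) ^ 2 = 16 * s ^ 2 := by ring
    rw [this]
    exact (Int.modEq_zero_iff_dvd.mpr (Dvd.intro _ rfl)).trans (by rfl)
  · obtain ⟨s, rfl⟩ : ∃ s, t = 2 * s + 1 := ⟨t / 2, by omega⟩
    rw [if_pos (by unfold Int.ModEq; omega)]
    have : (2 * (2 * s + 1)) ^ 2 = 16 * (s ^ 2 + s) + 4 := by ring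
    rw [this]
    unfold Int.ModEq
    omega

theorem sq_mod16_odd (a : ℤ) (h : a ≡ 1 [ZMOD 2]) :
    a ^ 2 ≡ 2 * a - 1 + 4 * (if a ≡ 3 [ZMOD 4] then 1 else 0) [ZMOD 16] := by
  rcases Int.emod_emod_of_dvd a (by norm_num : (4 : ℤ) ∣ 4) with _
  have h4 : a % 4 = 1 ∨ a % 4 = 3 := by unfold Int.ModEq at h; omega
  rcases h4 with h4 | h4
  · obtain ⟨s, rfl⟩ : ∃ s, a = 4 * s + 1 := ⟨a / 4, by omega⟩
    rw [if_neg (by unfold Int.ModEq; omega)]
    have : (4 * s + 1) ^ 2 = 16 * s ^ 2 + (2 * (4 * s + 1) - 1 + 4 * 0) := by ring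
    rw [this]
    unfold Int.ModEq
    omega
  · obtain ⟨s, rfl⟩ : ∃ s, a = 4 * s + 3 := ⟨a / 4, by omega⟩
    rw [if_pos (by unfold Int.ModEq; omega)]
    have : (4 * s + 3) ^ 2 = 16 * (s ^ 2 + s) + (2 * (4 * s + 3) - 1 + 4 * 1) := by ring
    rw [this]
    unfold Int.ModEq
    omega

theorem sixteen_dvd_sqNorm {x : GolayPt → ℤ} (hx : x ∈ leechSet) : (16 : ℤ) ∣ sqNorm x := by
  have hx' := hx
  obtain ⟨m, hm1, hm2, hm3⟩ := hx'
  unfold sqNorm
  rcases Int.emod_two_eq_zero_or_one m with h | h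
  · have hm' : m ≡ 0 [ZMOD 2] := by unfold Int.ModEq; omega
    have h1 : ∑ i, x i ^ 2 ≡ ∑ i, 4 * (if x i ≡ 2 [ZMOD 4] then (1 : ℤ) else 0) [ZMOD 16] := by
      apply Int.ModEq.sum
      intro i _
      exact sq_mod16_even (x i) ((hm1 i).trans hm')
    rw [← Finset.mul_sum, Finset.sum_boole] at h1
    obtain ⟨a, ha⟩ := four_dvd_card (hm3 2)
    rw [ha] at h1
    push_cast at h1
    apply Int.modEq_zero_iff_dvd.mp
    refine h1.trans ?_
    apply Int.modEq_zero_iff_dvd.mpr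
    exact ⟨a, by ring⟩
  · have hm' : m ≡ 1 [ZMOD 2] := by unfold Int.ModEq; omega
    have h1 : ∑ i, x i ^ 2 ≡
        ∑ i, (2 * x i - 1 + 4 * (if x i ≡ 3 [ZMOD 4] then (1 : ℤ) else 0)) [ZMOD 16] := by
      apply Int.ModEq.sum
      intro i _
      exact sq_mod16_odd (x i) ((hm1 i).trans hm')
    rw [Finset.sum_add_distrib, Finset.sum_sub_distrib, ← Finset.mul_sum, ← Finset.mul_sum,
      Finset.sum_boole, Finset.sum_const, Finset.card_univ] at h1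
    obtain ⟨a, ha⟩ := four_dvd_card (hm3 3)
    rw [ha] at h1
    have hc : Fintype.card GolayPt = 24 := by decide
    rw [hc] at h1
    push_cast at h1
    simp only [nsmul_eq_mul, Nat.cast_ofNat, mul_one] at h1
    apply Int.modEq_zero_iff_dvd.mp
    refine h1.trans ?_
    unfold Int.ModEq at *
    omega

end Cfsg.Agent.Helper9.Leech
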