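import Mathlib
import Cfsg.Prelude.Def_Sporadic_a
import Cfsg.Prelude.Def_Spor_Conway
import Cfsg.Agent.Helper9.Leech.Even

set_option autoImplicit false

namespace Cfsg.Agent.Helper9.Leech

open Cfsg Cfsg.Agent.Helper9.Golay
open scoped Pointwise

theorem sq_ge_of_abs_ge {a : ℤ} {n : ℤ} (hn : 0 ≤ n) (h : n ≤ a ∨ a ≤ -n) : n ^ 2 ≤ a ^ 2 := by
  rcases h with h | h <;> nlinarith

theorem sixteen_lt_sqNorm {x : GolayPt → ℤ} (hx : x ∈ leechSet) (h0 : x ≠ 0) :
    16 < sqNorm x := by
  have hx' := hx
  obtain ⟨m, hm1, hm2, hm3⟩ := hx'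
  unfold sqNorm
  have hnn : ∀ i ∈ (Finset.univ : Finset GolayPt), 0 ≤ x i ^ 2 := fun i _ => sq_nonneg _
  rcases Int.emod_two_eq_zero_or_one m with h | h
  · -- even type
    rcases card_of_mem_supports (hm3 2) with hc | hc
    · -- all coordinates divisible by 4
      rw [Finset.card_eq_zero] at hc
      have h4 : ∀ i, x i % 4 = 0 := by
        intro i
        have h1 := hm1 i
        have h2 : ¬ x i ≡ 2 [ZMOD 4] := by
          intro h2
          have : i ∈ (Finset.univ.filter fun i => x i ≡ 2 [ZMOD 4]) := by
            simp only [Finset.mem_filter, Finset.mem_univ, true_and]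
            exact h2
          rw [hc] at this
          exact Finset.notMem_empty _ this
        unfold Int.ModEq at *
        omega
      obtain ⟨j, hj⟩ := Function.ne_iff.mp h0
      rw [Pi.zero_apply] at hj
      have hj16 : (4 : ℤ) ^ 2 ≤ x j ^ 2 := by
        apply sq_ge_of_abs_ge (by norm_num)
        have := h4 j
        omega
      by_cases hex : ∃ j', j' ≠ j ∧ x j' ≠ 0
      · obtain ⟨j', hjj, hj'⟩ := hex
        have hj16' : (4 : ℤ) ^ 2 ≤ x j' ^ 2 := by
          apply sq_ge_of_abs_ge (by norm_num)
          have := h4 j'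
          omega
        have hsub : ({j, j'} : Finset GolayPt) ⊆ Finset.univ := Finset.subset_univ _
        have hle := Finset.sum_le_sum_of_subset_of_nonneg hsub (f := fun i => x i ^ 2)
          (fun i hi _ => hnn i hi)
        rw [Finset.sum_pair hjj.symm] at hle
        omega
      · push Not at hex
        have hs : ∑ i, x i = x j := by
          apply Finset.sum_eq_single j
          · intro b _ hb
            exact hex b hb
          · intro hj'
            exact absurd (Finset.mem_univ j) hj'
        rw [hs] at hm2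
        have h8 : x j % 8 = 0 := by
          unfold Int.ModEq at hm2
          omega
        have hj64 : (8 : ℤ) ^ 2 ≤ x j ^ 2 := by
          apply sq_ge_of_abs_ge (by norm_num)
          omega
        have hle := Finset.single_le_sum hnn (Finset.mem_univ j)
        omega
    · -- at least 8 coordinates congruent to 2 modulo 4
      have hc8 : 8 ≤ (Finset.univ.filter fun i => x i ≡ 2 [ZMOD 4]).card := by omega
      have hsub : (Finset.univ.filter fun i => x i ≡ 2 [ZMOD 4]) ⊆ Finset.univ :=
        Finset.subset_univ _
      have hle := Finset.sum_le_sum_of_subset_of_nonneg hsub (f := fun i => x i ^ 2)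
        (fun i hi _ => hnn i hi)
      have hle2 : ∑ i ∈ (Finset.univ.filter fun i => x i ≡ 2 [ZMOD 4]), (4 : ℤ)
          ≤ ∑ i ∈ (Finset.univ.filter fun i => x i ≡ 2 [ZMOD 4]), x i ^ 2 := by
        apply Finset.sum_le_sum
        intro i hi
        simp only [Finset.mem_filter, Finset.mem_univ, true_and] at hi
        have : (2 : ℤ) ^ 2 ≤ x i ^ 2 := by
          apply sq_ge_of_abs_ge (by norm_num)
          unfold Int.ModEq at hi
          omega
        omega
      rw [Finset.sum_const, nsmul_eq_mul] at hle2
      have : (8 : ℤ) ≤ ((Finset.univ.filter fun i => x i ≡ 2 [ZMOD 4]).card : ℤ) := by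
        exact_mod_cast hc8
      omega
  · -- odd type
    have hle : ∑ i : GolayPt, (1 : ℤ) ≤ ∑ i, x i ^ 2 := by
      apply Finset.sum_le_sum
      intro i _
      have : (1 : ℤ) ^ 2 ≤ x i ^ 2 := by
        apply sq_ge_of_abs_ge (by norm_num)
        have := hm1 i
        unfold Int.ModEq at this
        omega
      omega
    have hc : Fintype.card GolayPt = 24 := by decide
    rw [Finset.sum_const, Finset.card_univ, hc] at hle
    simp only [nsmul_eq_mul, mul_one, Nat.cast_ofNat] at hle
    omega

theorem thirtytwo_le_sqNorm {x : GolayPt → ℤ} (hx : x ∈ leechSet) (h0 : x ≠ 0) :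
    32 ≤ sqNorm x := by
  have h1 := sixteen_dvd_sqNorm hx
  have h2 := sixteen_lt_sqNorm hx h0
  omega

end Cfsg.Agent.Helper9.Leech
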