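import Mathlib
import Cfsg.Prelude.Def_Sporadic_a
import Cfsg.Agent.Helper9.Leech.MinNorm

set_option autoImplicit false

/-!
Short vectors of the rank-24 lattice that are congruent modulo twice the lattice.
-/

namespace Cfsg.Agent.Helper9.Leech

open Cfsg

theorem sqNorm_sub_add (x y : GolayPt → ℤ) :
    sqNorm (x - y) + sqNorm (x + y) = 2 * sqNorm x + 2 * sqNorm y := by
  unfold sqNorm
  rw [← Finset.sum_add_distrib, Finset.mul_sum, Finset.mul_sum, ← Finset.sum_add_distrib]
  apply Finset.sum_congr rfl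
  intro i _
  simp only [Pi.sub_apply, Pi.add_apply]
  ring

theorem sqNorm_add_sub_dot (x y : GolayPt → ℤ) :
    sqNorm (x + y) = sqNorm (x - y) + 4 * dotInt x y := by
  unfold sqNorm dotInt
  rw [Finset.mul_sum, ← Finset.sum_add_distrib]
  apply Finset.sum_congr rfl
  intro i _
  simp only [Pi.sub_apply, Pi.add_apply]
  ring

theorem sqNorm_two_smul (z : GolayPt → ℤ) : sqNorm (2 • z) = 4 * sqNorm z := by
  unfold sqNorm
  rw [Finset.mul_sum]
  apply Finset.sum_congr rfl
  intro i _
  simp only [Pi.smul_apply, smul_eq_mul]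
  ring

theorem min_norm {z : GolayPt → ℤ} (hz : z ∈ leechLattice) (h0 : z ≠ 0) : 32 ≤ sqNorm z :=
  thirtytwo_le_sqNorm ((mem_leechLattice_iff z).mp hz) h0

theorem congruent_short (x y : GolayPt → ℤ) (hx : x ∈ leechLattice) (hy : y ∈ leechLattice)
    (hxy : x ≠ y) (hxn : sqNorm x ≤ 64) (hyn : sqNorm y ≤ 64)
    (hc : ∃ z ∈ leechLattice, x - y = 2 • z) :
    x = -y ∨ (sqNorm x = 64 ∧ sqNorm y = 64 ∧ dotInt x y = 0) := by
  obtain ⟨z, hz, hxyz⟩ := hc
  have hz0 : z ≠ 0 := by
    rintro rfl
    rw [smul_zero, sub_eq_zero] at hxyz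
    exact hxy hxyz
  have h1 : 128 ≤ sqNorm (x - y) := by
    rw [hxyz, sqNorm_two_smul]
    have := min_norm hz hz0
    linarith
  by_cases hneg : x = -y
  · exact Or.inl hneg
  · right
    have hsum : x + y = 2 • (z + y) := by
      have : x + y = (x - y) + 2 • y := by
        rw [two_smul]
        abel
      rw [this, hxyz, smul_add]
    have hzy : z + y ∈ leechLattice := leechLattice.add_mem hz hy
    have hzy0 : z + y ≠ 0 := by
      intro h
      rw [h, smul_zero] at hsum
      exact hneg (eq_neg_of_add_eq_zero_left hsum)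
    have h2 : 128 ≤ sqNorm (x + y) := by
      rw [hsum, sqNorm_two_smul]
      have := min_norm hzy hzy0
      linarith
    have h3 := sqNorm_sub_add x y
    have h4 := sqNorm_add_sub_dot x y
    refine ⟨by linarith, by linarith, by linarith⟩

theorem congruent_short' (v w : GolayPt → ℤ) (hv : v ∈ leechLattice) (hw : w ∈ leechLattice)
    (hvn : sqNorm v ≤ 64) (hwn : sqNorm w ≤ 64) (hc : ∃ z ∈ leechLattice, v - w = 2 • z) :
    sqNorm v = sqNorm w ∧ (sqNorm v < 64 → w = v ∨ w = -v) := by
  by_cases hvw : v = w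
  · rw [hvw]
    exact ⟨rfl, fun _ => Or.inl rfl⟩
  · rcases congruent_short v w hv hw hvw hvn hwn hc with h | ⟨h1, h2, -⟩
    · rw [h]
      constructor
      · unfold sqNorm
        apply Finset.sum_congr rfl
        intro i _
        simp
      · intro _
        right
        simp
    · exact ⟨by rw [h1, h2], fun hlt => absurd hlt (by rw [h1]; norm_num)⟩

end Cfsg.Agent.Helper9.Leech
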