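import Mathlib
import Cfsg.Prelude.Def_Sporadic_a
import Cfsg.Prelude.Def_SporadicCombinatorics
import Cfsg.Agent.Helper9.Lat.Classes
import Cfsg.Agent.Helper9.Leech.Cong
import Cfsg.Agent.Helper9.Leech.Norm48

/-!
The classes of the lattice modulo twice the lattice and the short vectors.
-/

set_option autoImplicit false

namespace Cfsg.Agent.Helper9.Leech

open Cfsg
open Cfsg.Agent.Helper9.Golay

theorem dblHom_eq_smul (z : GolayPt → ℤ) : dblHom z = 2 • z := by
  funext i
  rw [dblHom_apply, Pi.smul_apply, nsmul_eq_mul]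
  norm_num

/-- twice the lattice. -/
def twoLam : AddSubgroup (GolayPt → ℤ) := leechLattice.map dblHom

theorem mem_twoLam (y : GolayPt → ℤ) : y ∈ twoLam ↔ ∃ z ∈ leechLattice, y = 2 • z := by
  unfold twoLam
  rw [AddSubgroup.mem_map]
  constructor
  · rintro ⟨z, hz, rfl⟩
    exact ⟨z, hz, dblHom_eq_smul z⟩
  · rintro ⟨z, hz, rfl⟩
    exact ⟨z, hz, dblHom_eq_smul z⟩

theorem twoLam_le : twoLam ≤ leechLattice := by
  intro y hy
  obtain ⟨z, hz, rfl⟩ := (mem_twoLam y).mp hy
  rw [two_smul]
  exact leechLattice.add_mem hz hz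

theorem relIndex_twoLam : twoLam.relIndex leechLattice = 2 ^ 24 := by
  have h1 := AddSubgroup.relIndex_mul_index twoLam_le
  have h2 : twoLam.index = 2 ^ 36 * 2 ^ 24 := by
    unfold twoLam
    rw [AddSubgroup.index_map, (AddMonoidHom.ker_eq_bot_iff dblHom).mpr dblHom_injective,
      sup_bot_eq, index_leech, index_range_dblHom]
  rw [h2, index_leech, mul_comm] at h1
  exact Nat.eq_of_mul_eq_mul_left (by norm_num) h1

/-- the classes of the lattice modulo twice the lattice. -/
abbrev ClsQ : Type := ↥leechLattice ⧸ (twoLam.addSubgroupOf leechLattice)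

theorem card_clsQ : Nat.card ClsQ = 2 ^ 24 := relIndex_twoLam

instance : Finite ClsQ := Nat.finite_of_card_ne_zero (by rw [card_clsQ]; norm_num)

noncomputable instance : Fintype ClsQ := Fintype.ofFinite _

theorem fintype_card_clsQ : Fintype.card ClsQ = 2 ^ 24 := by
  rw [← Nat.card_eq_fintype_card, card_clsQ]

open Classical in
/-- the class of a vector. -/
noncomputable def cls (x : GolayPt → ℤ) : ClsQ :=
  if h : x ∈ leechLattice then (QuotientAddGroup.mk ⟨x, h⟩ : ClsQ) else 0

theorem cls_eq_iff {x y : GolayPt → ℤ} (hx : x ∈ leechLattice) (hy : y ∈ leechLattice) :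
    cls x = cls y ↔ ∃ z ∈ leechLattice, x - y = 2 • z := by
  unfold cls
  rw [dif_pos hx, dif_pos hy, QuotientAddGroup.eq, AddSubgroup.mem_addSubgroupOf]
  have hco : ((-(⟨x, hx⟩ : ↥leechLattice) + ⟨y, hy⟩ : ↥leechLattice) : GolayPt → ℤ) = -x + y := rfl
  rw [hco, mem_twoLam]
  constructor
  · rintro ⟨z, hz, h⟩
    refine ⟨-z, leechLattice.neg_mem hz, ?_⟩
    rw [smul_neg, ← h]
    abel
  · rintro ⟨z, hz, h⟩
    refine ⟨-z, leechLattice.neg_mem hz, ?_⟩
    rw [smul_neg, ← h]
    abel

/-- the lattice vectors of a given sum of squares. -/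
def normSet (k : ℤ) : Set (GolayPt → ℤ) := {x | x ∈ leechLattice ∧ sqNorm x = k}

theorem normSet_finite (k : ℤ) : (normSet k).Finite := by
  apply Set.Finite.subset (Set.finite_Icc (fun _ : GolayPt => -k) (fun _ : GolayPt => k))
  rintro x ⟨-, hx⟩
  have hb : ∀ i, x i ^ 2 ≤ k := by
    intro i
    rw [← hx]
    exact Finset.single_le_sum (f := fun i => x i ^ 2) (fun j _ => sq_nonneg (x j))
      (Finset.mem_univ i)
  rw [Set.mem_Icc]
  constructor
  · intro i
    have := hb i
    show -k ≤ x i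
    nlinarith [sq_nonneg (x i + 1)]
  · intro i
    have := hb i
    show x i ≤ k
    nlinarith [sq_nonneg (x i - 1)]

theorem sqNorm_neg (x : GolayPt → ℤ) : sqNorm (-x) = sqNorm x := by
  unfold sqNorm
  apply Finset.sum_congr rfl
  intro i _
  simp

/-- fibres of the vectors of sum of squares less than 64. -/
theorem small_fib [DecidableEq ClsQ] {k : ℤ} (hk : k < 64) (T : Finset (GolayPt → ℤ))
    (hT : ∀ y ∈ T, y ∈ leechLattice ∧ sqNorm y = k) (c : ClsQ) :
    (T.filter (fun y => cls y = c)).card ≤ 2 := by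
  classical
  rcases Finset.eq_empty_or_nonempty (T.filter (fun y => cls y = c)) with h | ⟨y0, hy0⟩
  · rw [h]
    simp
  · rw [Finset.mem_filter] at hy0
    have hsub : T.filter (fun y => cls y = c) ⊆ {y0, -y0} := by
      intro y hy
      rw [Finset.mem_filter] at hy
      rw [Finset.mem_insert, Finset.mem_singleton]
      have hc := (cls_eq_iff (hT y0 hy0.1).1 (hT y hy.1).1).mp (hy0.2.trans hy.2.symm)
      have h1 := (congruent_short' y0 y (hT y0 hy0.1).1 (hT y hy.1).1
        (by rw [(hT y0 hy0.1).2]; omega) (by rw [(hT y hy.1).2]; omega) hc).2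
        (by rw [(hT y0 hy0.1).2]; exact hk)
      exact h1
    exact (Finset.card_le_card hsub).trans Finset.card_le_two

/-- fibres of the vectors of sum of squares 64. -/
theorem big_fib [DecidableEq ClsQ] (T : Finset (GolayPt → ℤ))
    (hT : ∀ y ∈ T, y ∈ leechLattice ∧ sqNorm y = 64) (c : ClsQ) :
    (T.filter (fun y => cls y = c)).card ≤ 48 := by
  classical
  letI : LinearOrder GolayPt := LinearOrder.lift' ptIdx ptIdx_injective
  have h := Classes.card_le_two_mul (T.filter (fun y => cls y = c)) ?_ ?_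
  · rw [card_golayPt] at h
    exact h
  · intro y hy h0
    have h1 := (hT y (Finset.mem_filter.mp hy).1).2
    rw [h0] at h1
    unfold sqNorm at h1
    simp at h1
  · intro y hy y' hy' hne hne'
    rw [Finset.mem_filter] at hy hy'
    have hc := (cls_eq_iff (hT y hy.1).1 (hT y' hy'.1).1).mp (hy.2.trans hy'.2.symm)
    rcases congruent_short y y' (hT y hy.1).1 (hT y' hy'.1).1 hne
      (by rw [(hT y hy.1).2]) (by rw [(hT y' hy'.1).2]) hc with h1 | ⟨-, -, h1⟩
    · exact absurd h1 hne'
    · exact h1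

theorem cls_ne_of_norm {x y : GolayPt → ℤ} (hx : x ∈ leechLattice) (hy : y ∈ leechLattice)
    (hxn : sqNorm x ≤ 64) (hyn : sqNorm y ≤ 64) (hne : sqNorm x ≠ sqNorm y) : cls x ≠ cls y := by
  intro h
  exact hne (congruent_short' x y hx hy hxn hyn ((cls_eq_iff hx hy).mp h)).1

/-- the main consequences of the count. -/
theorem classes_main : (normSet 64).ncard ≤ 398034000 ∧ ((normSet 64).ncard = 398034000 →
    (∀ x ∈ leechLattice, ∃ y ∈ leechLattice, sqNorm y ≤ 64 ∧ ∃ z ∈ leechLattice, x - y = 2 • z) ∧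
    ∀ x ∈ leechLattice, sqNorm x = 64 → (cross x).ncard = 48) := by
  classical
  have hT : ∀ k, ∀ y, y ∈ (normSet_finite k).toFinset ↔ y ∈ leechLattice ∧ sqNorm y = k := by
    intro k y
    rw [Set.Finite.mem_toFinset]
    rfl
  have hcard : ∀ k, (normSet_finite k).toFinset.card = (normSet k).ncard := by
    intro k
    rw [Set.ncard_eq_toFinset_card _ (normSet_finite k)]
  have c4 : (normSet_finite 32).toFinset.card = 196560 := by
    rw [hcard]
    exact card_minVec
  have c6 : (normSet_finite 48).toFinset.card = 16773120 := by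
    rw [hcard]
    exact card48
  have m0 : ∀ y ∈ ({0} : Finset (GolayPt → ℤ)), y ∈ leechLattice ∧ sqNorm y = 0 := by
    intro y hy
    rw [Finset.mem_singleton.mp hy]
    refine ⟨leechLattice.zero_mem, ?_⟩
    unfold sqNorm
    simp
  have hdis : ∀ (k k' : ℤ) (T T' : Finset (GolayPt → ℤ)), k ≤ 64 → k' ≤ 64 → k ≠ k' →
      (∀ y ∈ T, y ∈ leechLattice ∧ sqNorm y = k) → (∀ y ∈ T', y ∈ leechLattice ∧ sqNorm y = k') →
      ∀ x ∈ T, ∀ y ∈ T', cls x ≠ cls y := by
    intro k k' T T' hk hk' hkk h1 h2 x hx y hy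
    apply cls_ne_of_norm (h1 x hx).1 (h2 y hy).1
    · rw [(h1 x hx).2]; exact hk
    · rw [(h2 y hy).2]; exact hk'
    · rw [(h1 x hx).2, (h2 y hy).2]; exact hkk
  have m4 := fun y hy => (hT 32 y).mp hy
  have m6 := fun y hy => (hT 48 y).mp hy
  have m8 := fun y hy => (hT 64 y).mp hy
  obtain ⟨hle, himp⟩ := Classes.count_abs cls {0} (normSet_finite 32).toFinset
    (normSet_finite 48).toFinset (normSet_finite 64).toFinset fintype_card_clsQ
    (Finset.card_singleton 0) c4 c6
    (small_fib (by norm_num) _ m4) (small_fib (by norm_num) _ m6) (big_fib _ m8)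
    (hdis 0 32 _ _ (by norm_num) (by norm_num) (by norm_num) m0 m4)
    (hdis 0 48 _ _ (by norm_num) (by norm_num) (by norm_num) m0 m6)
    (hdis 0 64 _ _ (by norm_num) (by norm_num) (by norm_num) m0 m8)
    (hdis 32 48 _ _ (by norm_num) (by norm_num) (by norm_num) m4 m6)
    (hdis 32 64 _ _ (by norm_num) (by norm_num) (by norm_num) m4 m8)
    (hdis 48 64 _ _ (by norm_num) (by norm_num) (by norm_num) m6 m8)
  rw [hcard] at hle himp
  refine ⟨hle, fun h8 => ?_⟩
  obtain ⟨hcov, hfib⟩ := himp h8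
  constructor
  · intro x hx
    obtain ⟨y, hy, hyx⟩ := hcov (cls x)
    have hyL : y ∈ leechLattice ∧ sqNorm y ≤ 64 := by
      simp only [Finset.mem_union] at hy
      rcases hy with ((hy | hy) | hy) | hy
      · have := m0 y hy
        exact ⟨this.1, by rw [this.2]; norm_num⟩
      · have := m4 y hy
        exact ⟨this.1, by rw [this.2]; norm_num⟩
      · have := m6 y hy
        exact ⟨this.1, by rw [this.2]; norm_num⟩
      · have := m8 y hy
        exact ⟨this.1, by rw [this.2]⟩
    exact ⟨y, hyL.1, hyL.2, (cls_eq_iff hx hyL.1).mp hyx.symm⟩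
  · intro x hx hxn
    have hxT : x ∈ (normSet_finite 64).toFinset := (hT 64 x).mpr ⟨hx, hxn⟩
    have hset : cross x = ↑((normSet_finite 64).toFinset.filter (fun y => cls y = cls x)) := by
      ext y
      unfold cross
      rw [Set.mem_ofPred_eq, Finset.mem_coe, Finset.mem_filter, hT, hxn]
      constructor
      · rintro ⟨h1, h2, h3⟩
        exact ⟨⟨h1, h2⟩, ((cls_eq_iff hx h1).mpr h3).symm⟩
      · rintro ⟨⟨h1, h2⟩, h3⟩
        exact ⟨h1, h2, (cls_eq_iff hx h1).mp h3.symm⟩
    rw [hset, Set.ncard_coe_finset]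
    exact hfib x hxT

end Cfsg.Agent.Helper9.Leech
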