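import Mathlib
import Cfsg.Prelude.Def_Sporadic_a
import Cfsg.Prelude.Def_SporadicCombinatorics
import Cfsg.Agent.Helper9.Leech.Cross
import Cfsg.Agent.Helper9.Leech.Norm64

/-!
The number of lattice vectors of sum of squares 64 and its consequences for the classes modulo
twice the lattice.
-/

set_option autoImplicit false

namespace Cfsg.Agent.Helper9.Leech

open Cfsg
open Cfsg.Agent.Helper9.Golay

theorem fams_union (L : List (ℕ × ℤ)) (hL : ∀ p ∈ L, IsFam p.1 p.2)
    (hnd : (L.map Prod.snd).Nodup) :
    ∃ F : Finset (GolayPt → ℤ), F.card = (L.map Prod.fst).sum ∧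
      ∀ x ∈ F, x ∈ leechLattice ∧ sqNorm x = 64 ∧ pw 4 x ∈ L.map Prod.snd := by
  classical
  induction L with
  | nil => exact ⟨∅, rfl, fun x hx => absurd hx (Finset.notMem_empty x)⟩
  | cons p L ih =>
    rw [List.map_cons, List.nodup_cons] at hnd
    obtain ⟨F0, hc0, hF0⟩ := ih (fun p' hp' => hL p' (List.mem_cons_of_mem _ hp')) hnd.2
    obtain ⟨F1, hc1, hF1⟩ := hL p List.mem_cons_self
    refine ⟨F1 ∪ F0, ?_, ?_⟩
    · rw [Finset.card_union_of_disjoint, hc0, hc1, List.map_cons, List.sum_cons]
      rw [Finset.disjoint_left]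
      intro x h1 h0
      apply hnd.1
      rw [← (hF1 x h1).2.2]
      exact (hF0 x h0).2.2
    · intro x hx
      rw [List.map_cons, List.mem_cons]
      rcases Finset.mem_union.mp hx with h | h
      · exact ⟨(hF1 x h).1, (hF1 x h).2.1, Or.inl (hF1 x h).2.2⟩
      · exact ⟨(hF0 x h).1, (hF0 x h).2.1, Or.inr (hF0 x h).2.2⟩

/-- the list of the families. -/
def famList : List (ℕ × ℤ) :=
  [(170016, 1024), (48, 4096), (46632960, 640), (126615552, 448), (24870912, 256),
    (777216, 1408), (174096384, 424), (24870912, 808)]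

theorem famList_sum : (famList.map Prod.fst).sum = 398034000 := by
  unfold famList
  norm_num

theorem famList_nodup : (famList.map Prod.snd).Nodup := by
  unfold famList
  decide

theorem famList_isFam : ∀ p ∈ famList, IsFam p.1 p.2 := by
  unfold famList
  intro p hp
  simp only [List.mem_cons, List.not_mem_nil, or_false] at hp
  rcases hp with rfl | rfl | rfl | rfl | rfl | rfl | rfl | rfl
  · exact fam_E0
  · exact fam_F1
  · exact fam_E8
  · exact fam_E12
  · exact fam_E16
  · exact fam_F6
  · exact fam_O7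
  · exact fam_O8

theorem card64_ge : 398034000 ≤ (normSet 64).ncard := by
  obtain ⟨F, hc, hF⟩ := fams_union famList famList_isFam famList_nodup
  rw [famList_sum] at hc
  rw [← hc, ← Set.ncard_coe_finset F]
  apply Set.ncard_le_ncard _ (normSet_finite 64)
  intro x hx
  exact ⟨(hF x hx).1, (hF x hx).2.1⟩

theorem card64 :
    {x : GolayPt → ℤ | x ∈ leechLattice ∧ sqNorm x = 64}.ncard = 398034000 :=
  le_antisymm classes_main.1 card64_ge

theorem classes_rep (x : GolayPt → ℤ) (hx : x ∈ leechLattice) :
    ∃ y ∈ leechLattice, sqNorm y ≤ 64 ∧ ∃ z ∈ leechLattice, x - y = 2 • z :=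
  (classes_main.2 card64).1 x hx

theorem card_cross (x : GolayPt → ℤ) (hx : x ∈ leechLattice) (hxn : sqNorm x = 64) :
    (cross x).ncard = 48 :=
  (classes_main.2 card64).2 x hx hxn

end Cfsg.Agent.Helper9.Leech
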