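import Mathlib
import Cfsg.Prelude.Def_Sporadic_a
import Cfsg.Prelude.Def_SporadicCombinatorics
import Cfsg.Agent.Helper9.Leech.Count64

/-!
The shapes of the lattice vectors of sum of squares 64.
-/

set_option autoImplicit false

namespace Cfsg.Agent.Helper9.Leech

open Cfsg
open Cfsg.Agent.Helper9.Golay

/-- the shapes of the vectors of sum of squares 64. -/
inductive Shape64 : (GolayPt → ℤ) → Prop
  | one (Q t : Finset GolayPt) (hQ : Q.card = 1) (ht : t ⊆ Q) : Shape64 (dblHom (pat 4 Q t))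
  | four (Q t : Finset GolayPt) (hQ : Q.card = 4) (ht : t ⊆ Q) : Shape64 (dblHom (pat 2 Q t))
  | six (P s : Finset GolayPt) (p : GolayPt) (hP : P ∈ octads) (hs : s ⊆ P) (ho : Odd s.card)
      (hp : p ∈ P) : Shape64 (dblHom (trip P s p))
  | gen (y : GolayPt → ℤ) (P : Finset GolayPt)
      (hP : P ∈ supports (golayCode : Set (GolayPt → ZMod 2)))
      (hc : P.card = 8 ∨ P.card = 12 ∨ P.card = 16) (hy : redHom y = indW P) : Shape64 (dblHom y)
  | odd7 (c T : Finset GolayPt) (hc : c ∈ supports (golayCode : Set (GolayPt → ZMod 2)))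
      (hT : T.card = 5) : Shape64 (signCh c (baseP T (-3)))
  | odd8 (c T : Finset GolayPt) (j : GolayPt)
      (hc : c ∈ supports (golayCode : Set (GolayPt → ZMod 2)))
      (hT : T.card = 2) (hj : j ∉ T) : Shape64 (signCh c (base2 j T))

/-- families with shapes. -/
def IsFamS (N : ℕ) (q : ℤ) : Prop :=
  ∃ F : Finset (GolayPt → ℤ), F.card = N ∧
    ∀ x ∈ F, x ∈ leechLattice ∧ sqNorm x = 64 ∧ pw 4 x = q ∧ Shape64 x

theorem fams_unionS (L : List (ℕ × ℤ)) (hL : ∀ p ∈ L, IsFamS p.1 p.2)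
    (hnd : (L.map Prod.snd).Nodup) :
    ∃ F : Finset (GolayPt → ℤ), F.card = (L.map Prod.fst).sum ∧
      ∀ x ∈ F, x ∈ leechLattice ∧ sqNorm x = 64 ∧ pw 4 x ∈ L.map Prod.snd ∧ Shape64 x := by
  classical
  induction L with
  | nil => exact ⟨∅, rfl, fun x hx => absurd hx (Finset.notMem_empty x)⟩
  | cons p L ih =>
    rw [List.map_cons, List.nodup_cons] at hnd
    obtain ⟨F0, hc0, hF0⟩ := ih (fun p' hp' => hL p' (List.mem_cons_of_mem _ hp')) hnd.2
    obtain ⟨F1, hc1, hF1⟩ := hL p List.mem_cons_self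
    refine ⟨F1 ∪ F0, ?_, ?_⟩
    · rw [Finset.card_union_of_disjoint, hc0, hc1, List.map_cons, List.sum_cons]
      rw [Finset.disjoint_left]
      intro x h1 h0
      apply hnd.1
      rw [← (hF1 x h1).2.2.1]
      exact (hF0 x h0).2.2.1
    · intro x hx
      rw [List.map_cons, List.mem_cons]
      rcases Finset.mem_union.mp hx with h | h
      · exact ⟨(hF1 x h).1, (hF1 x h).2.1, Or.inl (hF1 x h).2.2.1, (hF1 x h).2.2.2⟩
      · exact ⟨(hF0 x h).1, (hF0 x h).2.1, Or.inr (hF0 x h).2.2.1, (hF0 x h).2.2.2⟩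

theorem mem_famE {PP : Finset (Finset GolayPt)} {par : ℕ → Prop} [DecidablePred par]
    {m : ℕ} {K : ℤ} {x : GolayPt → ℤ} (hx : x ∈ famE PP par m K) :
    ∃ P ∈ PP, ∃ s : Finset GolayPt, ∃ v : GolayPt → ℤ, s ⊆ P ∧ par s.card ∧ v ∈ vSet P m K ∧
      x = dblHom (pat 1 P s + v) := by
  classical
  unfold famE at hx
  obtain ⟨⟨P, s, v⟩, hq, rfl⟩ := Finset.mem_image.mp hx
  rw [Finset.mem_sigma, Finset.mem_product, Finset.mem_filter, Finset.mem_powerset] at hq
  exact ⟨P, hq.1, s, v, hq.2.1.1, hq.2.1.2, hq.2.2, rfl⟩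

theorem famE_corS (PP : Finset (Finset GolayPt)) (par : ℕ → Prop) [DecidablePred par]
    (S n m : ℕ) (k : ℤ) (hk : 0 < k)
    (hPP : ∀ P ∈ PP, P ∈ supports (golayCode : Set (GolayPt → ZMod 2)) ∧ P.card = n)
    (hS : ∀ P ∈ PP, (P.powerset.filter (fun s => par s.card)).card = S)
    (hpar : ∀ c : ℕ, par c → ((n : ℤ) - 2 * c + 2 * k * m) % 4 = 0) (N : ℕ) (q : ℤ)
    (hN : PP.card * (S * ((24 - n).choose m * 2 ^ m)) = N)
    (h2 : 2 ^ 2 * ((n : ℤ) + m * (2 * k) ^ 2) = 64) (h4 : 2 ^ 4 * ((n : ℤ) + m * (2 * k) ^ 4) = q)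
    (hsh : ∀ x ∈ famE PP par m (2 * k), Shape64 x) :
    IsFamS N q := by
  obtain ⟨h1, h3⟩ := famE_main PP par S n m k hk hPP hS hpar
  refine ⟨famE PP par m (2 * k), h1.trans hN, fun x hx => ⟨(h3 x hx).1, ?_, ?_, hsh x hx⟩⟩
  · rw [sqNorm_eq_pw, (h3 x hx).2 2 (by decide) (by decide), h2]
  · rw [(h3 x hx).2 4 (by decide) (by decide), h4]

theorem pat_empty (k : ℤ) : pat k ∅ ∅ = 0 := by
  funext i
  exact pat_of_notMem (Finset.notMem_empty i) (Finset.notMem_empty i)

theorem shape_of_zero (PP : Finset (Finset GolayPt)) (h0 : ∀ P ∈ PP, P = ∅) (m : ℕ) (K : ℤ) :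
    ∀ x ∈ famE PP (fun c => c = 0) m K,
    ∃ Q t : Finset GolayPt, Q.card = m ∧ t ⊆ Q ∧ x = dblHom (pat K Q t) := by
  intro x hx
  obtain ⟨P, hP, s, v, hs, -, hv, rfl⟩ := mem_famE hx
  have hP0 := h0 P hP
  subst hP0
  rw [Finset.subset_empty] at hs
  subst hs
  obtain ⟨Q, t, -, hm, ht, rfl⟩ := (mem_vSet _ _ _ _).mp hv
  refine ⟨Q, t, hm, ht, ?_⟩
  rw [pat_empty, zero_add]

theorem hsh_four (PP : Finset (Finset GolayPt)) (h0 : ∀ P ∈ PP, P = ∅) :
    ∀ x ∈ famE PP (fun c => c = 0) 4 (2 * 1), Shape64 x := by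
  intro x hx
  obtain ⟨Q, t, hQ, ht, rfl⟩ := shape_of_zero PP h0 4 (2 * 1) x hx
  rw [mul_one]
  exact Shape64.four Q t hQ ht

theorem hsh_one (PP : Finset (Finset GolayPt)) (h0 : ∀ P ∈ PP, P = ∅) :
    ∀ x ∈ famE PP (fun c => c = 0) 1 (2 * 2), Shape64 x := by
  intro x hx
  obtain ⟨Q, t, hQ, ht, rfl⟩ := shape_of_zero PP h0 1 (2 * 2) x hx
  have e4 : (2 : ℤ) * 2 = 4 := by norm_num
  rw [e4]
  exact Shape64.one Q t hQ ht

theorem shape_of_gen (PP : Finset (Finset GolayPt)) (par : ℕ → Prop) [DecidablePred par]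
    (m : ℕ) (k : ℤ) (n : ℕ)
    (hPP : ∀ P ∈ PP, P ∈ supports (golayCode : Set (GolayPt → ZMod 2)) ∧ P.card = n)
    (hn : n = 8 ∨ n = 12 ∨ n = 16) :
    ∀ x ∈ famE PP par m (2 * k), Shape64 x := by
  intro x hx
  obtain ⟨P, hP, s, v, hs, -, hv, rfl⟩ := mem_famE hx
  obtain ⟨-, -, hv3, -, -⟩ := vSet_props hv
  refine Shape64.gen _ P (hPP P hP).1 ?_ ?_
  · rw [(hPP P hP).2]
    exact hn
  · rw [map_add, hv3, add_zero, redHom_pat_one hs]

theorem famS_E0 : IsFamS 170016 1024 := by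
  have e : (1 : ℕ) * (1 * ((24 - 0).choose 4 * 2 ^ 4)) = 170016 := by norm_num [Nat.choose]
  refine famE_corS {∅} (fun c => c = 0) 1 0 4 1 (by norm_num) ?_ ?_ ?_ 170016 1024 ?_
    (by norm_num) (by norm_num) (hsh_four {∅} (fun P hP => Finset.mem_singleton.mp hP))
  · intro P hP
    rw [Finset.mem_singleton.mp hP]
    exact ⟨Spor.empty_mem_supports_golayCode, rfl⟩
  · intro P hP
    rw [Finset.mem_singleton.mp hP]
    exact card_filter_empty
  · intro c hc
    rw [hc]
    norm_num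
  · rw [Finset.card_singleton]
    exact e

theorem famS_F1 : IsFamS 48 4096 := by
  have e : (1 : ℕ) * (1 * ((24 - 0).choose 1 * 2 ^ 1)) = 48 := by norm_num [Nat.choose]
  refine famE_corS {∅} (fun c => c = 0) 1 0 1 2 (by norm_num) ?_ ?_ ?_ 48 4096 ?_
    (by norm_num) (by norm_num) (hsh_one {∅} (fun P hP => Finset.mem_singleton.mp hP))
  · intro P hP
    rw [Finset.mem_singleton.mp hP]
    exact ⟨Spor.empty_mem_supports_golayCode, rfl⟩
  · intro P hP
    rw [Finset.mem_singleton.mp hP]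
    exact card_filter_empty
  · intro c hc
    rw [hc]
    norm_num
  · rw [Finset.card_singleton]
    exact e

theorem famS_E8 : IsFamS 46632960 640 := by
  have e : (759 : ℕ) * (128 * ((24 - 8).choose 2 * 2 ^ 2)) = 46632960 := by norm_num [Nat.choose]
  have hPP : ∀ P ∈ octadFinset,
      P ∈ supports (golayCode : Set (GolayPt → ZMod 2)) ∧ P.card = 8 :=
    fun P hP => (mem_octadFinset P).mp hP
  refine famE_corS octadFinset Even 128 8 2 1 (by norm_num) hPP ?_ ?_ 46632960 640 ?_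
    (by norm_num) (by norm_num) (shape_of_gen octadFinset Even 2 1 8 hPP (Or.inl rfl))
  · intro P hP
    have h8 : P.card = 8 := ((mem_octadFinset P).mp hP).2
    have h1 := card_even_subsets P (Finset.card_pos.mp (by omega))
    rw [h8] at h1
    omega
  · rintro c ⟨r, rfl⟩
    push_cast
    omega
  · rw [card_octadFinset]
    exact e

theorem famS_E12 : IsFamS 126615552 448 := by
  have e : (2576 : ℕ) * (2048 * ((24 - 12).choose 1 * 2 ^ 1)) = 126615552 := by
    norm_num [Nat.choose]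
  have hPP : ∀ P ∈ dodFinset,
      P ∈ supports (golayCode : Set (GolayPt → ZMod 2)) ∧ P.card = 12 :=
    fun P hP => (mem_dodFinset P).mp hP
  refine famE_corS dodFinset Odd 2048 12 1 1 (by norm_num) hPP ?_ ?_ 126615552 448 ?_
    (by norm_num) (by norm_num) (shape_of_gen dodFinset Odd 1 1 12 hPP (Or.inr (Or.inl rfl)))
  · intro P hP
    have h12 : P.card = 12 := ((mem_dodFinset P).mp hP).2
    have h1 := card_odd_subsets P (Finset.card_pos.mp (by omega))
    rw [h12] at h1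
    omega
  · rintro c ⟨r, rfl⟩
    push_cast
    omega
  · rw [card_dodFinset]
    exact e

theorem famS_E16 : IsFamS 24870912 256 := by
  classical
  have e : (759 : ℕ) * (32768 * ((24 - 16).choose 0 * 2 ^ 0)) = 24870912 := by norm_num
  have hPP : ∀ P ∈ octadFinset.image compl,
      P ∈ supports (golayCode : Set (GolayPt → ZMod 2)) ∧ P.card = 16 := by
    intro P hP
    obtain ⟨o, ho, rfl⟩ := Finset.mem_image.mp hP
    have ho' := (mem_octadFinset o).mp ho
    refine ⟨compl_mem_supports ho'.1, ?_⟩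
    rw [Finset.card_compl, card_golayPt, ho'.2]
  refine famE_corS (octadFinset.image compl) Even 32768 16 0 1 (by norm_num) hPP ?_ ?_
    24870912 256 ?_ (by norm_num) (by norm_num)
    (shape_of_gen (octadFinset.image compl) Even 0 1 16 hPP (Or.inr (Or.inr rfl)))
  · intro P hP
    obtain ⟨o, ho, rfl⟩ := Finset.mem_image.mp hP
    have ho' := (mem_octadFinset o).mp ho
    have h16 : oᶜ.card = 16 := by
      rw [Finset.card_compl, card_golayPt, ho'.2]
    have h1 := card_even_subsets oᶜ (Finset.card_pos.mp (by omega))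
    rw [h16] at h1
    omega
  · rintro c ⟨r, rfl⟩
    push_cast
    omega
  · rw [Finset.card_image_of_injective _ compl_injective, card_octadFinset]
    exact e

theorem famT_S (PP : Finset (Finset GolayPt)) (hPP : ∀ P ∈ PP, P ∈ octads) (N : ℕ)
    (hN : PP.card * 1024 = N) : IsFamS N 1408 := by
  classical
  obtain ⟨h1, h2⟩ := famT_main PP hPP
  refine ⟨famT PP, h1.trans hN, fun x hx => ⟨(h2 x hx).1, (h2 x hx).2.1, (h2 x hx).2.2, ?_⟩⟩
  unfold famT at hx
  obtain ⟨⟨P, s, p⟩, hq, rfl⟩ := Finset.mem_image.mp hx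
  rw [Finset.mem_sigma, Finset.mem_product, Finset.mem_filter, Finset.mem_powerset] at hq
  exact Shape64.six P s p (hPP P hq.1) hq.2.1.1 hq.2.1.2 hq.2.2

theorem famS_F6 : IsFamS 777216 1408 := by
  have e : (759 : ℕ) * 1024 = 777216 := by norm_num
  refine famT_S octadFinset (fun P hP => (mem_octadFinset P).mp hP) 777216 ?_
  rw [card_octadFinset, e]

theorem famO_S (CC : Finset (Finset GolayPt)) (B : Finset (GolayPt → ℤ)) (q : ℤ)
    (hCC : ∀ c ∈ CC, c ∈ supports (golayCode : Set (GolayPt → ZMod 2)))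
    (hB : ∀ b ∈ B, (∀ i, b i % 4 = 1) ∧ b ∈ leechLattice ∧ pw 2 b = 64 ∧ pw 4 b = q)
    (hsh : ∀ b ∈ B, ∀ c ∈ supports (golayCode : Set (GolayPt → ZMod 2)), Shape64 (signCh c b))
    (N : ℕ) (hN : CC.card * B.card = N) : IsFamS N q := by
  classical
  obtain ⟨h1, h2⟩ := famO_main CC B q hCC hB
  refine ⟨famO CC B, h1.trans hN, fun x hx => ⟨(h2 x hx).1, (h2 x hx).2.1, (h2 x hx).2.2, ?_⟩⟩
  unfold famO at hx
  obtain ⟨⟨c, b⟩, hq, rfl⟩ := Finset.mem_image.mp hx
  rw [Finset.mem_product] at hq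
  exact hsh b hq.2 c (hCC c hq.1)

theorem setB7_shape : ∀ b ∈ setB7, ∀ c ∈ supports (golayCode : Set (GolayPt → ZMod 2)),
    Shape64 (signCh c b) := by
  classical
  intro b hb c hc
  unfold setB7 at hb
  obtain ⟨T, hT, rfl⟩ := Finset.mem_image.mp hb
  exact Shape64.odd7 c T hc (Finset.mem_powersetCard.mp hT).2

theorem setB8_shape : ∀ b ∈ setB8, ∀ c ∈ supports (golayCode : Set (GolayPt → ZMod 2)),
    Shape64 (signCh c b) := by
  classical
  intro b hb c hc
  unfold setB8 at hb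
  obtain ⟨⟨j, T⟩, hT, rfl⟩ := Finset.mem_image.mp hb
  rw [Finset.mem_sigma, Finset.mem_powersetCard] at hT
  exact Shape64.odd8 c T j hc hT.2.2 (fun h' => (Finset.mem_erase.mp (hT.2.1 h')).1 rfl)

theorem famS_O7 : IsFamS 174096384 424 := by
  have e : (4096 : ℕ) * 42504 = 174096384 := by norm_num
  refine famO_S suppFinset setB7 424 (fun c hc => (mem_suppFinset c).mp hc) setB7_props
    setB7_shape 174096384 ?_
  rw [card_suppFinset, card_setB7, e]

theorem famS_O8 : IsFamS 24870912 808 := by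
  have e : (4096 : ℕ) * 6072 = 24870912 := by norm_num
  refine famO_S suppFinset setB8 808 (fun c hc => (mem_suppFinset c).mp hc) setB8_props
    setB8_shape 24870912 ?_
  rw [card_suppFinset, card_setB8, e]

theorem famList_isFamS : ∀ p ∈ famList, IsFamS p.1 p.2 := by
  unfold famList
  intro p hp
  simp only [List.mem_cons, List.not_mem_nil, or_false] at hp
  rcases hp with rfl | rfl | rfl | rfl | rfl | rfl | rfl | rfl
  · exact famS_E0
  · exact famS_F1
  · exact famS_E8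
  · exact famS_E12
  · exact famS_E16
  · exact famS_F6
  · exact famS_O7
  · exact famS_O8

/-- the shapes of the vectors of sum of squares 64. -/
theorem class64 {x : GolayPt → ℤ} (hx : x ∈ leechLattice) (hn : sqNorm x = 64) : Shape64 x := by
  obtain ⟨F, hc, hF⟩ := fams_unionS famList famList_isFamS famList_nodup
  rw [famList_sum] at hc
  have hsub : (F : Set (GolayPt → ℤ)) ⊆ normSet 64 := fun y hy => ⟨(hF y hy).1, (hF y hy).2.1⟩
  have heq : (F : Set (GolayPt → ℤ)) = normSet 64 := by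
    apply Set.eq_of_subset_of_ncard_le hsub _ (normSet_finite 64)
    rw [Set.ncard_coe_finset, hc]
    exact le_of_eq card64
  have hxF : x ∈ (F : Set (GolayPt → ℤ)) := by
    rw [heq]
    exact ⟨hx, hn⟩
  exact (hF x hxF).2.2.2

end Cfsg.Agent.Helper9.Leech
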