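import Mathlib
import Cfsg.Prelude.Def_Sporadic_a
import Cfsg.Prelude.Def_SporadicCombinatorics
import Cfsg.Agent.Helper9.Leech.Xi
import Cfsg.Agent.Helper9.Leech.MinVec
import Cfsg.Agent.Helper9.Leech.Monomial
import Cfsg.Agent.Helper9.Leech.Center
import Cfsg.Agent.Helper9.Golay.M24Trans
import Cfsg.Agent.Helper9.Golay.Orbit
import Cfsg.Agent.Helper9.Golay.Steiner

/-!
The automorphism group of the lattice is transitive on the vectors of sum of squares 32.
-/

set_option autoImplicit false

namespace Cfsg.Agent.Helper9.Leech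

open Cfsg
open Cfsg.Agent.Helper9.Golay
open scoped Pointwise

/-- one vector is mapped to another by an automorphism. -/
def Reach (x y : GolayPt → ℤ) : Prop :=
  ∃ (hx : x ∈ leechLattice) (g : Equiv.Perm ↥leechLattice), g ∈ Co0 ∧
    ((g ⟨x, hx⟩ : ↥leechLattice) : GolayPt → ℤ) = y

theorem Reach.refl {x : GolayPt → ℤ} (hx : x ∈ leechLattice) : Reach x x :=
  ⟨hx, 1, Co0.one_mem, rfl⟩

theorem Reach.mem_right {x y : GolayPt → ℤ} (h : Reach x y) : y ∈ leechLattice := by
  obtain ⟨hx, g, -, rfl⟩ := h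
  exact (g ⟨x, hx⟩).2

theorem Reach.trans {x y z : GolayPt → ℤ} (h1 : Reach x y) (h2 : Reach y z) : Reach x z := by
  obtain ⟨hx, g, hg, hgy⟩ := h1
  obtain ⟨hy, g', hg', hgz⟩ := h2
  refine ⟨hx, g' * g, Co0.mul_mem hg' hg, ?_⟩
  rw [Equiv.Perm.mul_apply]
  have h : g ⟨x, hx⟩ = ⟨y, hy⟩ := Subtype.ext hgy
  rw [h]
  exact hgz

theorem Reach.symm {x y : GolayPt → ℤ} (h : Reach x y) : Reach y x := by
  have hy := h.mem_right
  obtain ⟨hx, g, hg, hgy⟩ := h
  refine ⟨hy, g⁻¹, Co0.inv_mem hg, ?_⟩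
  have h : g ⟨x, hx⟩ = ⟨y, hy⟩ := Subtype.ext hgy
  rw [← h, Equiv.Perm.inv_def, Equiv.symm_apply_apply]

theorem reach_sign {x : GolayPt → ℤ} (hx : x ∈ leechLattice) {c : Finset GolayPt}
    (hc : c ∈ supports (golayCode : Set (GolayPt → ZMod 2))) : Reach x (signCh c x) :=
  ⟨hx, monoPerm 1 M24.one_mem c hc, monoPerm_mem _ _ _ _, rfl⟩

theorem reach_perm {x : GolayPt → ℤ} (hx : x ∈ leechLattice) {σ : Equiv.Perm GolayPt}
    (hσ : σ ∈ M24) : Reach x (fun i => x (σ.symm i)) := by
  refine ⟨hx, monoPerm σ hσ ∅ Spor.empty_mem_supports_golayCode, monoPerm_mem _ _ _ _, ?_⟩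
  rw [monoPerm_apply]
  funext i
  unfold signedPerm
  rw [if_neg (Finset.notMem_empty i)]

theorem reach_xi {x : GolayPt → ℤ} (hx : x ∈ leechLattice) : Reach x (xiFun x) :=
  ⟨hx, xiPerm, xiPerm_mem, rfl⟩

/-! ### the action on the pattern vectors -/

theorem mem_smul_iff (σ : Equiv.Perm GolayPt) (s : Finset GolayPt) (i : GolayPt) :
    σ.symm i ∈ s ↔ i ∈ σ • s := by
  rw [Finset.mem_smul_finset]
  constructor
  · intro h
    exact ⟨σ.symm i, h, by rw [Equiv.Perm.smul_def, Equiv.apply_symm_apply]⟩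
  · rintro ⟨y, hy, rfl⟩
    rw [Equiv.Perm.smul_def, Equiv.symm_apply_apply]
    exact hy

theorem pat_perm (k : ℤ) (P s : Finset GolayPt) (σ : Equiv.Perm GolayPt) :
    (fun i => pat k P s (σ.symm i)) = pat k (σ • P) (σ • s) := by
  funext i
  unfold pat
  simp only [mem_smul_iff]

theorem pat_sign (k : ℤ) (P c : Finset GolayPt) : signCh c (pat k P ∅) = pat k P (c ∩ P) := by
  funext i
  unfold signCh pat
  simp only [Finset.notMem_empty, if_false, Finset.mem_inter]
  by_cases hc : i ∈ c <;> by_cases hP : i ∈ P <;> simp [hc, hP]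

theorem pat_mem_of {k : ℤ} {P s : Finset GolayPt} (h : pat k P ∅ ∈ leechLattice) {c : Finset GolayPt}
    (hc : c ∈ supports (golayCode : Set (GolayPt → ZMod 2))) (hs : c ∩ P = s) :
    Reach (pat k P s) (pat k P ∅) := by
  have h1 := reach_sign h hc
  rw [pat_sign, hs] at h1
  exact h1.symm

/-! ### sign changes on a particular octad -/

/-- the mask of the union of the second and the third part. -/
def o0m : ℕ := 0x65928

/-- its bits. -/
def o0bits : List ℕ := [8, 32, 256, 2048, 4096, 16384, 131072, 262144]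

theorem cutAll : (spanL o0bits).all
    (fun t => popc t % 2 == 1 || codeList.any (fun m => m &&& o0m == t)) = true := by
  decide +kernel

theorem bit_mem : ∀ p : GolayPt, o0m.testBit (ptIdx p) = true → 2 ^ ptIdx p ∈ o0bits := by
  decide

theorem exists_mask_sub (s : Finset GolayPt) (hs : s ⊆ suppM o0m) :
    ∃ t ∈ spanL o0bits, suppM t = s := by
  classical
  induction s using Finset.induction_on with
  | empty => exact ⟨0, zero_mem_spanL _, suppM_zero⟩
  | insert p s' hp ih =>
    obtain ⟨t', ht', hst'⟩ := ih (fun q hq => hs (Finset.mem_insert_of_mem hq))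
    have hpo : p ∈ suppM o0m := hs (Finset.mem_insert_self p s')
    rw [mem_suppM] at hpo
    refine ⟨2 ^ ptIdx p ^^^ t', xor_mem_spanL (mem_spanL_of_mem (bit_mem p hpo)) ht', ?_⟩
    ext q
    rw [mem_suppM, Nat.testBit_xor, Nat.testBit_two_pow, Finset.mem_insert, ← hst', mem_suppM]
    by_cases hqp : q = p
    · subst hqp
      have h0 : t'.testBit (ptIdx q) = false := by
        rw [← hst', mem_suppM] at hp
        simpa using hp
      simp [h0]
    · have hne : ptIdx p ≠ ptIdx q := fun h => hqp (ptIdx_injective h).symm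
      simp [hne, hqp]

theorem exists_cut_o0 (s : Finset GolayPt) (hs : s ⊆ suppM o0m) (he : Even s.card) :
    ∃ c ∈ supports (golayCode : Set (GolayPt → ZMod 2)), c ∩ suppM o0m = s := by
  obtain ⟨t, ht, rfl⟩ := exists_mask_sub s hs
  have h := List.all_eq_true.mp cutAll t ht
  rw [card_suppM, Nat.even_iff] at he
  rw [Bool.or_eq_true, beq_iff_eq, List.any_eq_true] at h
  rcases h with h | ⟨m, hm, hmt⟩
  · omega
  · rw [beq_iff_eq] at hmt
    exact ⟨suppM m, (mem_supports_iff _).mpr ⟨m, hm, rfl⟩, by rw [suppM_inter, hmt]⟩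

/-! ### explicit vectors -/

/-- pattern vectors given by masks. -/
def patM (k : ℤ) (m s : ℕ) : GolayPt → ℤ :=
  fun i => if s.testBit (ptIdx i) then -k else if m.testBit (ptIdx i) then k else 0

theorem pat_suppM (k : ℤ) (m s : ℕ) : pat k (suppM m) (suppM s) = patM k m s := by
  funext i
  unfold pat patM
  simp only [mem_suppM]

/-- vectors with odd entries given by masks. -/
def oddM (j c : ℕ) : GolayPt → ℤ :=
  fun i => if c.testBit (ptIdx i) then (if ptIdx i = j then 3 else -1)
    else (if ptIdx i = j then -3 else 1)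

theorem oddVec_suppM (j : GolayPt) (c : ℕ) : oddVec j (suppM c) = oddM (ptIdx j) c := by
  funext i
  rw [oddVec_apply]
  unfold baseOdd oddM
  simp only [mem_suppM]
  by_cases h : i = j
  · subst h
    simp
  · have hne : ptIdx i ≠ ptIdx j := fun h' => h (ptIdx_injective h')
    simp [h, hne]

theorem xi_oct : xiFun (patM 2 0x65928 0x108) = patM 4 0x108 0 :=
  funext (by decide +kernel)

theorem xi_odd : xiFun (patM 2 0x527c 0) = oddM 17 0x821253 :=
  funext (by decide +kernel)

theorem o1_mem : (0x527c : ℕ) ∈ codeList := by decide +kernel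

theorem c1_mem : (0x821253 : ℕ) ∈ codeList := by decide +kernel

theorem o0_mem : o0m ∈ codeList := by decide +kernel

theorem suppM_pair : suppM 0x108 = {some 3, some 8} := by
  ext p
  rw [mem_suppM]
  revert p
  decide

/-- the target vector. -/
def v1 : GolayPt → ℤ := patM 4 0x108 0

theorem minVec_mem {x : GolayPt → ℤ} (h : x ∈ famOdd ∪ (famOct ∪ famFour)) :
    x ∈ leechLattice ∧ sqNorm x = 32 := by
  have h1 := Set.ext_iff.mp minVec_eq x
  exact h1.mpr (Finset.mem_coe.mpr h)

theorem four_mem {P s : Finset GolayPt} (hP : P.card = 2) (hs : s ⊆ P) :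
    pat 4 P s ∈ leechLattice := by
  classical
  apply (minVec_mem _).1
  rw [Finset.mem_union, Finset.mem_union]
  right
  right
  exact (mem_famFour _).mpr ⟨P, s, hP, hs, rfl⟩

theorem oct_mem {o s : Finset GolayPt} (ho : o ∈ octads) (hs : s ⊆ o) (he : Even s.card) :
    pat 2 o s ∈ leechLattice := by
  classical
  apply (minVec_mem _).1
  rw [Finset.mem_union, Finset.mem_union]
  right
  left
  exact (mem_famOct _).mpr ⟨o, s, ho, hs, he, rfl⟩

theorem exists_cut_two {i j : GolayPt} (hij : i ≠ j) {s : Finset GolayPt} (hs : s ⊆ {i, j}) :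
    ∃ c ∈ supports (golayCode : Set (GolayPt → ZMod 2)), c ∩ {i, j} = s := by
  classical
  have hs' : ∀ p ∈ s, p = i ∨ p = j := by
    intro p hp
    have := hs hp
    rw [Finset.mem_insert, Finset.mem_singleton] at this
    exact this
  by_cases hi : i ∈ s <;> by_cases hj : j ∈ s
  · refine ⟨Finset.univ, Spor.univ_mem_supports_golayCode, ?_⟩
    rw [Finset.univ_inter]
    apply Finset.Subset.antisymm _ hs
    intro p hp
    rw [Finset.mem_insert, Finset.mem_singleton] at hp
    rcases hp with rfl | rfl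
    · exact hi
    · exact hj
  · obtain ⟨c, hc, h1, h2⟩ := exists_codeword_sep (i := j) (j := i) hij
    refine ⟨c, hc, ?_⟩
    ext p
    rw [Finset.mem_inter, Finset.mem_insert, Finset.mem_singleton]
    constructor
    · rintro ⟨hpc, rfl | rfl⟩
      · exact hi
      · exact absurd hpc h2
    · intro hp
      rcases hs' p hp with rfl | rfl
      · exact ⟨h1, Or.inl rfl⟩
      · exact absurd hp hj
  · obtain ⟨c, hc, h1, h2⟩ := exists_codeword_sep (i := i) (j := j) (Ne.symm hij)
    refine ⟨c, hc, ?_⟩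
    ext p
    rw [Finset.mem_inter, Finset.mem_insert, Finset.mem_singleton]
    constructor
    · rintro ⟨hpc, rfl | rfl⟩
      · exact absurd hpc h2
      · exact hj
    · intro hp
      rcases hs' p hp with rfl | rfl
      · exact absurd hp hi
      · exact ⟨h1, Or.inr rfl⟩
  · refine ⟨∅, Spor.empty_mem_supports_golayCode, ?_⟩
    rw [Finset.empty_inter]
    symm
    rw [Finset.eq_empty_iff_forall_notMem]
    intro p hp
    rcases hs' p hp with rfl | rfl
    · exact hi hp
    · exact hj hp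

theorem reach_four {P s : Finset GolayPt} (hP : P.card = 2) (hs : s ⊆ P) :
    Reach (pat 4 P s) v1 := by
  classical
  obtain ⟨i, j, hij, rfl⟩ := Finset.card_eq_two.mp hP
  have hmem : pat 4 {i, j} ∅ ∈ leechLattice := four_mem hP (Finset.empty_subset _)
  obtain ⟨c, hc, hcs⟩ := exists_cut_two hij hs
  have h1 := pat_mem_of hmem hc hcs
  obtain ⟨σ, hσ, hσi, hσj⟩ := m24_two_trans (a := i) (b := j) (c := some 3) (d := some 8) hij
    (by decide)
  have h2 := reach_perm hmem hσ
  rw [pat_perm, Finset.smul_finset_insert, Finset.smul_finset_singleton, Finset.smul_finset_empty,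
    Equiv.Perm.smul_def, Equiv.Perm.smul_def, hσi, hσj, ← suppM_pair, ← suppM_zero, pat_suppM] at h2
  exact h1.trans h2

theorem o0_octad : suppM o0m ∈ octads :=
  (mem_octads_iff _).mpr ⟨o0m, o0_mem, by decide, rfl⟩

theorem pair_sub : suppM 0x108 ⊆ suppM o0m := by
  intro p
  rw [mem_suppM, mem_suppM]
  revert p
  decide

theorem reach_oct {o s : Finset GolayPt} (ho : o ∈ octads) (hs : s ⊆ o) (he : Even s.card) :
    Reach (pat 2 o s) v1 := by
  classical
  obtain ⟨g, hg⟩ := transitive_octads ho o0_octad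
  have hgo : (g : Equiv.Perm GolayPt) • o = suppM o0m := hg
  have h1 := reach_perm (oct_mem ho hs he) g.2
  rw [pat_perm, hgo] at h1
  have hs' : (g : Equiv.Perm GolayPt) • s ⊆ suppM o0m := by
    rw [← hgo]
    exact Finset.smul_finset_subset_smul_finset hs
  have he' : Even ((g : Equiv.Perm GolayPt) • s).card := by
    rw [card_smul_finset]
    exact he
  have hmem0 : pat 2 (suppM o0m) ∅ ∈ leechLattice :=
    oct_mem o0_octad (Finset.empty_subset _) ⟨0, rfl⟩
  obtain ⟨c, hc, hcs⟩ := exists_cut_o0 _ hs' he'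
  have h2 := pat_mem_of hmem0 hc hcs
  have he2 : Even (suppM 0x108).card := by
    rw [card_suppM]
    decide
  obtain ⟨c', hc', hcs'⟩ := exists_cut_o0 (suppM 0x108) pair_sub he2
  have h3 := (pat_mem_of hmem0 hc' hcs').symm
  rw [pat_suppM] at h3
  have h4 := reach_xi h3.mem_right
  have e : xiFun (patM 2 o0m 0x108) = v1 := xi_oct
  rw [e] at h4
  exact ((h1.trans h2).trans h3).trans h4

theorem signCh_twice (c : Finset GolayPt) (x : GolayPt → ℤ) : signCh c (signCh c x) = x := by
  funext i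
  unfold signCh
  split_ifs <;> ring

theorem reach_odd {j : GolayPt} {c : Finset GolayPt}
    (hc : c ∈ supports (golayCode : Set (GolayPt → ZMod 2))) : Reach (oddVec j c) v1 := by
  have h1 := reach_sign (oddVec_mem (j := j) hc) hc
  have e1 : signCh c (oddVec j c) = baseOdd j := signCh_twice c (baseOdd j)
  rw [e1] at h1
  obtain ⟨σ, hσ, hσj⟩ := m24_trans j (some 17)
  have h2 := reach_perm h1.mem_right hσ
  have e2 : (fun i => baseOdd j (σ.symm i)) = baseOdd (some 17) := by
    funext i
    unfold baseOdd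
    rw [← hσj]
    simp only [Equiv.symm_apply_eq]
  rw [e2] at h2
  have hc1 : suppM 0x821253 ∈ supports (golayCode : Set (GolayPt → ZMod 2)) :=
    (mem_supports_iff _).mpr ⟨_, c1_mem, rfl⟩
  have h3 := reach_sign h2.mem_right hc1
  have e3 : signCh (suppM 0x821253) (baseOdd (some 17)) = oddM 17 0x821253 :=
    oddVec_suppM (some 17) 0x821253
  rw [e3, ← xi_odd] at h3
  have ho1 : suppM 0x527c ∈ octads := (mem_octads_iff _).mpr ⟨_, o1_mem, by decide, rfl⟩
  have hmem1 : patM 2 0x527c 0 ∈ leechLattice := by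
    rw [← pat_suppM, suppM_zero]
    exact oct_mem ho1 (Finset.empty_subset _) ⟨0, rfl⟩
  have h4 := (reach_xi hmem1).symm
  have h5 : Reach (patM 2 0x527c 0) v1 := by
    rw [← pat_suppM, suppM_zero]
    exact reach_oct ho1 (Finset.empty_subset _) ⟨0, rfl⟩
  exact (((h1.trans h2).trans h3).trans h4).trans h5

theorem reach_min {x : GolayPt → ℤ} (hx : x ∈ leechLattice) (hn : sqNorm x = 32) :
    Reach x v1 := by
  classical
  have h : x ∈ (↑(famOdd ∪ (famOct ∪ famFour)) : Set (GolayPt → ℤ)) := by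
    rw [← minVec_eq]
    exact ⟨hx, hn⟩
  rw [Finset.mem_coe, Finset.mem_union, Finset.mem_union, mem_famOdd, mem_famOct, mem_famFour] at h
  rcases h with ⟨j, c, hc, rfl⟩ | ⟨o, s, ho, hs, he, rfl⟩ | ⟨P, s, hP, hs, rfl⟩
  · exact reach_odd hc
  · exact reach_oct ho hs he
  · exact reach_four hP hs

/-- transitivity on the minimal vectors. -/
theorem trans32 (v w : ↥leechLattice) (hv : sqNorm (v : GolayPt → ℤ) = 32)
    (hw : sqNorm (w : GolayPt → ℤ) = 32) : ∃ g : Co0, g • v = w := by
  obtain ⟨hx, g, hg, hgw⟩ := (reach_min v.2 hv).trans (reach_min w.2 hw).symm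
  exact ⟨⟨g, hg⟩, Subtype.ext hgw⟩

end Cfsg.Agent.Helper9.Leech
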