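import Mathlib
import Cfsg.Prelude.Def_Sporadic_a
import Cfsg.Prelude.Def_SporadicCombinatorics
import Cfsg.Agent.Helper9.Leech.Trans32
import Cfsg.Agent.Helper9.Leech.Norm48
import Cfsg.Agent.Helper9.Golay.OctFlag2

/-!
The automorphism group of the lattice is transitive on the vectors of sum of squares 48.
-/

set_option autoImplicit false

namespace Cfsg.Agent.Helper9.Leech

open Cfsg
open Cfsg.Agent.Helper9.Golay
open scoped Pointwise

theorem baseP_perm (T : Finset GolayPt) (v : ℤ) (σ : Equiv.Perm GolayPt) :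
    (fun i => baseP T v (σ.symm i)) = baseP (σ • T) v := by
  funext i
  unfold baseP
  simp only [mem_smul_iff]

theorem mix_perm (o s : Finset GolayPt) (p : GolayPt) (ε : Bool) (σ : Equiv.Perm GolayPt) :
    (fun i => mix o s p ε (σ.symm i)) = mix (σ • o) (σ • s) (σ p) ε := by
  funext i
  have h := congrFun (pat_perm 2 o s σ) i
  unfold mix
  by_cases hi : i = σ p
  · rw [if_pos hi, if_pos]
    rw [hi, Equiv.symm_apply_apply]
  · rw [if_neg hi, if_neg]
    · exact h
    · intro h'
      apply hi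
      rw [← h', Equiv.apply_symm_apply]

/-- the target vector. -/
def u1 : GolayPt → ℤ := baseP {some 17} 5

theorem f5_mem {c : Finset GolayPt} (hc : c ∈ supports (golayCode : Set (GolayPt → ZMod 2)))
    (j : GolayPt) : signCh c (baseP {j} 5) ∈ leechLattice := by
  apply signCh_mem hc
  apply baseP_mem (by norm_num)
  rw [Finset.card_singleton]
  norm_num

theorem f3_mem {c : Finset GolayPt} (hc : c ∈ supports (golayCode : Set (GolayPt → ZMod 2)))
    {T : Finset GolayPt} (hT : T.card = 3) : signCh c (baseP T (-3)) ∈ leechLattice := by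
  apply signCh_mem hc
  apply baseP_mem (by norm_num)
  rw [hT]
  norm_num

theorem reach_f5 {c : Finset GolayPt} (hc : c ∈ supports (golayCode : Set (GolayPt → ZMod 2)))
    (j : GolayPt) : Reach (signCh c (baseP {j} 5)) u1 := by
  have h1 := reach_sign (f5_mem hc j) hc
  rw [signCh_twice] at h1
  obtain ⟨σ, hσ, hσj⟩ := m24_trans j (some 17)
  have h2 := reach_perm h1.mem_right hσ
  rw [baseP_perm, Finset.smul_finset_singleton, Equiv.Perm.smul_def, hσj] at h2
  exact h1.trans h2

/-- an embedding with three prescribed values. -/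
def emb3 (a b c : GolayPt) (hab : a ≠ b) (hac : a ≠ c) (hbc : b ≠ c) : Fin 3 ↪ GolayPt where
  toFun := ![a, b, c]
  inj' := by
    intro i j h
    fin_cases i <;> fin_cases j <;> simp_all

theorem m24_three_trans {a b c a' b' c' : GolayPt} (hab : a ≠ b) (hac : a ≠ c) (hbc : b ≠ c)
    (hab' : a' ≠ b') (hac' : a' ≠ c') (hbc' : b' ≠ c') :
    ∃ g ∈ M24, g a = a' ∧ g b = b' ∧ g c = c' := by
  haveI := m24_isMultiplyPretransitive
  have h3 : MulAction.IsMultiplyPretransitive M24 GolayPt 3 :=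
    MulAction.isMultiplyPretransitive_of_le (n := 5) (by norm_num)
      (by rw [Nat.card_eq_fintype_card, card_golayPt]; norm_num)
  rw [MulAction.isMultiplyPretransitive_iff] at h3
  obtain ⟨g, hg⟩ := h3 (emb3 a b c hab hac hbc) (emb3 a' b' c' hab' hac' hbc')
  refine ⟨g, g.2, ?_, ?_, ?_⟩
  · exact congrArg (fun f => f 0) hg
  · exact congrArg (fun f => f 1) hg
  · exact congrArg (fun f => f 2) hg

theorem suppM_T0 : suppM 0x4028 = {some 3, some 5, some 14} := by
  ext p
  rw [mem_suppM]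
  revert p
  decide

/-- vectors with odd entries given by masks. -/
def oddP (T c : ℕ) (v : ℤ) : GolayPt → ℤ :=
  fun i => if c.testBit (ptIdx i) then -(if T.testBit (ptIdx i) then v else 1)
    else (if T.testBit (ptIdx i) then v else 1)

theorem oddP_eq (T c : ℕ) (v : ℤ) : signCh (suppM c) (baseP (suppM T) v) = oddP T c v := by
  funext i
  unfold signCh baseP oddP
  simp only [mem_suppM]

theorem xi_r3 : xiFun (oddP 0x4028 0 (-3)) = oddP 131072 0x82402f 5 :=
  funext (by decide +kernel)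

theorem c5_mem : (0x82402f : ℕ) ∈ codeList := by decide +kernel

theorem suppM_17 : suppM 131072 = {some 17} := by
  ext p
  rw [mem_suppM]
  revert p
  decide

theorem reach_f3 {c : Finset GolayPt} (hc : c ∈ supports (golayCode : Set (GolayPt → ZMod 2)))
    {T : Finset GolayPt} (hT : T.card = 3) : Reach (signCh c (baseP T (-3))) u1 := by
  classical
  have h1 := reach_sign (f3_mem hc hT) hc
  rw [signCh_twice] at h1
  obtain ⟨a, b, d, hab, had, hbd, rfl⟩ := Finset.card_eq_three.mp hT
  obtain ⟨σ, hσ, h1a, h1b, h1d⟩ := m24_three_trans hab had hbd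
    (a' := some 3) (b' := some 5) (c' := some 14) (by decide) (by decide) (by decide)
  have h2 := reach_perm h1.mem_right hσ
  rw [baseP_perm, Finset.smul_finset_insert, Finset.smul_finset_insert,
    Finset.smul_finset_singleton, Equiv.Perm.smul_def, Equiv.Perm.smul_def, Equiv.Perm.smul_def,
    h1a, h1b, h1d, ← suppM_T0] at h2
  have e0 : baseP (suppM 0x4028) (-3) = oddP 0x4028 0 (-3) := by
    rw [← oddP_eq, suppM_zero]
    funext i
    unfold signCh
    rw [if_neg (Finset.notMem_empty i)]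
  rw [e0] at h2
  have h3 := reach_xi h2.mem_right
  have e3 : xiFun (oddP 0x4028 0 (-3)) = signCh (suppM 0x82402f) (baseP {some 17} 5) := by
    rw [xi_r3, ← oddP_eq, suppM_17]
  rw [e3] at h3
  have h4 := reach_f5 ((mem_supports_iff _).mpr ⟨_, c5_mem, rfl⟩) (some 17)
  exact ((h1.trans h2).trans h3).trans h4

/-- vectors with an odd entry. -/
theorem reach_odd48 {y : GolayPt → ℤ} (hy : y ∈ leechLattice) (hn : sqNorm y = 48)
    (hodd : y none % 2 = 1) : Reach y u1 := by
  rcases (mem48_iff y).mp ⟨hy, hn⟩ with h | h | h | h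
  · rcases entries12 h none with h0 | h0 | h0 <;> rw [h0] at hodd <;> norm_num at hodd
  · have := (entries4 h).1 none
    omega
  · obtain ⟨c, hc, T, hT, rfl⟩ := (mem_fam3 y).mp h
    exact reach_f3 hc hT
  · obtain ⟨c, hc, j, rfl⟩ := (mem_fam5 y).mp h
    exact reach_f5 hc j

theorem filter_kap_zero :
    Finset.univ.filter (fun p : GolayPt => kap p = 0) = {none, some 0, some 1, some 2} := by
  decide

theorem tsum_zero (x : GolayPt → ℤ) :
    tsum x 0 = x none + x (some 0) + x (some 1) + x (some 2) := by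
  unfold tsum
  rw [filter_kap_zero, Finset.sum_insert (by decide), Finset.sum_insert (by decide),
    Finset.sum_insert (by decide), Finset.sum_singleton]
  ring

theorem xiFun_none (x : GolayPt → ℤ) : xiFun x none = x none - hsum x 0 := by
  unfold xiFun
  rw [if_pos (by decide)]

theorem pat_two_on {P s : Finset GolayPt} {i : GolayPt} (hi : i ∈ P) :
    pat 2 P s i = 2 ∨ pat 2 P s i = -2 := by
  unfold pat
  split_ifs <;> simp

/-! ### the vectors with twelve entries `±2` -/

theorem d0_mem : (0xdfba : ℕ) ∈ codeList := by decide +kernel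

theorem d0_dod : suppM 0xdfba ∈ dodecads :=
  (mem_dodecads_iff _).mpr ⟨0xdfba, d0_mem, by decide, rfl⟩

theorem d0_pts : (none : GolayPt) ∉ suppM 0xdfba ∧ (some 0 : GolayPt) ∉ suppM 0xdfba ∧
    (some 1 : GolayPt) ∈ suppM 0xdfba ∧ (some 2 : GolayPt) ∉ suppM 0xdfba := by
  simp only [mem_suppM]
  decide

theorem reach_f12 {d s : Finset GolayPt} (hd : d ∈ dodecads) (hs : s ⊆ d) (he : Even s.card) :
    Reach (pat 2 d s) u1 := by
  classical
  have hmem : pat 2 d s ∈ leechLattice :=
    ((mem48_iff _).mpr (Or.inl ((mem_fam12 _).mpr ⟨d, s, hd, hs, he, rfl⟩))).1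
  obtain ⟨g, hg⟩ := transitive_dodecads hd d0_dod
  have hgo : (g : Equiv.Perm GolayPt) • d = suppM 0xdfba := hg
  have h1 := reach_perm hmem g.2
  rw [pat_perm, hgo] at h1
  have hs' : (g : Equiv.Perm GolayPt) • s ⊆ suppM 0xdfba := by
    rw [← hgo]
    exact Finset.smul_finset_subset_smul_finset hs
  generalize (g : Equiv.Perm GolayPt) • s = s' at h1 hs'
  have h2 := reach_xi h1.mem_right
  obtain ⟨p0, p1, p2, p3⟩ := d0_pts
  have hn : sqNorm (xiFun (pat 2 (suppM 0xdfba) s')) = 48 := by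
    rw [sqNorm_xiFun ((mem_leechLattice_iff _).mp h1.mem_right), sqNorm_pat hs', d0_dod.2]
    norm_num
  have hodd : xiFun (pat 2 (suppM 0xdfba) s') none % 2 = 1 := by
    rw [xiFun_none]
    unfold hsum
    rw [tsum_zero, pat_of_notMem (fun h => p0 (hs' h)) p0, pat_of_notMem (fun h => p1 (hs' h)) p1,
      pat_of_notMem (fun h => p3 (hs' h)) p3]
    rcases pat_two_on (s := s') p2 with h | h <;> rw [h] <;> norm_num
  exact (h1.trans h2).trans (reach_odd48 h2.mem_right hn hodd)

/-! ### the vectors with eight entries `±2` and an entry `±4` -/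

theorem o4_pts : (none : GolayPt) ∉ suppM 5279 ∧ (some 0 : GolayPt) ∈ suppM 5279 ∧
    (some 1 : GolayPt) ∈ suppM 5279 ∧ (some 2 : GolayPt) ∈ suppM 5279 := by
  simp only [mem_suppM]
  decide

theorem p4_ne : (none : GolayPt) ≠ idxPtN 5 ∧ (some 0 : GolayPt) ≠ idxPtN 5 ∧
    (some 1 : GolayPt) ≠ idxPtN 5 ∧ (some 2 : GolayPt) ≠ idxPtN 5 := by
  decide

theorem reach_f4 {o s : Finset GolayPt} {p : GolayPt} (ε : Bool) (ho : o ∈ octads) (hs : s ⊆ o)
    (hodd : Odd s.card) (hp : p ∉ o) : Reach (mix o s p ε) u1 := by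
  classical
  have hmem : mix o s p ε ∈ leechLattice := mix_mem ε ho hs hodd hp
  obtain ⟨h, hh, hho, hhp⟩ := exists_flag_out ho hp
  have h1 := reach_perm hmem (M24.inv_mem hh)
  have e1 : h⁻¹ • o = suppM 5279 := by rw [← hho, inv_smul_smul]
  have e2 : h⁻¹ p = idxPtN 5 := by
    rw [← hhp, Equiv.Perm.inv_def, Equiv.symm_apply_apply]
  rw [mix_perm, e1, e2] at h1
  have hs' : h⁻¹ • s ⊆ suppM 5279 := by
    have := Finset.smul_finset_subset_smul_finset (a := h⁻¹) hs
    rw [e1] at this
    exact this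
  generalize h⁻¹ • s = s' at h1 hs'
  have h2 := reach_xi h1.mem_right
  obtain ⟨p0, p1, p2, p3⟩ := o4_pts
  obtain ⟨q0, q1, q2, q3⟩ := p4_ne
  have hp4 : idxPtN 5 ∉ suppM 5279 := by
    rw [mem_suppM]
    decide
  have ho4 : suppM 5279 ∈ octads := oct5279_mem
  have hn : sqNorm (xiFun (mix (suppM 5279) s' (idxPtN 5) ε)) = 48 := by
    rw [sqNorm_xiFun ((mem_leechLattice_iff _).mp h1.mem_right), sqNorm_mix ε hs' hp4, ho4.2]
    norm_num
  have hodd' : xiFun (mix (suppM 5279) s' (idxPtN 5) ε) none % 2 = 1 := by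
    rw [xiFun_none]
    unfold hsum
    rw [tsum_zero, mix_ne _ _ ε q0, mix_ne _ _ ε q1, mix_ne _ _ ε q2, mix_ne _ _ ε q3,
      pat_of_notMem (fun h => p0 (hs' h)) p0]
    rcases pat_two_on (s := s') p1 with h | h <;> rcases pat_two_on (s := s') p2 with h' | h' <;>
      rcases pat_two_on (s := s') p3 with h'' | h'' <;> rw [h, h', h''] <;> norm_num
  exact (h1.trans h2).trans (reach_odd48 h2.mem_right hn hodd')

theorem reach_48 {x : GolayPt → ℤ} (hx : x ∈ leechLattice) (hn : sqNorm x = 48) :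
    Reach x u1 := by
  rcases (mem48_iff x).mp ⟨hx, hn⟩ with h | h | h | h
  · obtain ⟨d, s, hd, hs, he, rfl⟩ := (mem_fam12 x).mp h
    exact reach_f12 hd hs he
  · obtain ⟨o, s, p, ε, ho, hs, hodd, hp, rfl⟩ := (mem_fam4 x).mp h
    exact reach_f4 ε ho hs hodd hp
  · obtain ⟨c, hc, T, hT, rfl⟩ := (mem_fam3 x).mp h
    exact reach_f3 hc hT
  · obtain ⟨c, hc, j, rfl⟩ := (mem_fam5 x).mp h
    exact reach_f5 hc j

/-- transitivity on the vectors of sum of squares 48. -/
theorem trans48 (v w : ↥leechLattice) (hv : sqNorm (v : GolayPt → ℤ) = 48)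
    (hw : sqNorm (w : GolayPt → ℤ) = 48) : ∃ g : Co0, g • v = w := by
  obtain ⟨hx, g, hg, hgw⟩ := (reach_48 v.2 hv).trans (reach_48 w.2 hw).symm
  exact ⟨⟨g, hg⟩, Subtype.ext hgw⟩

end Cfsg.Agent.Helper9.Leech
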