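import Mathlib
import Cfsg.Prelude.Def_Sporadic_a
import Cfsg.Prelude.Def_SporadicCombinatorics
import Cfsg.Agent.Helper9.Leech.Trans48
import Cfsg.Agent.Helper9.Leech.Class64

/-!
The automorphism group of the lattice is transitive on the vectors of sum of squares 64.
-/

set_option autoImplicit false

namespace Cfsg.Agent.Helper9.Leech

open Cfsg
open Cfsg.Agent.Helper9.Golay
open scoped Pointwise

/-! ### generalities -/

theorem univ_mem_supports :
    (Finset.univ : Finset GolayPt) ∈ supports (golayCode : Set (GolayPt → ZMod 2)) := by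
  have h := compl_mem_supports Spor.empty_mem_supports_golayCode
  rwa [Finset.compl_empty] at h

theorem sqNorm_perm (x : GolayPt → ℤ) (σ : Equiv.Perm GolayPt) :
    sqNorm (fun i => x (σ.symm i)) = sqNorm x := by
  unfold sqNorm
  exact Equiv.sum_comp σ.symm (fun j => x j ^ 2)

theorem m24_pretrans {n : ℕ} (hn : n ≤ 5) : MulAction.IsMultiplyPretransitive M24 GolayPt n := by
  have := m24_isMultiplyPretransitive
  exact MulAction.isMultiplyPretransitive_of_le (n := 5) hn
    (by rw [Nat.card_eq_fintype_card, card_golayPt]; norm_num)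

/-- transitivity on the sets of at most five points. -/
theorem m24_set_trans {n : ℕ} (hn : n ≤ 5) {Q Q' : Finset GolayPt} (hQ : Q.card = n)
    (hQ' : Q'.card = n) : ∃ g ∈ M24, g • Q = Q' := by
  classical
  have h := m24_pretrans hn
  rw [MulAction.isMultiplyPretransitive_iff] at h
  obtain ⟨g, hg⟩ := h
    ((Q.equivFinOfCardEq hQ).symm.toEmbedding.trans (Function.Embedding.subtype _))
    ((Q'.equivFinOfCardEq hQ').symm.toEmbedding.trans (Function.Embedding.subtype _))
  have hgi : ∀ i : Fin n, (g : Equiv.Perm GolayPt) (((Q.equivFinOfCardEq hQ).symm i : Q) : GolayPt)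
      = (((Q'.equivFinOfCardEq hQ').symm i : Q') : GolayPt) := fun i => DFunLike.congr_fun hg i
  refine ⟨g, g.2, ?_⟩
  ext p
  constructor
  · intro hp
    obtain ⟨q, hq, rfl⟩ := Finset.mem_smul_finset.mp hp
    have h1 := hgi (Q.equivFinOfCardEq hQ ⟨q, hq⟩)
    rw [Equiv.symm_apply_apply] at h1
    rw [Equiv.Perm.smul_def, h1]
    exact Subtype.property _
  · intro hp
    have h1 := hgi (Q'.equivFinOfCardEq hQ' ⟨p, hp⟩)
    rw [Equiv.symm_apply_apply] at h1
    have h1' : (g : Equiv.Perm GolayPt)
        (((Q.equivFinOfCardEq hQ).symm (Q'.equivFinOfCardEq hQ' ⟨p, hp⟩) : Q) : GolayPt) = p := h1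
    rw [← h1']
    exact Finset.smul_mem_smul_finset (Subtype.property _)

/-! ### sign changes on subsets of octads -/

theorem exists_cut_oct {o : Finset GolayPt} (ho : o ∈ octads) {s : Finset GolayPt} (hs : s ⊆ o)
    (he : Even s.card) :
    ∃ c ∈ supports (golayCode : Set (GolayPt → ZMod 2)), c ∩ o = s := by
  classical
  obtain ⟨g, hg⟩ := transitive_octads ho o0_octad
  have hgo : (g : Equiv.Perm GolayPt) • o = suppM o0m := hg
  have hs' : (g : Equiv.Perm GolayPt) • s ⊆ suppM o0m := by
    rw [← hgo]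
    exact Finset.smul_finset_subset_smul_finset hs
  obtain ⟨c0, hc0, hcut⟩ := exists_cut_o0 _ hs' (by rw [Finset.card_smul_finset]; exact he)
  refine ⟨(g : Equiv.Perm GolayPt)⁻¹ • c0, smul_mem_supports (M24.inv_mem g.2) hc0, ?_⟩
  have e : o = (g : Equiv.Perm GolayPt)⁻¹ • suppM o0m := by rw [← hgo, inv_smul_smul]
  rw [e, ← Finset.smul_finset_inter, hcut, inv_smul_smul]

theorem exists_cut_sub {o : Finset GolayPt} (ho : o ∈ octads) {Q s : Finset GolayPt} (hQ : Q ⊆ o)
    {e : GolayPt} (heo : e ∈ o) (heQ : e ∉ Q) (hs : s ⊆ Q) :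
    ∃ c ∈ supports (golayCode : Set (GolayPt → ZMod 2)), c ∩ Q = s := by
  classical
  rcases Nat.even_or_odd s.card with he | hodd
  · obtain ⟨c, hc, hcut⟩ := exists_cut_oct ho (hs.trans hQ) he
    refine ⟨c, hc, ?_⟩
    ext p
    rw [Finset.mem_inter]
    constructor
    · rintro ⟨h1, h2⟩
      rw [← hcut, Finset.mem_inter]
      exact ⟨h1, hQ h2⟩
    · intro h
      have h1 : p ∈ c ∩ o := by rw [hcut]; exact h
      exact ⟨(Finset.mem_inter.mp h1).1, hs h⟩
  · have hes : e ∉ s := fun h => heQ (hs h)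
    have hsub : insert e s ⊆ o := by
      intro p hp
      rcases Finset.mem_insert.mp hp with rfl | h
      · exact heo
      · exact hQ (hs h)
    have hev : Even (insert e s).card := by
      rw [Finset.card_insert_of_notMem hes]
      exact hodd.add_one
    obtain ⟨c, hc, hcut⟩ := exists_cut_oct ho hsub hev
    refine ⟨c, hc, ?_⟩
    ext p
    rw [Finset.mem_inter]
    constructor
    · rintro ⟨h1, h2⟩
      have h3 : p ∈ c ∩ o := Finset.mem_inter.mpr ⟨h1, hQ h2⟩
      rw [hcut] at h3
      rcases Finset.mem_insert.mp h3 with rfl | h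
      · exact absurd h2 heQ
      · exact h
    · intro h
      have h1 : p ∈ c ∩ o := by rw [hcut]; exact Finset.mem_insert_of_mem h
      exact ⟨(Finset.mem_inter.mp h1).1, hs h⟩

/-- four points of the standard octad. -/
def qs : Finset GolayPt := {some 0, some 1, some 2, some 3}

theorem qs_card : qs.card = 4 := by decide

theorem qs_sub : qs ⊆ suppM 5279 := by
  intro p hp
  rw [mem_suppM]
  revert p
  decide

theorem e4_mem : (some 4 : GolayPt) ∈ suppM 5279 := by
  rw [mem_suppM]
  decide

theorem e4_not : (some 4 : GolayPt) ∉ qs := by decide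

theorem exists_cut_four {Q : Finset GolayPt} (hQ : Q.card = 4) {s : Finset GolayPt} (hs : s ⊆ Q) :
    ∃ c ∈ supports (golayCode : Set (GolayPt → ZMod 2)), c ∩ Q = s := by
  classical
  obtain ⟨g, hg, hgQ⟩ := m24_set_trans (n := 4) (by norm_num) qs_card hQ
  have ho : g • suppM 5279 ∈ octads := smul_mem_wordsOfWeight hg oct5279_mem
  refine exists_cut_sub ho (Q := Q) (e := g (some 4)) ?_ ?_ ?_ hs
  · rw [← hgQ]
    exact Finset.smul_finset_subset_smul_finset qs_sub
  · exact Finset.smul_mem_smul_finset e4_mem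
  · rw [← hgQ]
    intro h
    exact e4_not ((Finset.smul_mem_smul_finset_iff g).mp h)

/-! ### the vectors with few nonzero entries -/

/-- the target vector. -/
def u64 : GolayPt → ℤ := pat 8 {none} ∅

/-- the first part of the partition. -/
def q0 : Finset GolayPt := {none, some 0, some 1, some 2}

theorem q0_card : q0.card = 4 := by decide

theorem dbl_pat_mem {k : ℤ} (hk : k % 2 = 0) {P s : Finset GolayPt} (hs : s ⊆ P)
    (hsum : ((P.card : ℤ) * k - s.card * (2 * k)) % 4 = 0) : pat (2 * k) P s ∈ leechLattice := by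
  rw [← dblHom_pat]
  apply dbl_mem
  · rw [redHom_pat_even hk]
    exact golayCode.zero_mem
  · rw [sum_pat hs]
    exact hsum

theorem four_mem64 {Q t : Finset GolayPt} (hQ : Q.card = 4) (ht : t ⊆ Q) :
    pat 4 Q t ∈ leechLattice := by
  have h := dbl_pat_mem (k := 2) (by norm_num) ht (by rw [hQ]; push_cast; omega)
  exact h

theorem one_mem64 {Q t : Finset GolayPt} (hQ : Q.card = 1) (ht : t ⊆ Q) :
    pat 8 Q t ∈ leechLattice := by
  have h := dbl_pat_mem (k := 4) (by norm_num) ht (by rw [hQ]; push_cast; omega)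
  exact h

theorem suppM_q0 : suppM 0x800007 = q0 := by
  ext p
  rw [mem_suppM]
  revert p
  decide

theorem suppM_inf : suppM 0x800000 = {none} := by
  ext p
  rw [mem_suppM]
  revert p
  decide

theorem xi_l1 : xiFun (patM 4 0x800007 0x800000) = patM 8 0x800000 0x800000 :=
  funext (by decide +kernel)

theorem reach_one {Q t : Finset GolayPt} (hQ : Q.card = 1) (ht : t ⊆ Q) :
    Reach (pat 8 Q t) u64 := by
  classical
  obtain ⟨j, rfl⟩ := Finset.card_eq_one.mp hQ
  have hmem : pat 8 {j} ∅ ∈ leechLattice := one_mem64 hQ (Finset.empty_subset _)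
  have h1 : Reach (pat 8 {j} t) (pat 8 {j} ∅) := by
    rcases Finset.subset_singleton_iff.mp ht with rfl | rfl
    · exact Reach.refl hmem
    · exact pat_mem_of hmem univ_mem_supports (Finset.univ_inter _)
  obtain ⟨σ, hσ, hσj⟩ := m24_trans j none
  have h2 := reach_perm hmem hσ
  rw [pat_perm, Finset.smul_finset_singleton, Equiv.Perm.smul_def, hσj,
    Finset.smul_finset_empty] at h2
  exact h1.trans h2

theorem reach_four64 {Q t : Finset GolayPt} (hQ : Q.card = 4) (ht : t ⊆ Q) :
    Reach (pat 4 Q t) u64 := by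
  classical
  have hmem : pat 4 Q ∅ ∈ leechLattice := four_mem64 hQ (Finset.empty_subset _)
  obtain ⟨c, hc, hcut⟩ := exists_cut_four hQ ht
  have h1 : Reach (pat 4 Q t) (pat 4 Q ∅) := pat_mem_of hmem hc hcut
  obtain ⟨σ, hσ, hσQ⟩ := m24_set_trans (n := 4) (by norm_num) hQ q0_card
  have h2 := reach_perm hmem hσ
  rw [pat_perm, hσQ, Finset.smul_finset_empty] at h2
  have hsub : ({none} : Finset GolayPt) ⊆ q0 := by decide
  obtain ⟨c', hc', hcut'⟩ := exists_cut_four q0_card hsub
  have h3 : Reach (pat 4 q0 {none}) (pat 4 q0 ∅) := pat_mem_of h2.mem_right hc' hcut'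
  have h4 := reach_xi h3.symm.mem_right
  have e4 : xiFun (pat 4 q0 {none}) = pat 8 {none} {none} := by
    rw [← suppM_q0, ← suppM_inf, pat_suppM, pat_suppM, xi_l1]
  rw [e4] at h4
  have h5 : Reach (pat 8 {none} {none}) u64 := reach_one (Finset.card_singleton _) (subset_refl _)
  exact (((h1.trans h2).trans h3.symm).trans h4).trans h5

/-! ### the vectors with an entry `±6` -/

theorem six_mem {P s : Finset GolayPt} {p : GolayPt} (hP : P ∈ octads) (hs : s ⊆ P)
    (ho : Odd s.card) (hp : p ∈ P) : dblHom (trip P s p) ∈ leechLattice := by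
  apply dbl_mem
  · rw [redHom_trip hs]
    exact indW_mem hP.1
  · rw [sum_trip hs, hP.2]
    obtain ⟨r, hr⟩ := ho
    rw [hr]
    push_cast
    rcases pat_one_cases P s p with h3 | h3 | h3
    · exact absurd h3 ((mem_P_iff (k := 1) (by norm_num) hs p).mp hp)
    · rw [h3]
      omega
    · rw [h3]
      omega

theorem trip_perm (P s : Finset GolayPt) (p : GolayPt) (σ : Equiv.Perm GolayPt) :
    (fun i => trip P s p (σ.symm i)) = trip (σ • P) (σ • s) (σ p) := by
  funext i
  have h := congrFun (pat_perm 1 P s σ) i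
  unfold trip
  by_cases hi : i = σ p
  · rw [if_pos hi, if_pos, h]
    rw [hi, Equiv.symm_apply_apply]
  · rw [if_neg hi, if_neg, h]
    intro h'
    apply hi
    rw [← h', Equiv.apply_symm_apply]

theorem signCh_pat {k : ℤ} {P s : Finset GolayPt} (hs : s ⊆ P) (c : Finset GolayPt) :
    signCh c (pat k P s) = pat k P (symmDiff s (c ∩ P)) := by
  classical
  funext i
  unfold signCh pat
  have hsP : i ∈ s → i ∈ P := fun h => hs h
  by_cases hc : i ∈ c <;> by_cases hs' : i ∈ s <;> by_cases hP : i ∈ P <;>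
    simp [Finset.mem_symmDiff, hc, hs', hP] <;> tauto

theorem signCh_trip {P s : Finset GolayPt} (hs : s ⊆ P) (c : Finset GolayPt) (p : GolayPt) :
    signCh c (dblHom (trip P s p)) = dblHom (trip P (symmDiff s (c ∩ P)) p) := by
  classical
  funext i
  have h := congrFun (signCh_pat (k := 1) hs c) i
  unfold signCh at h ⊢
  rw [dblHom_apply, dblHom_apply]
  unfold trip
  by_cases hc : i ∈ c
  · rw [if_pos hc] at h ⊢
    rw [← h]
    split_ifs <;> ring
  · rw [if_neg hc] at h ⊢
    rw [← h]

theorem even_symmDiff {s t : Finset GolayPt} (hs : Odd s.card) (ht : Odd t.card) :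
    Even (symmDiff s t).card := by
  classical
  have h1 := Finset.card_sdiff_add_card_inter s t
  have h2 := Finset.card_sdiff_add_card_inter t s
  rw [Finset.inter_comm t s] at h2
  have h3 : (symmDiff s t).card = (s \ t).card + (t \ s).card := by
    rw [Finset.symmDiff_def]
    exact Finset.card_union_of_disjoint disjoint_sdiff_sdiff
  obtain ⟨a, ha⟩ := hs
  obtain ⟨b, hb⟩ := ht
  rw [Nat.even_iff]
  omega

/-- the standard vector with an entry `±6`. -/
def f6 : GolayPt → ℤ := dblHom (trip (suppM 5279) {idxPtN 0} (idxPtN 0))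

theorem p0_mem : idxPtN 0 ∈ suppM 5279 := by
  rw [mem_suppM]
  decide

theorem reach_six_canon {P s : Finset GolayPt} {p : GolayPt} (hP : P ∈ octads) (hs : s ⊆ P)
    (ho : Odd s.card) (hp : p ∈ P) : Reach (dblHom (trip P s p)) f6 := by
  classical
  have hmem := six_mem hP hs ho hp
  obtain ⟨h, hh, hho, hhp⟩ := exists_flag_in hP hp
  have h1 := reach_perm hmem (M24.inv_mem hh)
  have e1 : h⁻¹ • P = suppM 5279 := by rw [← hho, inv_smul_smul]
  have e2 : h⁻¹ p = idxPtN 0 := by
    rw [← hhp, Equiv.Perm.inv_def, Equiv.symm_apply_apply]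
  have e3 : (fun i => dblHom (trip P s p) ((h⁻¹).symm i)) =
      dblHom (fun i => trip P s p ((h⁻¹).symm i)) := rfl
  rw [e3, trip_perm, e1, e2] at h1
  have hs' : h⁻¹ • s ⊆ suppM 5279 := by
    have := Finset.smul_finset_subset_smul_finset (a := h⁻¹) hs
    rw [e1] at this
    exact this
  have ho' : Odd (h⁻¹ • s).card := by
    rw [Finset.card_smul_finset]
    exact ho
  generalize h⁻¹ • s = s' at h1 hs' ho'
  have hs0 : ({idxPtN 0} : Finset GolayPt) ⊆ suppM 5279 :=
    Finset.singleton_subset_iff.mpr p0_mem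
  have hev : Even (symmDiff s' {idxPtN 0}).card :=
    even_symmDiff ho' (by rw [Finset.card_singleton]; exact odd_one)
  have hsub : symmDiff s' {idxPtN 0} ⊆ suppM 5279 := by
    intro q hq
    rcases Finset.mem_symmDiff.mp hq with h | h
    · exact hs' h.1
    · exact hs0 h.1
  obtain ⟨c, hc, hcut⟩ := exists_cut_oct oct5279_mem hsub hev
  have h2 := reach_sign h1.mem_right hc
  rw [signCh_trip hs', hcut, symmDiff_symmDiff_cancel_left] at h2
  exact h1.trans h2

/-- vectors with an entry `±6` given by masks. -/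
def tripM (m s j : ℕ) : GolayPt → ℤ :=
  fun i => 2 * ((if ptIdx i = j then 3 else 1) *
    (if s.testBit (ptIdx i) then -1 else if m.testBit (ptIdx i) then 1 else 0))

theorem trip_suppM (m s : ℕ) (p : GolayPt) :
    dblHom (trip (suppM m) (suppM s) p) = tripM m s (ptIdx p) := by
  funext i
  rw [dblHom_apply]
  unfold trip pat tripM
  simp only [mem_suppM]
  by_cases h : i = p
  · rw [if_pos h, if_pos (congrArg ptIdx h)]
  · have h' : ptIdx i ≠ ptIdx p := fun e => h (ptIdx_injective e)
    rw [if_neg h, if_neg h', one_mul]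

theorem xi_l2 : xiFun (patM 4 0xf 0) = tripM 0x82402f 0x80000f 23 :=
  funext (by decide +kernel)

theorem suppM_qs : suppM 0xf = qs := by
  ext p
  rw [mem_suppM]
  revert p
  decide

theorem c5_oct : suppM 0x82402f ∈ octads :=
  (mem_octads_iff _).mpr ⟨0x82402f, c5_mem, by decide, rfl⟩

theorem s5_sub : suppM 0x80000f ⊆ suppM 0x82402f := by
  intro p
  rw [mem_suppM, mem_suppM]
  revert p
  decide

theorem f6_reach : Reach f6 u64 := by
  have h0 : Reach (pat 4 qs ∅) u64 := reach_four64 qs_card (Finset.empty_subset _)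
  have hmem : pat 4 qs ∅ ∈ leechLattice := four_mem64 qs_card (Finset.empty_subset _)
  have h1 := reach_xi hmem
  have e1 : xiFun (pat 4 qs ∅) = dblHom (trip (suppM 0x82402f) (suppM 0x80000f) none) := by
    rw [trip_suppM, ← suppM_qs, ← suppM_zero, pat_suppM, xi_l2]
    rfl
  rw [e1] at h1
  have h2 : Reach (dblHom (trip (suppM 0x82402f) (suppM 0x80000f) none)) f6 := by
    apply reach_six_canon c5_oct s5_sub
    · rw [card_suppM]
      decide
    · rw [mem_suppM]
      decide
  exact (h2.symm.trans h1.symm).trans h0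

theorem reach_six {P s : Finset GolayPt} {p : GolayPt} (hP : P ∈ octads) (hs : s ⊆ P)
    (ho : Odd s.card) (hp : p ∈ P) : Reach (dblHom (trip P s p)) u64 :=
  (reach_six_canon hP hs ho hp).trans f6_reach

/-! ### the vectors with odd entries -/

theorem o5279_supp : suppM 5279 ∈ supports (golayCode : Set (GolayPt → ZMod 2)) :=
  oct5279_mem.1

theorem xi_l3 : xiFun (oddP 0x80000f 5279 (-3)) = tripM 0x8254b0 0x800000 23 :=
  funext (by decide +kernel)

theorem c7_mem : (0x8254b0 : ℕ) ∈ codeList := by decide +kernel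

theorem c7_oct : suppM 0x8254b0 ∈ octads :=
  (mem_octads_iff _).mpr ⟨0x8254b0, c7_mem, by decide, rfl⟩

/-- the standard five points. -/
def t7 : Finset GolayPt := {none, some 0, some 1, some 2, some 3}

theorem t7_card : t7.card = 5 := by decide

theorem suppM_t7 : suppM 0x80000f = t7 := by
  ext p
  rw [mem_suppM]
  revert p
  decide

theorem reach_o7 {c T : Finset GolayPt}
    (hc : c ∈ supports (golayCode : Set (GolayPt → ZMod 2))) (hT : T.card = 5) :
    Reach (signCh c (baseP T (-3))) u64 := by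
  classical
  have hb : baseP T (-3) ∈ leechLattice := by
    apply baseP_mem (by norm_num)
    rw [hT]
    norm_num
  have h1 := reach_sign (signCh_mem hc hb) hc
  rw [signCh_twice] at h1
  obtain ⟨σ, hσ, hσT⟩ := m24_set_trans (n := 5) le_rfl hT t7_card
  have h2 := reach_perm hb hσ
  rw [baseP_perm, hσT] at h2
  have h3 := reach_sign h2.mem_right o5279_supp
  rw [← suppM_t7, oddP_eq] at h3
  have h4 := reach_xi h3.mem_right
  rw [xi_l3] at h4
  have e5 : tripM 0x8254b0 0x800000 23 =
      dblHom (trip (suppM 0x8254b0) (suppM 0x800000) none) := by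
    rw [trip_suppM]
    rfl
  rw [e5] at h4
  have h5 : Reach (dblHom (trip (suppM 0x8254b0) (suppM 0x800000) none)) u64 := by
    apply reach_six c7_oct
    · intro p
      rw [mem_suppM, mem_suppM]
      revert p
      decide
    · rw [card_suppM]
      decide
    · rw [mem_suppM]
      decide
  exact (((h1.trans h2).trans h3).trans h4).trans h5

theorem base2_perm (j : GolayPt) (T : Finset GolayPt) (σ : Equiv.Perm GolayPt) :
    (fun i => base2 j T (σ.symm i)) = base2 (σ j) (σ • T) := by
  funext i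
  unfold base2
  simp only [mem_smul_iff]
  by_cases hi : i = σ j
  · rw [if_pos hi, if_pos]
    rw [hi, Equiv.symm_apply_apply]
  · rw [if_neg hi, if_neg]
    intro h'
    apply hi
    rw [← h', Equiv.apply_symm_apply]

/-- vectors with odd entries given by masks, second kind. -/
def odd2M (j T c : ℕ) : GolayPt → ℤ :=
  fun i => if c.testBit (ptIdx i)
    then -(if ptIdx i = j then 5 else if T.testBit (ptIdx i) then -3 else 1)
    else (if ptIdx i = j then 5 else if T.testBit (ptIdx i) then -3 else 1)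

theorem base2_suppM (p : GolayPt) (T c : ℕ) :
    signCh (suppM c) (base2 p (suppM T)) = odd2M (ptIdx p) T c := by
  funext i
  unfold signCh base2 odd2M
  simp only [mem_suppM]
  by_cases h : i = p
  · rw [if_pos h, if_pos (congrArg ptIdx h)]
  · have h' : ptIdx i ≠ ptIdx p := fun e => h (ptIdx_injective e)
    rw [if_neg h, if_neg h']

theorem xi_l4 : xiFun (odd2M 0 6 5279) = tripM 5279 1 0 :=
  funext (by decide +kernel)

theorem suppM_12 : suppM 6 = {some 1, some 2} := by
  ext p
  rw [mem_suppM]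
  revert p
  decide

theorem suppM_p0 : suppM 1 = {idxPtN 0} := by
  ext p
  rw [mem_suppM]
  revert p
  decide

theorem base2_mem {j : GolayPt} {T : Finset GolayPt} (hT : T.card = 2) (hj : j ∉ T) :
    base2 j T ∈ leechLattice := by
  rw [mem_leechLattice_iff]
  apply Spor.mem_leechSet_of_const_mod_four (base2 j T) 1 1 (by decide)
  · intro i
    exact base2_mod j T i
  · rw [sum_base2 hj, hT]
    rfl

theorem reach_o8 {c T : Finset GolayPt} {j : GolayPt}
    (hc : c ∈ supports (golayCode : Set (GolayPt → ZMod 2))) (hT : T.card = 2) (hj : j ∉ T) :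
    Reach (signCh c (base2 j T)) u64 := by
  classical
  have hb : base2 j T ∈ leechLattice := base2_mem hT hj
  have h1 := reach_sign (signCh_mem hc hb) hc
  rw [signCh_twice] at h1
  obtain ⟨a, b, hab, rfl⟩ := Finset.card_eq_two.mp hT
  have hja : j ≠ a := fun h => hj (by rw [h]; exact Finset.mem_insert_self _ _)
  have hjb : j ≠ b := fun h => hj (by rw [h]; exact Finset.mem_insert_of_mem (Finset.mem_singleton_self _))
  obtain ⟨σ, hσ, hσj, hσa, hσb⟩ := m24_three_trans hja hjb hab
    (a' := some 0) (b' := some 1) (c' := some 2) (by decide) (by decide) (by decide)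
  have h2 := reach_perm hb hσ
  rw [base2_perm, Finset.smul_finset_insert, Finset.smul_finset_singleton, Equiv.Perm.smul_def,
    Equiv.Perm.smul_def, hσj, hσa, hσb] at h2
  have h3 := reach_sign h2.mem_right o5279_supp
  have e3 : signCh (suppM 5279) (base2 (some 0) {some 1, some 2}) = odd2M 0 6 5279 := by
    rw [← suppM_12, base2_suppM]
    rfl
  rw [e3] at h3
  have h4 := reach_xi h3.mem_right
  rw [xi_l4] at h4
  have e5 : tripM 5279 1 0 = f6 := by
    unfold f6
    rw [← suppM_p0, trip_suppM]
    rfl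
  rw [e5] at h4
  exact (((h1.trans h2).trans h3).trans h4).trans f6_reach

/-- vectors with an odd entry. -/
theorem reach_odd64 {y : GolayPt → ℤ} (hy : y ∈ leechLattice) (hn : sqNorm y = 64)
    (hodd : y none % 2 = 1) : Reach y u64 := by
  have hd : ∀ z : GolayPt → ℤ, dblHom z none % 2 = 1 → False := by
    intro z hz
    rw [dblHom_apply] at hz
    omega
  rcases class64 hy hn with ⟨Q, t, hQ, ht⟩ | ⟨Q, t, hQ, ht⟩ | ⟨P, s, p, hP, hs, ho, hp⟩ |
    ⟨z, P, hP, hc, hz⟩ | ⟨c, T, hc, hT⟩ | ⟨c, T, j, hc, hT, hj⟩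
  · exact absurd hodd (fun h => hd _ h)
  · exact absurd hodd (fun h => hd _ h)
  · exact absurd hodd (fun h => hd _ h)
  · exact absurd hodd (fun h => hd _ h)
  · exact reach_o7 hc hT
  · exact reach_o8 hc hT hj

/-! ### the other vectors with even entries -/

theorem par_of_red {y : GolayPt → ℤ} {P : Finset GolayPt} (hy : redHom y = indW P) (j : GolayPt) :
    y j % 2 = if j ∈ P then 1 else 0 := by
  have h := congrFun hy j
  rw [redHom_apply] at h
  unfold indW at h
  by_cases hj : j ∈ P
  · rw [if_pos hj] at h ⊢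
    rcases Int.emod_two_eq_zero_or_one (y j) with h0 | h1
    · rw [cast_of_even h0] at h
      exact absurd h (by decide)
    · exact h1
  · rw [if_neg hj] at h ⊢
    rcases Int.emod_two_eq_zero_or_one (y j) with h0 | h1
    · exact h0
    · rw [cast_of_odd h1] at h
      exact absurd h (by decide)

theorem xi_odd_of (y : GolayPt → ℤ)
    (hS : (y none + y (some 0) + y (some 1) + y (some 2)) % 2 = 1) :
    xiFun (dblHom y) none % 2 = 1 := by
  rw [xiFun_none]
  unfold hsum
  rw [tsum_zero]
  simp only [dblHom_apply]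
  omega

theorem reach_gen_aux {y : GolayPt → ℤ} {P : Finset GolayPt} (hmem : dblHom y ∈ leechLattice)
    (hn : sqNorm (dblHom y) = 64) (hy : redHom y = indW P) {σ : Equiv.Perm GolayPt}
    (hσ : σ ∈ M24)
    (hpar : ((if σ.symm none ∈ P then (1 : ℤ) else 0) + (if σ.symm (some 0) ∈ P then 1 else 0) +
      (if σ.symm (some 1) ∈ P then 1 else 0) + (if σ.symm (some 2) ∈ P then 1 else 0)) % 2 = 1) :
    Reach (dblHom y) u64 := by
  have h1 := reach_perm hmem hσ
  have e1 : (fun i => dblHom y (σ.symm i)) = dblHom (fun i => y (σ.symm i)) := rfl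
  rw [e1] at h1
  have h2 := reach_xi h1.mem_right
  have hn' : sqNorm (xiFun (dblHom (fun i => y (σ.symm i)))) = 64 := by
    rw [sqNorm_xiFun ((mem_leechLattice_iff _).mp h1.mem_right), ← e1, sqNorm_perm, hn]
  have hodd : xiFun (dblHom (fun i => y (σ.symm i))) none % 2 = 1 := by
    apply xi_odd_of
    have p0 := par_of_red hy (σ.symm none)
    have p1 := par_of_red hy (σ.symm (some 0))
    have p2 := par_of_red hy (σ.symm (some 1))
    have p3 := par_of_red hy (σ.symm (some 2))
    rw [← p0, ← p1, ← p2, ← p3] at hpar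
    omega
  exact (h1.trans h2).trans (reach_odd64 h2.mem_right hn' hodd)

theorem reach_gen {y : GolayPt → ℤ} {P : Finset GolayPt} (hmem : dblHom y ∈ leechLattice)
    (hn : sqNorm (dblHom y) = 64) (hP : P ∈ supports (golayCode : Set (GolayPt → ZMod 2)))
    (hc : P.card = 8 ∨ P.card = 12 ∨ P.card = 16) (hy : redHom y = indW P) :
    Reach (dblHom y) u64 := by
  classical
  obtain ⟨p0, p1, p2, p3⟩ := o4_pts
  obtain ⟨d0, d1, d2, d3⟩ := d0_pts
  rcases hc with hc | hc | hc
  · have ho : P ∈ octads := ⟨hP, hc⟩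
    obtain ⟨g, hg⟩ := transitive_octads ho oct5279_mem
    have hgo : (g : Equiv.Perm GolayPt) • P = suppM 5279 := hg
    apply reach_gen_aux hmem hn hy g.2
    simp only [mem_smul_iff, hgo, p0, p1, p2, p3, if_true, if_false]
    norm_num
  · have hd : P ∈ dodecads := ⟨hP, hc⟩
    obtain ⟨g, hg⟩ := transitive_dodecads hd d0_dod
    have hgo : (g : Equiv.Perm GolayPt) • P = suppM 0xdfba := hg
    apply reach_gen_aux hmem hn hy g.2
    simp only [mem_smul_iff, hgo, d0, d1, d2, d3, if_true, if_false]
    norm_num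
  · have ho : Pᶜ ∈ octads := by
      refine ⟨compl_mem_supports hP, ?_⟩
      rw [Finset.card_compl, card_golayPt, hc]
    obtain ⟨g, hg⟩ := transitive_octads ho oct5279_mem
    have hgo : (g : Equiv.Perm GolayPt) • Pᶜ = suppM 5279 := hg
    have hiff : ∀ i, (g : Equiv.Perm GolayPt).symm i ∈ P ↔ i ∉ suppM 5279 := by
      intro i
      rw [← hgo, ← mem_smul_iff, Finset.mem_compl, not_not]
    apply reach_gen_aux hmem hn hy g.2
    simp only [hiff, p0, p1, p2, p3, not_true_eq_false, not_false_eq_true, if_true, if_false]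
    norm_num

/-! ### the main statement -/

theorem reach_64 {x : GolayPt → ℤ} (hx : x ∈ leechLattice) (hn : sqNorm x = 64) :
    Reach x u64 := by
  rcases class64 hx hn with ⟨Q, t, hQ, ht⟩ | ⟨Q, t, hQ, ht⟩ | ⟨P, s, p, hP, hs, ho, hp⟩ |
    ⟨z, P, hP, hc, hz⟩ | ⟨c, T, hc, hT⟩ | ⟨c, T, j, hc, hT, hj⟩
  · rw [dblHom_pat]
    exact reach_one hQ ht
  · rw [dblHom_pat]
    exact reach_four64 hQ ht
  · exact reach_six hP hs ho hp
  · exact reach_gen hx hn hP hc hz
  · exact reach_o7 hc hT
  · exact reach_o8 hc hT hj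

/-- transitivity on the vectors of sum of squares 64. -/
theorem trans64 (v w : ↥leechLattice) (hv : sqNorm (v : GolayPt → ℤ) = 64)
    (hw : sqNorm (w : GolayPt → ℤ) = 64) : ∃ g : Co0, g • v = w := by
  obtain ⟨hx, g, hg, hgw⟩ := (reach_64 v.2 hv).trans (reach_64 w.2 hw).symm
  exact ⟨⟨g, hg⟩, Subtype.ext hgw⟩

end Cfsg.Agent.Helper9.Leech
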