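import Mathlib
import Cfsg.Prelude.Def_Sporadic_a
import Cfsg.Prelude.Def_SporadicCombinatorics
import Cfsg.Agent.Helper9.Leech.Trans64
import Cfsg.Agent.Helper9.Leech.CrossStab

/-!
The order of the automorphism group of the lattice.
-/

set_option autoImplicit false

namespace Cfsg.Agent.Helper9.Leech

open Cfsg
open Cfsg.Agent.Helper9.Golay
open scoped Pointwise

theorem single_mem (i : GolayPt) {s : ℤ} (hs : s = 8 ∨ s = -8) :
    (Pi.single i s : GolayPt → ℤ) ∈ leechLattice := by
  rcases hs with rfl | rfl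
  · exact (e8 i).2
  · have h := leechLattice.neg_mem (e8 i).2
    have e : (Pi.single i (-8) : GolayPt → ℤ) = -((e8 i : ↥leechLattice) : GolayPt → ℤ) := by
      change _ = -(Pi.single i (8 : ℤ) : GolayPt → ℤ)
      rw [← Pi.single_neg]
    rw [e]
    exact h

theorem sqNorm_single (i : GolayPt) (s : ℤ) : sqNorm (Pi.single i s : GolayPt → ℤ) = s ^ 2 := by
  unfold sqNorm
  rw [Finset.sum_eq_single i]
  · rw [Pi.single_eq_same]
  · intro j _ hj
    rw [Pi.single_eq_of_ne hj]
    ring
  · intro h
    exact absurd (Finset.mem_univ i) h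

theorem stdCross_ncard : stdCross.ncard = 48 := by
  have h : stdCross = Set.range (fun p : GolayPt × Bool =>
      (Pi.single p.1 (if p.2 then (8 : ℤ) else -8) : GolayPt → ℤ)) := by
    ext y
    constructor
    · rintro ⟨i, s, hs, rfl⟩
      rcases hs with rfl | rfl
      · exact ⟨(i, true), rfl⟩
      · exact ⟨(i, false), rfl⟩
    · rintro ⟨⟨i, b⟩, rfl⟩
      cases b
      · exact ⟨i, -8, Or.inr rfl, rfl⟩
      · exact ⟨i, 8, Or.inl rfl, rfl⟩
  have hinj : Function.Injective (fun p : GolayPt × Bool =>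
      (Pi.single p.1 (if p.2 then (8 : ℤ) else -8) : GolayPt → ℤ)) := by
    rintro ⟨i, b⟩ ⟨j, b'⟩ hij
    dsimp only at hij
    have h1 := congrFun hij i
    rw [Pi.single_eq_same, Pi.single_apply] at h1
    have hne : (if b then (8 : ℤ) else -8) ≠ 0 := by
      cases b <;> simp
    by_cases hji : i = j
    · subst hji
      rw [if_pos rfl] at h1
      have hb : b = b' := by
        cases b <;> cases b' <;> simp at h1 ⊢
      rw [hb]
    · rw [if_neg hji] at h1
      exact absurd h1 hne
  rw [h, ← Set.image_univ, Set.ncard_image_of_injective _ hinj, Set.ncard_univ,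
    Nat.card_eq_fintype_card, Fintype.card_prod, card_golayPt, Fintype.card_bool]

theorem half_mem (i : GolayPt) {a : ℤ} (ha : a = 4 ∨ a = -4) :
    (Pi.single none 4 - Pi.single i a : GolayPt → ℤ) ∈ leechLattice := by
  rw [mem_leechLattice_iff]
  apply Spor.mem_leechSet_of_const_mod_four _ 0 0 (by decide)
  · intro j
    rw [Pi.sub_apply, Pi.single_apply, Pi.single_apply]
    rcases ha with rfl | rfl <;> split_ifs <;> decide
  · simp only [Pi.sub_apply]
    rw [Finset.sum_sub_distrib, Finset.sum_pi_single', Finset.sum_pi_single',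
      if_pos (Finset.mem_univ _), if_pos (Finset.mem_univ _)]
    rcases ha with rfl | rfl <;> decide

theorem stdCross_sub_cross : stdCross ⊆ cross (Pi.single none 8) := by
  rintro y ⟨i, s, hs, rfl⟩
  refine ⟨single_mem i hs, ?_, ?_⟩
  · rw [sqNorm_single, sqNorm_single]
    rcases hs with rfl | rfl <;> norm_num
  · rcases hs with rfl | rfl
    · refine ⟨_, half_mem i (Or.inl rfl), ?_⟩
      rw [← dblHom_eq_smul]
      funext j
      rw [dblHom_apply, Pi.sub_apply, Pi.sub_apply, Pi.single_apply, Pi.single_apply,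
        Pi.single_apply, Pi.single_apply]
      split_ifs <;> norm_num
    · refine ⟨_, half_mem i (Or.inr rfl), ?_⟩
      rw [← dblHom_eq_smul]
      funext j
      rw [dblHom_apply, Pi.sub_apply, Pi.sub_apply, Pi.single_apply, Pi.single_apply,
        Pi.single_apply, Pi.single_apply]
      split_ifs <;> norm_num

theorem stdCross_eq : stdCross = cross (Pi.single none 8) := by
  have hfin : (cross (Pi.single none 8)).Finite := by
    apply (normSet_finite 64).subset
    intro y hy
    refine ⟨hy.1, ?_⟩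
    rw [hy.2.1, sqNorm_single]
    norm_num
  apply Set.eq_of_subset_of_ncard_le stdCross_sub_cross _ hfin
  have h := card_cross _ (e8 none).2 (sqNorm_e8 none)
  change (cross (Pi.single none (8 : ℤ))).ncard = 48 at h
  rw [h, stdCross_ncard]

/-- the vectors of the standard cross, as lattice vectors. -/
def crossSet : Set ↥leechLattice := {v | (v : GolayPt → ℤ) ∈ stdCross}

theorem crossSet_finite : crossSet.Finite := by
  have hfin : stdCross.Finite := Set.finite_of_ncard_ne_zero (by rw [stdCross_ncard]; norm_num)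
  exact Set.Finite.preimage (Subtype.val_injective.injOn) hfin

theorem crossSet_ncard : crossSet.ncard = 48 := by
  rw [← stdCross_ncard, ← Set.ncard_image_of_injective crossSet Subtype.val_injective]
  congr 1
  ext y
  constructor
  · rintro ⟨v, hv, rfl⟩
    exact hv
  · intro hy
    have hmem : y ∈ leechLattice := by
      obtain ⟨i, s, hs, rfl⟩ := hy
      exact single_mem i hs
    exact ⟨⟨y, hmem⟩, hy, rfl⟩

theorem smul_sub' (g : ↥Co0) (v w : ↥leechLattice) : g • (v - w) = g • v - g • w :=
  map_sub (toAddHom g.2) v w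

theorem smul_add' (g : ↥Co0) (v w : ↥leechLattice) : g • (v + w) = g • v + g • w :=
  map_add (toAddHom g.2) v w

/-- the stabiliser of a vector of the standard cross stabilises the cross. -/
theorem stab_sub (g : ↥Co0) (hg : g • e8 none = e8 none) : StabCross g := by
  intro v hv
  rw [stdCross_eq] at hv ⊢
  obtain ⟨-, hn, z, hz, hzv⟩ := hv
  refine ⟨(g • v).2, ?_, ((g • (⟨z, hz⟩ : ↥leechLattice) : ↥leechLattice) : GolayPt → ℤ),
    (g • (⟨z, hz⟩ : ↥leechLattice)).2, ?_⟩
  · rw [← hn]
    exact g.2.2 v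
  · have h1 : e8 none - v = (⟨z, hz⟩ : ↥leechLattice) + ⟨z, hz⟩ := by
      apply Subtype.ext
      change (Pi.single none (8 : ℤ) : GolayPt → ℤ) - (v : GolayPt → ℤ) = z + z
      rw [hzv, ← dblHom_eq_smul]
      funext j
      rw [dblHom_apply, Pi.add_apply]
      ring
    have h2 : g • (e8 none - v) = g • ((⟨z, hz⟩ : ↥leechLattice) + ⟨z, hz⟩) := by rw [h1]
    rw [smul_sub', smul_add', hg] at h2
    have h3 : ((e8 none - g • v : ↥leechLattice) : GolayPt → ℤ) =
        ((g • (⟨z, hz⟩ : ↥leechLattice) + g • (⟨z, hz⟩ : ↥leechLattice) : ↥leechLattice) :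
          GolayPt → ℤ) := by rw [h2]
    rw [← dblHom_eq_smul]
    funext j
    have h4 := congrFun h3 j
    rw [dblHom_apply]
    change (Pi.single none (8 : ℤ) : GolayPt → ℤ) j - ((g • v : ↥leechLattice) : GolayPt → ℤ) j =
      ((g • (⟨z, hz⟩ : ↥leechLattice) : ↥leechLattice) : GolayPt → ℤ) j +
      ((g • (⟨z, hz⟩ : ↥leechLattice) : ↥leechLattice) : GolayPt → ℤ) j at h4
    rw [Pi.sub_apply, h4]
    ring

/-- the stabiliser of the standard cross. -/
def NN : Subgroup ↥Co0 := MulAction.stabilizer ↥Co0 crossSet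

theorem mem_NN (g : ↥Co0) : g ∈ NN ↔ StabCross g := by
  unfold NN
  rw [MulAction.mem_stabilizer_set' crossSet_finite]
  constructor
  · intro h v hv
    exact h hv
  · intro h v hv
    exact h v hv

theorem card_NN : Nat.card ↥NN = 4096 * 244823040 := by
  rw [← card_stabCross]
  exact Nat.card_congr (Equiv.subtypeEquivRight mem_NN)

theorem stab_le : MulAction.stabilizer ↥Co0 (e8 none) ≤ NN := by
  intro g hg
  rw [mem_NN]
  exact stab_sub g (MulAction.mem_stabilizer_iff.mp hg)

theorem e8_mem_crossSet (i : GolayPt) : e8 i ∈ crossSet := e8_mem_stdCross i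

theorem orbit_NN : MulAction.orbit ↥NN (e8 none) = crossSet := by
  ext w
  constructor
  · rintro ⟨n, rfl⟩
    have h := (mem_NN n.1).mp n.2
    exact h (e8 none) (e8_mem_stdCross none)
  · intro hw
    obtain ⟨i, s, hs, hws⟩ := id hw
    obtain ⟨σ, hσ, hσi⟩ := m24_trans none i
    have key : ∀ (c : Finset GolayPt)
        (hc : c ∈ supports (golayCode : Set (GolayPt → ZMod 2))),
        (if i ∈ c then (-8 : ℤ) else 8) = s → w ∈ MulAction.orbit ↥NN (e8 none) := by
      intro c hc hcs
      have hn : (⟨monoPerm σ hσ c hc, monoPerm_mem σ hσ c hc⟩ : ↥Co0) ∈ NN :=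
        (mem_NN _).mpr (monoPerm_stab σ hσ c hc)
      refine ⟨⟨_, hn⟩, ?_⟩
      apply Subtype.ext
      change signedPerm σ c (Pi.single none (8 : ℤ)) = (w : GolayPt → ℤ)
      rw [signedPerm_single, hσi, hws, hcs]
    rcases hs with rfl | rfl
    · exact key ∅ Spor.empty_mem_supports_golayCode (by rw [if_neg (Finset.notMem_empty i)])
    · exact key Finset.univ univ_mem_supports (by rw [if_pos (Finset.mem_univ i)])

theorem orbit_co0 : MulAction.orbit ↥Co0 (e8 none) =
    {v : ↥leechLattice | sqNorm (v : GolayPt → ℤ) = 64} := by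
  ext w
  constructor
  · rintro ⟨g, rfl⟩
    change sqNorm ((g • e8 none : ↥leechLattice) : GolayPt → ℤ) = 64
    rw [← sqNorm_e8 none]
    exact g.2.2 (e8 none)
  · intro hw
    obtain ⟨g, hg⟩ := trans64 (e8 none) w (sqNorm_e8 none) hw
    exact ⟨g, hg⟩

theorem ncard_norm64 : {v : ↥leechLattice | sqNorm (v : GolayPt → ℤ) = 64}.ncard = 398034000 := by
  rw [← card64, ← Set.ncard_image_of_injective _ Subtype.val_injective]
  congr 1
  ext y
  constructor
  · rintro ⟨v, hv, rfl⟩
    exact ⟨v.2, hv⟩
  · rintro ⟨hy, hn⟩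
    exact ⟨⟨y, hy⟩, hn, rfl⟩

/-- the order of the group. -/
theorem card_co0 : Nat.card ↥Co0 = 8315553613086720000 := by
  have h1 := Subgroup.index_mul_card (MulAction.stabilizer ↥Co0 (e8 none))
  rw [MulAction.index_stabilizer, orbit_co0, ncard_norm64] at h1
  have h2 := Subgroup.index_mul_card (MulAction.stabilizer ↥NN (e8 none))
  rw [MulAction.index_stabilizer, orbit_NN, crossSet_ncard, card_NN] at h2
  have key : (MulAction.stabilizer ↥Co0 (e8 none)).subgroupOf NN =
      MulAction.stabilizer ↥NN (e8 none) := by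
    ext
    rfl
  have h3 : Nat.card ↥(MulAction.stabilizer ↥NN (e8 none)) =
      Nat.card ↥(MulAction.stabilizer ↥Co0 (e8 none)) := by
    rw [← key]
    exact Nat.card_congr (Subgroup.subgroupOfEquivOfLe stab_le).toEquiv
  rw [h3] at h2
  omega

end Cfsg.Agent.Helper9.Leech
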