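import Mathlib
import Cfsg.Prelude.Def_Sporadic_a
import Cfsg.Prelude.Def_SporadicCombinatorics
import Cfsg.Agent.Helper9.Leech.Order
import Cfsg.Agent.Helper9.Leech.Center
import Cfsg.Agent.Helper9.Leech.GenMin

/-!
The action on the lattice modulo twice the lattice: its kernel and its irreducibility.
-/

set_option autoImplicit false

namespace Cfsg.Agent.Helper9.Leech

open Cfsg
open Cfsg.Agent.Helper9.Golay
open scoped Pointwise

theorem zsmul_two (z : GolayPt → ℤ) : (2 : ℤ) • z = 2 • z := by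
  funext i
  simp

/-! ### irreducibility -/

theorem sqNorm_pat' {k : ℤ} {P s : Finset GolayPt} (hs : s ⊆ P) :
    sqNorm (pat k P s) = P.card * k ^ 2 := by
  have h := pw_pat (k := k) hs (e := 2) (by decide) (by decide)
  rw [← sqNorm_eq_pw] at h
  exact h

/-- two vectors of sum of squares 48 whose difference has sum of squares 32. -/
theorem diff48 : baseP {some 0, some 1, some 2} (-3) - baseP {some 0, some 1, some 3} (-3) =
    pat 4 {some 2, some 3} {some 2} :=
  funext (by decide)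

/-- two vectors of sum of squares 64 whose difference has sum of squares 32. -/
theorem diff64 : pat 4 {some 0, some 1, some 2, some 3} ∅ - pat 4 {some 0, some 1, some 2, some 4} ∅ =
    pat 4 {some 3, some 4} {some 4} :=
  funext (by decide)

theorem irred (M : AddSubgroup (GolayPt → ℤ)) (h2 : ∀ v ∈ leechLattice, (2 : ℤ) • v ∈ M)
    (hM : M ≤ leechLattice)
    (hinv : ∀ g : ↥Co0, ∀ v : ↥leechLattice, (v : GolayPt → ℤ) ∈ M →
      ((g • v : ↥leechLattice) : GolayPt → ℤ) ∈ M) :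
    (∀ x ∈ M, ∃ w ∈ leechLattice, x = (2 : ℤ) • w) ∨ M = leechLattice := by
  classical
  by_cases hall : ∀ x ∈ M, ∃ w ∈ leechLattice, x = (2 : ℤ) • w
  · exact Or.inl hall
  right
  push_neg at hall
  obtain ⟨x, hxM, hx⟩ := hall
  obtain ⟨y, hy, hyn, z, hz, hxyz⟩ := classes_rep x (hM hxM)
  rw [← zsmul_two] at hxyz
  have hyM : y ∈ M := by
    have e : y = x - (2 : ℤ) • z := by
      rw [← hxyz]
      abel
    rw [e]
    exact M.sub_mem hxM (h2 z hz)
  have hy2 : ∀ w ∈ leechLattice, y ≠ (2 : ℤ) • w := by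
    intro w hw hyw
    apply hx (w + z) (leechLattice.add_mem hw hz)
    have e : x = y + (2 : ℤ) • z := by
      rw [← hxyz]
      abel
    rw [e, hyw, smul_add]
  have hy0 : y ≠ 0 := by
    intro h0
    exact hy2 0 leechLattice.zero_mem (by rw [h0, smul_zero])
  -- transport along the group
  have hmove : ∀ a b : GolayPt → ℤ, ∀ ha : a ∈ leechLattice, ∀ hb : b ∈ leechLattice,
      (∃ g : Co0, g • (⟨a, ha⟩ : ↥leechLattice) = ⟨b, hb⟩) → a ∈ M → b ∈ M := by
    intro a b ha hb ⟨g, hg⟩ haM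
    have := hinv g ⟨a, ha⟩ haM
    rw [hg] at this
    exact this
  have hmin : ∃ m ∈ M, sqNorm m = 32 := by
    have h16 := sixteen_dvd_sqNorm ((mem_leechLattice_iff y).mp hy)
    have h32 := min_norm hy hy0
    obtain ⟨k, hk⟩ := h16
    have hcases : sqNorm y = 32 ∨ sqNorm y = 48 ∨ sqNorm y = 64 := by omega
    rcases hcases with h | h | h
    · exact ⟨y, hyM, h⟩
    · have ha : baseP {some 0, some 1, some 2} (-3) ∈ leechLattice :=
        baseP_mem (by norm_num) (by decide)
      have hb : baseP {some 0, some 1, some 3} (-3) ∈ leechLattice :=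
        baseP_mem (by norm_num) (by decide)
      have han : sqNorm (baseP {some 0, some 1, some 2} (-3)) = 48 := by
        rw [sqNorm_baseP]
        decide
      have hbn : sqNorm (baseP {some 0, some 1, some 3} (-3)) = 48 := by
        rw [sqNorm_baseP]
        decide
      have haM := hmove y _ hy ha (trans48 ⟨y, hy⟩ ⟨_, ha⟩ h han) hyM
      have hbM := hmove y _ hy hb (trans48 ⟨y, hy⟩ ⟨_, hb⟩ h hbn) hyM
      refine ⟨_, M.sub_mem haM hbM, ?_⟩
      rw [diff48, sqNorm_pat' (by decide)]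
      decide
    · have ha : pat 4 {some 0, some 1, some 2, some 3} ∅ ∈ leechLattice :=
        four_mem64 (by decide) (Finset.empty_subset _)
      have hb : pat 4 {some 0, some 1, some 2, some 4} ∅ ∈ leechLattice :=
        four_mem64 (by decide) (Finset.empty_subset _)
      have han : sqNorm (pat 4 {some 0, some 1, some 2, some 3} ∅) = 64 := by
        rw [sqNorm_pat' (Finset.empty_subset _)]
        decide
      have hbn : sqNorm (pat 4 {some 0, some 1, some 2, some 4} ∅) = 64 := by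
        rw [sqNorm_pat' (Finset.empty_subset _)]
        decide
      have haM := hmove y _ hy ha (trans64 ⟨y, hy⟩ ⟨_, ha⟩ h han) hyM
      have hbM := hmove y _ hy hb (trans64 ⟨y, hy⟩ ⟨_, hb⟩ h hbn) hyM
      refine ⟨_, M.sub_mem haM hbM, ?_⟩
      rw [diff64, sqNorm_pat' (by decide)]
      decide
  obtain ⟨m, hmM, hmn⟩ := hmin
  apply le_antisymm hM
  rw [← minGen_eq]
  unfold minGen
  rw [AddSubgroup.closure_le]
  rintro w ⟨hw, hwn⟩
  exact hmove m w (hM hmM) hw (trans32 ⟨m, hM hmM⟩ ⟨w, hw⟩ hmn hwn) hmM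

/-! ### the kernel -/

open Classical in
/-- the action of an automorphism on vectors, extended by zero. -/
noncomputable def gf (g : ↥Co0) (x : GolayPt → ℤ) : GolayPt → ℤ :=
  if hx : x ∈ leechLattice then
    ((g • (⟨x, hx⟩ : ↥leechLattice) : ↥leechLattice) : GolayPt → ℤ) else 0

theorem gf_of_mem (g : ↥Co0) {x : GolayPt → ℤ} (hx : x ∈ leechLattice) :
    gf g x = ((g • (⟨x, hx⟩ : ↥leechLattice) : ↥leechLattice) : GolayPt → ℤ) := by
  unfold gf
  rw [dif_pos hx]

theorem gf_add (g : ↥Co0) {x y : GolayPt → ℤ} (hx : x ∈ leechLattice) (hy : y ∈ leechLattice) :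
    gf g (x + y) = gf g x + gf g y := by
  rw [gf_of_mem g (leechLattice.add_mem hx hy), gf_of_mem g hx, gf_of_mem g hy]
  exact congrArg Subtype.val (smul_add' g ⟨x, hx⟩ ⟨y, hy⟩)

theorem gf_sub (g : ↥Co0) {x y : GolayPt → ℤ} (hx : x ∈ leechLattice) (hy : y ∈ leechLattice) :
    gf g (x - y) = gf g x - gf g y := by
  rw [gf_of_mem g (leechLattice.sub_mem hx hy), gf_of_mem g hx, gf_of_mem g hy]
  exact congrArg Subtype.val (smul_sub' g ⟨x, hx⟩ ⟨y, hy⟩)

/-- the automorphisms acting trivially modulo twice the lattice. -/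
def TrivTwo (g : ↥Co0) : Prop :=
  ∀ v : ↥leechLattice, ∃ w : ↥leechLattice,
    ((g • v : ↥leechLattice) : GolayPt → ℤ) - (v : GolayPt → ℤ) = 2 • (w : GolayPt → ℤ)

theorem gf_short {g : ↥Co0} (hg : TrivTwo g) {x : GolayPt → ℤ} (hx : x ∈ leechLattice)
    (hn : sqNorm x = 32) : gf g x = x ∨ gf g x = -x := by
  rw [gf_of_mem g hx]
  obtain ⟨w, hw⟩ := hg ⟨x, hx⟩
  have hgn : sqNorm ((g • (⟨x, hx⟩ : ↥leechLattice) : ↥leechLattice) : GolayPt → ℤ) = 32 := by
    rw [← hn]
    exact g.2.2 ⟨x, hx⟩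
  have h := congruent_short' _ x (g • (⟨x, hx⟩ : ↥leechLattice)).2 hx (by rw [hgn]; norm_num)
    (by rw [hn]; norm_num) ⟨w.1, w.2, hw⟩
  rcases h.2 (by rw [hgn]; norm_num) with h1 | h1
  · left
    exact h1.symm
  · right
    exact (neg_eq_iff_eq_neg.mpr h1).symm

open Classical in
/-- the sign of the action on a vector. -/
noncomputable def sg (g : ↥Co0) (x : GolayPt → ℤ) : ℤ := if gf g x = x then 1 else -1

theorem gf_sg {g : ↥Co0} (hg : TrivTwo g) {x : GolayPt → ℤ} (hx : x ∈ leechLattice)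
    (hn : sqNorm x = 32) : gf g x = sg g x • x := by
  unfold sg
  by_cases h : gf g x = x
  · rw [if_pos h, one_smul, h]
  · rw [if_neg h, neg_one_smul]
    rcases gf_short hg hx hn with h1 | h1
    · exact absurd h1 h
    · exact h1

theorem sgn_eq (g : ↥Co0) {x y : GolayPt → ℤ} (hx : x ∈ leechLattice) (hy : y ∈ leechLattice)
    {e1 e2 e3 : ℤ} (h1 : gf g x = e1 • x) (h2 : gf g y = e2 • y)
    (h3 : gf g (x - y) = e3 • (x - y)) {p q : GolayPt} (hxp : x p ≠ 0) (hyp : y p = 0)
    (hyq : y q ≠ 0) (hxq : x q = 0) : e1 = e3 ∧ e2 = e3 := by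
  have h := gf_sub g hx hy
  rw [h1, h2, h3] at h
  have hp := congrFun h p
  have hq := congrFun h q
  simp only [Pi.smul_apply, Pi.sub_apply, smul_eq_mul, hyp, hxq, sub_zero, zero_sub,
    mul_zero, mul_neg] at hp hq
  constructor
  · exact (mul_right_cancel₀ hxp hp).symm
  · have h' : e3 * y q = e2 * y q := by linarith
    exact (mul_right_cancel₀ hyq h').symm

/-- the vectors with two entries `±4`. -/
def Wv (i j : GolayPt) (a b : ℤ) : GolayPt → ℤ :=
  dblHom ((Pi.single i a : GolayPt → ℤ) + Pi.single j b)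

theorem Wv_apply (i j : GolayPt) (a b : ℤ) (p : GolayPt) :
    Wv i j a b p = 2 * ((if p = i then a else 0) + (if p = j then b else 0)) := by
  unfold Wv
  rw [dblHom_apply, Pi.add_apply, Pi.single_apply, Pi.single_apply]

theorem Wv_mem {i j : GolayPt} (hij : i ≠ j) {a b : ℤ} (ha : a = 2 ∨ a = -2)
    (hb : b = 2 ∨ b = -2) : Wv i j a b ∈ leechLattice :=
  minGen_le (two_four_mem hij ha hb)

theorem sqNorm_Wv {i j : GolayPt} (hij : i ≠ j) {a b : ℤ} (ha : a = 2 ∨ a = -2)
    (hb : b = 2 ∨ b = -2) : sqNorm (Wv i j a b) = 32 := by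
  unfold Wv
  rw [sqNorm_eq_pw, pw_dblHom, pw_add_of_disj (by decide), pw_single (by decide),
    pw_single (by decide)]
  · rcases ha with rfl | rfl <;> rcases hb with rfl | rfl <;> norm_num
  · intro k
    by_cases hki : k = i
    · right
      rw [hki, Pi.single_eq_of_ne hij]
    · left
      rw [Pi.single_eq_of_ne hki]

theorem Wv_sub (i j k : GolayPt) (a b c : ℤ) :
    Wv i j a b - Wv k j c b = Wv i k a (-c) := by
  funext p
  rw [Pi.sub_apply, Wv_apply, Wv_apply, Wv_apply]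
  split_ifs <;> ring

theorem sg_three {g : ↥Co0} (hg : TrivTwo g) {i j k : GolayPt} (hij : i ≠ j) (hik : i ≠ k)
    (hjk : j ≠ k) {a b c : ℤ} (ha : a = 2 ∨ a = -2) (hb : b = 2 ∨ b = -2)
    (hc : c = 2 ∨ c = -2) :
    sg g (Wv i j a b) = sg g (Wv i k a (-c)) ∧ sg g (Wv k j c b) = sg g (Wv i k a (-c)) := by
  have hc' : -c = 2 ∨ -c = -2 := by
    rcases hc with rfl | rfl
    · right; rfl
    · left; norm_num
  have hx := Wv_mem hij ha hb
  have hy := Wv_mem hjk.symm hc hb
  have hz := Wv_mem hik ha hc'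
  have h1 := gf_sg hg hx (sqNorm_Wv hij ha hb)
  have h2 := gf_sg hg hy (sqNorm_Wv hjk.symm hc hb)
  have h3 := gf_sg hg hz (sqNorm_Wv hik ha hc')
  rw [← Wv_sub i j k a b c] at h3
  have hxp : Wv i j a b i ≠ 0 := by
    rw [Wv_apply, if_pos rfl, if_neg hij]
    rcases ha with rfl | rfl <;> norm_num
  have hyp : Wv k j c b i = 0 := by
    rw [Wv_apply, if_neg hik, if_neg hij]
    norm_num
  have hyq : Wv k j c b k ≠ 0 := by
    rw [Wv_apply, if_pos rfl, if_neg hjk.symm]
    rcases hc with rfl | rfl <;> norm_num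
  have hxq : Wv i j a b k = 0 := by
    rw [Wv_apply, if_neg hik.symm, if_neg hjk.symm]
    norm_num
  have h := sgn_eq g hx hy h1 h2 h3 hxp hyp hyq hxq
  rw [Wv_sub] at h
  exact h

theorem exists_fresh (s : Finset GolayPt) (hs : s.card < 24) : ∃ m, m ∉ s := by
  by_contra h
  push_neg at h
  have e : s = Finset.univ := Finset.eq_univ_of_forall h
  rw [e, Finset.card_univ, card_golayPt] at hs
  omega

theorem sg_to_fresh {g : ↥Co0} (hg : TrivTwo g) {i j m1 m2 : GolayPt} (hij : i ≠ j)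
    (h1i : m1 ≠ i) (h1j : m1 ≠ j) (h2i : m2 ≠ i) (h21 : m2 ≠ m1) {a b : ℤ}
    (ha : a = 2 ∨ a = -2) (hb : b = 2 ∨ b = -2) :
    sg g (Wv i j a b) = sg g (Wv m2 m1 2 2) := by
  have t1 := (sg_three hg hij h1i.symm h1j.symm ha hb (c := -2) (Or.inr rfl)).1
  rw [neg_neg] at t1
  have t2 := sg_three hg h1i.symm h2i.symm h21.symm ha (b := 2) (Or.inl rfl) (c := 2) (Or.inl rfl)
  rw [t1, t2.1, ← t2.2]

theorem sg_const {g : ↥Co0} (hg : TrivTwo g) {i j k l : GolayPt} (hij : i ≠ j) (hkl : k ≠ l)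
    {a b c d : ℤ} (ha : a = 2 ∨ a = -2) (hb : b = 2 ∨ b = -2) (hc : c = 2 ∨ c = -2)
    (hd : d = 2 ∨ d = -2) : sg g (Wv i j a b) = sg g (Wv k l c d) := by
  classical
  obtain ⟨m1, hm1⟩ := exists_fresh {i, j, k, l}
    (lt_of_le_of_lt Finset.card_le_four (by norm_num))
  obtain ⟨m2, hm2⟩ := exists_fresh {i, k, m1}
    (lt_of_le_of_lt Finset.card_le_three (by norm_num))
  simp only [Finset.mem_insert, Finset.mem_singleton, not_or] at hm1 hm2
  rw [sg_to_fresh hg hij hm1.1 hm1.2.1 hm2.1 hm2.2.2 ha hb,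
    sg_to_fresh hg hkl hm1.2.2.1 hm1.2.2.2 hm2.2.1 hm2.2.2 hc hd]

theorem e8_eq_add {i j : GolayPt} (hij : i ≠ j) :
    ((e8 i : ↥leechLattice) : GolayPt → ℤ) = Wv i j 2 2 + Wv i j 2 (-2) := by
  funext p
  rw [e8_apply, Pi.add_apply, Wv_apply, Wv_apply]
  split_ifs <;> norm_num

theorem lin_of_e8 {z : Equiv.Perm ↥leechLattice} (hz : z ∈ Co0) (s : ℤ)
    (hs : ∀ i, z (e8 i) = s • e8 i) (v : ↥leechLattice) : z v = s • v := by
  have h8 : (8 : ℤ) • z v = (8 : ℤ) • (s • v) := by
    have h1 : (8 : ℤ) • z v = toAddHom hz ((8 : ℤ) • v) := by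
      rw [map_zsmul]
      rfl
    rw [h1, eight_smul_eq, map_sum]
    have h2 : ∀ i, toAddHom hz (((v : GolayPt → ℤ) i) • e8 i) =
        ((v : GolayPt → ℤ) i) • (s • e8 i) := by
      intro i
      rw [map_zsmul, toAddHom_apply, hs i]
    simp only [h2]
    rw [smul_comm (8 : ℤ) s v, eight_smul_eq, Finset.smul_sum]
    apply Finset.sum_congr rfl
    intro i _
    rw [smul_comm]
  apply Subtype.ext
  funext j
  have := congrArg (fun w : ↥leechLattice => (w : GolayPt → ℤ) j) h8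
  simp only [AddSubgroup.coe_zsmul, Pi.smul_apply, smul_eq_mul] at this
  simp only [AddSubgroup.coe_zsmul, Pi.smul_apply, smul_eq_mul]
  omega

/-- the automorphisms acting trivially modulo twice the lattice are central. -/
theorem triv_central {g : ↥Co0} (hg : TrivTwo g) : g ∈ Subgroup.center ↥Co0 := by
  have h01 : (none : GolayPt) ≠ some 0 := by decide
  have hall : ∀ i, g.1 (e8 i) = sg g (Wv none (some 0) 2 2) • e8 i := by
    intro i
    obtain ⟨j, hj⟩ := exists_fresh {i} (by rw [Finset.card_singleton]; norm_num)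
    rw [Finset.mem_singleton] at hj
    have hij : i ≠ j := fun h => hj h.symm
    have hx := Wv_mem hij (a := 2) (b := 2) (Or.inl rfl) (Or.inl rfl)
    have hy := Wv_mem hij (a := 2) (b := -2) (Or.inl rfl) (Or.inr rfl)
    have h1 := gf_sg hg hx (sqNorm_Wv hij (Or.inl rfl) (Or.inl rfl))
    have h2 := gf_sg hg hy (sqNorm_Wv hij (Or.inl rfl) (Or.inr rfl))
    rw [sg_const hg hij h01 (Or.inl rfl) (Or.inl rfl) (Or.inl rfl) (Or.inl rfl)] at h1
    rw [sg_const hg hij h01 (Or.inl rfl) (Or.inr rfl) (Or.inl rfl) (Or.inl rfl)] at h2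
    have h3 := gf_add g hx hy
    rw [h1, h2, ← smul_add, ← e8_eq_add hij, gf_of_mem g (e8 i).2] at h3
    apply Subtype.ext
    exact h3
  have hcases : sg g (Wv none (some 0) 2 2) = 1 ∨ sg g (Wv none (some 0) 2 2) = -1 := by
    unfold sg
    split_ifs
    · exact Or.inl rfl
    · exact Or.inr rfl
  have hlin := lin_of_e8 g.2 _ hall
  rw [Subgroup.mem_center_iff]
  intro f
  rcases hcases with h | h
  · have e : g = 1 := by
      apply Subtype.ext
      apply Equiv.ext
      intro v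
      rw [hlin v, h, one_smul]
      rfl
    rw [e, mul_one, one_mul]
  · have e : g = ⟨negPerm, negPerm_mem⟩ := by
      apply Subtype.ext
      apply Equiv.ext
      intro v
      rw [hlin v, h, neg_one_smul]
      rfl
    rw [e]
    exact (negPerm_central f).symm

end Cfsg.Agent.Helper9.Leech
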