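import Mathlib
import Cfsg.Prelude.Def_Sporadic_a
import Cfsg.Prelude.Def_SporadicCombinatorics
import Cfsg.Agent.Helper9.Leech.ModTwo

/-!
Moving two congruent orthogonal vectors of sum of squares 64 to standard position, and the
transitivity on the orthogonal pairs of vectors of sum of squares 32.
-/

set_option autoImplicit false

namespace Cfsg.Agent.Helper9.Leech

open Cfsg
open Cfsg.Agent.Helper9.Golay
open scoped Pointwise

theorem sqNorm_add' (x y : GolayPt → ℤ) :
    sqNorm (x + y) = sqNorm x + sqNorm y + 2 * dotInt x y := by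
  unfold sqNorm dotInt
  rw [Finset.mul_sum, ← Finset.sum_add_distrib, ← Finset.sum_add_distrib]
  apply Finset.sum_congr rfl
  intro i _
  rw [Pi.add_apply]
  ring

theorem sqNorm_sub' (x y : GolayPt → ℤ) :
    sqNorm (x - y) = sqNorm x + sqNorm y - 2 * dotInt x y := by
  unfold sqNorm dotInt
  rw [Finset.mul_sum, ← Finset.sum_add_distrib, ← Finset.sum_sub_distrib]
  apply Finset.sum_congr rfl
  intro i _
  rw [Pi.sub_apply]
  ring

/-- the automorphisms preserve the inner products. -/
theorem co0_dot (g : ↥Co0) (v w : ↥leechLattice) :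
    dotInt ((g • v : ↥leechLattice) : GolayPt → ℤ) ((g • w : ↥leechLattice) : GolayPt → ℤ) =
      dotInt (v : GolayPt → ℤ) (w : GolayPt → ℤ) := by
  have h1 := g.2.2 (v + w)
  have h2 := g.2.2 v
  have h3 := g.2.2 w
  have e : ((g.1 (v + w) : ↥leechLattice) : GolayPt → ℤ) =
      ((g • v : ↥leechLattice) : GolayPt → ℤ) + ((g • w : ↥leechLattice) : GolayPt → ℤ) :=
    congrArg Subtype.val (smul_add' g v w)
  rw [e, sqNorm_add'] at h1
  have e' : ((v + w : ↥leechLattice) : GolayPt → ℤ) = (v : GolayPt → ℤ) + (w : GolayPt → ℤ) := rfl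
  rw [e', sqNorm_add'] at h1
  have h2' : sqNorm ((g • v : ↥leechLattice) : GolayPt → ℤ) = sqNorm (v : GolayPt → ℤ) := h2
  have h3' : sqNorm ((g • w : ↥leechLattice) : GolayPt → ℤ) = sqNorm (w : GolayPt → ℤ) := h3
  omega

theorem mul_smul' (g h : ↥Co0) (v : ↥leechLattice) : (g * h) • v = g • (h • v) := rfl

theorem inv_smul_smul' (g : ↥Co0) (v : ↥leechLattice) : g⁻¹ • (g • v) = v :=
  inv_smul_smul g v

/-- two congruent vectors of sum of squares 64, not equal or opposite, can be moved to standard
position. -/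
theorem frame_map (x y : ↥leechLattice) (hx : sqNorm (x : GolayPt → ℤ) = 64)
    (hy : sqNorm (y : GolayPt → ℤ) = 64) (hne : x ≠ y) (hne' : x ≠ -y)
    (hc : ∃ z : ↥leechLattice, x - y = z + z) :
    ∃ g : ↥Co0, g • x = e8 none ∧ g • y = e8 (some 0) := by
  classical
  obtain ⟨g1, hg1⟩ := trans64 x (e8 none) hx (sqNorm_e8 none)
  obtain ⟨z, hz⟩ := hc
  -- the image of the second vector lies in the standard cross
  have hy1 : ((g1 • y : ↥leechLattice) : GolayPt → ℤ) ∈ stdCross := by
    rw [stdCross_eq]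
    refine ⟨(g1 • y).2, ?_, ((g1 • z : ↥leechLattice) : GolayPt → ℤ), (g1 • z).2, ?_⟩
    · rw [sqNorm_single]
      have : sqNorm ((g1 • y : ↥leechLattice) : GolayPt → ℤ) = sqNorm (y : GolayPt → ℤ) :=
        g1.2.2 y
      rw [this, hy]
      norm_num
    · have h1 : g1 • (x - y) = g1 • (z + z) := by rw [hz]
      rw [smul_sub', smul_add', hg1] at h1
      have h2 := congrArg Subtype.val h1
      rw [← dblHom_eq_smul]
      funext j
      have h3 := congrFun h2 j
      rw [dblHom_apply]
      change (Pi.single none (8 : ℤ) : GolayPt → ℤ) j - ((g1 • y : ↥leechLattice) : GolayPt → ℤ) j =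
        ((g1 • z : ↥leechLattice) : GolayPt → ℤ) j + ((g1 • z : ↥leechLattice) : GolayPt → ℤ) j at h3
      rw [Pi.sub_apply, h3]
      ring
  obtain ⟨j, s, hs, hjs⟩ := hy1
  have hj : j ≠ none := by
    intro hj
    subst hj
    rcases hs with rfl | rfl
    · apply hne
      have : g1 • y = e8 none := Subtype.ext hjs
      rw [← hg1] at this
      exact (MulAction.injective g1 this).symm
    · apply hne'
      have h1 : g1 • y = -e8 none := by
        apply Subtype.ext
        rw [hjs]
        change _ = -(Pi.single none (8 : ℤ) : GolayPt → ℤ)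
        rw [← Pi.single_neg]
      have h2 : g1 • (-y) = e8 none := by
        have := map_neg_of_mem g1.2 y
        change g1 • (-y) = -(g1 • y) at this
        rw [this, h1, neg_neg]
      rw [← hg1] at h2
      exact (MulAction.injective g1 h2).symm
  have h0 : (none : GolayPt) ≠ some 0 := by decide
  obtain ⟨σ, hσ, hσ1, hσ2⟩ := m24_two_trans (a := none) (b := j) (c := none) (d := some 0)
    (fun h => hj h.symm) h0
  obtain ⟨c, hc, hcut⟩ := exists_cut_two h0
    (s := if s = -8 then {some 0} else ∅) (by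
      split_ifs
      · intro p hp
        rw [Finset.mem_singleton] at hp
        rw [hp]
        exact Finset.mem_insert_of_mem (Finset.mem_singleton_self _)
      · exact Finset.empty_subset _)
  have hc1 : (none : GolayPt) ∉ c := by
    intro h
    have h1 : (none : GolayPt) ∈ c ∩ {none, some 0} :=
      Finset.mem_inter.mpr ⟨h, Finset.mem_insert_self _ _⟩
    rw [hcut] at h1
    split_ifs at h1
    · rw [Finset.mem_singleton] at h1
      exact h0 h1
    · exact absurd h1 (Finset.notMem_empty _)
  have hc2 : (some 0 : GolayPt) ∈ c ↔ s = -8 := by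
    constructor
    · intro h
      have h1 : (some 0 : GolayPt) ∈ c ∩ {none, some 0} :=
        Finset.mem_inter.mpr ⟨h, Finset.mem_insert_of_mem (Finset.mem_singleton_self _)⟩
      rw [hcut] at h1
      split_ifs at h1 with h2
      · exact h2
      · exact absurd h1 (Finset.notMem_empty _)
    · intro h
      have h1 : (some 0 : GolayPt) ∈ c ∩ {none, some 0} := by
        rw [hcut, if_pos h]
        exact Finset.mem_singleton_self _
      exact (Finset.mem_inter.mp h1).1
  refine ⟨⟨monoPerm σ hσ c hc, monoPerm_mem σ hσ c hc⟩ * g1, ?_, ?_⟩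
  · rw [mul_smul', hg1]
    apply Subtype.ext
    change signedPerm σ c (Pi.single none (8 : ℤ)) = Pi.single none (8 : ℤ)
    rw [signedPerm_single, hσ1, if_neg hc1]
  · rw [mul_smul']
    apply Subtype.ext
    change signedPerm σ c ((g1 • y : ↥leechLattice) : GolayPt → ℤ) = Pi.single (some 0) (8 : ℤ)
    rw [hjs, signedPerm_single, hσ2]
    rcases hs with rfl | rfl
    · rw [if_neg]
      intro h
      have := hc2.mp h
      norm_num at this
    · rw [if_pos (hc2.mpr rfl), neg_neg]

/-- the standard orthogonal pair. -/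
def std1 : ↥leechLattice :=
  ⟨Wv none (some 0) 2 2, Wv_mem (by decide) (Or.inl rfl) (Or.inl rfl)⟩

def std2 : ↥leechLattice :=
  ⟨Wv none (some 0) 2 (-2), Wv_mem (by decide) (Or.inl rfl) (Or.inr rfl)⟩

theorem std_add : std1 + std2 = e8 none := by
  apply Subtype.ext
  exact (e8_eq_add (by decide)).symm

theorem std_sub : std1 - std2 = e8 (some 0) := by
  apply Subtype.ext
  funext p
  change Wv none (some 0) 2 2 p - Wv none (some 0) 2 (-2) p = ((e8 (some 0) : ↥leechLattice) : GolayPt → ℤ) p
  rw [e8_apply, Wv_apply, Wv_apply]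
  split_ifs <;> norm_num

theorem eq_of_double {a b : ↥leechLattice} (h : a + a = b + b) : a = b := by
  apply Subtype.ext
  funext p
  have h1 := congrFun (congrArg Subtype.val h) p
  change (a : GolayPt → ℤ) p + (a : GolayPt → ℤ) p = (b : GolayPt → ℤ) p + (b : GolayPt → ℤ) p at h1
  omega

theorem ne_zero_of_norm {v : ↥leechLattice} (hv : sqNorm (v : GolayPt → ℤ) = 32) : v ≠ 0 := by
  intro h
  rw [h] at hv
  have e : sqNorm ((0 : ↥leechLattice) : GolayPt → ℤ) = 0 := by
    change sqNorm (0 : GolayPt → ℤ) = 0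
    unfold sqNorm
    simp
  rw [e] at hv
  norm_num at hv

/-- an orthogonal pair of vectors of sum of squares 32 can be moved to the standard pair. -/
theorem pair_to_std (v w : ↥leechLattice) (hv : sqNorm (v : GolayPt → ℤ) = 32)
    (hw : sqNorm (w : GolayPt → ℤ) = 32)
    (hd : dotInt (v : GolayPt → ℤ) (w : GolayPt → ℤ) = 0) :
    ∃ g : ↥Co0, g • v = std1 ∧ g • w = std2 := by
  have hx : sqNorm ((v + w : ↥leechLattice) : GolayPt → ℤ) = 64 := by
    change sqNorm ((v : GolayPt → ℤ) + (w : GolayPt → ℤ)) = 64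
    rw [sqNorm_add', hv, hw, hd]
    norm_num
  have hy : sqNorm ((v - w : ↥leechLattice) : GolayPt → ℤ) = 64 := by
    change sqNorm ((v : GolayPt → ℤ) - (w : GolayPt → ℤ)) = 64
    rw [sqNorm_sub', hv, hw, hd]
    norm_num
  have hv0 := ne_zero_of_norm hv
  have hw0 := ne_zero_of_norm hw
  have hne : v + w ≠ v - w := by
    intro h
    apply hw0
    apply eq_of_double
    have : w + w = (v + w) - (v - w) := by abel
    rw [this, h]
    abel
  have hne' : v + w ≠ -(v - w) := by
    intro h
    apply hv0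
    apply eq_of_double
    have : v + v = (v + w) + (v - w) := by abel
    rw [this, h]
    abel
  obtain ⟨g, hg1, hg2⟩ := frame_map (v + w) (v - w) hx hy hne hne' ⟨w, by abel⟩
  rw [smul_add'] at hg1
  rw [smul_sub'] at hg2
  refine ⟨g, ?_, ?_⟩
  · apply eq_of_double
    have : g • v + g • v = (g • v + g • w) + (g • v - g • w) := by abel
    rw [this, hg1, hg2, ← std_add, ← std_sub]
    abel
  · apply eq_of_double
    have : g • w + g • w = (g • v + g • w) - (g • v - g • w) := by abel
    rw [this, hg1, hg2, ← std_add, ← std_sub]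
    abel

/-- the transitivity on the orthogonal pairs. -/
theorem trans_orth (v w w' : ↥leechLattice) (hv : sqNorm (v : GolayPt → ℤ) = 32)
    (hw : sqNorm (w : GolayPt → ℤ) = 32) (hw' : sqNorm (w' : GolayPt → ℤ) = 32)
    (hd : dotInt (v : GolayPt → ℤ) (w : GolayPt → ℤ) = 0)
    (hd' : dotInt (v : GolayPt → ℤ) (w' : GolayPt → ℤ) = 0) :
    ∃ g : ↥Co0, g • v = v ∧ g • w = w' := by
  obtain ⟨g, hg1, hg2⟩ := pair_to_std v w hv hw hd
  obtain ⟨g', hg1', hg2'⟩ := pair_to_std v w' hv hw' hd'
  refine ⟨g'⁻¹ * g, ?_, ?_⟩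
  · rw [mul_smul', hg1, ← hg1', inv_smul_smul']
  · rw [mul_smul', hg2, ← hg2', inv_smul_smul']

end Cfsg.Agent.Helper9.Leech
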