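import Mathlib
import Cfsg.Prelude.Def_Sporadic_a
import Cfsg.Prelude.Def_SporadicCombinatorics
import Cfsg.Agent.Helper9.Leech.Frame

/-!
The transitivity on the pairs of vectors of sum of squares 32 with inner product `-8` or `-16`.
-/

set_option autoImplicit false

namespace Cfsg.Agent.Helper9.Leech

open Cfsg
open Cfsg.Agent.Helper9.Golay
open scoped Pointwise

theorem dot_Wv {i j : GolayPt} (a b : ℤ) (w : GolayPt → ℤ) :
    dotInt (Wv i j a b) w = 2 * a * w i + 2 * b * w j := by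
  unfold dotInt
  have h : ∀ k, Wv i j a b k * w k =
      (if k = i then 2 * a * w k else 0) + (if k = j then 2 * b * w k else 0) := by
    intro k
    rw [Wv_apply]
    split_ifs <;> ring
  simp only [h]
  rw [Finset.sum_add_distrib, Finset.sum_ite_eq' Finset.univ i, Finset.sum_ite_eq' Finset.univ j,
    if_pos (Finset.mem_univ i), if_pos (Finset.mem_univ j)]

theorem dotInt_comm' (x y : GolayPt → ℤ) : dotInt x y = dotInt y x := by
  unfold dotInt
  apply Finset.sum_congr rfl
  intro i _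
  ring

theorem entry_bound {w : GolayPt → ℤ} (hn : sqNorm w = 32) (a : GolayPt) : (w a).natAbs < 6 := by
  have h1 : w a ^ 2 ≤ sqNorm w := by
    unfold sqNorm
    exact Finset.single_le_sum (f := fun i => w i ^ 2) (fun j _ => sq_nonneg (w j))
      (Finset.mem_univ a)
  rw [hn] at h1
  by_contra hcon
  have h6 : 6 ≤ (w a).natAbs := by omega
  have h2 : ((w a).natAbs : ℤ) ^ 2 = w a ^ 2 := Int.natAbs_sq (w a)
  have h3 : (6 : ℤ) ≤ ((w a).natAbs : ℤ) := by exact_mod_cast h6
  nlinarith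

/-- a vector orthogonal to the first standard vector and to a given vector. -/
theorem exists_orth {w : GolayPt → ℤ} (hn : sqNorm w = 32) :
    ∃ v' : ↥leechLattice, sqNorm (v' : GolayPt → ℤ) = 32 ∧
      dotInt ((std1 : ↥leechLattice) : GolayPt → ℤ) (v' : GolayPt → ℤ) = 0 ∧
      dotInt (v' : GolayPt → ℤ) w = 0 := by
  classical
  have hcard : (Finset.range 6).card <
      ((Finset.univ : Finset GolayPt) \ {none, some 0}).card := by
    rw [Finset.card_range, Finset.card_sdiff_of_subset (Finset.subset_univ _), Finset.card_univ,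
      card_golayPt]
    decide
  obtain ⟨a, ha, b, hb, hab, hfab⟩ := Finset.exists_ne_map_eq_of_card_lt_of_maps_to hcard
    (f := fun a => (w a).natAbs) (fun a _ => Finset.mem_range.mpr (entry_bound hn a))
  rw [Finset.mem_sdiff, Finset.mem_insert, Finset.mem_singleton, not_or] at ha hb
  have key : ∀ s : ℤ, (s = 2 ∨ s = -2) → 2 * 2 * w a + 2 * s * w b = 0 →
      ∃ v' : ↥leechLattice, sqNorm (v' : GolayPt → ℤ) = 32 ∧
        dotInt ((std1 : ↥leechLattice) : GolayPt → ℤ) (v' : GolayPt → ℤ) = 0 ∧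
        dotInt (v' : GolayPt → ℤ) w = 0 := by
    intro s hs h0
    refine ⟨⟨Wv a b 2 s, Wv_mem hab (Or.inl rfl) hs⟩, sqNorm_Wv hab (Or.inl rfl) hs, ?_, ?_⟩
    · change dotInt (Wv none (some 0) 2 2) (Wv a b 2 s) = 0
      rw [dot_Wv, Wv_apply, Wv_apply, if_neg (Ne.symm ha.2.1), if_neg (Ne.symm hb.2.1),
        if_neg (Ne.symm ha.2.2), if_neg (Ne.symm hb.2.2)]
      norm_num
    · change dotInt (Wv a b 2 s) w = 0
      rw [dot_Wv]
      exact h0
  rcases Int.natAbs_eq_natAbs_iff.mp hfab with h | h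
  · exact key (-2) (Or.inr rfl) (by rw [h]; ring)
  · exact key 2 (Or.inl rfl) (by rw [h]; ring)

/-- normalising the second vector of a pair whose first vector is the first standard vector. -/
theorem pair_norm (w : ↥leechLattice) (hw : sqNorm (w : GolayPt → ℤ) = 32) :
    ∃ g : ↥Co0, g • std1 = std1 ∧
      ((g • w : ↥leechLattice) : GolayPt → ℤ) none = ((g • w : ↥leechLattice) : GolayPt → ℤ) (some 0) := by
  obtain ⟨v', hv'n, hv'1, hv'w⟩ := exists_orth hw
  have hs1 : sqNorm ((std1 : ↥leechLattice) : GolayPt → ℤ) = 32 :=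
    sqNorm_Wv (by decide) (Or.inl rfl) (Or.inl rfl)
  obtain ⟨g, hg1, hg2⟩ := pair_to_std std1 v' hs1 hv'n hv'1
  refine ⟨g, hg1, ?_⟩
  have h := co0_dot g v' w
  rw [hg2, hv'w] at h
  change dotInt (Wv none (some 0) 2 (-2)) _ = 0 at h
  rw [dot_Wv] at h
  omega

theorem std1_none : ((std1 : ↥leechLattice) : GolayPt → ℤ) none = 4 := by
  change Wv none (some 0) 2 2 none = 4
  rw [Wv_apply]
  decide

theorem dot_std1 (w : GolayPt → ℤ) :
    dotInt ((std1 : ↥leechLattice) : GolayPt → ℤ) w = 4 * w none + 4 * w (some 0) := by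
  change dotInt (Wv none (some 0) 2 2) w = _
  rw [dot_Wv]
  ring

theorem signedPerm_eq' (σ : Equiv.Perm GolayPt) (c : Finset GolayPt) (x : GolayPt → ℤ) :
    signedPerm σ c x = signCh c (fun i => x (σ.symm i)) := rfl

theorem signCh_perm (c : Finset GolayPt) (x : GolayPt → ℤ) (σ : Equiv.Perm GolayPt) :
    (fun i => signCh c x (σ.symm i)) = signCh (σ • c) (fun i => x (σ.symm i)) := by
  funext i
  unfold signCh
  simp only [mem_smul_iff]

theorem baseOdd_perm (j : GolayPt) (σ : Equiv.Perm GolayPt) :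
    (fun i => baseOdd j (σ.symm i)) = baseOdd (σ j) := by
  funext i
  unfold baseOdd
  by_cases hi : i = σ j
  · rw [if_pos hi, if_pos]
    rw [hi, Equiv.symm_apply_apply]
  · rw [if_neg hi, if_neg]
    intro h'
    apply hi
    rw [← h', Equiv.apply_symm_apply]

/-- a monomial automorphism fixing the first standard vector. -/
theorem mono_fix_std1 {σ : Equiv.Perm GolayPt} (hσ : σ ∈ M24) {c : Finset GolayPt}
    (hc : c ∈ supports (golayCode : Set (GolayPt → ZMod 2))) (h1 : σ none = none)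
    (h2 : σ (some 0) = some 0) (hc1 : (none : GolayPt) ∉ c) (hc2 : (some 0 : GolayPt) ∉ c) :
    (⟨monoPerm σ hσ c hc, monoPerm_mem σ hσ c hc⟩ : ↥Co0) • std1 = std1 := by
  apply Subtype.ext
  change signedPerm σ c (Wv none (some 0) 2 2) = Wv none (some 0) 2 2
  funext p
  unfold signedPerm
  rw [Wv_apply, Wv_apply]
  have e1 : σ.symm p = none ↔ p = none := by
    constructor
    · intro h
      rw [← h1, ← h, Equiv.apply_symm_apply]
    · intro h
      rw [h, ← h1, Equiv.symm_apply_apply, h1]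
  have e2 : σ.symm p = some 0 ↔ p = some 0 := by
    constructor
    · intro h
      rw [← h2, ← h, Equiv.apply_symm_apply]
    · intro h
      rw [h, ← h2, Equiv.symm_apply_apply, h2]
  by_cases hp : p ∈ c
  · have hp1 : p ≠ none := fun h => hc1 (h ▸ hp)
    have hp2 : p ≠ some 0 := fun h => hc2 (h ▸ hp)
    rw [if_pos hp, if_neg (fun h => hp1 (e1.mp h)), if_neg (fun h => hp2 (e2.mp h)), if_neg hp1,
      if_neg hp2]
    norm_num
  · rw [if_neg hp]
    simp only [e1, e2]

/-! ### inner product `-8` -/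

/-- the standard second vector for the inner product `-8`. -/
def wstd8 : ↥leechLattice := ⟨oddVec (some 1) Finset.univ, oddVec_mem univ_mem_supports⟩

theorem pair8_to_std (v w : ↥leechLattice) (hv : sqNorm (v : GolayPt → ℤ) = 32)
    (hw : sqNorm (w : GolayPt → ℤ) = 32)
    (hd : dotInt (v : GolayPt → ℤ) (w : GolayPt → ℤ) = -8) :
    ∃ g : ↥Co0, g • v = std1 ∧ g • w = wstd8 := by
  classical
  have hs1 : sqNorm ((std1 : ↥leechLattice) : GolayPt → ℤ) = 32 :=
    sqNorm_Wv (by decide) (Or.inl rfl) (Or.inl rfl)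
  obtain ⟨g0, hg0⟩ := trans32 v std1 hv hs1
  have hw1 : sqNorm ((g0 • w : ↥leechLattice) : GolayPt → ℤ) = 32 := by
    rw [← hw]
    exact g0.2.2 w
  obtain ⟨g1, hg1, hg1w⟩ := pair_norm (g0 • w) hw1
  have hw2 : sqNorm ((g1 • (g0 • w) : ↥leechLattice) : GolayPt → ℤ) = 32 := by
    rw [← hw1]
    exact g1.2.2 (g0 • w)
  have hdot : dotInt ((std1 : ↥leechLattice) : GolayPt → ℤ)
      ((g1 • (g0 • w) : ↥leechLattice) : GolayPt → ℤ) = -8 := by
    have h := co0_dot (g1 * g0) v w
    rw [mul_smul', mul_smul', hg0, hg1, hd] at h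
    exact h
  rw [dot_std1] at hdot
  generalize hw2def : g1 • (g0 • w) = w2 at hg1w hw2 hdot
  have h2n : (w2 : GolayPt → ℤ) none = -1 := by omega
  have h20 : (w2 : GolayPt → ℤ) (some 0) = -1 := by omega
  obtain ⟨j, c, hc, hjc⟩ := odd_min_classify w2.2 hw2 (by rw [h2n]; rfl)
  -- the entries at the two points
  have hent : ∀ p : GolayPt, (w2 : GolayPt → ℤ) p = -1 → p ∈ c ∧ p ≠ j := by
    intro p hp
    rw [hjc, oddVec_apply] at hp
    unfold baseOdd at hp
    by_cases hpc : p ∈ c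
    · refine ⟨hpc, ?_⟩
      intro hpj
      rw [if_pos hpc, if_pos hpj] at hp
      norm_num at hp
    · rw [if_neg hpc] at hp
      split_ifs at hp <;> norm_num at hp
  obtain ⟨hnc, hnj⟩ := hent none h2n
  obtain ⟨h0c, h0j⟩ := hent (some 0) h20
  obtain ⟨σ, hσ, hσ1, hσ2, hσ3⟩ := m24_three_trans (a := none) (b := some 0) (c := j)
    (a' := none) (b' := some 0) (c' := some 1) (by decide) hnj h0j (by decide) (by decide)
    (by decide)
  have hc' : (σ • c)ᶜ ∈ supports (golayCode : Set (GolayPt → ZMod 2)) :=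
    compl_mem_supports (smul_mem_supports hσ hc)
  have hn' : (none : GolayPt) ∉ (σ • c)ᶜ := by
    rw [Finset.mem_compl, not_not, ← hσ1]
    exact Finset.smul_mem_smul_finset hnc
  have h0' : (some 0 : GolayPt) ∉ (σ • c)ᶜ := by
    rw [Finset.mem_compl, not_not, ← hσ2]
    exact Finset.smul_mem_smul_finset h0c
  refine ⟨⟨monoPerm σ hσ _ hc', monoPerm_mem σ hσ _ hc'⟩ * (g1 * g0), ?_, ?_⟩
  · rw [mul_smul', mul_smul', hg0, hg1]
    exact mono_fix_std1 hσ hc' hσ1 hσ2 hn' h0'
  · rw [mul_smul', mul_smul', hw2def]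
    apply Subtype.ext
    change signedPerm σ (σ • c)ᶜ (w2 : GolayPt → ℤ) = oddVec (some 1) Finset.univ
    rw [hjc, signedPerm_eq']
    unfold oddVec
    rw [signCh_perm, baseOdd_perm, hσ3]
    funext p
    unfold signCh
    by_cases hp : p ∈ σ • c
    · rw [if_neg (by rw [Finset.mem_compl, not_not]; exact hp), if_pos hp,
        if_pos (Finset.mem_univ p)]
    · rw [if_pos (Finset.mem_compl.mpr hp), if_neg hp, if_pos (Finset.mem_univ p)]

/-- transitivity on the pairs with inner product `-8`. -/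
theorem trans_pair8 (v w w' : ↥leechLattice) (hv : sqNorm (v : GolayPt → ℤ) = 32)
    (hw : sqNorm (w : GolayPt → ℤ) = 32) (hw' : sqNorm (w' : GolayPt → ℤ) = 32)
    (hd : dotInt (v : GolayPt → ℤ) (w : GolayPt → ℤ) = -8)
    (hd' : dotInt (v : GolayPt → ℤ) (w' : GolayPt → ℤ) = -8) :
    ∃ g : ↥Co0, g • v = v ∧ g • w = w' := by
  obtain ⟨g, hg1, hg2⟩ := pair8_to_std v w hv hw hd
  obtain ⟨g', hg1', hg2'⟩ := pair8_to_std v w' hv hw' hd'
  refine ⟨g'⁻¹ * g, ?_, ?_⟩
  · rw [mul_smul', hg1, ← hg1', inv_smul_smul']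
  · rw [mul_smul', hg2, ← hg2', inv_smul_smul']

/-- transitivity of the stabiliser of a vector of sum of squares 48 on its decompositions. -/
theorem trans_552 (u v v' : ↥leechLattice) (hu : sqNorm (u : GolayPt → ℤ) = 48)
    (hv : sqNorm (v : GolayPt → ℤ) = 32 ∧ sqNorm ((u - v : ↥leechLattice) : GolayPt → ℤ) = 32)
    (hv' : sqNorm (v' : GolayPt → ℤ) = 32 ∧
      sqNorm ((u - v' : ↥leechLattice) : GolayPt → ℤ) = 32) :
    ∃ g : ↥Co0, g • u = u ∧ g • v = v' := by
  have key : ∀ x : ↥leechLattice, sqNorm (x : GolayPt → ℤ) = 32 →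
      sqNorm ((u - x : ↥leechLattice) : GolayPt → ℤ) = 32 →
      dotInt (x : GolayPt → ℤ) ((u - x : ↥leechLattice) : GolayPt → ℤ) = -8 := by
    intro x hx hux
    have e : (u : GolayPt → ℤ) = (x : GolayPt → ℤ) + ((u - x : ↥leechLattice) : GolayPt → ℤ) := by
      change (u : GolayPt → ℤ) = (x : GolayPt → ℤ) + ((u : GolayPt → ℤ) - (x : GolayPt → ℤ))
      abel
    have h := sqNorm_add' (x : GolayPt → ℤ) ((u - x : ↥leechLattice) : GolayPt → ℤ)
    rw [← e, hu, hx, hux] at h
    omega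
  obtain ⟨g, hg1, hg2⟩ := pair8_to_std v (u - v) hv.1 hv.2 (key v hv.1 hv.2)
  obtain ⟨g', hg1', hg2'⟩ := pair8_to_std v' (u - v') hv'.1 hv'.2 (key v' hv'.1 hv'.2)
  have h1 : (g'⁻¹ * g) • v = v' := by
    rw [mul_smul', hg1, ← hg1', inv_smul_smul']
  have h2 : (g'⁻¹ * g) • (u - v) = u - v' := by
    rw [mul_smul', hg2, ← hg2', inv_smul_smul']
  refine ⟨g'⁻¹ * g, ?_, h1⟩
  have e : u = v + (u - v) := by abel
  rw [e, smul_add', h1, h2]
  abel

/-! ### inner product `-16` -/

theorem exists_std_octad : ∃ o : Finset GolayPt, o ∈ octads ∧ (none : GolayPt) ∈ o ∧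
    (some 0 : GolayPt) ∈ o ∧ ∀ o' : Finset GolayPt, o' ∈ octads → (none : GolayPt) ∈ o' →
      (some 0 : GolayPt) ∈ o' → ∃ σ ∈ M24, σ • o' = o ∧ σ none = none ∧ σ (some 0) = some 0 := by
  classical
  have h01 : idxPtN 0 ≠ idxPtN 1 := by decide
  have hn0 : (none : GolayPt) ≠ some 0 := by decide
  obtain ⟨h0, hh0, h0a, h0b⟩ := m24_two_trans h01 hn0
  have p0 : idxPtN 0 ∈ suppM 5279 := by
    rw [mem_suppM]
    decide
  have p1 : idxPtN 1 ∈ suppM 5279 := by
    rw [mem_suppM]
    decide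
  refine ⟨h0 • suppM 5279, smul_mem_wordsOfWeight hh0 oct5279_mem, ?_, ?_, ?_⟩
  · rw [← h0a]
    exact Finset.smul_mem_smul_finset p0
  · rw [← h0b]
    exact Finset.smul_mem_smul_finset p1
  · intro o' ho' hn h0'
    obtain ⟨h, hh, hho, hhp, hhq⟩ := exists_flag_in2 ho' hn h0' hn0
    refine ⟨h0 * h⁻¹, M24.mul_mem hh0 (M24.inv_mem hh), ?_, ?_, ?_⟩
    · rw [← hho, mul_smul, inv_smul_smul]
    · have e : h⁻¹ none = idxPtN 0 := by
        rw [← hhp, Equiv.Perm.inv_def, Equiv.symm_apply_apply]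
      rw [Equiv.Perm.mul_apply, e, h0a]
    · have e : h⁻¹ (some 0) = idxPtN 1 := by
        rw [← hhq, Equiv.Perm.inv_def, Equiv.symm_apply_apply]
      rw [Equiv.Perm.mul_apply, e, h0b]

theorem pair16_exists : ∃ wstd : ↥leechLattice, ∀ v w : ↥leechLattice,
    sqNorm (v : GolayPt → ℤ) = 32 → sqNorm (w : GolayPt → ℤ) = 32 →
    dotInt (v : GolayPt → ℤ) (w : GolayPt → ℤ) = -16 →
    ∃ g : ↥Co0, g • v = std1 ∧ g • w = wstd := by
  classical
  obtain ⟨o, ho, hno, h0o, hoall⟩ := exists_std_octad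
  have hs0 : ({none, some 0} : Finset GolayPt) ⊆ o := by
    intro p hp
    rcases Finset.mem_insert.mp hp with rfl | hp
    · exact hno
    · rw [Finset.mem_singleton.mp hp]
      exact h0o
  have hs0e : Even ({none, some 0} : Finset GolayPt).card := by decide
  refine ⟨⟨pat 2 o {none, some 0}, oct_mem ho hs0 hs0e⟩, ?_⟩
  intro v w hv hw hd
  have hs1 : sqNorm ((std1 : ↥leechLattice) : GolayPt → ℤ) = 32 :=
    sqNorm_Wv (by decide) (Or.inl rfl) (Or.inl rfl)
  obtain ⟨g0, hg0⟩ := trans32 v std1 hv hs1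
  have hw1 : sqNorm ((g0 • w : ↥leechLattice) : GolayPt → ℤ) = 32 := by
    rw [← hw]
    exact g0.2.2 w
  obtain ⟨g1, hg1, hg1w⟩ := pair_norm (g0 • w) hw1
  have hw2 : sqNorm ((g1 • (g0 • w) : ↥leechLattice) : GolayPt → ℤ) = 32 := by
    rw [← hw1]
    exact g1.2.2 (g0 • w)
  have hdot : dotInt ((std1 : ↥leechLattice) : GolayPt → ℤ)
      ((g1 • (g0 • w) : ↥leechLattice) : GolayPt → ℤ) = -16 := by
    have h := co0_dot (g1 * g0) v w
    rw [mul_smul', mul_smul', hg0, hg1, hd] at h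
    exact h
  rw [dot_std1] at hdot
  generalize hw2def : g1 • (g0 • w) = w2 at hg1w hw2 hdot
  have h2n : (w2 : GolayPt → ℤ) none = -2 := by omega
  have h20 : (w2 : GolayPt → ℤ) (some 0) = -2 := by omega
  rcases even_min_classify w2.2 hw2 (by rw [h2n]; rfl) with
    ⟨o', s, ho', hs, hse, hw2e⟩ | ⟨P, s, hP, hs, hw2e⟩
  · -- the entries at the two points
    have hent : ∀ p : GolayPt, (w2 : GolayPt → ℤ) p = -2 → p ∈ s := by
      intro p hp
      by_contra hps
      rw [hw2e] at hp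
      unfold pat at hp
      rw [if_neg hps] at hp
      split_ifs at hp <;> norm_num at hp
    have hns := hent none h2n
    have h0s := hent (some 0) h20
    obtain ⟨σ, hσ, hσo, hσ1, hσ2⟩ := hoall o' ho' (hs hns) (hs h0s)
    have hs' : σ • s ⊆ o := by
      rw [← hσo]
      exact Finset.smul_finset_subset_smul_finset hs
    have hns' : (none : GolayPt) ∈ σ • s := by
      rw [← hσ1]
      exact Finset.smul_mem_smul_finset hns
    have h0s' : (some 0 : GolayPt) ∈ σ • s := by
      rw [← hσ2]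
      exact Finset.smul_mem_smul_finset h0s
    have hse' : Even (σ • s).card := by
      rw [Finset.card_smul_finset]
      exact hse
    -- the sign change
    have hsub : symmDiff (σ • s) {none, some 0} ⊆ o := by
      intro q hq
      rcases Finset.mem_symmDiff.mp hq with h | h
      · exact hs' h.1
      · exact hs0 h.1
    have hev : Even (symmDiff (σ • s) ({none, some 0} : Finset GolayPt)).card := by
      have h1 := Finset.card_sdiff_add_card_inter (σ • s) {none, some 0}
      have h2 := Finset.card_sdiff_add_card_inter ({none, some 0} : Finset GolayPt) (σ • s)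
      rw [Finset.inter_comm ({none, some 0} : Finset GolayPt) (σ • s)] at h2
      have h3 : (symmDiff (σ • s) ({none, some 0} : Finset GolayPt)).card =
          (σ • s \ {none, some 0}).card + (({none, some 0} : Finset GolayPt) \ σ • s).card := by
        rw [Finset.symmDiff_def]
        exact Finset.card_union_of_disjoint disjoint_sdiff_sdiff
      obtain ⟨a, ha⟩ := hse'
      obtain ⟨b, hb⟩ := hs0e
      rw [Nat.even_iff]
      omega
    obtain ⟨c, hc, hcut⟩ := exists_cut_oct ho hsub hev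
    have hcn : (none : GolayPt) ∉ c := by
      intro h
      have h1 : (none : GolayPt) ∈ c ∩ o := Finset.mem_inter.mpr ⟨h, hno⟩
      rw [hcut, Finset.mem_symmDiff] at h1
      rcases h1 with h1 | h1
      · exact h1.2 (Finset.mem_insert_self _ _)
      · exact h1.2 hns'
    have hc0 : (some 0 : GolayPt) ∉ c := by
      intro h
      have h1 : (some 0 : GolayPt) ∈ c ∩ o := Finset.mem_inter.mpr ⟨h, h0o⟩
      rw [hcut, Finset.mem_symmDiff] at h1
      rcases h1 with h1 | h1
      · exact h1.2 (Finset.mem_insert_of_mem (Finset.mem_singleton_self _))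
      · exact h1.2 h0s'
    refine ⟨⟨monoPerm σ hσ c hc, monoPerm_mem σ hσ c hc⟩ * (g1 * g0), ?_, ?_⟩
    · rw [mul_smul', mul_smul', hg0, hg1]
      exact mono_fix_std1 hσ hc hσ1 hσ2 hcn hc0
    · rw [mul_smul', mul_smul', hw2def]
      apply Subtype.ext
      change signedPerm σ c (w2 : GolayPt → ℤ) = pat 2 o {none, some 0}
      rw [hw2e, signedPerm_eq', pat_perm, hσo, signCh_pat hs', hcut,
        symmDiff_symmDiff_cancel_left]
  · exfalso
    rw [hw2e] at h2n
    unfold pat at h2n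
    split_ifs at h2n <;> norm_num at h2n

/-- transitivity on the pairs with inner product `-16`. -/
theorem trans_pair16 (v w w' : ↥leechLattice) (hv : sqNorm (v : GolayPt → ℤ) = 32)
    (hw : sqNorm (w : GolayPt → ℤ) = 32) (hw' : sqNorm (w' : GolayPt → ℤ) = 32)
    (hd : dotInt (v : GolayPt → ℤ) (w : GolayPt → ℤ) = -16)
    (hd' : dotInt (v : GolayPt → ℤ) (w' : GolayPt → ℤ) = -16) :
    ∃ g : ↥Co0, g • v = v ∧ g • w = w' := by
  obtain ⟨wstd, hstd⟩ := pair16_exists
  obtain ⟨g, hg1, hg2⟩ := hstd v w hv hw hd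
  obtain ⟨g', hg1', hg2'⟩ := hstd v w' hv hw' hd'
  refine ⟨g'⁻¹ * g, ?_, ?_⟩
  · rw [mul_smul', hg1, ← hg1', inv_smul_smul']
  · rw [mul_smul', hg2, ← hg2', inv_smul_smul']

end Cfsg.Agent.Helper9.Leech
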