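import Mathlib
import Cfsg.Prelude.Def_Sporadic_a
import Cfsg.Prelude.Def_SporadicCombinatorics
import Cfsg.Agent.Helper9.Leech.Pairs

/-!
The transitivity on the pairs of a vector of sum of squares 48 and a vector of sum of squares 32
with inner product `-16`, and the interchange of two vectors of sum of squares 48 with inner
product `-32`.
-/

set_option autoImplicit false

namespace Cfsg.Agent.Helper9.Leech

open Cfsg
open Cfsg.Agent.Helper9.Golay
open scoped Pointwise

theorem symmDiff_mem_supports {a b : Finset GolayPt}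
    (ha : a ∈ supports (golayCode : Set (GolayPt → ZMod 2)))
    (hb : b ∈ supports (golayCode : Set (GolayPt → ZMod 2))) :
    symmDiff a b ∈ supports (golayCode : Set (GolayPt → ZMod 2)) := by
  classical
  refine ⟨indW a + indW b, golayCode.add_mem (indW_mem ha) (indW_mem hb), ?_⟩
  ext i
  unfold support₂ indW
  rw [Finset.mem_filter, Finset.mem_symmDiff, Pi.add_apply]
  by_cases h1 : i ∈ a <;> by_cases h2 : i ∈ b <;> simp [h1, h2] <;> decide

theorem signCh_signCh' (a b : Finset GolayPt) (x : GolayPt → ℤ) :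
    signCh a (signCh b x) = signCh (symmDiff a b) x := by
  classical
  funext i
  unfold signCh
  by_cases h1 : i ∈ a <;> by_cases h2 : i ∈ b <;> simp [Finset.mem_symmDiff, h1, h2]

/-- four points can be moved to four points. -/
def emb4 (a b c d : GolayPt) (hab : a ≠ b) (hac : a ≠ c) (had : a ≠ d) (hbc : b ≠ c)
    (hbd : b ≠ d) (hcd : c ≠ d) : Fin 4 ↪ GolayPt where
  toFun := ![a, b, c, d]
  inj' := by
    intro i j h
    fin_cases i <;> fin_cases j <;> simp_all

theorem m24_four_trans {a b c d a' b' c' d' : GolayPt} (hab : a ≠ b) (hac : a ≠ c) (had : a ≠ d)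
    (hbc : b ≠ c) (hbd : b ≠ d) (hcd : c ≠ d) (hab' : a' ≠ b') (hac' : a' ≠ c') (had' : a' ≠ d')
    (hbc' : b' ≠ c') (hbd' : b' ≠ d') (hcd' : c' ≠ d') :
    ∃ g ∈ M24, g a = a' ∧ g b = b' ∧ g c = c' ∧ g d = d' := by
  have h4 := m24_pretrans (n := 4) (by norm_num)
  rw [MulAction.isMultiplyPretransitive_iff] at h4
  obtain ⟨g, hg⟩ := h4 (emb4 a b c d hab hac had hbc hbd hcd)
    (emb4 a' b' c' d' hab' hac' had' hbc' hbd' hcd')
  refine ⟨g, g.2, ?_, ?_, ?_, ?_⟩
  · exact congrArg (fun f => f 0) hg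
  · exact congrArg (fun f => f 1) hg
  · exact congrArg (fun f => f 2) hg
  · exact congrArg (fun f => f 3) hg

/-- points outside a small set. -/
theorem exists_two_fresh (s : Finset GolayPt) (hs : s.card ≤ 22) :
    ∃ a b : GolayPt, a ≠ b ∧ a ∉ s ∧ b ∉ s := by
  classical
  have h1 : 1 < (Finset.univ \ s).card := by
    rw [Finset.card_sdiff_of_subset (Finset.subset_univ _), Finset.card_univ, card_golayPt]
    omega
  obtain ⟨a, ha, b, hb, hab⟩ := Finset.one_lt_card.mp h1
  rw [Finset.mem_sdiff] at ha hb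
  exact ⟨a, b, hab, ha.2, hb.2⟩

theorem exists_mem_fresh (P s : Finset GolayPt) (h : s.card < P.card) : ∃ a ∈ P, a ∉ s := by
  classical
  by_contra hcon
  push_neg at hcon
  have : P ⊆ s := hcon
  have := Finset.card_le_card this
  omega

/-- a vector orthogonal to the first standard vector with inner product 8 with a given vector of
sum of squares 48. -/
theorem exists_orth8 {u : GolayPt → ℤ} (hu : u ∈ leechLattice) (hn : sqNorm u = 48) :
    ∃ v' : ↥leechLattice, sqNorm (v' : GolayPt → ℤ) = 32 ∧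
      dotInt ((std1 : ↥leechLattice) : GolayPt → ℤ) (v' : GolayPt → ℤ) = 0 ∧
      dotInt (v' : GolayPt → ℤ) u = 8 := by
  classical
  have key : ∀ a b : GolayPt, a ≠ b → a ≠ none → a ≠ some 0 → b ≠ none → b ≠ some 0 →
      ∀ s t : ℤ, (s = 2 ∨ s = -2) → (t = 2 ∨ t = -2) → 2 * s * u a + 2 * t * u b = 8 →
      ∃ v' : ↥leechLattice, sqNorm (v' : GolayPt → ℤ) = 32 ∧
        dotInt ((std1 : ↥leechLattice) : GolayPt → ℤ) (v' : GolayPt → ℤ) = 0 ∧
        dotInt (v' : GolayPt → ℤ) u = 8 := by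
    intro a b hab ha1 ha2 hb1 hb2 s t hs ht h0
    refine ⟨⟨Wv a b s t, Wv_mem hab hs ht⟩, sqNorm_Wv hab hs ht, ?_, ?_⟩
    · change dotInt (Wv none (some 0) 2 2) (Wv a b s t) = 0
      rw [dot_Wv, Wv_apply, Wv_apply, if_neg (Ne.symm ha1), if_neg (Ne.symm hb1),
        if_neg (Ne.symm ha2), if_neg (Ne.symm hb2)]
      norm_num
    · change dotInt (Wv a b s t) u = 8
      rw [dot_Wv]
      exact h0
  -- a point with entry `±2` and a point with entry `0`
  have key2 : ∀ a b : GolayPt, a ≠ none → a ≠ some 0 → b ≠ none → b ≠ some 0 →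
      (u a = 2 ∨ u a = -2) → u b = 0 →
      ∃ v' : ↥leechLattice, sqNorm (v' : GolayPt → ℤ) = 32 ∧
        dotInt ((std1 : ↥leechLattice) : GolayPt → ℤ) (v' : GolayPt → ℤ) = 0 ∧
        dotInt (v' : GolayPt → ℤ) u = 8 := by
    intro a b ha1 ha2 hb1 hb2 hua hub
    have hab : a ≠ b := by
      intro h
      rw [h, hub] at hua
      rcases hua with h' | h' <;> norm_num at h'
    rcases hua with h | h
    · exact key a b hab ha1 ha2 hb1 hb2 2 2 (Or.inl rfl) (Or.inl rfl) (by rw [h, hub]; norm_num)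
    · exact key a b hab ha1 ha2 hb1 hb2 (-2) 2 (Or.inr rfl) (Or.inl rfl)
        (by rw [h, hub]; norm_num)
  -- two points with entries `±1`
  have key1 : ∀ a b : GolayPt, a ≠ b → a ≠ none → a ≠ some 0 → b ≠ none → b ≠ some 0 →
      (u a = 1 ∨ u a = -1) → (u b = 1 ∨ u b = -1) →
      ∃ v' : ↥leechLattice, sqNorm (v' : GolayPt → ℤ) = 32 ∧
        dotInt ((std1 : ↥leechLattice) : GolayPt → ℤ) (v' : GolayPt → ℤ) = 0 ∧
        dotInt (v' : GolayPt → ℤ) u = 8 := by
    intro a b hab ha1 ha2 hb1 hb2 hua hub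
    rcases hua with h | h <;> rcases hub with h' | h'
    · exact key a b hab ha1 ha2 hb1 hb2 2 2 (Or.inl rfl) (Or.inl rfl) (by rw [h, h']; norm_num)
    · exact key a b hab ha1 ha2 hb1 hb2 2 (-2) (Or.inl rfl) (Or.inr rfl)
        (by rw [h, h']; norm_num)
    · exact key a b hab ha1 ha2 hb1 hb2 (-2) 2 (Or.inr rfl) (Or.inl rfl)
        (by rw [h, h']; norm_num)
    · exact key a b hab ha1 ha2 hb1 hb2 (-2) (-2) (Or.inr rfl) (Or.inr rfl)
        (by rw [h, h']; norm_num)
  have hpair : ({none, some 0} : Finset GolayPt).card = 2 := by decide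
  rcases (mem48_iff u).mp ⟨hu, hn⟩ with h | h | h | h
  · obtain ⟨d, s, hd, hs, -, rfl⟩ := (mem_fam12 u).mp h
    obtain ⟨a, had, ha⟩ := exists_mem_fresh d {none, some 0} (by rw [hpair, hd.2]; norm_num)
    obtain ⟨b, hbd, hb⟩ := exists_mem_fresh dᶜ {none, some 0}
      (by rw [hpair, Finset.card_compl, card_golayPt, hd.2]; norm_num)
    rw [Finset.mem_insert, Finset.mem_singleton, not_or] at ha hb
    rw [Finset.mem_compl] at hbd
    apply key2 a b ha.1 ha.2 hb.1 hb.2
    · unfold pat
      split_ifs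
      · right; rfl
      · left; rfl
    · exact pat_of_notMem (fun h' => hbd (hs h')) hbd
  · obtain ⟨o, s, p, ε, ho, hs, -, hp, rfl⟩ := (mem_fam4 u).mp h
    obtain ⟨a, hao, ha⟩ := exists_mem_fresh o {none, some 0} (by rw [hpair, ho.2]; norm_num)
    obtain ⟨b, hbo, hb⟩ := exists_mem_fresh oᶜ {none, some 0, p}
      (by
        rw [Finset.card_compl, card_golayPt, ho.2]
        exact lt_of_le_of_lt Finset.card_le_three (by norm_num))
    rw [Finset.mem_insert, Finset.mem_singleton, not_or] at ha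
    rw [Finset.mem_insert, Finset.mem_insert, Finset.mem_singleton, not_or, not_or] at hb
    rw [Finset.mem_compl] at hbo
    have hap : a ≠ p := fun h' => hp (h' ▸ hao)
    apply key2 a b ha.1 ha.2 hb.1 hb.2.1
    · rw [mix_ne _ _ _ hap]
      unfold pat
      split_ifs
      · right; rfl
      · left; rfl
    · rw [mix_ne _ _ _ hb.2.2]
      exact pat_of_notMem (fun h' => hbo (hs h')) hbo
  · obtain ⟨c, -, T, hT, rfl⟩ := (mem_fam3 u).mp h
    obtain ⟨a, b, hab, ha, hb⟩ := exists_two_fresh ({none, some 0} ∪ T)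
      (le_trans (Finset.card_union_le _ _) (by rw [hpair, hT]; norm_num))
    rw [Finset.mem_union, Finset.mem_insert, Finset.mem_singleton, not_or, not_or] at ha hb
    have e : ∀ q : GolayPt, q ∉ T → (signCh c (baseP T (-3)) q = 1 ∨
        signCh c (baseP T (-3)) q = -1) := by
      intro q hq
      unfold signCh baseP
      rw [if_neg hq]
      split_ifs
      · right; rfl
      · left; rfl
    exact key1 a b hab ha.1.1 ha.1.2 hb.1.1 hb.1.2 (e a ha.2) (e b hb.2)
  · obtain ⟨c, -, j, rfl⟩ := (mem_fam5 u).mp h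
    obtain ⟨a, b, hab, ha, hb⟩ := exists_two_fresh ({none, some 0} ∪ {j})
      (le_trans (Finset.card_union_le _ _) (by rw [hpair, Finset.card_singleton]; norm_num))
    rw [Finset.mem_union, Finset.mem_insert, Finset.mem_singleton, not_or, not_or] at ha hb
    have e : ∀ q : GolayPt, q ∉ ({j} : Finset GolayPt) → (signCh c (baseP {j} 5) q = 1 ∨
        signCh c (baseP {j} 5) q = -1) := by
      intro q hq
      unfold signCh baseP
      rw [if_neg hq]
      split_ifs
      · right; rfl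
      · left; rfl
    exact key1 a b hab ha.1.1 ha.1.2 hb.1.1 hb.1.2 (e a ha.2) (e b hb.2)

theorem exists_c0 : ∃ c0 ∈ supports (golayCode : Set (GolayPt → ZMod 2)),
    (none : GolayPt) ∈ c0 ∧ (some 0 : GolayPt) ∉ c0 :=
  exists_codeword_sep (i := some 0) (j := none) (by decide)

/-- moving a pair to standard position. -/
theorem pair3_exists : ∃ ustd : ↥leechLattice, ∀ u x : ↥leechLattice,
    sqNorm (u : GolayPt → ℤ) = 48 → sqNorm (x : GolayPt → ℤ) = 32 →
    dotInt (x : GolayPt → ℤ) (u : GolayPt → ℤ) = -16 →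
    ∃ g : ↥Co0, g • x = std1 ∧ g • u = ustd := by
  classical
  obtain ⟨c0, hc0, hc0n, hc00⟩ := exists_c0
  have hT0 : ({some 0, some 1, some 2} : Finset GolayPt).card = 3 := by decide
  have hb0 : baseP ({some 0, some 1, some 2} : Finset GolayPt) (-3) ∈ leechLattice :=
    baseP_mem (by norm_num) (by rw [hT0]; norm_num)
  refine ⟨⟨signCh c0 (baseP {some 0, some 1, some 2} (-3)), signCh_mem hc0 hb0⟩, ?_⟩
  intro u x hu hx hd
  have hs1 : sqNorm ((std1 : ↥leechLattice) : GolayPt → ℤ) = 32 :=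
    sqNorm_Wv (by decide) (Or.inl rfl) (Or.inl rfl)
  obtain ⟨g0, hg0⟩ := trans32 x std1 hx hs1
  have hu1 : sqNorm ((g0 • u : ↥leechLattice) : GolayPt → ℤ) = 48 := by
    rw [← hu]
    exact g0.2.2 u
  obtain ⟨v', hv'n, hv'1, hv'u⟩ := exists_orth8 (g0 • u).2 hu1
  obtain ⟨g1, hg1, hg1v⟩ := pair_to_std std1 v' hs1 hv'n hv'1
  have hu2 : sqNorm ((g1 • (g0 • u) : ↥leechLattice) : GolayPt → ℤ) = 48 := by
    rw [← hu1]
    exact g1.2.2 (g0 • u)
  have hdot1 : dotInt ((std1 : ↥leechLattice) : GolayPt → ℤ)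
      ((g1 • (g0 • u) : ↥leechLattice) : GolayPt → ℤ) = -16 := by
    have h := co0_dot (g1 * g0) x u
    rw [mul_smul', mul_smul', hg0, hg1, hd] at h
    exact h
  have hdot2 : dotInt ((std2 : ↥leechLattice) : GolayPt → ℤ)
      ((g1 • (g0 • u) : ↥leechLattice) : GolayPt → ℤ) = 8 := by
    have h := co0_dot g1 v' (g0 • u)
    rw [hg1v, hv'u] at h
    exact h
  rw [dot_std1] at hdot1
  change dotInt (Wv none (some 0) 2 (-2)) _ = 8 at hdot2
  rw [dot_Wv] at hdot2
  generalize hu2def : g1 • (g0 • u) = u2 at hu2 hdot1 hdot2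
  have h2n : (u2 : GolayPt → ℤ) none = -1 := by omega
  have h20 : (u2 : GolayPt → ℤ) (some 0) = -3 := by omega
  rcases (mem48_iff (u2 : GolayPt → ℤ)).mp ⟨u2.2, hu2⟩ with h | h | h | h
  · exfalso
    rcases entries12 h none with h' | h' | h' <;> rw [h2n] at h' <;> norm_num at h'
  · exfalso
    have := (entries4 h).1 none
    rw [h2n] at this
    norm_num at this
  · obtain ⟨c, hc, T, hT, hu2e⟩ := (mem_fam3 (u2 : GolayPt → ℤ)).mp h
    -- the positions of the two points
    have hnT : (none : GolayPt) ∉ T ∧ (none : GolayPt) ∈ c := by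
      rw [hu2e] at h2n
      unfold signCh baseP at h2n
      by_cases h1 : (none : GolayPt) ∈ T <;> by_cases h2 : (none : GolayPt) ∈ c
      · rw [if_pos h2, if_pos h1] at h2n
        norm_num at h2n
      · rw [if_neg h2, if_pos h1] at h2n
        norm_num at h2n
      · exact ⟨h1, h2⟩
      · rw [if_neg h2, if_neg h1] at h2n
        norm_num at h2n
    have h0T : (some 0 : GolayPt) ∈ T ∧ (some 0 : GolayPt) ∉ c := by
      rw [hu2e] at h20
      unfold signCh baseP at h20
      by_cases h1 : (some 0 : GolayPt) ∈ T <;> by_cases h2 : (some 0 : GolayPt) ∈ c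
      · rw [if_pos h2, if_pos h1] at h20
        norm_num at h20
      · exact ⟨h1, h2⟩
      · rw [if_pos h2, if_neg h1] at h20
        norm_num at h20
      · rw [if_neg h2, if_neg h1] at h20
        norm_num at h20
    -- the other two points
    have hT2 : (T.erase (some 0)).card = 2 := by
      rw [Finset.card_erase_of_mem h0T.1, hT]
    obtain ⟨t1, t2, ht12, hTe⟩ := Finset.card_eq_two.mp hT2
    have ht1 : t1 ∈ T.erase (some 0) := by rw [hTe]; exact Finset.mem_insert_self _ _
    have ht2 : t2 ∈ T.erase (some 0) := by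
      rw [hTe]; exact Finset.mem_insert_of_mem (Finset.mem_singleton_self _)
    rw [Finset.mem_erase] at ht1 ht2
    have ht1n : t1 ≠ none := fun h' => hnT.1 (h' ▸ ht1.2)
    have ht2n : t2 ≠ none := fun h' => hnT.1 (h' ▸ ht2.2)
    have hTeq : T = {some 0, t1, t2} := by
      rw [← hTe, Finset.insert_erase h0T.1]
    obtain ⟨σ, hσ, hσ1, hσ2, hσ3, hσ4⟩ := m24_four_trans (a := none) (b := some 0) (c := t1)
      (d := t2) (a' := none) (b' := some 0) (c' := some 1) (d' := some 2) (by decide)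
      (Ne.symm ht1n) (Ne.symm ht2n) (Ne.symm ht1.1) (Ne.symm ht2.1) ht12 (by decide) (by decide)
      (by decide) (by decide) (by decide) (by decide)
    have hσT : σ • T = {some 0, some 1, some 2} := by
      rw [hTeq, Finset.smul_finset_insert, Finset.smul_finset_insert,
        Finset.smul_finset_singleton, Equiv.Perm.smul_def, Equiv.Perm.smul_def,
        Equiv.Perm.smul_def, hσ2, hσ3, hσ4]
    have hσc : σ • c ∈ supports (golayCode : Set (GolayPt → ZMod 2)) := smul_mem_supports hσ hc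
    have hc' : symmDiff c0 (σ • c) ∈ supports (golayCode : Set (GolayPt → ZMod 2)) :=
      symmDiff_mem_supports hc0 hσc
    have hnσ : (none : GolayPt) ∈ σ • c := by
      rw [← hσ1]
      exact Finset.smul_mem_smul_finset hnT.2
    have h0σ : (some 0 : GolayPt) ∉ σ • c := by
      rw [← hσ2]
      intro h'
      exact h0T.2 ((Finset.smul_mem_smul_finset_iff σ).mp h')
    have hn' : (none : GolayPt) ∉ symmDiff c0 (σ • c) := by
      rw [Finset.mem_symmDiff]
      rintro (h' | h')
      · exact h'.2 hnσ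
      · exact h'.2 hc0n
    have h0' : (some 0 : GolayPt) ∉ symmDiff c0 (σ • c) := by
      rw [Finset.mem_symmDiff]
      rintro (h' | h')
      · exact hc00 h'.1
      · exact h0σ h'.1
    refine ⟨⟨monoPerm σ hσ _ hc', monoPerm_mem σ hσ _ hc'⟩ * (g1 * g0), ?_, ?_⟩
    · rw [mul_smul', mul_smul', hg0, hg1]
      exact mono_fix_std1 hσ hc' hσ1 hσ2 hn' h0'
    · rw [mul_smul', mul_smul', hu2def]
      apply Subtype.ext
      change signedPerm σ (symmDiff c0 (σ • c)) (u2 : GolayPt → ℤ) =
        signCh c0 (baseP {some 0, some 1, some 2} (-3))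
      rw [hu2e, signedPerm_eq', signCh_perm, baseP_perm, hσT, signCh_signCh',
        symmDiff_symmDiff_cancel_right]
  · exfalso
    rcases (entries5 h).1 (some 0) with h' | h' <;> rw [h20] at h' <;> norm_num at h'

/-- transitivity of the stabiliser of a vector of sum of squares 32 on the vectors of sum of
squares 48 with inner product `-16`. -/
theorem trans_pair3 (x u u' : ↥leechLattice) (hx : sqNorm (x : GolayPt → ℤ) = 32)
    (hu : sqNorm (u : GolayPt → ℤ) = 48) (hu' : sqNorm (u' : GolayPt → ℤ) = 48)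
    (hd : dotInt (x : GolayPt → ℤ) (u : GolayPt → ℤ) = -16)
    (hd' : dotInt (x : GolayPt → ℤ) (u' : GolayPt → ℤ) = -16) :
    ∃ g : ↥Co0, g • x = x ∧ g • u = u' := by
  obtain ⟨ustd, hstd⟩ := pair3_exists
  obtain ⟨g, hg1, hg2⟩ := hstd u x hu hx hd
  obtain ⟨g', hg1', hg2'⟩ := hstd u' x hu' hx hd'
  refine ⟨g'⁻¹ * g, ?_, ?_⟩
  · rw [mul_smul', hg1, ← hg1', inv_smul_smul']
  · rw [mul_smul', hg2, ← hg2', inv_smul_smul']

end Cfsg.Agent.Helper9.Leech
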