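import Mathlib
import Cfsg.Prelude.Def_Sporadic_a
import Cfsg.Prelude.Def_SporadicCombinatorics
import Cfsg.Agent.Helper9.Leech.Engine
import Cfsg.Agent.Helper9.Leech.Pair3

/-!
Numbers of minimal vectors with given inner products with a vector, by moving the vector to a
standard one and counting there.
-/

set_option autoImplicit false

namespace Cfsg.Agent.Helper9.Leech

open Cfsg
open Cfsg.Agent.Helper9.Golay

theorem dot_comm' (x y : GolayPt → ℤ) : dotInt x y = dotInt y x := by
  unfold dotInt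
  exact Finset.sum_congr rfl (fun i _ => mul_comm _ _)

/-- sets of lattice vectors, as sets of functions. -/
theorem ncard_sub_eq (P : (GolayPt → ℤ) → Prop) :
    {w : ↥leechLattice | P (w : GolayPt → ℤ)}.ncard =
      {w : GolayPt → ℤ | w ∈ leechLattice ∧ P w}.ncard := by
  rw [← Set.ncard_image_of_injective _ Subtype.val_injective]
  congr 1
  ext w
  constructor
  · rintro ⟨x, hx, rfl⟩
    exact ⟨x.2, hx⟩
  · rintro ⟨h1, h2⟩
    exact ⟨⟨w, h1⟩, h2, rfl⟩

theorem smul_inv_smul' (g : ↥Co0) (v : ↥leechLattice) : g • (g⁻¹ • v) = v :=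
  smul_inv_smul g v

theorem co0_sqNorm (g : ↥Co0) (v : ↥leechLattice) :
    sqNorm ((g • v : ↥leechLattice) : GolayPt → ℤ) = sqNorm (v : GolayPt → ℤ) := g.2.2 v

/-- moving a set of lattice vectors cut out by the norm and inner products with a vector. -/
theorem ncard_smul (g : ↥Co0) (v : ↥leechLattice) (n d : ℤ) :
    {w : ↥leechLattice | sqNorm (w : GolayPt → ℤ) = n ∧
        dotInt (v : GolayPt → ℤ) (w : GolayPt → ℤ) = d}.ncard =
      {w : ↥leechLattice | sqNorm (w : GolayPt → ℤ) = n ∧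
        dotInt ((g • v : ↥leechLattice) : GolayPt → ℤ) (w : GolayPt → ℤ) = d}.ncard := by
  rw [← Set.ncard_image_of_injective _ (MulAction.injective g)]
  congr 1
  ext w
  constructor
  · rintro ⟨x, ⟨h1, h2⟩, rfl⟩
    exact ⟨(co0_sqNorm g x).trans h1, (co0_dot g v x).trans h2⟩
  · rintro ⟨h1, h2⟩
    refine ⟨g⁻¹ • w, ⟨(co0_sqNorm g⁻¹ w).trans h1, ?_⟩, smul_inv_smul' g w⟩
    have h := co0_dot g v (g⁻¹ • w)
    rw [smul_inv_smul'] at h
    rw [← h]
    exact h2

/-- the number of minimal vectors with a given inner product with a lattice vector that some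
automorphism moves to the vector with the list of coordinates `al`. -/
theorem ncard_min_of_smul (v : ↥leechLattice) (g : ↥Co0) (al : List ℤ) (hal : al.length = 24)
    (hg : ((g • v : ↥leechLattice) : GolayPt → ℤ) = toVec al) (d : ℤ) (n : ℕ)
    (h : cntFast al d = n) :
    {w : ↥leechLattice | sqNorm (w : GolayPt → ℤ) = 32 ∧
        dotInt (v : GolayPt → ℤ) (w : GolayPt → ℤ) = d}.ncard = n := by
  rw [ncard_smul g v 32 d, hg,
    ncard_sub_eq (fun w => sqNorm w = 32 ∧ dotInt (toVec al) w = d)]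
  exact ncard_min_dot' al hal d n h

/-- the coordinates of the first standard minimal vector. -/
def al1 : List ℤ := [4, 0, 0, 0, 0, 0, 0, 0, 0, 0, 0, 0, 0, 0, 0, 0, 0, 0, 0, 0, 0, 0, 0, 4]

theorem std1_eq : ((std1 : ↥leechLattice) : GolayPt → ℤ) = toVec al1 := by
  funext p
  show Wv none (some 0) 2 2 p = _
  rw [Wv_apply]
  revert p
  decide

set_option maxRecDepth 100000 in
theorem cnt_al1_a : cntFast al1 (-16) = 4600 := by decide +kernel

set_option maxRecDepth 100000 in
theorem cnt_al1_b : cntFast al1 (-8) = 47104 := by decide +kernel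

set_option maxRecDepth 100000 in
theorem cnt_al1_c : cntFast al1 0 = 93150 := by decide +kernel

/-- the numbers of minimal vectors with given inner product with a minimal vector. -/
theorem census_min (v : GolayPt → ℤ) (hv : v ∈ leechLattice) (hvn : sqNorm v = 32) (d : ℤ)
    (n : ℕ) (h : cntFast al1 d = n) :
    {w : GolayPt → ℤ | w ∈ leechLattice ∧ sqNorm w = 32 ∧ dotInt v w = d}.ncard = n := by
  have hs1 : sqNorm ((std1 : ↥leechLattice) : GolayPt → ℤ) = 32 :=
    sqNorm_Wv (by decide) (Or.inl rfl) (Or.inl rfl)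
  obtain ⟨g, hg⟩ := trans32 ⟨v, hv⟩ std1 hvn hs1
  have hg' : ((g • (⟨v, hv⟩ : ↥leechLattice) : ↥leechLattice) : GolayPt → ℤ) = toVec al1 := by
    rw [hg, std1_eq]
  have := ncard_min_of_smul ⟨v, hv⟩ g al1 rfl hg' d n h
  rw [ncard_sub_eq (fun w => sqNorm w = 32 ∧ dotInt v w = d)] at this
  exact this


/-! ### vectors of sum of squares 48 -/

/-- the coordinates of the standard vector of sum of squares 48. -/
def alU : List ℤ := [5, 1, 1, 1, 1, 1, 1, 1, 1, 1, 1, 1, 1, 1, 1, 1, 1, 1, 1, 1, 1, 1, 1, 1]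

/-- the standard vector of sum of squares 48. -/
def ustd : ↥leechLattice :=
  ⟨baseP {some 0} 5, baseP_mem (by norm_num) (by rw [Finset.card_singleton]; norm_num)⟩

theorem ustd_eq : ((ustd : ↥leechLattice) : GolayPt → ℤ) = toVec alU := by
  funext p
  show baseP {some 0} 5 p = _
  unfold baseP
  revert p
  decide

theorem sqNorm_toVec (al : List ℤ) (hal : al.length = 24) :
    sqNorm (toVec al) = (al.map (fun x => x ^ 2)).sum := by
  unfold sqNorm
  rw [sum_univ_eq]
  have e : (fun p => toVec al p ^ 2) = (fun x : ℤ => x ^ 2) ∘ toVec al := rfl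
  rw [e, ← List.map_map, pts_map_toVec al hal]

theorem sqNorm_ustd : sqNorm ((ustd : ↥leechLattice) : GolayPt → ℤ) = 48 := by
  rw [ustd_eq, sqNorm_toVec alU rfl]
  decide

/-- a vector `v` with `u - v` minimal. -/
theorem sub_min_iff (u v : ↥leechLattice) (hu : sqNorm (u : GolayPt → ℤ) = 48)
    (hv : sqNorm (v : GolayPt → ℤ) = 32) :
    sqNorm ((u - v : ↥leechLattice) : GolayPt → ℤ) = 32 ↔
      dotInt (u : GolayPt → ℤ) (v : GolayPt → ℤ) = 24 := by
  have e : ((u - v : ↥leechLattice) : GolayPt → ℤ) = (u : GolayPt → ℤ) - (v : GolayPt → ℤ) := rfl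
  rw [e, sqNorm_sub', hu, hv]
  constructor <;> intro h <;> omega

theorem census_48 (u : ↥leechLattice) (hu : sqNorm (u : GolayPt → ℤ) = 48) (d : ℤ) (n : ℕ)
    (h : cntFast alU d = n) :
    {w : ↥leechLattice | sqNorm (w : GolayPt → ℤ) = 32 ∧
        dotInt (u : GolayPt → ℤ) (w : GolayPt → ℤ) = d}.ncard = n := by
  obtain ⟨g, hg⟩ := trans48 u ustd hu sqNorm_ustd
  have hg' : ((g • u : ↥leechLattice) : GolayPt → ℤ) = toVec alU := by
    rw [hg, ustd_eq]
  exact ncard_min_of_smul u g alU rfl hg' d n h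

set_option maxRecDepth 100000 in
theorem cnt_alU_24 : cntFast alU 24 = 552 := by decide +kernel

set_option maxRecDepth 100000 in
theorem cnt_alU_m16 : cntFast alU (-16) = 11178 := by decide +kernel

theorem card_552 (u : ↥leechLattice) (hu : sqNorm (u : GolayPt → ℤ) = 48) :
    {v : ↥leechLattice | sqNorm (v : GolayPt → ℤ) = 32 ∧
      sqNorm ((u - v : ↥leechLattice) : GolayPt → ℤ) = 32}.ncard = 552 := by
  rw [← census_48 u hu 24 552 cnt_alU_24]
  congr 1
  ext v
  constructor
  · rintro ⟨h1, h2⟩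
    exact ⟨h1, (sub_min_iff u v hu h1).mp h2⟩
  · rintro ⟨h1, h2⟩
    exact ⟨h1, (sub_min_iff u v hu h1).mpr h2⟩

end Cfsg.Agent.Helper9.Leech
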