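import Mathlib
import Cfsg.Prelude.Def_Sporadic_a
import Cfsg.Prelude.Def_SporadicCombinatorics
import Cfsg.Agent.Helper9.Leech.Census

/-!
Two vectors of sum of squares 48 with inner product `-32` and the 100 minimal vectors attached
to them.
-/

set_option autoImplicit false

namespace Cfsg.Agent.Helper9.Leech

open Cfsg
open Cfsg.Agent.Helper9.Golay
open scoped Pointwise

/-! ### linearity of the inner product -/

theorem dot_add_left (x y z : GolayPt → ℤ) : dotInt (x + y) z = dotInt x z + dotInt y z := by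
  unfold dotInt
  rw [← Finset.sum_add_distrib]
  apply Finset.sum_congr rfl
  intro i _
  rw [Pi.add_apply]
  ring

theorem dot_sub_left (x y z : GolayPt → ℤ) : dotInt (x - y) z = dotInt x z - dotInt y z := by
  unfold dotInt
  rw [← Finset.sum_sub_distrib]
  apply Finset.sum_congr rfl
  intro i _
  rw [Pi.sub_apply]
  ring

theorem dot_add_right (x y z : GolayPt → ℤ) : dotInt x (y + z) = dotInt x y + dotInt x z := by
  rw [dot_comm', dot_add_left, dot_comm' y, dot_comm' z]

theorem dot_sub_right (x y z : GolayPt → ℤ) : dotInt x (y - z) = dotInt x y - dotInt x z := by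
  rw [dot_comm', dot_sub_left, dot_comm' y, dot_comm' z]

theorem dot_self (x : GolayPt → ℤ) : dotInt x x = sqNorm x := by
  unfold dotInt sqNorm
  apply Finset.sum_congr rfl
  intro i _
  ring

theorem smul_zero' (g : ↥Co0) : g • (0 : ↥leechLattice) = 0 := by
  have h := smul_sub' g 0 0
  rw [sub_self, sub_self] at h
  exact h

/-! ### the sign changes fixing the two standard vectors -/

theorem mono_fix_std2 {σ : Equiv.Perm GolayPt} (hσ : σ ∈ M24) {c : Finset GolayPt}
    (hc : c ∈ supports (golayCode : Set (GolayPt → ZMod 2))) (h1 : σ none = none)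
    (h2 : σ (some 0) = some 0) (hc1 : (none : GolayPt) ∉ c) (hc2 : (some 0 : GolayPt) ∉ c) :
    (⟨monoPerm σ hσ c hc, monoPerm_mem σ hσ c hc⟩ : ↥Co0) • std2 = std2 := by
  apply Subtype.ext
  change signedPerm σ c (Wv none (some 0) 2 (-2)) = Wv none (some 0) 2 (-2)
  funext p
  unfold signedPerm
  rw [Wv_apply, Wv_apply]
  have e1 : σ.symm p = none ↔ p = none := by
    constructor
    · intro h
      rw [← h1, ← h, Equiv.apply_symm_apply]
    · intro h
      rw [h, ← h1, Equiv.symm_apply_apply, h1]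
  have e2 : σ.symm p = some 0 ↔ p = some 0 := by
    constructor
    · intro h
      rw [← h2, ← h, Equiv.apply_symm_apply]
    · intro h
      rw [h, ← h2, Equiv.symm_apply_apply, h2]
  by_cases hp : p ∈ c
  · have hp1 : p ≠ none := fun h => hc1 (h ▸ hp)
    have hp2 : p ≠ some 0 := fun h => hc2 (h ▸ hp)
    rw [if_pos hp, if_neg (fun h => hp1 (e1.mp h)), if_neg (fun h => hp2 (e2.mp h)), if_neg hp1,
      if_neg hp2]
    norm_num
  · rw [if_neg hp]
    simp only [e1, e2]

theorem dot_std2 (w : GolayPt → ℤ) :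
    dotInt ((std2 : ↥leechLattice) : GolayPt → ℤ) w = 4 * w none - 4 * w (some 0) := by
  change dotInt (Wv none (some 0) 2 (-2)) w = _
  rw [dot_Wv]
  ring

/-- a code word containing the point `0` and not the point `∞`. -/
theorem exists_c1 : ∃ c1 ∈ supports (golayCode : Set (GolayPt → ZMod 2)),
    (some 0 : GolayPt) ∈ c1 ∧ (none : GolayPt) ∉ c1 :=
  exists_codeword_sep (i := none) (j := some 0) (by decide)

/-- moving two orthogonal minimal vectors and a third minimal vector with inner products 16 and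
`-8` with them to standard position. -/
theorem triple_exists : ∃ ystd : ↥leechLattice, ∀ m x y : ↥leechLattice,
    sqNorm (m : GolayPt → ℤ) = 32 → sqNorm (x : GolayPt → ℤ) = 32 →
    sqNorm (y : GolayPt → ℤ) = 32 →
    dotInt (m : GolayPt → ℤ) (x : GolayPt → ℤ) = 0 →
    dotInt (m : GolayPt → ℤ) (y : GolayPt → ℤ) = 16 →
    dotInt (x : GolayPt → ℤ) (y : GolayPt → ℤ) = -8 →
    ∃ g : ↥Co0, g • m = std1 ∧ g • x = std2 ∧ g • y = ystd := by
  classical
  obtain ⟨c1, hc1, hc10, hc1n⟩ := exists_c1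
  refine ⟨⟨oddVec (some 0) c1, oddVec_mem hc1⟩, ?_⟩
  intro m x y hm hx hy hmx hmy hxy
  obtain ⟨g0, hg0m, hg0x⟩ := pair_to_std m x hm hx hmx
  have hz : sqNorm ((g0 • y : ↥leechLattice) : GolayPt → ℤ) = 32 := by
    rw [← hy]
    exact co0_sqNorm g0 y
  have hd1 : dotInt ((std1 : ↥leechLattice) : GolayPt → ℤ)
      ((g0 • y : ↥leechLattice) : GolayPt → ℤ) = 16 := by
    have h := co0_dot g0 m y
    rw [hg0m, hmy] at h
    exact h
  have hd2 : dotInt ((std2 : ↥leechLattice) : GolayPt → ℤ)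
      ((g0 • y : ↥leechLattice) : GolayPt → ℤ) = -8 := by
    have h := co0_dot g0 x y
    rw [hg0x, hxy] at h
    exact h
  rw [dot_std1] at hd1
  rw [dot_std2] at hd2
  generalize hzdef : g0 • y = z at hz hd1 hd2
  have hzn : (z : GolayPt → ℤ) none = 1 := by omega
  have hz0 : (z : GolayPt → ℤ) (some 0) = 3 := by omega
  obtain ⟨j, c, hc, hjc⟩ := odd_min_classify z.2 hz (by rw [hzn]; rfl)
  have hj : j = some 0 ∧ (some 0 : GolayPt) ∈ c := by
    rw [hjc, oddVec_apply] at hz0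
    unfold baseOdd at hz0
    by_cases h0c : (some 0 : GolayPt) ∈ c <;> by_cases h0j : (some 0 : GolayPt) = j
    · exact ⟨h0j.symm, h0c⟩
    · rw [if_pos h0c, if_neg h0j] at hz0
      norm_num at hz0
    · rw [if_neg h0c, if_pos h0j] at hz0
      norm_num at hz0
    · rw [if_neg h0c, if_neg h0j] at hz0
      norm_num at hz0
  have hnc : (none : GolayPt) ∉ c := by
    intro hnc
    rw [hjc, oddVec_apply] at hzn
    unfold baseOdd at hzn
    rw [if_pos hnc, hj.1, if_neg (by decide)] at hzn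
    norm_num at hzn
  have hcc : symmDiff c1 c ∈ supports (golayCode : Set (GolayPt → ZMod 2)) :=
    symmDiff_mem_supports hc1 hc
  have hn' : (none : GolayPt) ∉ symmDiff c1 c := by
    rw [Finset.mem_symmDiff]
    tauto
  have h0' : (some 0 : GolayPt) ∉ symmDiff c1 c := by
    rw [Finset.mem_symmDiff]
    have := hj.2
    tauto
  have h1M : (1 : Equiv.Perm GolayPt) ∈ M24 := M24.one_mem
  refine ⟨⟨monoPerm 1 h1M _ hcc, monoPerm_mem 1 h1M _ hcc⟩ * g0, ?_, ?_, ?_⟩
  · rw [mul_smul', hg0m]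
    exact mono_fix_std1 h1M hcc rfl rfl hn' h0'
  · rw [mul_smul', hg0x]
    exact mono_fix_std2 h1M hcc rfl rfl hn' h0'
  · rw [mul_smul', hzdef]
    apply Subtype.ext
    change signedPerm 1 (symmDiff c1 c) (z : GolayPt → ℤ) = oddVec (some 0) c1
    rw [hjc, signedPerm_eq', hj.1]
    change signCh (symmDiff c1 c) (signCh c (baseOdd (some 0))) = signCh c1 (baseOdd (some 0))
    rw [signCh_signCh']
    congr 1
    ext p
    simp only [Finset.mem_symmDiff]
    tauto


/-- the inner products in the configuration of two vectors of sum of squares 48 with inner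
product `-32` and an attached minimal vector. -/
theorem hs_facts (v w x : ↥leechLattice) (hv : sqNorm (v : GolayPt → ℤ) = 48)
    (hw : sqNorm (w : GolayPt → ℤ) = 48)
    (hvw : dotInt (v : GolayPt → ℤ) (w : GolayPt → ℤ) = -32)
    (hx : sqNorm (x : GolayPt → ℤ) = 32)
    (hvx : dotInt (v : GolayPt → ℤ) (x : GolayPt → ℤ) = 24)
    (hwx : dotInt (w : GolayPt → ℤ) (x : GolayPt → ℤ) = -24) :
    sqNorm ((v + w : ↥leechLattice) : GolayPt → ℤ) = 32 ∧
    sqNorm ((v - x : ↥leechLattice) : GolayPt → ℤ) = 32 ∧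
    dotInt ((v + w : ↥leechLattice) : GolayPt → ℤ) (x : GolayPt → ℤ) = 0 ∧
    dotInt ((v + w : ↥leechLattice) : GolayPt → ℤ) ((v - x : ↥leechLattice) : GolayPt → ℤ) = 16 ∧
    dotInt (x : GolayPt → ℤ) ((v - x : ↥leechLattice) : GolayPt → ℤ) = -8 := by
  have e1 : ((v + w : ↥leechLattice) : GolayPt → ℤ) = (v : GolayPt → ℤ) + (w : GolayPt → ℤ) := rfl
  have e2 : ((v - x : ↥leechLattice) : GolayPt → ℤ) = (v : GolayPt → ℤ) - (x : GolayPt → ℤ) := rfl
  have hwv : dotInt (w : GolayPt → ℤ) (v : GolayPt → ℤ) = -32 := by rw [dot_comm']; exact hvw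
  have hxv : dotInt (x : GolayPt → ℤ) (v : GolayPt → ℤ) = 24 := by rw [dot_comm']; exact hvx
  rw [e1, e2]
  refine ⟨?_, ?_, ?_, ?_, ?_⟩
  · rw [sqNorm_add', hv, hw, hvw]
    norm_num
  · rw [sqNorm_sub', hv, hx, hvx]
    norm_num
  · rw [dot_add_left, hvx, hwx]
    norm_num
  · rw [dot_sub_right, dot_add_left, dot_add_left, dot_self, hv, hwv, hvx, hwx]
    norm_num
  · rw [dot_sub_right, dot_self, hxv, hx]
    norm_num

/-- the stabiliser of two vectors of sum of squares 48 with inner product `-32` is transitive on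
the attached minimal vectors. -/
theorem trans_100 (v w x x' : ↥leechLattice) (hv : sqNorm (v : GolayPt → ℤ) = 48)
    (hw : sqNorm (w : GolayPt → ℤ) = 48)
    (hvw : dotInt (v : GolayPt → ℤ) (w : GolayPt → ℤ) = -32)
    (hx : sqNorm (x : GolayPt → ℤ) = 32 ∧ dotInt (v : GolayPt → ℤ) (x : GolayPt → ℤ) = 24 ∧
      dotInt (w : GolayPt → ℤ) (x : GolayPt → ℤ) = -24)
    (hx' : sqNorm (x' : GolayPt → ℤ) = 32 ∧ dotInt (v : GolayPt → ℤ) (x' : GolayPt → ℤ) = 24 ∧
      dotInt (w : GolayPt → ℤ) (x' : GolayPt → ℤ) = -24) :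
    ∃ g : ↥Co0, g • v = v ∧ g • w = w ∧ g • x = x' := by
  obtain ⟨ystd, hstd⟩ := triple_exists
  obtain ⟨f1, f2, f3, f4, f5⟩ := hs_facts v w x hv hw hvw hx.1 hx.2.1 hx.2.2
  obtain ⟨f1', f2', f3', f4', f5'⟩ := hs_facts v w x' hv hw hvw hx'.1 hx'.2.1 hx'.2.2
  obtain ⟨g, hg1, hg2, hg3⟩ := hstd (v + w) x (v - x) f1 hx.1 f2 f3 f4 f5
  obtain ⟨g', hg1', hg2', hg3'⟩ := hstd (v + w) x' (v - x') f1 hx'.1 f2' f3' f4' f5'
  have h1 : (g'⁻¹ * g) • (v + w) = v + w := by
    rw [mul_smul', hg1, ← hg1', inv_smul_smul']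
  have h2 : (g'⁻¹ * g) • x = x' := by
    rw [mul_smul', hg2, ← hg2', inv_smul_smul']
  have h3 : (g'⁻¹ * g) • (v - x) = v - x' := by
    rw [mul_smul', hg3, ← hg3', inv_smul_smul']
  have h4 : (g'⁻¹ * g) • v = v := by
    have e : v = x + (v - x) := by abel
    rw [e, smul_add', h2, h3]
    abel
  refine ⟨g'⁻¹ * g, h4, ?_, h2⟩
  have e : w = (v + w) - v := by abel
  rw [e, smul_sub', h1, h4]

/-- the pairs of vectors of sum of squares 48 with inner product `-32` form one orbit. -/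
theorem trans_hs_pair (v w v' w' : ↥leechLattice) (hv : sqNorm (v : GolayPt → ℤ) = 48)
    (hw : sqNorm (w : GolayPt → ℤ) = 48)
    (hvw : dotInt (v : GolayPt → ℤ) (w : GolayPt → ℤ) = -32)
    (hv' : sqNorm (v' : GolayPt → ℤ) = 48) (hw' : sqNorm (w' : GolayPt → ℤ) = 48)
    (hvw' : dotInt (v' : GolayPt → ℤ) (w' : GolayPt → ℤ) = -32) :
    ∃ g : ↥Co0, g • v = v' ∧ g • w = w' := by
  have key : ∀ a b : ↥leechLattice, sqNorm (a : GolayPt → ℤ) = 48 →
      sqNorm (b : GolayPt → ℤ) = 48 → dotInt (a : GolayPt → ℤ) (b : GolayPt → ℤ) = -32 →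
      sqNorm ((0 - a - b : ↥leechLattice) : GolayPt → ℤ) = 32 ∧
      dotInt ((0 - a - b : ↥leechLattice) : GolayPt → ℤ) (a : GolayPt → ℤ) = -16 := by
    intro a b ha hb hab
    have e : ((0 - a - b : ↥leechLattice) : GolayPt → ℤ) =
        (0 - (a : GolayPt → ℤ)) - (b : GolayPt → ℤ) := rfl
    have hba : dotInt (b : GolayPt → ℤ) (a : GolayPt → ℤ) = -32 := by rw [dot_comm']; exact hab
    have e0 : sqNorm (0 : GolayPt → ℤ) = 0 := by
      unfold sqNorm
      simp
    have e1 : ∀ z : GolayPt → ℤ, dotInt (0 : GolayPt → ℤ) z = 0 := by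
      intro z
      unfold dotInt
      simp
    rw [e]
    constructor
    · rw [sqNorm_sub', sqNorm_sub', dot_sub_left, e0, e1, e1, ha, hb, hab]
      norm_num
    · rw [dot_sub_left, dot_sub_left, e1, dot_self, ha, hba]
      norm_num
  obtain ⟨k1, k2⟩ := key v w hv hw hvw
  obtain ⟨k1', k2'⟩ := key v' w' hv' hw' hvw'
  obtain ⟨g0, hg0⟩ := trans32 (0 - v - w) (0 - v' - w') k1 k1'
  have hu0 : sqNorm ((g0 • v : ↥leechLattice) : GolayPt → ℤ) = 48 := by
    rw [← hv]
    exact co0_sqNorm g0 v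
  have hd0 : dotInt ((0 - v' - w' : ↥leechLattice) : GolayPt → ℤ)
      ((g0 • v : ↥leechLattice) : GolayPt → ℤ) = -16 := by
    have h := co0_dot g0 (0 - v - w) v
    rw [hg0] at h
    rw [h]
    exact k2
  obtain ⟨g1, hg1, hg2⟩ := trans_pair3 (0 - v' - w') (g0 • v) v' k1' hu0 hv' hd0 k2'
  have h1 : (g1 * g0) • v = v' := by
    rw [mul_smul', hg2]
  have h2 : (g1 * g0) • (0 - v - w) = 0 - v' - w' := by
    rw [mul_smul', hg0, hg1]
  refine ⟨g1 * g0, h1, ?_⟩
  have e : w = 0 - v - (0 - v - w) := by abel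
  rw [e, smul_sub', smul_sub', smul_zero', h1, h2]
  abel


/-! ### two conditions at once -/

theorem ncard_smul2 (g : ↥Co0) (v w : ↥leechLattice) (n d1 d2 : ℤ) :
    {x : ↥leechLattice | sqNorm (x : GolayPt → ℤ) = n ∧
        dotInt (v : GolayPt → ℤ) (x : GolayPt → ℤ) = d1 ∧
        dotInt (w : GolayPt → ℤ) (x : GolayPt → ℤ) = d2}.ncard =
      {x : ↥leechLattice | sqNorm (x : GolayPt → ℤ) = n ∧
        dotInt ((g • v : ↥leechLattice) : GolayPt → ℤ) (x : GolayPt → ℤ) = d1 ∧
        dotInt ((g • w : ↥leechLattice) : GolayPt → ℤ) (x : GolayPt → ℤ) = d2}.ncard := by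
  rw [← Set.ncard_image_of_injective _ (MulAction.injective g)]
  congr 1
  ext x
  constructor
  · rintro ⟨y, ⟨h1, h2, h3⟩, rfl⟩
    exact ⟨(co0_sqNorm g y).trans h1, (co0_dot g v y).trans h2, (co0_dot g w y).trans h3⟩
  · rintro ⟨h1, h2, h3⟩
    refine ⟨g⁻¹ • x, ⟨(co0_sqNorm g⁻¹ x).trans h1, ?_, ?_⟩, smul_inv_smul' g x⟩
    · have h := co0_dot g v (g⁻¹ • x)
      rw [smul_inv_smul'] at h
      rw [← h]
      exact h2
    · have h := co0_dot g w (g⁻¹ • x)
      rw [smul_inv_smul'] at h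
      rw [← h]
      exact h3

theorem dot_smul_left (k : ℤ) (a x : GolayPt → ℤ) : dotInt (k • a) x = k * dotInt a x := by
  unfold dotInt
  rw [Finset.mul_sum]
  apply Finset.sum_congr rfl
  intro i _
  rw [Pi.smul_apply, smul_eq_mul]
  ring

theorem dot_sq_le (a x : GolayPt → ℤ) : dotInt a x ^ 2 ≤ sqNorm a * sqNorm x := by
  unfold dotInt sqNorm
  exact Finset.sum_mul_sq_le_sq_mul_sq Finset.univ a x

/-- two conditions on inner products, as one. -/
theorem combo_iff (a1 a2 x : GolayPt → ℤ) (d1 d2 : ℤ) (h1 : sqNorm a1 ≤ 48)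
    (hx : sqNorm x = 32) (hd1 : -100 ≤ d1) (hd1' : d1 ≤ 100) :
    dotInt (a1 + (1000 : ℤ) • a2) x = d1 + 1000 * d2 ↔ dotInt a1 x = d1 ∧ dotInt a2 x = d2 := by
  rw [dot_add_left, dot_smul_left]
  have hb := dot_sq_le a1 x
  rw [hx] at hb
  have hb2 : dotInt a1 x ^ 2 < 40 ^ 2 := by nlinarith
  have hb3 := abs_lt_of_sq_lt_sq hb2 (by norm_num)
  rw [abs_lt] at hb3
  constructor
  · intro h
    constructor <;> omega
  · rintro ⟨h, h'⟩
    rw [h, h']

/-! ### the standard pair -/

/-- the coordinates of the second vector of the standard pair. -/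
def alW : List ℤ := [-1, -5, -1, -1, -1, -1, -1, -1, -1, -1, -1, -1, -1, -1, -1, -1, -1, -1, -1,
  -1, -1, -1, -1, -1]

/-- the second vector of the standard pair. -/
def wstd : ↥leechLattice :=
  -⟨baseP {some 1} 5, baseP_mem (by norm_num) (by rw [Finset.card_singleton]; norm_num)⟩

theorem wstd_eq : ((wstd : ↥leechLattice) : GolayPt → ℤ) = toVec alW := by
  funext p
  show -(baseP {some 1} 5 p) = _
  unfold baseP
  revert p
  decide

theorem sqNorm_wstd : sqNorm ((wstd : ↥leechLattice) : GolayPt → ℤ) = 48 := by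
  rw [wstd_eq, sqNorm_toVec alW rfl]
  decide

theorem dot_toVec (al bl : List ℤ) :
    dotInt (toVec al) (toVec bl) = (pts.map (fun p => toVec al p * toVec bl p)).sum := by
  unfold dotInt
  rw [sum_univ_eq]

theorem dot_ustd_wstd : dotInt ((ustd : ↥leechLattice) : GolayPt → ℤ)
    ((wstd : ↥leechLattice) : GolayPt → ℤ) = -32 := by
  rw [ustd_eq, wstd_eq, dot_toVec]
  decide

/-- the coordinates of the first vector plus 1000 times the second. -/
def alHS : List ℤ := [-995, -4999, -999, -999, -999, -999, -999, -999, -999, -999, -999, -999,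
  -999, -999, -999, -999, -999, -999, -999, -999, -999, -999, -999, -999]

theorem alHS_eq : toVec alHS = toVec alU + (1000 : ℤ) • toVec alW := by
  funext p
  rw [Pi.add_apply, Pi.smul_apply, smul_eq_mul]
  revert p
  decide

set_option maxRecDepth 100000 in
theorem cnt_alHS : cntFast alHS (-23976) = 100 := by decide +kernel

/-- the number of minimal vectors attached to two vectors of sum of squares 48 with inner
product `-32`. -/
theorem card_100 (v w : ↥leechLattice) (hv : sqNorm (v : GolayPt → ℤ) = 48)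
    (hw : sqNorm (w : GolayPt → ℤ) = 48)
    (hvw : dotInt (v : GolayPt → ℤ) (w : GolayPt → ℤ) = -32) :
    {x : ↥leechLattice | sqNorm (x : GolayPt → ℤ) = 32 ∧
        dotInt (v : GolayPt → ℤ) (x : GolayPt → ℤ) = 24 ∧
        dotInt (w : GolayPt → ℤ) (x : GolayPt → ℤ) = -24}.ncard = 100 := by
  obtain ⟨g, hg1, hg2⟩ := trans_hs_pair v w ustd wstd hv hw hvw sqNorm_ustd sqNorm_wstd
    dot_ustd_wstd
  rw [ncard_smul2 g v w 32 24 (-24), hg1, hg2, ustd_eq, wstd_eq]
  have e : {x : ↥leechLattice | sqNorm (x : GolayPt → ℤ) = 32 ∧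
        dotInt (toVec alU) (x : GolayPt → ℤ) = 24 ∧
        dotInt (toVec alW) (x : GolayPt → ℤ) = -24} =
      {x : ↥leechLattice | sqNorm (x : GolayPt → ℤ) = 32 ∧
        dotInt (toVec alHS) (x : GolayPt → ℤ) = -23976} := by
    ext x
    rw [Set.mem_ofPred_eq, Set.mem_ofPred_eq, alHS_eq]
    constructor
    · rintro ⟨h1, h2⟩
      refine ⟨h1, ?_⟩
      have := (combo_iff (toVec alU) (toVec alW) (x : GolayPt → ℤ) 24 (-24)
        (by rw [← ustd_eq, sqNorm_ustd]) h1 (by norm_num) (by norm_num)).mpr h2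
      rw [this]
      norm_num
    · rintro ⟨h1, h2⟩
      refine ⟨h1, ?_⟩
      exact (combo_iff (toVec alU) (toVec alW) (x : GolayPt → ℤ) 24 (-24)
        (by rw [← ustd_eq, sqNorm_ustd]) h1 (by norm_num) (by norm_num)).mp
        (by rw [h2]; norm_num)
  rw [e, ncard_sub_eq (fun x => sqNorm x = 32 ∧ dotInt (toVec alHS) x = -23976)]
  exact ncard_min_dot' alHS rfl (-23976) 100 cnt_alHS

end Cfsg.Agent.Helper9.Leech
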