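import Mathlib
import Cfsg.Prelude.Def_Sporadic_a
import Cfsg.Prelude.Def_SporadicCombinatorics
import Cfsg.Agent.Helper9.Leech.HS

/-!
The graph on the 100 minimal vectors attached to two vectors of sum of squares 48 with inner
product `-32`.
-/

set_option autoImplicit false

namespace Cfsg.Agent.Helper9.Leech

open Cfsg
open Cfsg.Agent.Helper9.Golay
open scoped Pointwise

/-! ### a second standard pair, with the first standard minimal vector attached -/

def alVA : List ℤ := [1, 1, 1, 1, 1, 1, 1, 1, 1, 1, 1, 1, 1, 1, 1, 1, 1, 1, 1, 1, 1, 1, 1, 5]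

def alWA : List ℤ := [-5, -1, -1, -1, -1, -1, -1, -1, -1, -1, -1, -1, -1, -1, -1, -1, -1, -1, -1,
  -1, -1, -1, -1, -1]

def vA : ↥leechLattice :=
  ⟨baseP {none} 5, baseP_mem (by norm_num) (by rw [Finset.card_singleton]; norm_num)⟩

def wA : ↥leechLattice :=
  -⟨baseP {some 0} 5, baseP_mem (by norm_num) (by rw [Finset.card_singleton]; norm_num)⟩

theorem vA_eq : ((vA : ↥leechLattice) : GolayPt → ℤ) = toVec alVA := by
  funext p
  show baseP {none} 5 p = _
  unfold baseP
  revert p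
  decide

theorem wA_eq : ((wA : ↥leechLattice) : GolayPt → ℤ) = toVec alWA := by
  funext p
  show -(baseP {some 0} 5 p) = _
  unfold baseP
  revert p
  decide

theorem sqNorm_vA : sqNorm ((vA : ↥leechLattice) : GolayPt → ℤ) = 48 := by
  rw [vA_eq, sqNorm_toVec alVA rfl]
  decide

theorem sqNorm_wA : sqNorm ((wA : ↥leechLattice) : GolayPt → ℤ) = 48 := by
  rw [wA_eq, sqNorm_toVec alWA rfl]
  decide

theorem dot_vA_wA : dotInt ((vA : ↥leechLattice) : GolayPt → ℤ)
    ((wA : ↥leechLattice) : GolayPt → ℤ) = -32 := by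
  rw [vA_eq, wA_eq, dot_toVec]
  decide

theorem sqNorm_std1 : sqNorm ((std1 : ↥leechLattice) : GolayPt → ℤ) = 32 :=
  sqNorm_Wv (by decide) (Or.inl rfl) (Or.inl rfl)

theorem dot_baseP5 (j : GolayPt) (z : GolayPt → ℤ) :
    dotInt (baseP {j} 5) z = ∑ i, z i + 4 * z j := by
  have h1 : ∀ i, baseP {j} 5 i * z i = z i + (if i = j then 4 * z i else 0) := by
    intro i
    unfold baseP
    by_cases h : i = j
    · rw [if_pos (Finset.mem_singleton.mpr h), if_pos h]
      ring
    · rw [if_neg (fun hc => h (Finset.mem_singleton.mp hc)), if_neg h]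
      ring
  unfold dotInt
  simp only [h1, Finset.sum_add_distrib]
  rw [Finset.sum_ite_eq' Finset.univ j, if_pos (Finset.mem_univ j)]

theorem dot_vA (z : GolayPt → ℤ) :
    dotInt ((vA : ↥leechLattice) : GolayPt → ℤ) z = ∑ i, z i + 4 * z none :=
  dot_baseP5 none z

theorem dot_wA (z : GolayPt → ℤ) :
    dotInt ((wA : ↥leechLattice) : GolayPt → ℤ) z = -(∑ i, z i + 4 * z (some 0)) := by
  have e : ((wA : ↥leechLattice) : GolayPt → ℤ) = -(baseP {some 0} 5) := rfl
  rw [e, ← dot_baseP5 (some 0) z]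
  unfold dotInt
  rw [← Finset.sum_neg_distrib]
  apply Finset.sum_congr rfl
  intro i _
  rw [Pi.neg_apply]
  ring

theorem std1_apply_none : ((std1 : ↥leechLattice) : GolayPt → ℤ) none = 4 := std1_none

theorem std1_apply_zero : ((std1 : ↥leechLattice) : GolayPt → ℤ) (some 0) = 4 := by
  change Wv none (some 0) 2 2 (some 0) = 4
  rw [Wv_apply]
  decide

theorem sum_std1 : ∑ i, ((std1 : ↥leechLattice) : GolayPt → ℤ) i = 8 := by
  rw [std1_eq, sum_univ_eq, pts_map_toVec al1 rfl]
  decide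

theorem dot_vA_std1 : dotInt ((vA : ↥leechLattice) : GolayPt → ℤ)
    ((std1 : ↥leechLattice) : GolayPt → ℤ) = 24 := by
  rw [dot_vA, sum_std1, std1_apply_none]
  norm_num

theorem dot_wA_std1 : dotInt ((wA : ↥leechLattice) : GolayPt → ℤ)
    ((std1 : ↥leechLattice) : GolayPt → ℤ) = -24 := by
  rw [dot_wA, sum_std1, std1_apply_zero]
  norm_num

/-- moving a configuration to the standard one. -/
theorem hs_triple_to_std (v w x : ↥leechLattice) (hv : sqNorm (v : GolayPt → ℤ) = 48)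
    (hw : sqNorm (w : GolayPt → ℤ) = 48)
    (hvw : dotInt (v : GolayPt → ℤ) (w : GolayPt → ℤ) = -32)
    (hx : sqNorm (x : GolayPt → ℤ) = 32 ∧ dotInt (v : GolayPt → ℤ) (x : GolayPt → ℤ) = 24 ∧
      dotInt (w : GolayPt → ℤ) (x : GolayPt → ℤ) = -24) :
    ∃ g : ↥Co0, g • v = vA ∧ g • w = wA ∧ g • x = std1 := by
  obtain ⟨g1, h1, h2⟩ := trans_hs_pair v w vA wA hv hw hvw sqNorm_vA sqNorm_wA dot_vA_wA
  have hx1 : sqNorm ((g1 • x : ↥leechLattice) : GolayPt → ℤ) = 32 ∧
      dotInt ((vA : ↥leechLattice) : GolayPt → ℤ) ((g1 • x : ↥leechLattice) : GolayPt → ℤ) = 24 ∧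
      dotInt ((wA : ↥leechLattice) : GolayPt → ℤ)
        ((g1 • x : ↥leechLattice) : GolayPt → ℤ) = -24 := by
    refine ⟨(co0_sqNorm g1 x).trans hx.1, ?_, ?_⟩
    · rw [← h1, co0_dot]
      exact hx.2.1
    · rw [← h2, co0_dot]
      exact hx.2.2
  obtain ⟨g2, k1, k2, k3⟩ := trans_100 vA wA (g1 • x) std1 sqNorm_vA sqNorm_wA dot_vA_wA hx1
    ⟨sqNorm_std1, dot_vA_std1, dot_wA_std1⟩
  refine ⟨g2 * g1, ?_, ?_, ?_⟩
  · rw [mul_smul', h1, k1]
  · rw [mul_smul', h2, k2]
  · rw [mul_smul', k3]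


/-! ### the attached vectors in the standard configuration -/

theorem sum_baseOdd (j : GolayPt) : ∑ i, baseOdd j i = 20 := by
  have h1 : ∀ i, baseOdd j i = 1 - (if i = j then 4 else 0) := by
    intro i
    unfold baseOdd
    split_ifs <;> norm_num
  simp only [h1, Finset.sum_sub_distrib]
  rw [Finset.sum_ite_eq' Finset.univ j, if_pos (Finset.mem_univ j)]
  simp only [Finset.sum_const, Finset.card_univ, card_golayPt]
  norm_num

theorem sum_baseOdd_on (j : GolayPt) (c : Finset GolayPt) :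
    ∑ i ∈ c, baseOdd j i = c.card - (if j ∈ c then 4 else 0) := by
  have h1 : ∀ i, baseOdd j i = 1 - (if i = j then 4 else 0) := by
    intro i
    unfold baseOdd
    split_ifs <;> norm_num
  simp only [h1, Finset.sum_sub_distrib]
  rw [Finset.sum_ite_eq' c j]
  simp

theorem sum_oddVec (j : GolayPt) (c : Finset GolayPt) :
    ∑ i, oddVec j c i = 20 - 2 * (c.card - (if j ∈ c then 4 else 0)) := by
  unfold oddVec
  rw [sum_signCh, sum_baseOdd, sum_baseOdd_on]

theorem std1_eq_pat : ((std1 : ↥leechLattice) : GolayPt → ℤ) = pat 4 {none, some 0} ∅ := by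
  funext p
  show Wv none (some 0) 2 2 p = _
  rw [Wv_apply]
  unfold pat
  revert p
  decide

/-- the minimal vectors attached to the standard pair. -/
theorem hs_cls (z : GolayPt → ℤ) (hz : z ∈ leechLattice) (hn : sqNorm z = 32)
    (h1 : ∑ i, z i + 4 * z none = 24) (h2 : ∑ i, z i + 4 * z (some 0) = 24) :
    z = ((std1 : ↥leechLattice) : GolayPt → ℤ) ∨
      (∃ p : GolayPt, p ≠ none ∧ p ≠ some 0 ∧ z = baseOdd p) ∨
      (∃ o ∈ octads, (none : GolayPt) ∈ o ∧ (some 0 : GolayPt) ∈ o ∧ z = pat 2 o ∅) := by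
  classical
  have hmem : z ∈ {x : GolayPt → ℤ | x ∈ leechLattice ∧ sqNorm x = 32} := ⟨hz, hn⟩
  rw [minVec_eq, Finset.mem_coe, Finset.mem_union, Finset.mem_union, mem_famOdd, mem_famOct,
    mem_famFour] at hmem
  rcases hmem with ⟨j, c, hc, rfl⟩ | ⟨o, s, ho, hs, -, rfl⟩ | ⟨P, s, hP, hs, rfl⟩
  · -- odd vectors
    right; left
    rw [sum_oddVec] at h1 h2
    rw [oddVec_apply] at h1 h2
    unfold baseOdd at h1 h2
    have hcard := card_of_mem_supports hc
    by_cases hjc : j ∈ c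
    · exfalso
      rw [if_pos hjc] at h1 h2
      have hpos : 0 < c.card := Finset.card_pos.mpr ⟨j, hjc⟩
      have hne : (none : GolayPt) ≠ some 0 := by decide
      by_cases hnj : (none : GolayPt) = j <;> by_cases h0j : (some 0 : GolayPt) = j
      · exact hne (hnj.trans h0j.symm)
      · rw [if_neg h0j] at h2
        split_ifs at h1 h2 <;> rcases hcard with h | h | h | h | h <;> rw [h] at h1 h2 <;>
          omega
      · rw [if_neg hnj] at h1
        split_ifs at h1 h2 <;> rcases hcard with h | h | h | h | h <;> rw [h] at h1 h2 <;>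
          omega
      · rw [if_neg hnj] at h1
        rw [if_neg h0j] at h2
        split_ifs at h1 h2 <;> rcases hcard with h | h | h | h | h <;> rw [h] at h1 h2 <;>
          omega
    · rw [if_neg hjc] at h1 h2
      have hc0 : c.card = 0 := by
        split_ifs at h1 h2 <;> rcases hcard with h | h | h | h | h <;> rw [h] at h1 h2 <;>
          first | rfl | omega
      have hce : c = ∅ := Finset.card_eq_zero.mp hc0
      subst hce
      rw [if_neg (Finset.notMem_empty _)] at h1 h2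
      refine ⟨j, ?_, ?_, ?_⟩
      · intro hj
        rw [if_pos hj.symm] at h1
        simp at h1
      · intro hj
        rw [if_pos hj.symm] at h2
        simp at h2
      · funext i
        rw [oddVec_apply, if_neg (Finset.notMem_empty _)]
  · -- octad vectors
    right; right
    have h8 : o.card = 8 := ho.2
    rw [sum_pat hs, h8] at h1 h2
    have hs0 : s.card = 0 := by
      unfold pat at h1
      split_ifs at h1 <;> push_cast at h1 <;> omega
    have hse : s = ∅ := Finset.card_eq_zero.mp hs0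
    subst hse
    refine ⟨o, ho, ?_, ?_, rfl⟩
    · by_contra hno
      rw [pat_of_notMem (Finset.notMem_empty _) hno] at h1
      simp at h1
    · by_contra hno
      rw [pat_of_notMem (Finset.notMem_empty _) hno] at h2
      simp at h2
  · -- vectors with two non-zero coordinates
    left
    rw [sum_pat hs, hP] at h1 h2
    have hs0 : s.card = 0 := by
      unfold pat at h1
      split_ifs at h1 <;> push_cast at h1 <;> omega
    have hse : s = ∅ := Finset.card_eq_zero.mp hs0
    subst hse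
    have hn' : (none : GolayPt) ∈ P := by
      by_contra hno
      rw [pat_of_notMem (Finset.notMem_empty _) hno] at h1
      simp at h1
    have h0' : (some 0 : GolayPt) ∈ P := by
      by_contra hno
      rw [pat_of_notMem (Finset.notMem_empty _) hno] at h2
      simp at h2
    have hPe : P = {none, some 0} := by
      symm
      apply Finset.eq_of_subset_of_card_le
      · intro i hi
        rw [Finset.mem_insert, Finset.mem_singleton] at hi
        rcases hi with rfl | rfl
        · exact hn'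
        · exact h0'
      · rw [hP]
        decide
    rw [hPe, std1_eq_pat]


/-! ### the permutations fixing the standard configuration -/

/-- the automorphism of the lattice given by a permutation of the group of the code. -/
def permEl (σ : Equiv.Perm GolayPt) (hσ : σ ∈ M24) : ↥Co0 :=
  ⟨monoPerm σ hσ ∅ Spor.empty_mem_supports_golayCode,
    monoPerm_mem σ hσ ∅ Spor.empty_mem_supports_golayCode⟩

theorem permEl_apply (σ : Equiv.Perm GolayPt) (hσ : σ ∈ M24) (v : ↥leechLattice) :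
    ((permEl σ hσ • v : ↥leechLattice) : GolayPt → ℤ) =
      fun i => (v : GolayPt → ℤ) (σ.symm i) := by
  change signedPerm σ ∅ (v : GolayPt → ℤ) = _
  rw [signedPerm_eq']
  funext i
  unfold signCh
  rw [if_neg (Finset.notMem_empty i)]

theorem baseP_single_perm (j : GolayPt) (σ : Equiv.Perm GolayPt) :
    (fun i => baseP {j} 5 (σ.symm i)) = baseP {σ j} 5 := by
  funext i
  unfold baseP
  by_cases hi : i = σ j
  · rw [if_pos (Finset.mem_singleton.mpr hi), if_pos]
    rw [Finset.mem_singleton, hi, Equiv.symm_apply_apply]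
  · rw [if_neg (fun hc => hi (Finset.mem_singleton.mp hc)), if_neg]
    intro h'
    apply hi
    rw [← Finset.mem_singleton.mp h', Equiv.apply_symm_apply]

theorem permEl_vA (σ : Equiv.Perm GolayPt) (hσ : σ ∈ M24) (h1 : σ none = none) :
    permEl σ hσ • vA = vA := by
  apply Subtype.ext
  rw [permEl_apply]
  change (fun i => baseP {none} 5 (σ.symm i)) = baseP {none} 5
  rw [baseP_single_perm, h1]

theorem permEl_wA (σ : Equiv.Perm GolayPt) (hσ : σ ∈ M24) (h2 : σ (some 0) = some 0) :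
    permEl σ hσ • wA = wA := by
  apply Subtype.ext
  rw [permEl_apply]
  change (fun i => -(baseP {some 0} 5 (σ.symm i))) = -(baseP {some 0} 5)
  have h := baseP_single_perm (some 0) σ
  rw [h2] at h
  funext i
  rw [Pi.neg_apply, ← congrFun h i]

theorem permEl_std1 (σ : Equiv.Perm GolayPt) (hσ : σ ∈ M24) (h1 : σ none = none)
    (h2 : σ (some 0) = some 0) : permEl σ hσ • std1 = std1 :=
  mono_fix_std1 hσ Spor.empty_mem_supports_golayCode h1 h2 (Finset.notMem_empty _)
    (Finset.notMem_empty _)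

/-- the stabiliser of the two vectors and of an attached vector has at most three orbits on the
attached vectors. -/
theorem hs_rank3 (v w x y y' : ↥leechLattice) (hv : sqNorm (v : GolayPt → ℤ) = 48)
    (hw : sqNorm (w : GolayPt → ℤ) = 48)
    (hvw : dotInt (v : GolayPt → ℤ) (w : GolayPt → ℤ) = -32)
    (hx : sqNorm (x : GolayPt → ℤ) = 32 ∧ dotInt (v : GolayPt → ℤ) (x : GolayPt → ℤ) = 24 ∧
      dotInt (w : GolayPt → ℤ) (x : GolayPt → ℤ) = -24)
    (hy : sqNorm (y : GolayPt → ℤ) = 32 ∧ dotInt (v : GolayPt → ℤ) (y : GolayPt → ℤ) = 24 ∧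
      dotInt (w : GolayPt → ℤ) (y : GolayPt → ℤ) = -24)
    (hy' : sqNorm (y' : GolayPt → ℤ) = 32 ∧ dotInt (v : GolayPt → ℤ) (y' : GolayPt → ℤ) = 24 ∧
      dotInt (w : GolayPt → ℤ) (y' : GolayPt → ℤ) = -24)
    (hyx : y ≠ x) (hyx' : y' ≠ x)
    (hiff : dotInt (x : GolayPt → ℤ) (y : GolayPt → ℤ) = 8 ↔
      dotInt (x : GolayPt → ℤ) (y' : GolayPt → ℤ) = 8) :
    ∃ g : ↥Co0, g • v = v ∧ g • w = w ∧ g • x = x ∧ g • y = y' := by
  classical
  obtain ⟨g0, h1, h2, h3⟩ := hs_triple_to_std v w x hv hw hvw hx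
  -- it is enough to find a permutation
  have key : ∀ (σ : Equiv.Perm GolayPt) (hσ : σ ∈ M24), σ none = none → σ (some 0) = some 0 →
      permEl σ hσ • (g0 • y) = g0 • y' →
      ∃ g : ↥Co0, g • v = v ∧ g • w = w ∧ g • x = x ∧ g • y = y' := by
    intro σ hσ hs1 hs2 hs3
    refine ⟨g0⁻¹ * (permEl σ hσ * g0), ?_, ?_, ?_, ?_⟩
    · rw [mul_smul', mul_smul', h1, permEl_vA σ hσ hs1, ← h1, inv_smul_smul']
    · rw [mul_smul', mul_smul', h2, permEl_wA σ hσ hs2, ← h2, inv_smul_smul']
    · rw [mul_smul', mul_smul', h3, permEl_std1 σ hσ hs1 hs2, ← h3, inv_smul_smul']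
    · rw [mul_smul', mul_smul', hs3, inv_smul_smul']
  -- the images of the two vectors
  have cls : ∀ t : ↥leechLattice, sqNorm (t : GolayPt → ℤ) = 32 ∧
      dotInt (v : GolayPt → ℤ) (t : GolayPt → ℤ) = 24 ∧
      dotInt (w : GolayPt → ℤ) (t : GolayPt → ℤ) = -24 → t ≠ x →
      (∃ p : GolayPt, p ≠ none ∧ p ≠ some 0 ∧
        ((g0 • t : ↥leechLattice) : GolayPt → ℤ) = baseOdd p ∧
        dotInt (x : GolayPt → ℤ) (t : GolayPt → ℤ) = 8) ∨
      (∃ o ∈ octads, (none : GolayPt) ∈ o ∧ (some 0 : GolayPt) ∈ o ∧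
        ((g0 • t : ↥leechLattice) : GolayPt → ℤ) = pat 2 o ∅ ∧
        dotInt (x : GolayPt → ℤ) (t : GolayPt → ℤ) = 16) := by
    intro t ht htx
    have e1 : dotInt ((vA : ↥leechLattice) : GolayPt → ℤ)
        ((g0 • t : ↥leechLattice) : GolayPt → ℤ) = 24 := by
      rw [← h1, co0_dot]
      exact ht.2.1
    have e2 : dotInt ((wA : ↥leechLattice) : GolayPt → ℤ)
        ((g0 • t : ↥leechLattice) : GolayPt → ℤ) = -24 := by
      rw [← h2, co0_dot]
      exact ht.2.2
    have e3 : dotInt (x : GolayPt → ℤ) (t : GolayPt → ℤ) =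
        4 * ((g0 • t : ↥leechLattice) : GolayPt → ℤ) none +
          4 * ((g0 • t : ↥leechLattice) : GolayPt → ℤ) (some 0) := by
      rw [← dot_std1, ← h3, co0_dot]
    rw [dot_vA] at e1
    rw [dot_wA] at e2
    rcases hs_cls _ (g0 • t).2 ((co0_sqNorm g0 t).trans ht.1) e1 (by omega) with h | h | h
    · exfalso
      apply htx
      have : g0 • t = g0 • x := by
        rw [h3]
        exact Subtype.ext h
      exact MulAction.injective g0 this
    · left
      obtain ⟨p, hp1, hp2, hp⟩ := h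
      refine ⟨p, hp1, hp2, hp, ?_⟩
      rw [e3, hp]
      unfold baseOdd
      rw [if_neg (Ne.symm hp1), if_neg (Ne.symm hp2)]
      norm_num
    · right
      obtain ⟨o, ho, hn, h0, hp⟩ := h
      refine ⟨o, ho, hn, h0, hp, ?_⟩
      rw [e3, hp, pat_of_mem_P (Finset.notMem_empty _) hn, pat_of_mem_P (Finset.notMem_empty _) h0]
      norm_num
  rcases cls y hy hyx with ⟨p, hp1, hp2, hp, hd⟩ | ⟨o, ho, hn, h0, hp, hd⟩ <;>
    rcases cls y' hy' hyx' with ⟨p', hp1', hp2', hp', hd'⟩ | ⟨o', ho', hn', h0', hp', hd'⟩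
  · obtain ⟨σ, hσ, hs1, hs2, hs3⟩ := m24_three_trans (a := none) (b := some 0) (c := p)
      (a' := none) (b' := some 0) (c' := p') (by decide) (Ne.symm hp1) (Ne.symm hp2) (by decide)
      (Ne.symm hp1') (Ne.symm hp2')
    apply key σ hσ hs1 hs2
    apply Subtype.ext
    rw [permEl_apply, hp, hp', baseOdd_perm, hs3]
  · exfalso
    have := hiff.mp hd
    rw [hd'] at this
    norm_num at this
  · exfalso
    have := hiff.mpr hd'
    rw [hd] at this
    norm_num at this
  · obtain ⟨os, -, -, -, hos⟩ := exists_std_octad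
    obtain ⟨σ1, hσ1, a1, a2, a3⟩ := hos o ho hn h0
    obtain ⟨σ2, hσ2, b1, b2, b3⟩ := hos o' ho' hn' h0'
    have c2 : σ2⁻¹ none = none := by
      rw [Equiv.Perm.inv_def]
      exact (Equiv.symm_apply_eq σ2).mpr b2.symm
    have c3 : σ2⁻¹ (some 0) = some 0 := by
      rw [Equiv.Perm.inv_def]
      exact (Equiv.symm_apply_eq σ2).mpr b3.symm
    apply key (σ2⁻¹ * σ1) (M24.mul_mem (M24.inv_mem hσ2) hσ1)
    · rw [Equiv.Perm.mul_apply, a2, c2]
    · rw [Equiv.Perm.mul_apply, a3, c3]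
    · apply Subtype.ext
      rw [permEl_apply, hp, hp', pat_perm, Finset.smul_finset_empty, mul_smul, a1, ← b1, inv_smul_smul]


/-! ### the valencies -/

theorem ncard_smul_pred (g : ↥Co0) (P Q : ↥leechLattice → Prop) (h : ∀ x, P x ↔ Q (g • x)) :
    {x | P x}.ncard = {x | Q x}.ncard := by
  rw [← Set.ncard_image_of_injective _ (MulAction.injective g)]
  congr 1
  ext y
  constructor
  · rintro ⟨x, hx, rfl⟩
    exact (h x).mp hx
  · intro hy
    refine ⟨g⁻¹ • y, (h _).mpr ?_, smul_inv_smul' g y⟩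
    rw [smul_inv_smul']
    exact hy

theorem combo3 (a1 a2 a3 x : GolayPt → ℤ) (h1 : sqNorm a1 ≤ 48) (h2 : sqNorm a2 ≤ 48)
    (hx : sqNorm x = 32) (d3 : ℤ) :
    dotInt (a1 + (1000 : ℤ) • a2 + (1000000 : ℤ) • a3) x = 24 - 24000 + 1000000 * d3 ↔
      dotInt a1 x = 24 ∧ dotInt a2 x = -24 ∧ dotInt a3 x = d3 := by
  rw [dot_add_left, dot_add_left, dot_smul_left, dot_smul_left]
  have hb1 := dot_sq_le a1 x
  have hb2 := dot_sq_le a2 x
  rw [hx] at hb1 hb2
  have hc1 : dotInt a1 x ^ 2 < 40 ^ 2 := by nlinarith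
  have hc2 : dotInt a2 x ^ 2 < 40 ^ 2 := by nlinarith
  have hd1 := abs_lt_of_sq_lt_sq hc1 (by norm_num)
  have hd2 := abs_lt_of_sq_lt_sq hc2 (by norm_num)
  rw [abs_lt] at hd1 hd2
  constructor
  · intro h
    refine ⟨?_, ?_, ?_⟩ <;> omega
  · rintro ⟨h, h', h''⟩
    rw [h, h', h'']
    ring

/-- the coordinates of the combination of the three standard vectors. -/
def al3 : List ℤ := [3995001, -999, -999, -999, -999, -999, -999, -999, -999, -999, -999, -999,
  -999, -999, -999, -999, -999, -999, -999, -999, -999, -999, -999, 3999005]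

theorem al3_eq : toVec al3 =
    toVec alVA + (1000 : ℤ) • toVec alWA + (1000000 : ℤ) • toVec al1 := by
  funext p
  rw [Pi.add_apply, Pi.add_apply, Pi.smul_apply, Pi.smul_apply, smul_eq_mul, smul_eq_mul]
  revert p
  decide

set_option maxRecDepth 100000 in
theorem cnt_al3 : cntFast al3 7976024 = 22 := by decide +kernel

/-- each attached vector has inner product 8 with exactly 22 others. -/
theorem hs_valency (v w x : ↥leechLattice) (hv : sqNorm (v : GolayPt → ℤ) = 48)
    (hw : sqNorm (w : GolayPt → ℤ) = 48)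
    (hvw : dotInt (v : GolayPt → ℤ) (w : GolayPt → ℤ) = -32)
    (hx : sqNorm (x : GolayPt → ℤ) = 32 ∧ dotInt (v : GolayPt → ℤ) (x : GolayPt → ℤ) = 24 ∧
      dotInt (w : GolayPt → ℤ) (x : GolayPt → ℤ) = -24) :
    {y : ↥leechLattice | (sqNorm (y : GolayPt → ℤ) = 32 ∧
        dotInt (v : GolayPt → ℤ) (y : GolayPt → ℤ) = 24 ∧
        dotInt (w : GolayPt → ℤ) (y : GolayPt → ℤ) = -24) ∧
        dotInt (x : GolayPt → ℤ) (y : GolayPt → ℤ) = 8}.ncard = 22 := by
  obtain ⟨g0, h1, h2, h3⟩ := hs_triple_to_std v w x hv hw hvw hx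
  rw [ncard_smul_pred g0 _ (fun z => sqNorm (z : GolayPt → ℤ) = 32 ∧
      dotInt (toVec al3) (z : GolayPt → ℤ) = 7976024)]
  · rw [ncard_sub_eq (fun z => sqNorm z = 32 ∧ dotInt (toVec al3) z = 7976024)]
    exact ncard_min_dot' al3 rfl 7976024 22 cnt_al3
  · intro y
    have e1 : dotInt (toVec alVA) ((g0 • y : ↥leechLattice) : GolayPt → ℤ) =
        dotInt (v : GolayPt → ℤ) (y : GolayPt → ℤ) := by
      rw [← vA_eq, ← h1, co0_dot]
    have e2 : dotInt (toVec alWA) ((g0 • y : ↥leechLattice) : GolayPt → ℤ) =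
        dotInt (w : GolayPt → ℤ) (y : GolayPt → ℤ) := by
      rw [← wA_eq, ← h2, co0_dot]
    have e3 : dotInt (toVec al1) ((g0 • y : ↥leechLattice) : GolayPt → ℤ) =
        dotInt (x : GolayPt → ℤ) (y : GolayPt → ℤ) := by
      rw [← std1_eq, ← h3, co0_dot]
    have e4 := co0_sqNorm g0 y
    constructor
    · rintro ⟨⟨k1, k2, k3⟩, k4⟩
      refine ⟨e4.trans k1, ?_⟩
      rw [al3_eq]
      have := (combo3 (toVec alVA) (toVec alWA) (toVec al1)
        ((g0 • y : ↥leechLattice) : GolayPt → ℤ) (by rw [← vA_eq, sqNorm_vA])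
        (by rw [← wA_eq, sqNorm_wA]) (e4.trans k1) 8).mpr ⟨e1.trans k2, e2.trans k3, e3.trans k4⟩
      rw [this]
      norm_num
    · rintro ⟨k1, k2⟩
      rw [al3_eq] at k2
      have := (combo3 (toVec alVA) (toVec alWA) (toVec al1)
        ((g0 • y : ↥leechLattice) : GolayPt → ℤ) (by rw [← vA_eq, sqNorm_vA])
        (by rw [← wA_eq, sqNorm_wA]) k1 8).mp (by rw [k2]; norm_num)
      exact ⟨⟨e4.symm.trans k1, e1.symm.trans this.1, e2.symm.trans this.2.1⟩,
        e3.symm.trans this.2.2⟩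


/-- each attached vector has inner product other than 8 with exactly 77 others. -/
theorem hs_covalency (v w x : ↥leechLattice) (hv : sqNorm (v : GolayPt → ℤ) = 48)
    (hw : sqNorm (w : GolayPt → ℤ) = 48)
    (hvw : dotInt (v : GolayPt → ℤ) (w : GolayPt → ℤ) = -32)
    (hx : sqNorm (x : GolayPt → ℤ) = 32 ∧ dotInt (v : GolayPt → ℤ) (x : GolayPt → ℤ) = 24 ∧
      dotInt (w : GolayPt → ℤ) (x : GolayPt → ℤ) = -24) :
    {y : ↥leechLattice | (sqNorm (y : GolayPt → ℤ) = 32 ∧
        dotInt (v : GolayPt → ℤ) (y : GolayPt → ℤ) = 24 ∧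
        dotInt (w : GolayPt → ℤ) (y : GolayPt → ℤ) = -24) ∧ y ≠ x ∧
        dotInt (x : GolayPt → ℤ) (y : GolayPt → ℤ) ≠ 8}.ncard = 77 := by
  have hA := card_100 v w hv hw hvw
  have hB := hs_valency v w x hv hw hvw hx
  set A : Set ↥leechLattice := {y : ↥leechLattice | sqNorm (y : GolayPt → ℤ) = 32 ∧
        dotInt (v : GolayPt → ℤ) (y : GolayPt → ℤ) = 24 ∧
        dotInt (w : GolayPt → ℤ) (y : GolayPt → ℤ) = -24} with hAdef
  set B : Set ↥leechLattice := {y : ↥leechLattice | (sqNorm (y : GolayPt → ℤ) = 32 ∧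
        dotInt (v : GolayPt → ℤ) (y : GolayPt → ℤ) = 24 ∧
        dotInt (w : GolayPt → ℤ) (y : GolayPt → ℤ) = -24) ∧
        dotInt (x : GolayPt → ℤ) (y : GolayPt → ℤ) = 8} with hBdef
  have hAfin : A.Finite := Set.finite_of_ncard_ne_zero (by rw [hA]; norm_num)
  have hBA : B ⊆ A := fun y hy => hy.1
  have hBfin : B.Finite := hAfin.subset hBA
  have hxA : x ∈ A := hx
  have hxB : x ∉ B := by
    intro h
    have h8 : dotInt (x : GolayPt → ℤ) (x : GolayPt → ℤ) = 8 := h.2
    rw [dot_self, hx.1] at h8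
    norm_num at h8
  have e : {y : ↥leechLattice | (sqNorm (y : GolayPt → ℤ) = 32 ∧
        dotInt (v : GolayPt → ℤ) (y : GolayPt → ℤ) = 24 ∧
        dotInt (w : GolayPt → ℤ) (y : GolayPt → ℤ) = -24) ∧ y ≠ x ∧
        dotInt (x : GolayPt → ℤ) (y : GolayPt → ℤ) ≠ 8} = A \ insert x B := by
    ext y
    rw [Set.mem_diff, Set.mem_insert_iff]
    constructor
    · rintro ⟨h1, h2, h3⟩
      refine ⟨h1, ?_⟩
      rintro (h | h)
      · exact h2 h
      · exact h3 h.2
    · rintro ⟨h1, h2⟩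
      refine ⟨h1, fun h => h2 (Or.inl h), fun h => h2 (Or.inr ⟨h1, h⟩)⟩
  have hsub : insert x B ⊆ A := by
    intro y hy
    rcases Set.mem_insert_iff.mp hy with rfl | h
    · exact hxA
    · exact hBA h
  rw [e, Set.ncard_diff hsub (hBfin.insert x), Set.ncard_insert_of_notMem hxB hBfin, hA, hB]

end Cfsg.Agent.Helper9.Leech
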