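import Mathlib
import Cfsg.Prelude.Def_Sporadic_a
import Cfsg.Prelude.Def_SporadicCombinatorics
import Cfsg.Agent.Helper9.Leech.HS2

/-!
A vector `u` of sum of squares 48, a minimal vector `v` with `u - v` minimal, and the 275 minimal
vectors `x` with `u - x` minimal and inner product 16 with `v`.
-/

set_option autoImplicit false

namespace Cfsg.Agent.Helper9.Leech

open Cfsg
open Cfsg.Agent.Helper9.Golay
open scoped Pointwise

/-- the second standard vector: `(1, -3, 1^22)`. -/
def bstd : ↥leechLattice :=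
  ⟨oddVec (some 0) ∅, oddVec_mem Spor.empty_mem_supports_golayCode⟩

theorem bstd_apply (i : GolayPt) : ((bstd : ↥leechLattice) : GolayPt → ℤ) i = baseOdd (some 0) i := by
  show oddVec (some 0) ∅ i = _
  rw [oddVec_apply, if_neg (Finset.notMem_empty _)]

theorem bstd_eq : ((bstd : ↥leechLattice) : GolayPt → ℤ) = baseOdd (some 0) := funext bstd_apply

/-- the third standard vector. -/
def xstd : ↥leechLattice :=
  ⟨Wv none (some 1) 2 2, Wv_mem (by decide) (Or.inl rfl) (Or.inl rfl)⟩

theorem permEl_bstd (σ : Equiv.Perm GolayPt) (hσ : σ ∈ M24) (h2 : σ (some 0) = some 0) :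
    permEl σ hσ • bstd = bstd := by
  apply Subtype.ext
  rw [permEl_apply, bstd_eq, baseOdd_perm, h2]

/-- sign changes, as automorphisms. -/
def signEl (c : Finset GolayPt) (hc : c ∈ supports (golayCode : Set (GolayPt → ZMod 2))) : ↥Co0 :=
  ⟨monoPerm 1 M24.one_mem c hc, monoPerm_mem 1 M24.one_mem c hc⟩

theorem signEl_apply (c : Finset GolayPt)
    (hc : c ∈ supports (golayCode : Set (GolayPt → ZMod 2))) (z : ↥leechLattice) :
    ((signEl c hc • z : ↥leechLattice) : GolayPt → ℤ) = signCh c (z : GolayPt → ℤ) := by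
  change signedPerm 1 c (z : GolayPt → ℤ) = _
  rw [signedPerm_eq']
  rfl

theorem signEl_std1 (c : Finset GolayPt)
    (hc : c ∈ supports (golayCode : Set (GolayPt → ZMod 2))) (h1 : (none : GolayPt) ∉ c)
    (h2 : (some 0 : GolayPt) ∉ c) : signEl c hc • std1 = std1 :=
  mono_fix_std1 M24.one_mem hc rfl rfl h1 h2

/-- moving a configuration with an auxiliary vector to the standard position. -/
theorem mcl_std (v v' x b : ↥leechLattice) (hv : sqNorm (v : GolayPt → ℤ) = 32)
    (hv' : sqNorm (v' : GolayPt → ℤ) = 32) (hx : sqNorm (x : GolayPt → ℤ) = 32)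
    (hb : sqNorm (b : GolayPt → ℤ) = 32)
    (h1 : dotInt (v : GolayPt → ℤ) (v' : GolayPt → ℤ) = -8)
    (h2 : dotInt (v : GolayPt → ℤ) (x : GolayPt → ℤ) = 16)
    (h3 : dotInt (v' : GolayPt → ℤ) (x : GolayPt → ℤ) = 8)
    (h4 : dotInt (v : GolayPt → ℤ) (b : GolayPt → ℤ) = 0)
    (h5 : dotInt (b : GolayPt → ℤ) (v' : GolayPt → ℤ) = 16)
    (h6 : dotInt (b : GolayPt → ℤ) (x : GolayPt → ℤ) = 16) :
    ∃ g : ↥Co0, g • v = std1 ∧ g • v' = bstd ∧ g • x = xstd := by
  classical
  obtain ⟨g0, hg0v, hg0b⟩ := pair_to_std v b hv hb h4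
  -- the coordinates of the images of `v'` and `x` at the two special points
  have a1 : dotInt ((std1 : ↥leechLattice) : GolayPt → ℤ)
      ((g0 • v' : ↥leechLattice) : GolayPt → ℤ) = -8 := by
    rw [← hg0v, co0_dot]
    exact h1
  have a2 : dotInt ((std2 : ↥leechLattice) : GolayPt → ℤ)
      ((g0 • v' : ↥leechLattice) : GolayPt → ℤ) = 16 := by
    rw [← hg0b, co0_dot]
    exact h5
  have a3 : dotInt ((std1 : ↥leechLattice) : GolayPt → ℤ)
      ((g0 • x : ↥leechLattice) : GolayPt → ℤ) = 16 := by
    rw [← hg0v, co0_dot]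
    exact h2
  have a4 : dotInt ((std2 : ↥leechLattice) : GolayPt → ℤ)
      ((g0 • x : ↥leechLattice) : GolayPt → ℤ) = 16 := by
    rw [← hg0b, co0_dot]
    exact h6
  have a5 : dotInt ((g0 • v' : ↥leechLattice) : GolayPt → ℤ)
      ((g0 • x : ↥leechLattice) : GolayPt → ℤ) = 8 := by
    rw [co0_dot]
    exact h3
  have n1 : sqNorm ((g0 • v' : ↥leechLattice) : GolayPt → ℤ) = 32 := (co0_sqNorm g0 v').trans hv'
  have n2 : sqNorm ((g0 • x : ↥leechLattice) : GolayPt → ℤ) = 32 := (co0_sqNorm g0 x).trans hx
  rw [dot_std1] at a1 a3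
  rw [dot_std2] at a2 a4
  obtain ⟨p, hp⟩ : ∃ p : ↥leechLattice, g0 • v' = p := ⟨_, rfl⟩
  obtain ⟨q, hq⟩ : ∃ q : ↥leechLattice, g0 • x = q := ⟨_, rfl⟩
  rw [hp] at a1 a2 a5 n1
  rw [hq] at a3 a4 a5 n2
  have p1 : (p : GolayPt → ℤ) none = 1 := by omega
  have p2 : (p : GolayPt → ℤ) (some 0) = -3 := by omega
  have q1 : (q : GolayPt → ℤ) none = 4 := by omega
  have q2 : (q : GolayPt → ℤ) (some 0) = 0 := by omega
  -- the shape of the image of `v'`
  obtain ⟨j, c, hc, hjc⟩ := odd_min_classify p.2 n1 (by rw [p1]; rfl)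
  have hj : j = some 0 ∧ (some 0 : GolayPt) ∉ c := by
    rw [hjc, oddVec_apply] at p2
    unfold baseOdd at p2
    by_cases h0c : (some 0 : GolayPt) ∈ c <;> by_cases h0j : (some 0 : GolayPt) = j
    · rw [if_pos h0c, if_pos h0j] at p2
      norm_num at p2
    · rw [if_pos h0c, if_neg h0j] at p2
      norm_num at p2
    · exact ⟨h0j.symm, h0c⟩
    · rw [if_neg h0c, if_neg h0j] at p2
      norm_num at p2
  have hnc : (none : GolayPt) ∉ c := by
    intro hnc
    rw [hjc, oddVec_apply] at p1
    unfold baseOdd at p1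
    rw [if_pos hnc, hj.1, if_neg (by decide)] at p1
    norm_num at p1
  -- after the change of signs on `c`
  have e1 : signEl c hc • p = bstd := by
    apply Subtype.ext
    rw [signEl_apply, hjc, hj.1, bstd_eq]
    show signCh c (signCh c (baseOdd (some 0))) = _
    rw [signCh_signCh]
  have n3 : sqNorm ((signEl c hc • q : ↥leechLattice) : GolayPt → ℤ) = 32 :=
    (co0_sqNorm _ q).trans n2
  have a6 : dotInt ((bstd : ↥leechLattice) : GolayPt → ℤ)
      ((signEl c hc • q : ↥leechLattice) : GolayPt → ℤ) = 8 := by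
    rw [← e1, co0_dot]
    exact a5
  have r1 : ((signEl c hc • q : ↥leechLattice) : GolayPt → ℤ) none = 4 := by
    rw [signEl_apply]
    unfold signCh
    rw [if_neg hnc, q1]
  have r2 : ((signEl c hc • q : ↥leechLattice) : GolayPt → ℤ) (some 0) = 0 := by
    rw [signEl_apply]
    unfold signCh
    rw [if_neg hj.2, q2]
  generalize hrdef : signEl c hc • q = r at n3 a6 r1 r2
  -- the shape of the image of `x`
  have hmem : (r : GolayPt → ℤ) ∈ {y : GolayPt → ℤ | y ∈ leechLattice ∧ sqNorm y = 32} :=
    ⟨r.2, n3⟩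
  rw [minVec_eq, Finset.mem_coe, Finset.mem_union, Finset.mem_union, mem_famOdd, mem_famOct,
    mem_famFour] at hmem
  have hr : ∃ t : GolayPt, t ≠ none ∧ t ≠ some 0 ∧ (r : GolayPt → ℤ) = pat 4 {none, t} ∅ := by
    rcases hmem with ⟨j', c', -, he⟩ | ⟨o, s, -, hs, -, he⟩ | ⟨P, s, hP, hs, he⟩
    · exfalso
      rw [he, oddVec_apply] at r1
      unfold baseOdd at r1
      split_ifs at r1 <;> norm_num at r1
    · exfalso
      rw [he] at r1
      unfold pat at r1
      split_ifs at r1 <;> norm_num at r1
    · have hnP : (none : GolayPt) ∈ P ∧ (none : GolayPt) ∉ s := by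
        rw [he] at r1
        unfold pat at r1
        by_cases k1 : (none : GolayPt) ∈ s
        · rw [if_pos k1] at r1
          norm_num at r1
        · by_cases k2 : (none : GolayPt) ∈ P
          · exact ⟨k2, k1⟩
          · rw [if_neg k1, if_neg k2] at r1
            norm_num at r1
      have h0P : (some 0 : GolayPt) ∉ P := by
        intro hc0
        rw [he] at r2
        unfold pat at r2
        split_ifs at r2 <;> norm_num at r2
      obtain ⟨t, ht, hPt⟩ : ∃ t, t ≠ none ∧ P = {none, t} := by
        obtain ⟨a, b', hab, rfl⟩ := Finset.card_eq_two.mp hP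
        rw [Finset.mem_insert, Finset.mem_singleton] at hnP
        rcases hnP.1 with h | h
        · exact ⟨b', fun hc' => hab (h.symm.trans hc'.symm), by rw [h]⟩
        · refine ⟨a, fun hc' => hab (hc'.trans h), ?_⟩
          rw [← h]
          exact Finset.pair_comm a none
      have ht0 : t ≠ some 0 := by
        intro hc0
        apply h0P
        rw [hPt, hc0]
        simp
      refine ⟨t, ht, ht0, ?_⟩
      have hs' : s = ∅ ∨ s = {t} := by
        rw [hPt] at hs
        by_cases hts : t ∈ s
        · right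
          apply Finset.Subset.antisymm
          · intro i hi
            have := hs hi
            rw [Finset.mem_insert, Finset.mem_singleton] at this
            rcases this with rfl | rfl
            · exact absurd hi hnP.2
            · exact Finset.mem_singleton_self _
          · intro i hi
            rw [Finset.mem_singleton] at hi
            rw [hi]
            exact hts
        · left
          apply Finset.eq_empty_of_forall_notMem
          intro i hi
          have := hs hi
          rw [Finset.mem_insert, Finset.mem_singleton] at this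
          rcases this with rfl | rfl
          · exact hnP.2 hi
          · exact hts hi
      rcases hs' with rfl | rfl
      · rw [he, hPt]
      · exfalso
        rw [he, bstd_eq, dot_pat _ hs, hPt, Finset.sum_pair (Ne.symm ht), Finset.sum_singleton] at a6
        unfold baseOdd at a6
        rw [if_neg (by decide), if_neg ht0] at a6
        norm_num at a6
  obtain ⟨t, ht1, ht2, hrt⟩ := hr
  obtain ⟨σ, hσ, hs1, hs2, hs3⟩ := m24_three_trans (a := none) (b := some 0) (c := t)
    (a' := none) (b' := some 0) (c' := some 1) (by decide) (Ne.symm ht1) (Ne.symm ht2)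
    (by decide) (by decide) (by decide)
  refine ⟨permEl σ hσ * (signEl c hc * g0), ?_, ?_, ?_⟩
  · rw [mul_smul', mul_smul', hg0v, signEl_std1 c hc hnc hj.2, permEl_std1 σ hσ hs1 hs2]
  · rw [mul_smul', mul_smul', hp, e1, permEl_bstd σ hσ hs2]
  · rw [mul_smul', mul_smul', hq, hrdef]
    apply Subtype.ext
    rw [permEl_apply, hrt]
    funext i
    show _ = Wv none (some 1) 2 2 i
    rw [Wv_apply]
    unfold pat
    have k1 : σ.symm i = none ↔ i = none := by
      rw [Equiv.symm_apply_eq, hs1]
    have k2 : σ.symm i = t ↔ i = some 1 := by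
      rw [Equiv.symm_apply_eq, hs3]
    rw [if_neg (Finset.notMem_empty _)]
    by_cases hi1 : i = none
    · rw [if_pos (by rw [Finset.mem_insert]; exact Or.inl (k1.mpr hi1)), if_pos hi1,
        if_neg (by rw [hi1]; decide)]
      norm_num
    · by_cases hi2 : i = some 1
      · rw [if_pos (by rw [Finset.mem_insert, Finset.mem_singleton]; exact Or.inr (k2.mpr hi2)),
          if_neg hi1, if_pos hi2]
        norm_num
      · rw [if_neg (by rw [Finset.mem_insert, Finset.mem_singleton, k1, k2]; tauto), if_neg hi1,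
          if_neg hi2]
        norm_num

/-- the minimal vectors attached to the standard pair `(vA, std1)`. -/
theorem mcl_cls (z : GolayPt → ℤ) (hz : z ∈ leechLattice) (hn : sqNorm z = 32)
    (h1 : ∑ i, z i + 4 * z none = 24) (h2 : z none + z (some 0) = 4) :
    (∃ p : GolayPt, p ≠ none ∧ p ≠ some 0 ∧ z = pat 4 {none, p} ∅) ∨
      (∃ o ∈ octads, (none : GolayPt) ∈ o ∧ (some 0 : GolayPt) ∈ o ∧ z = pat 2 o ∅) ∨
      (∃ c ∈ octads, (none : GolayPt) ∈ c ∧ (some 0 : GolayPt) ∉ c ∧ z = oddVec none c) := by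
  classical
  have hmem : z ∈ {x : GolayPt → ℤ | x ∈ leechLattice ∧ sqNorm x = 32} := ⟨hz, hn⟩
  rw [minVec_eq, Finset.mem_coe, Finset.mem_union, Finset.mem_union, mem_famOdd, mem_famOct,
    mem_famFour] at hmem
  rcases hmem with ⟨j, c, hc, rfl⟩ | ⟨o, s, ho, hs, -, rfl⟩ | ⟨P, s, hP, hs, rfl⟩
  · -- odd vectors
    right; right
    rw [sum_oddVec] at h1
    rw [oddVec_apply] at h1 h2
    rw [oddVec_apply] at h2
    unfold baseOdd at h1 h2
    have hcard := card_of_mem_supports hc
    have k : (none : GolayPt) = j ∧ (none : GolayPt) ∈ c ∧ (some 0 : GolayPt) ∉ c ∧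
        c.card = 8 := by
      split_ifs at h1 h2 <;> rcases hcard with h | h | h | h | h <;> rw [h] at h1 <;>
        first
        | omega
        | exact ⟨by assumption, by assumption, by assumption, h⟩
        | (exfalso; subst_vars; contradiction)
    obtain ⟨k1, k2, k3, k4⟩ := k
    subst k1
    exact ⟨c, ⟨hc, k4⟩, k2, k3, rfl⟩
  · -- octad vectors
    right; left
    have h8 : o.card = 8 := ho.2
    rw [sum_pat hs, h8] at h1
    have hkey : ((none : GolayPt) ∈ o ∧ (none : GolayPt) ∉ s) ∧
        ((some 0 : GolayPt) ∈ o ∧ (some 0 : GolayPt) ∉ s) := by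
      unfold pat at h2
      split_ifs at h2 <;> first | omega | exact ⟨⟨by assumption, by assumption⟩, by assumption, by assumption⟩
    rw [pat_of_mem_P hkey.1.2 hkey.1.1] at h1
    have hs0 : s.card = 0 := by
      push_cast at h1
      omega
    have hse : s = ∅ := Finset.card_eq_zero.mp hs0
    subst hse
    exact ⟨o, ho, hkey.1.1, hkey.2.1, rfl⟩
  · -- vectors with two non-zero coordinates
    left
    rw [sum_pat hs, hP] at h1
    have hscard : s.card ≤ 2 := hP ▸ Finset.card_le_card hs
    have hkey : ((none : GolayPt) ∈ P ∧ (none : GolayPt) ∉ s) ∧ (some 0 : GolayPt) ∉ P ∧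
        s.card = 0 := by
      unfold pat at h1 h2
      push_cast at h1
      split_ifs at h1 h2 <;>
        first
        | omega
        | exact ⟨⟨by assumption, by assumption⟩, by assumption, by omega⟩
    have hse : s = ∅ := Finset.card_eq_zero.mp hkey.2.2
    subst hse
    obtain ⟨a, b', hab, rfl⟩ := Finset.card_eq_two.mp hP
    have hn' := hkey.1.1
    rw [Finset.mem_insert, Finset.mem_singleton] at hn'
    have h0' := hkey.2.1
    rw [Finset.mem_insert, Finset.mem_singleton, not_or] at h0'
    rcases hn' with h | h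
    · refine ⟨b', fun hc' => hab (h.symm.trans hc'.symm), fun hc' => h0'.2 hc'.symm, ?_⟩
      rw [h]
    · refine ⟨a, fun hc' => hab (hc'.trans h), fun hc' => h0'.1 hc'.symm, ?_⟩
      rw [← h, Finset.pair_comm a none]

end Cfsg.Agent.Helper9.Leech
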