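import Mathlib
import Cfsg.Prelude.Def_Sporadic_a
import Cfsg.Prelude.Def_SporadicCombinatorics
import Cfsg.Agent.Helper9.Leech.McL
import Cfsg.Agent.Helper9.Golay.OctGraph

/-!
The stabiliser of the standard pair is transitive on the 275 attached minimal vectors.
-/

set_option autoImplicit false

namespace Cfsg.Agent.Helper9.Leech

open Cfsg
open Cfsg.Agent.Helper9.Golay
open scoped Pointwise

/-! ### general formulas -/

theorem dot_baseOdd (j : GolayPt) (z : GolayPt → ℤ) :
    dotInt (baseOdd j) z = ∑ i, z i - 4 * z j := by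
  have h1 : ∀ i, baseOdd j i * z i = z i - (if i = j then 4 * z i else 0) := by
    intro i
    unfold baseOdd
    by_cases h : i = j
    · rw [if_pos h, if_pos h]
      ring
    · rw [if_neg h, if_neg h]
      ring
  unfold dotInt
  simp only [h1, Finset.sum_sub_distrib]
  rw [Finset.sum_ite_eq' Finset.univ j, if_pos (Finset.mem_univ j)]

theorem sum_oddVec_on (j : GolayPt) (c s : Finset GolayPt) (hj : j ∉ s) :
    ∑ i ∈ s, oddVec j c i = s.card - 2 * (s ∩ c).card := by
  classical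
  have h1 : ∀ i ∈ s, oddVec j c i = 1 - 2 * (if i ∈ c then 1 else 0) := by
    intro i hi
    have hij : i ≠ j := fun h => hj (h ▸ hi)
    rw [oddVec_apply]
    unfold baseOdd
    rw [if_neg hij]
    split_ifs <;> norm_num
  rw [Finset.sum_congr rfl h1, Finset.sum_sub_distrib, ← Finset.mul_sum, Finset.sum_ite_mem,
    Finset.sum_const, Finset.sum_const]
  simp

/-! ### the second kind of attached vectors -/

def octM2 : ℕ := 8391797

def octMb : ℕ := 57883

theorem octM2_mem : suppM octM2 ∈ octads :=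
  (mem_octads_iff _).mpr ⟨octM2, by decide +kernel, by decide, rfl⟩

theorem octMb_mem : suppM octMb ∈ supports (golayCode : Set (GolayPt → ZMod 2)) :=
  (mem_supports_iff _).mpr ⟨octMb, by decide +kernel, rfl⟩

theorem exists_std_octad' (o' : Finset GolayPt) (ho' : o' ∈ octads)
    (hn : (none : GolayPt) ∈ o') (h0' : (some 0 : GolayPt) ∈ o') :
    ∃ σ ∈ M24, σ • o' = suppM octM2 ∧ σ none = none ∧ σ (some 0) = some 0 := by
  have hn0 : (none : GolayPt) ≠ some 0 := by decide
  obtain ⟨h, hh, hho, hhp, hhq⟩ := exists_flag_in2 ho' hn h0' hn0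
  obtain ⟨k, hk, hko, hkp, hkq⟩ := exists_flag_in2 octM2_mem (p := none) (q := some 0)
    (by rw [mem_suppM]; decide) (by rw [mem_suppM]; decide) hn0
  refine ⟨k * h⁻¹, M24.mul_mem hk (M24.inv_mem hh), ?_, ?_, ?_⟩
  · rw [← hho, mul_smul, inv_smul_smul, hko]
  · have e : h⁻¹ none = idxPtN 0 := by
      rw [← hhp, Equiv.Perm.inv_def, Equiv.symm_apply_apply]
    rw [Equiv.Perm.mul_apply, e, hkp]
  · have e : h⁻¹ (some 0) = idxPtN 1 := by
      rw [← hhq, Equiv.Perm.inv_def, Equiv.symm_apply_apply]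
    rw [Equiv.Perm.mul_apply, e, hkq]

def x2std : ↥leechLattice :=
  ⟨pat 2 (suppM octM2) ∅, oct_mem octM2_mem (Finset.empty_subset _) (by simp)⟩

def b2std : ↥leechLattice := ⟨oddVec (some 4) (suppM octMb), oddVec_mem octMb_mem⟩

def alX2 : List ℤ := [2, 0, 2, 0, 2, 2, 2, 0, 0, 0, 2, 2, 0, 0, 0, 0, 0, 0, 0, 0, 0, 0, 0, 2]

def alB2 : List ℤ := [-1, -1, 1, -1, 3, 1, 1, 1, 1, -1, 1, 1, 1, -1, -1, -1, 1, 1, 1, 1, 1, 1, 1, 1]

def alBstd : List ℤ := [-3, 1, 1, 1, 1, 1, 1, 1, 1, 1, 1, 1, 1, 1, 1, 1, 1, 1, 1, 1, 1, 1, 1, 1]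

theorem x2std_eq : ((x2std : ↥leechLattice) : GolayPt → ℤ) = toVec alX2 := by
  funext p
  show pat 2 (suppM octM2) ∅ p = _
  unfold pat
  simp only [mem_suppM, Finset.notMem_empty, if_false]
  revert p
  decide

theorem b2std_eq : ((b2std : ↥leechLattice) : GolayPt → ℤ) = toVec alB2 := by
  funext p
  show oddVec (some 4) (suppM octMb) p = _
  rw [oddVec_apply]
  unfold baseOdd
  simp only [mem_suppM]
  revert p
  decide

theorem bstd_eq' : ((bstd : ↥leechLattice) : GolayPt → ℤ) = toVec alBstd := by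
  rw [bstd_eq]
  funext p
  unfold baseOdd
  revert p
  decide

theorem sqNorm_bstd : sqNorm ((bstd : ↥leechLattice) : GolayPt → ℤ) = 32 :=
  sqNorm_oddVec (some 0) ∅

theorem dot_std1_bstd : dotInt ((std1 : ↥leechLattice) : GolayPt → ℤ)
    ((bstd : ↥leechLattice) : GolayPt → ℤ) = -8 := by
  rw [std1_eq, bstd_eq', dot_toVec]
  decide

/-- the second kind of attached vectors lies in the orbit of the first kind. -/
theorem mcl_type2 : ∃ g : ↥Co0, g • std1 = std1 ∧ g • bstd = bstd ∧ g • x2std = xstd := by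
  apply mcl_std std1 bstd x2std b2std sqNorm_std1 sqNorm_bstd
  · rw [x2std_eq, sqNorm_toVec alX2 rfl]
    decide
  · exact sqNorm_oddVec (some 4) (suppM octMb)
  · exact dot_std1_bstd
  · rw [std1_eq, x2std_eq, dot_toVec]
    decide
  · rw [bstd_eq', x2std_eq, dot_toVec]
    decide
  · rw [std1_eq, b2std_eq, dot_toVec]
    decide
  · rw [b2std_eq, bstd_eq', dot_toVec]
    decide
  · rw [b2std_eq, x2std_eq, dot_toVec]
    decide

/-! ### the third kind of attached vectors -/

theorem mcl_type3 (c : Finset GolayPt) (hc : c ∈ octads) (hnc : (none : GolayPt) ∈ c)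
    (h0c : (some 0 : GolayPt) ∉ c) :
    ∃ b : ↥leechLattice, sqNorm (b : GolayPt → ℤ) = 32 ∧
      dotInt ((std1 : ↥leechLattice) : GolayPt → ℤ) (b : GolayPt → ℤ) = 0 ∧
      dotInt (b : GolayPt → ℤ) ((bstd : ↥leechLattice) : GolayPt → ℤ) = 16 ∧
      dotInt (b : GolayPt → ℤ) (oddVec none c) = 16 := by
  classical
  have h8 : c.card = 8 := hc.2
  have h7 : (c.erase none).card = 7 := by rw [Finset.card_erase_of_mem hnc, h8]
  obtain ⟨S, hSsub, hS4⟩ := Finset.exists_subset_card_eq (show 4 ≤ (c.erase none).card by omega)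
  have hSc : S ⊆ c := fun i hi => Finset.mem_of_mem_erase (hSsub hi)
  have hnS : (none : GolayPt) ∉ S := fun h => (Finset.mem_erase.mp (hSsub h)).1 rfl
  have h0S : (some 0 : GolayPt) ∉ S := fun h => h0c (hSc h)
  obtain ⟨cb, hcb, hTcb⟩ := exists_octad_of_five (insert (some 0) S)
    (by rw [Finset.card_insert_of_notMem h0S, hS4])
  have hcb8 : cb.card = 8 := hcb.2
  have h0cb : (some 0 : GolayPt) ∈ cb := hTcb (Finset.mem_insert_self _ _)
  have hScb : S ⊆ cb := fun i hi => hTcb (Finset.mem_insert_of_mem hi)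
  have hne : c ≠ cb := fun h => h0c (h ▸ h0cb)
  have hint : S = c ∩ cb := by
    apply Finset.eq_of_subset_of_card_le (fun i hi => Finset.mem_inter.mpr ⟨hSc hi, hScb hi⟩)
    rcases card_inter_octads hc hcb hne with h | h | h <;> rw [h, hS4] <;> norm_num
  have hncb : (none : GolayPt) ∉ cb := fun h => hnS (hint ▸ Finset.mem_inter.mpr ⟨hnc, h⟩)
  have hcard : (cb \ c).card = 4 := by
    have := Finset.card_sdiff_add_card_inter cb c
    rw [Finset.inter_comm, ← hint, hS4, hcb8] at this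
    omega
  obtain ⟨j, hj⟩ : ((cb \ c).erase (some 0)).Nonempty := by
    apply Finset.card_pos.mp
    rw [Finset.card_erase_of_mem (Finset.mem_sdiff.mpr ⟨h0cb, h0c⟩), hcard]
    norm_num
  obtain ⟨hj0, hj'⟩ := Finset.mem_erase.mp hj
  obtain ⟨hjcb, hjc⟩ := Finset.mem_sdiff.mp hj'
  have hjn : j ≠ none := fun h => hncb (h ▸ hjcb)
  have bn : oddVec j cb none = 1 := by
    rw [oddVec_apply, if_neg hncb]
    unfold baseOdd
    rw [if_neg (Ne.symm hjn)]
  have b0 : oddVec j cb (some 0) = -1 := by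
    rw [oddVec_apply, if_pos h0cb]
    unfold baseOdd
    rw [if_neg (Ne.symm hj0)]
  refine ⟨⟨oddVec j cb, oddVec_mem hcb.1⟩, sqNorm_oddVec j cb, ?_, ?_, ?_⟩
  · rw [dot_std1]
    show 4 * oddVec j cb none + 4 * oddVec j cb (some 0) = 0
    rw [bn, b0]
    norm_num
  · rw [dot_comm', bstd_eq]
    show dotInt (baseOdd (some 0)) (oddVec j cb) = 16
    rw [dot_oddVec, sum_baseOdd, sum_baseOdd_on, if_pos h0cb, if_pos hjcb, hcb8]
    unfold baseOdd
    rw [if_neg hj0]
    norm_num
  · show dotInt (oddVec j cb) (oddVec none c) = 16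
    rw [dot_oddVec, sum_oddVec, if_pos hjcb, hcb8, if_pos hnc, sum_oddVec_on j cb c hjc, ← hint,
      hS4, h8, bn]
    norm_num

end Cfsg.Agent.Helper9.Leech
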