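import Mathlib
import Cfsg.Prelude.Def_Sporadic_a
import Cfsg.Prelude.Def_SporadicCombinatorics
import Cfsg.Agent.Helper9.Leech.McL2

/-!
The 275 minimal vectors attached to a vector of sum of squares 48 and one of its decompositions.
-/

set_option autoImplicit false

namespace Cfsg.Agent.Helper9.Leech

open Cfsg
open Cfsg.Agent.Helper9.Golay
open scoped Pointwise

theorem sqNorm_std2 : sqNorm ((std2 : ↥leechLattice) : GolayPt → ℤ) = 32 :=
  sqNorm_Wv (by decide) (Or.inl rfl) (Or.inr rfl)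

/-- every attached vector of the standard pair lies in the orbit of the standard one. -/
theorem mcl_orbit (x : ↥leechLattice) (hx : sqNorm (x : GolayPt → ℤ) = 32)
    (h1 : dotInt ((vA : ↥leechLattice) : GolayPt → ℤ) (x : GolayPt → ℤ) = 24)
    (h2 : dotInt ((std1 : ↥leechLattice) : GolayPt → ℤ) (x : GolayPt → ℤ) = 16) :
    ∃ g : ↥Co0, g • std1 = std1 ∧ g • bstd = bstd ∧ g • x = xstd := by
  classical
  have hbx : dotInt ((bstd : ↥leechLattice) : GolayPt → ℤ) (x : GolayPt → ℤ) = 8 := by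
    rw [bstd_eq, dot_baseOdd]
    rw [dot_vA] at h1
    rw [dot_std1] at h2
    omega
  have h1' := h1
  have h2' := h2
  rw [dot_vA] at h1'
  rw [dot_std1] at h2'
  have h2'' : (x : GolayPt → ℤ) none + (x : GolayPt → ℤ) (some 0) = 4 := by omega
  rcases mcl_cls (x : GolayPt → ℤ) x.2 hx h1' h2'' with
    ⟨p, hp1, hp2, he⟩ | ⟨o, ho, hno, h0o, he⟩ | ⟨c, hc, hnc, h0c, he⟩
  · -- the first kind
    apply mcl_std std1 bstd x std2 sqNorm_std1 sqNorm_bstd hx sqNorm_std2 dot_std1_bstd h2 hbx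
    · rw [dot_comm', dot_std2, std1_apply_none, std1_apply_zero]
      norm_num
    · rw [dot_std2, bstd_apply, bstd_apply]
      unfold baseOdd
      rw [if_neg (by decide), if_pos rfl]
      norm_num
    · rw [dot_std2, he]
      unfold pat
      rw [if_neg (Finset.notMem_empty _), if_pos (Finset.mem_insert_self _ _),
        if_neg (Finset.notMem_empty _), if_neg]
      · norm_num
      · rw [Finset.mem_insert, Finset.mem_singleton, not_or]
        exact ⟨by decide, fun h => hp2 h.symm⟩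
  · -- the second kind
    obtain ⟨σ, hσ, hσo, hσ1, hσ2⟩ := exists_std_octad' o ho hno h0o
    obtain ⟨g2, hg1, hg2, hg3⟩ := mcl_type2
    refine ⟨g2 * permEl σ hσ, ?_, ?_, ?_⟩
    · rw [mul_smul', permEl_std1 σ hσ hσ1 hσ2, hg1]
    · rw [mul_smul', permEl_bstd σ hσ hσ2, hg2]
    · rw [mul_smul']
      have e : permEl σ hσ • x = x2std := by
        apply Subtype.ext
        rw [permEl_apply, he, pat_perm, hσo, Finset.smul_finset_empty]
        rfl
      rw [e, hg3]
  · -- the third kind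
    obtain ⟨b, hb, hb1, hb2, hb3⟩ := mcl_type3 c hc hnc h0c
    rw [← he] at hb3
    exact mcl_std std1 bstd x b sqNorm_std1 sqNorm_bstd hx hb dot_std1_bstd h2 hbx hb1 hb2 hb3

theorem std1_add_bstd : std1 + bstd = vA := by
  apply Subtype.ext
  show ((std1 : ↥leechLattice) : GolayPt → ℤ) + ((bstd : ↥leechLattice) : GolayPt → ℤ) = _
  rw [std1_eq, bstd_eq', vA_eq]
  funext p
  rw [Pi.add_apply]
  revert p
  decide

/-- moving a vector of sum of squares 48 with one of its decompositions to the standard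
position. -/
theorem mcl_pair_to_std (u v : ↥leechLattice) (hu : sqNorm (u : GolayPt → ℤ) = 48)
    (hv : sqNorm (v : GolayPt → ℤ) = 32 ∧ sqNorm ((u - v : ↥leechLattice) : GolayPt → ℤ) = 32) :
    ∃ g : ↥Co0, g • u = vA ∧ g • v = std1 := by
  have key : dotInt (v : GolayPt → ℤ) ((u - v : ↥leechLattice) : GolayPt → ℤ) = -8 := by
    have e : (u : GolayPt → ℤ) = (v : GolayPt → ℤ) + ((u - v : ↥leechLattice) : GolayPt → ℤ) := by
      change (u : GolayPt → ℤ) = (v : GolayPt → ℤ) + ((u : GolayPt → ℤ) - (v : GolayPt → ℤ))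
      abel
    have h := sqNorm_add' (v : GolayPt → ℤ) ((u - v : ↥leechLattice) : GolayPt → ℤ)
    rw [← e, hu, hv.1, hv.2] at h
    omega
  obtain ⟨g0, hg1, hg2⟩ := pair8_to_std v (u - v) hv.1 hv.2 key
  have hw8 : sqNorm ((wstd8 : ↥leechLattice) : GolayPt → ℤ) = 32 :=
    sqNorm_oddVec (some 1) Finset.univ
  have hd8 : dotInt ((std1 : ↥leechLattice) : GolayPt → ℤ)
      ((wstd8 : ↥leechLattice) : GolayPt → ℤ) = -8 := by
    rw [← hg1, ← hg2, co0_dot]
    exact key
  obtain ⟨k, hk1, hk2⟩ := trans_pair8 std1 wstd8 bstd sqNorm_std1 hw8 sqNorm_bstd hd8 dot_std1_bstd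
  refine ⟨k * g0, ?_, ?_⟩
  · have e : u = v + (u - v) := by abel
    rw [e, mul_smul', smul_add', hg1, hg2, smul_add', hk1, hk2, std1_add_bstd]
  · rw [mul_smul', hg1, hk1]

/-- the inner product with `u` of a minimal vector `x` with `u - x` minimal. -/
theorem dot_of_sub_min (u x : ↥leechLattice) (hu : sqNorm (u : GolayPt → ℤ) = 48)
    (hx : sqNorm (x : GolayPt → ℤ) = 32) :
    sqNorm ((u - x : ↥leechLattice) : GolayPt → ℤ) = 32 ↔
      dotInt (u : GolayPt → ℤ) (x : GolayPt → ℤ) = 24 := by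
  have h : sqNorm ((u - x : ↥leechLattice) : GolayPt → ℤ) =
      sqNorm (u : GolayPt → ℤ) + sqNorm (x : GolayPt → ℤ) -
        2 * dotInt (u : GolayPt → ℤ) (x : GolayPt → ℤ) := sqNorm_sub' _ _
  rw [h, hu, hx]
  constructor <;> intro h' <;> omega

/-- the stabiliser of `u` and `v` is transitive on the attached vectors. -/
theorem trans_275 (u v x x' : ↥leechLattice) (hu : sqNorm (u : GolayPt → ℤ) = 48)
    (hv : sqNorm (v : GolayPt → ℤ) = 32 ∧ sqNorm ((u - v : ↥leechLattice) : GolayPt → ℤ) = 32)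
    (hx : sqNorm (x : GolayPt → ℤ) = 32 ∧
      sqNorm ((u - x : ↥leechLattice) : GolayPt → ℤ) = 32 ∧
      dotInt (v : GolayPt → ℤ) (x : GolayPt → ℤ) = 16)
    (hx' : sqNorm (x' : GolayPt → ℤ) = 32 ∧
      sqNorm ((u - x' : ↥leechLattice) : GolayPt → ℤ) = 32 ∧
      dotInt (v : GolayPt → ℤ) (x' : GolayPt → ℤ) = 16) :
    ∃ g : ↥Co0, g • u = u ∧ g • v = v ∧ g • x = x' := by
  obtain ⟨g1, hg1u, hg1v⟩ := mcl_pair_to_std u v hu hv
  have hb : g1 • (u - v) = bstd := by
    rw [smul_sub', hg1u, hg1v, ← std1_add_bstd]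
    abel
  have aux : ∀ y : ↥leechLattice, sqNorm (y : GolayPt → ℤ) = 32 ∧
      sqNorm ((u - y : ↥leechLattice) : GolayPt → ℤ) = 32 ∧
      dotInt (v : GolayPt → ℤ) (y : GolayPt → ℤ) = 16 →
      ∃ g : ↥Co0, g • std1 = std1 ∧ g • bstd = bstd ∧ g • (g1 • y) = xstd := by
    intro y hy
    apply mcl_orbit (g1 • y) ((co0_sqNorm g1 y).trans hy.1)
    · rw [← hg1u, co0_dot]
      exact (dot_of_sub_min u y hu hy.1).mp hy.2.1
    · rw [← hg1v, co0_dot]
      exact hy.2.2
  obtain ⟨a, ha1, ha2, ha3⟩ := aux x hx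
  obtain ⟨a', ha1', ha2', ha3'⟩ := aux x' hx'
  have hvfix : (g1⁻¹ * (a'⁻¹ * (a * g1))) • v = v := by
    rw [mul_smul', mul_smul', mul_smul', hg1v, ha1]
    nth_rewrite 1 [← ha1']
    rw [inv_smul_smul']
    nth_rewrite 1 [← hg1v]
    rw [inv_smul_smul']
  have hbfix : (g1⁻¹ * (a'⁻¹ * (a * g1))) • (u - v) = u - v := by
    rw [mul_smul', mul_smul', mul_smul', hb, ha2]
    nth_rewrite 1 [← ha2']
    rw [inv_smul_smul']
    nth_rewrite 1 [← hb]
    rw [inv_smul_smul']
  refine ⟨g1⁻¹ * (a'⁻¹ * (a * g1)), ?_, hvfix, ?_⟩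
  · have e : u = v + (u - v) := by abel
    nth_rewrite 1 [e]
    rw [smul_add', hvfix, hbfix]
    abel
  · rw [mul_smul', mul_smul', mul_smul', ha3, ← ha3', inv_smul_smul', inv_smul_smul']

end Cfsg.Agent.Helper9.Leech
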