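import Mathlib
import Cfsg.Prelude.Def_Sporadic_a
import Cfsg.Prelude.Def_SporadicCombinatorics
import Cfsg.Agent.Helper9.Leech.McL3

/-!
The number of minimal vectors attached to a vector of sum of squares 48 and one of its
decompositions.
-/

set_option autoImplicit false

namespace Cfsg.Agent.Helper9.Leech

open Cfsg
open Cfsg.Agent.Helper9.Golay
open scoped Pointwise

/-- the coordinates of the first vector plus 1000 times the second. -/
def alMcL : List ℤ := [4001, 1, 1, 1, 1, 1, 1, 1, 1, 1, 1, 1, 1, 1, 1, 1, 1, 1, 1, 1, 1, 1, 1, 4005]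

theorem alMcL_eq : toVec alMcL = toVec alVA + (1000 : ℤ) • toVec al1 := by
  funext p
  rw [Pi.add_apply, Pi.smul_apply, smul_eq_mul]
  revert p
  decide

set_option maxRecDepth 100000 in
theorem cnt_alMcL : cntFast alMcL 16024 = 275 := by decide +kernel

theorem card_275 (u v : ↥leechLattice) (hu : sqNorm (u : GolayPt → ℤ) = 48)
    (hv : sqNorm (v : GolayPt → ℤ) = 32 ∧ sqNorm ((u - v : ↥leechLattice) : GolayPt → ℤ) = 32) :
    {x : ↥leechLattice | sqNorm (x : GolayPt → ℤ) = 32 ∧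
        sqNorm ((u - x : ↥leechLattice) : GolayPt → ℤ) = 32 ∧
        dotInt (v : GolayPt → ℤ) (x : GolayPt → ℤ) = 16}.ncard = 275 := by
  obtain ⟨g, hg1, hg2⟩ := mcl_pair_to_std u v hu hv
  have e0 : {x : ↥leechLattice | sqNorm (x : GolayPt → ℤ) = 32 ∧
        sqNorm ((u - x : ↥leechLattice) : GolayPt → ℤ) = 32 ∧
        dotInt (v : GolayPt → ℤ) (x : GolayPt → ℤ) = 16} =
      {x : ↥leechLattice | sqNorm (x : GolayPt → ℤ) = 32 ∧
        dotInt (u : GolayPt → ℤ) (x : GolayPt → ℤ) = 24 ∧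
        dotInt (v : GolayPt → ℤ) (x : GolayPt → ℤ) = 16} := by
    ext x
    rw [Set.mem_ofPred_eq, Set.mem_ofPred_eq]
    constructor
    · rintro ⟨h1, h2, h3⟩
      exact ⟨h1, (dot_of_sub_min u x hu h1).mp h2, h3⟩
    · rintro ⟨h1, h2, h3⟩
      exact ⟨h1, (dot_of_sub_min u x hu h1).mpr h2, h3⟩
  rw [e0, ncard_smul2 g u v 32 24 16, hg1, hg2, vA_eq, std1_eq]
  have e : {x : ↥leechLattice | sqNorm (x : GolayPt → ℤ) = 32 ∧
        dotInt (toVec alVA) (x : GolayPt → ℤ) = 24 ∧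
        dotInt (toVec al1) (x : GolayPt → ℤ) = 16} =
      {x : ↥leechLattice | sqNorm (x : GolayPt → ℤ) = 32 ∧
        dotInt (toVec alMcL) (x : GolayPt → ℤ) = 16024} := by
    ext x
    rw [Set.mem_ofPred_eq, Set.mem_ofPred_eq, alMcL_eq]
    constructor
    · rintro ⟨h1, h2⟩
      refine ⟨h1, ?_⟩
      have := (combo_iff (toVec alVA) (toVec al1) (x : GolayPt → ℤ) 24 16
        (by rw [← vA_eq, sqNorm_vA]) h1 (by norm_num) (by norm_num)).mpr h2
      rw [this]
      norm_num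
    · rintro ⟨h1, h2⟩
      refine ⟨h1, ?_⟩
      exact (combo_iff (toVec alVA) (toVec al1) (x : GolayPt → ℤ) 24 16
        (by rw [← vA_eq, sqNorm_vA]) h1 (by norm_num) (by norm_num)).mp
        (by rw [h2]; norm_num)
  rw [e, ncard_sub_eq (fun x => sqNorm x = 32 ∧ dotInt (toVec alMcL) x = 16024)]
  exact ncard_min_dot' alMcL rfl 16024 275 cnt_alMcL

end Cfsg.Agent.Helper9.Leech
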