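import Mathlib
import Cfsg.Prelude.Def_Sporadic_a
import Cfsg.Prelude.Def_SporadicCombinatorics
import Cfsg.Agent.Helper9.Leech.McL4
import Cfsg.Agent.Helper9.Golay.OctFlag3

/-!
Moving configurations of four vectors with an auxiliary vector to standard positions.
-/

set_option autoImplicit false

namespace Cfsg.Agent.Helper9.Leech

open Cfsg
open Cfsg.Agent.Helper9.Golay
open scoped Pointwise

theorem signEl_std2 (c : Finset GolayPt)
    (hc : c ∈ supports (golayCode : Set (GolayPt → ZMod 2))) (h1 : (none : GolayPt) ∉ c)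
    (h2 : (some 0 : GolayPt) ∉ c) : signEl c hc • std2 = std2 :=
  mono_fix_std2 M24.one_mem hc rfl rfl h1 h2

theorem permEl_std2 (σ : Equiv.Perm GolayPt) (hσ : σ ∈ M24) (h1 : σ none = none)
    (h2 : σ (some 0) = some 0) : permEl σ hσ • std2 = std2 :=
  mono_fix_std2 hσ Spor.empty_mem_supports_golayCode h1 h2 (Finset.notMem_empty _)
    (Finset.notMem_empty _)

/-- moving three vectors to the standard frame. -/
theorem mcl_frame3 (v v' b : ↥leechLattice) (hv : sqNorm (v : GolayPt → ℤ) = 32)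
    (hv' : sqNorm (v' : GolayPt → ℤ) = 32) (hb : sqNorm (b : GolayPt → ℤ) = 32)
    (h1 : dotInt (v : GolayPt → ℤ) (v' : GolayPt → ℤ) = -8)
    (h4 : dotInt (v : GolayPt → ℤ) (b : GolayPt → ℤ) = 0)
    (h5 : dotInt (b : GolayPt → ℤ) (v' : GolayPt → ℤ) = 16) :
    ∃ g : ↥Co0, g • v = std1 ∧ g • b = std2 ∧ g • v' = bstd := by
  classical
  obtain ⟨g0, hg0v, hg0b⟩ := pair_to_std v b hv hb h4
  have a1 : dotInt ((std1 : ↥leechLattice) : GolayPt → ℤ)
      ((g0 • v' : ↥leechLattice) : GolayPt → ℤ) = -8 := by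
    rw [← hg0v, co0_dot]
    exact h1
  have a2 : dotInt ((std2 : ↥leechLattice) : GolayPt → ℤ)
      ((g0 • v' : ↥leechLattice) : GolayPt → ℤ) = 16 := by
    rw [← hg0b, co0_dot]
    exact h5
  have n1 : sqNorm ((g0 • v' : ↥leechLattice) : GolayPt → ℤ) = 32 := (co0_sqNorm g0 v').trans hv'
  rw [dot_std1] at a1
  rw [dot_std2] at a2
  obtain ⟨p, hp⟩ : ∃ p : ↥leechLattice, g0 • v' = p := ⟨_, rfl⟩
  rw [hp] at a1 a2 n1
  have p1 : (p : GolayPt → ℤ) none = 1 := by omega
  have p2 : (p : GolayPt → ℤ) (some 0) = -3 := by omega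
  obtain ⟨j, c, hc, hjc⟩ := odd_min_classify p.2 n1 (by rw [p1]; rfl)
  have hj : j = some 0 ∧ (some 0 : GolayPt) ∉ c := by
    rw [hjc, oddVec_apply] at p2
    unfold baseOdd at p2
    by_cases h0c : (some 0 : GolayPt) ∈ c <;> by_cases h0j : (some 0 : GolayPt) = j
    · rw [if_pos h0c, if_pos h0j] at p2
      norm_num at p2
    · rw [if_pos h0c, if_neg h0j] at p2
      norm_num at p2
    · exact ⟨h0j.symm, h0c⟩
    · rw [if_neg h0c, if_neg h0j] at p2
      norm_num at p2
  have hnc : (none : GolayPt) ∉ c := by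
    intro hnc
    rw [hjc, oddVec_apply] at p1
    unfold baseOdd at p1
    rw [if_pos hnc, hj.1, if_neg (by decide)] at p1
    norm_num at p1
  have e1 : signEl c hc • p = bstd := by
    apply Subtype.ext
    rw [signEl_apply, hjc, hj.1, bstd_eq]
    show signCh c (signCh c (baseOdd (some 0))) = _
    rw [signCh_signCh]
  refine ⟨signEl c hc * g0, ?_, ?_, ?_⟩
  · rw [mul_smul', hg0v, signEl_std1 c hc hnc hj.2]
  · rw [mul_smul', hg0b, signEl_std2 c hc hnc hj.2]
  · rw [mul_smul', hp, e1]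

theorem dot_xstd (w : GolayPt → ℤ) :
    dotInt ((xstd : ↥leechLattice) : GolayPt → ℤ) w = 4 * w none + 4 * w (some 1) := by
  change dotInt (Wv none (some 1) 2 2) w = _
  rw [dot_Wv]
  ring

/-- the attached vectors with inner product 16 with the auxiliary vector. -/
theorem cls_T1 (q : GolayPt → ℤ) (hq : q ∈ leechLattice) (hn : sqNorm q = 32)
    (h1 : dotInt ((std1 : ↥leechLattice) : GolayPt → ℤ) q = 16)
    (h2 : dotInt ((std2 : ↥leechLattice) : GolayPt → ℤ) q = 16)
    (h3 : dotInt ((bstd : ↥leechLattice) : GolayPt → ℤ) q = 8) :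
    ∃ t : GolayPt, t ≠ none ∧ t ≠ some 0 ∧ q = pat 4 {none, t} ∅ := by
  rw [dot_std1] at h1
  rw [dot_std2] at h2
  rw [bstd_eq, dot_baseOdd] at h3
  have hn4 : q none = 4 := by omega
  rcases mcl_cls q hq hn (by omega) (by omega) with
    ⟨p, hp1, hp2, he⟩ | ⟨o, ho, hno, h0o, he⟩ | ⟨c, hc, hnc, h0c, he⟩
  · exact ⟨p, hp1, hp2, he⟩
  · exfalso
    rw [he, pat_of_mem_P (Finset.notMem_empty _) hno] at hn4
    norm_num at hn4
  · exfalso
    rw [he, oddVec_apply, if_pos hnc] at hn4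
    unfold baseOdd at hn4
    rw [if_pos rfl] at hn4
    norm_num at hn4

/-- the attached vectors orthogonal to the auxiliary vector. -/
theorem cls_T2 (q : GolayPt → ℤ) (hq : q ∈ leechLattice) (hn : sqNorm q = 32)
    (h1 : dotInt ((std1 : ↥leechLattice) : GolayPt → ℤ) q = 16)
    (h2 : dotInt ((std2 : ↥leechLattice) : GolayPt → ℤ) q = 0)
    (h3 : dotInt ((bstd : ↥leechLattice) : GolayPt → ℤ) q = 8) :
    ∃ o ∈ octads, (none : GolayPt) ∈ o ∧ (some 0 : GolayPt) ∈ o ∧ q = pat 2 o ∅ := by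
  rw [dot_std1] at h1
  rw [dot_std2] at h2
  rw [bstd_eq, dot_baseOdd] at h3
  have hn2 : q none = 2 := by omega
  rcases mcl_cls q hq hn (by omega) (by omega) with
    ⟨p, hp1, hp2, he⟩ | ⟨o, ho, hno, h0o, he⟩ | ⟨c, hc, hnc, h0c, he⟩
  · exfalso
    rw [he, pat_of_mem_P (Finset.notMem_empty _) (Finset.mem_insert_self _ _)] at hn2
    norm_num at hn2
  · exact ⟨o, ho, hno, h0o, he⟩
  · exfalso
    rw [he, oddVec_apply, if_pos hnc] at hn2
    unfold baseOdd at hn2
    rw [if_pos rfl] at hn2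
    norm_num at hn2

/-- the image of a vector `(4, 4, 0, …)` under a permutation. -/
theorem permEl_T1 (σ : Equiv.Perm GolayPt) (hσ : σ ∈ M24) (h1 : σ none = none) (t t' : GolayPt)
    (ht : σ t = t') (ht' : t' ≠ none) (x : ↥leechLattice) (hx : (x : GolayPt → ℤ) = pat 4 {none, t} ∅) :
    ((permEl σ hσ • x : ↥leechLattice) : GolayPt → ℤ) = Wv none t' 2 2 := by
  classical
  rw [permEl_apply, hx]
  funext i
  rw [Wv_apply]
  unfold pat
  have k1 : σ.symm i = none ↔ i = none := by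
    rw [Equiv.symm_apply_eq, h1]
  have k2 : σ.symm i = t ↔ i = t' := by
    rw [Equiv.symm_apply_eq, ht]
  rw [if_neg (Finset.notMem_empty _)]
  by_cases hi1 : i = none <;> by_cases hi2 : i = t'
  · exact absurd (hi2.symm.trans hi1) ht'
  · rw [if_pos (by rw [Finset.mem_insert]; exact Or.inl (k1.mpr hi1)), if_pos hi1, if_neg hi2]
    norm_num
  · rw [if_pos (by rw [Finset.mem_insert, Finset.mem_singleton]; exact Or.inr (k2.mpr hi2)),
      if_neg hi1, if_pos hi2]
    norm_num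
  · rw [if_neg (by rw [Finset.mem_insert, Finset.mem_singleton, k1, k2]; tauto), if_neg hi1,
      if_neg hi2]
    norm_num

end Cfsg.Agent.Helper9.Leech
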