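import Mathlib
import Cfsg.Prelude.Def_Sporadic_a
import Cfsg.Prelude.Def_SporadicCombinatorics
import Cfsg.Agent.Helper9.Leech.McL5

/-!
Moving configurations of four vectors with an auxiliary vector to standard positions: the two
kinds of configurations.
-/

set_option autoImplicit false

namespace Cfsg.Agent.Helper9.Leech

open Cfsg
open Cfsg.Agent.Helper9.Golay
open scoped Pointwise

/-- the standard fourth vector, inner product 16. -/
def y16std : ↥leechLattice :=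
  ⟨Wv none (some 2) 2 2, Wv_mem (by decide) (Or.inl rfl) (Or.inl rfl)⟩

theorem conj_apply (h k : Equiv.Perm GolayPt) (a p : GolayPt) (hp : h a = p) :
    (k * h⁻¹) p = k a := by
  rw [← hp, Equiv.Perm.mul_apply, Equiv.Perm.inv_def, Equiv.symm_apply_apply]

theorem permEl_T2 (σ : Equiv.Perm GolayPt) (hσ : σ ∈ M24) (o o' : Finset GolayPt)
    (hσo : σ • o = o') (y : ↥leechLattice) (hy : (y : GolayPt → ℤ) = pat 2 o ∅) :
    ((permEl σ hσ • y : ↥leechLattice) : GolayPt → ℤ) = pat 2 o' ∅ := by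
  rw [permEl_apply, hy, pat_perm, hσo, Finset.smul_finset_empty]

theorem permEl_T3 (σ : Equiv.Perm GolayPt) (hσ : σ ∈ M24) (h1 : σ none = none)
    (c c' : Finset GolayPt) (hσc : σ • c = c') (y : ↥leechLattice)
    (hy : (y : GolayPt → ℤ) = oddVec none c) :
    ((permEl σ hσ • y : ↥leechLattice) : GolayPt → ℤ) = oddVec none c' := by
  classical
  rw [permEl_apply, hy]
  funext i
  rw [oddVec_apply, oddVec_apply, ← hσc]
  have e := congrFun (baseOdd_perm none σ) i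
  rw [h1] at e
  simp only [mem_smul_iff, e]

/-- configurations of the first kind. -/
theorem frame16 (v v' x y b : ↥leechLattice) (hv : sqNorm (v : GolayPt → ℤ) = 32)
    (hv' : sqNorm (v' : GolayPt → ℤ) = 32) (hx : sqNorm (x : GolayPt → ℤ) = 32)
    (hy : sqNorm (y : GolayPt → ℤ) = 32) (hb : sqNorm (b : GolayPt → ℤ) = 32)
    (h1 : dotInt (v : GolayPt → ℤ) (v' : GolayPt → ℤ) = -8)
    (h2 : dotInt (v : GolayPt → ℤ) (x : GolayPt → ℤ) = 16)
    (h3 : dotInt (v' : GolayPt → ℤ) (x : GolayPt → ℤ) = 8)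
    (h4 : dotInt (v : GolayPt → ℤ) (y : GolayPt → ℤ) = 16)
    (h5 : dotInt (v' : GolayPt → ℤ) (y : GolayPt → ℤ) = 8)
    (h6 : dotInt (x : GolayPt → ℤ) (y : GolayPt → ℤ) = 16)
    (b1 : dotInt (v : GolayPt → ℤ) (b : GolayPt → ℤ) = 0)
    (b2 : dotInt (b : GolayPt → ℤ) (v' : GolayPt → ℤ) = 16)
    (b3 : dotInt (b : GolayPt → ℤ) (x : GolayPt → ℤ) = 16)
    (b4 : dotInt (b : GolayPt → ℤ) (y : GolayPt → ℤ) = 16) :
    ∃ g : ↥Co0, g • v = std1 ∧ g • v' = bstd ∧ g • x = xstd ∧ g • y = y16std := by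
  obtain ⟨g, gv, gb, gv'⟩ := mcl_frame3 v v' b hv hv' hb h1 b1 b2
  obtain ⟨t, ht1, ht2, hxt⟩ := cls_T1 ((g • x : ↥leechLattice) : GolayPt → ℤ) (g • x).2
    ((co0_sqNorm g x).trans hx) (by rw [← gv, co0_dot]; exact h2)
    (by rw [← gb, co0_dot]; exact b3) (by rw [← gv', co0_dot]; exact h3)
  obtain ⟨s, hs1, hs2, hys⟩ := cls_T1 ((g • y : ↥leechLattice) : GolayPt → ℤ) (g • y).2
    ((co0_sqNorm g y).trans hy) (by rw [← gv, co0_dot]; exact h4)
    (by rw [← gb, co0_dot]; exact b4) (by rw [← gv', co0_dot]; exact h5)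
  have hts : t ≠ s := by
    intro h
    have e : g • x = g • y := Subtype.ext (by rw [hxt, hys, h])
    have h' := co0_dot g x y
    rw [e, dot_self, co0_sqNorm, hy, h6] at h'
    norm_num at h'
  obtain ⟨σ, hσ, s1, s2, s3, s4⟩ := m24_four_trans (a := none) (b := some 0) (c := t) (d := s)
    (a' := none) (b' := some 0) (c' := some 1) (d' := some 2) (by decide) ht1.symm hs1.symm
    ht2.symm hs2.symm hts (by decide) (by decide) (by decide) (by decide) (by decide) (by decide)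
  refine ⟨permEl σ hσ * g, ?_, ?_, ?_, ?_⟩
  · rw [mul_smul', gv, permEl_std1 σ hσ s1 s2]
  · rw [mul_smul', gv', permEl_bstd σ hσ s2]
  · rw [mul_smul']
    exact Subtype.ext (permEl_T1 σ hσ s1 t (some 1) s3 (by decide) (g • x) hxt)
  · rw [mul_smul']
    exact Subtype.ext (permEl_T1 σ hσ s1 s (some 2) s4 (by decide) (g • y) hys)

/-- configurations of the second kind. -/
theorem frame8 (v v' x y b : ↥leechLattice) (hv : sqNorm (v : GolayPt → ℤ) = 32)
    (hv' : sqNorm (v' : GolayPt → ℤ) = 32) (hx : sqNorm (x : GolayPt → ℤ) = 32)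
    (hy : sqNorm (y : GolayPt → ℤ) = 32) (hb : sqNorm (b : GolayPt → ℤ) = 32)
    (h1 : dotInt (v : GolayPt → ℤ) (v' : GolayPt → ℤ) = -8)
    (h2 : dotInt (v : GolayPt → ℤ) (x : GolayPt → ℤ) = 16)
    (h3 : dotInt (v' : GolayPt → ℤ) (x : GolayPt → ℤ) = 8)
    (h4 : dotInt (v : GolayPt → ℤ) (y : GolayPt → ℤ) = 16)
    (h5 : dotInt (v' : GolayPt → ℤ) (y : GolayPt → ℤ) = 8)
    (h6 : dotInt (x : GolayPt → ℤ) (y : GolayPt → ℤ) = 8)
    (b1 : dotInt (v : GolayPt → ℤ) (b : GolayPt → ℤ) = 0)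
    (b2 : dotInt (b : GolayPt → ℤ) (v' : GolayPt → ℤ) = 16)
    (b3 : dotInt (b : GolayPt → ℤ) (x : GolayPt → ℤ) = 16)
    (b4 : dotInt (b : GolayPt → ℤ) (y : GolayPt → ℤ) = 0) :
    ∃ g : ↥Co0, g • v = std1 ∧ g • v' = bstd ∧ g • x = xstd ∧ g • y = x2std := by
  classical
  obtain ⟨g, gv, gb, gv'⟩ := mcl_frame3 v v' b hv hv' hb h1 b1 b2
  obtain ⟨t, ht1, ht2, hxt⟩ := cls_T1 ((g • x : ↥leechLattice) : GolayPt → ℤ) (g • x).2
    ((co0_sqNorm g x).trans hx) (by rw [← gv, co0_dot]; exact h2)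
    (by rw [← gb, co0_dot]; exact b3) (by rw [← gv', co0_dot]; exact h3)
  obtain ⟨o, ho, hno, h0o, hyo⟩ := cls_T2 ((g • y : ↥leechLattice) : GolayPt → ℤ) (g • y).2
    ((co0_sqNorm g y).trans hy) (by rw [← gv, co0_dot]; exact h4)
    (by rw [← gb, co0_dot]; exact b4) (by rw [← gv', co0_dot]; exact h5)
  have hto : t ∉ o := by
    intro hto
    have h' := co0_dot g x y
    rw [hxt, hyo, h6, dot_comm', dot_pat _ (Finset.empty_subset _), Finset.sum_pair ht1.symm,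
      Finset.sum_empty, pat_of_mem_P (Finset.notMem_empty _) hno,
      pat_of_mem_P (Finset.notMem_empty _) hto] at h'
    norm_num at h'
  have hn0 : (none : GolayPt) ≠ some 0 := by decide
  obtain ⟨h, hh, hho, hhp, hhq, hhr⟩ := exists_flag_in2_out ho hno h0o hn0 hto
  obtain ⟨k, hk, hko, hkp, hkq, hkr⟩ := exists_flag_in2_out octM2_mem (p := none) (q := some 0)
    (r := some 1) (by rw [mem_suppM]; decide) (by rw [mem_suppM]; decide) hn0
    (by rw [mem_suppM]; decide)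
  have hσ : k * h⁻¹ ∈ M24 := M24.mul_mem hk (M24.inv_mem hh)
  have hσo : (k * h⁻¹) • o = suppM octM2 := by
    rw [← hho, mul_smul, inv_smul_smul, hko]
  have s1 : (k * h⁻¹) none = none := by rw [conj_apply h k _ _ hhp, hkp]
  have s2 : (k * h⁻¹) (some 0) = some 0 := by rw [conj_apply h k _ _ hhq, hkq]
  have s3 : (k * h⁻¹) t = some 1 := by rw [conj_apply h k _ _ hhr, hkr]
  refine ⟨permEl (k * h⁻¹) hσ * g, ?_, ?_, ?_, ?_⟩
  · rw [mul_smul', gv, permEl_std1 _ hσ s1 s2]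
  · rw [mul_smul', gv', permEl_bstd _ hσ s2]
  · rw [mul_smul']
    exact Subtype.ext (permEl_T1 _ hσ s1 t (some 1) s3 (by decide) (g • x) hxt)
  · rw [mul_smul']
    exact Subtype.ext (permEl_T2 _ hσ o _ hσo (g • y) hyo)

end Cfsg.Agent.Helper9.Leech
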