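import Mathlib
import Cfsg.Prelude.Def_Sporadic_a
import Cfsg.Prelude.Def_SporadicCombinatorics
import Cfsg.Agent.Helper9.Leech.McL6

/-!
The two orbits of the stabiliser of the standard triple on the remaining attached vectors.
-/

set_option autoImplicit false

namespace Cfsg.Agent.Helper9.Leech

open Cfsg
open Cfsg.Agent.Helper9.Golay
open scoped Pointwise

/-- the first orbit. -/
def Orb16 (y : ↥leechLattice) : Prop :=
  ∃ g : ↥Co0, g • std1 = std1 ∧ g • bstd = bstd ∧ g • xstd = xstd ∧ g • y = y16std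

/-- the second orbit. -/
def Orb8 (y : ↥leechLattice) : Prop :=
  ∃ g : ↥Co0, g • std1 = std1 ∧ g • bstd = bstd ∧ g • xstd = xstd ∧ g • y = x2std

theorem orb16_comp (g0 : ↥Co0) (f1 : g0 • std1 = std1) (f2 : g0 • bstd = bstd)
    (f3 : g0 • xstd = xstd) (y : ↥leechLattice) (h : Orb16 (g0 • y)) : Orb16 y := by
  obtain ⟨g, g1, g2, g3, g4⟩ := h
  exact ⟨g * g0, by rw [mul_smul', f1, g1], by rw [mul_smul', f2, g2], by rw [mul_smul', f3, g3],
    by rw [mul_smul', g4]⟩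

theorem orb8_comp (g0 : ↥Co0) (f1 : g0 • std1 = std1) (f2 : g0 • bstd = bstd)
    (f3 : g0 • xstd = xstd) (y : ↥leechLattice) (h : Orb8 (g0 • y)) : Orb8 y := by
  obtain ⟨g, g1, g2, g3, g4⟩ := h
  exact ⟨g * g0, by rw [mul_smul', f1, g1], by rw [mul_smul', f2, g2], by rw [mul_smul', f3, g3],
    by rw [mul_smul', g4]⟩

theorem xstd_eq_pat : ((xstd : ↥leechLattice) : GolayPt → ℤ) = pat 4 {none, some 1} ∅ := by
  funext p
  show Wv none (some 1) 2 2 p = _
  rw [Wv_apply]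
  unfold pat
  revert p
  decide

theorem permEl_xstd (σ : Equiv.Perm GolayPt) (hσ : σ ∈ M24) (h1 : σ none = none)
    (h3 : σ (some 1) = some 1) : permEl σ hσ • xstd = xstd :=
  Subtype.ext (permEl_T1 σ hσ h1 (some 1) (some 1) h3 (by decide) xstd xstd_eq_pat)

theorem sqNorm_xstd : sqNorm ((xstd : ↥leechLattice) : GolayPt → ℤ) = 32 :=
  sqNorm_Wv (by decide) (Or.inl rfl) (Or.inl rfl)

/-! ### explicit data -/

def octO3 : ℕ := 8398155
def octC3 : ℕ := 8401364
def octC8 : ℕ := 8394986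
def octB3 : ℕ := 563843

theorem octO3_mem : suppM octO3 ∈ octads :=
  (mem_octads_iff _).mpr ⟨octO3, by decide +kernel, by decide, rfl⟩
theorem octC3_mem : suppM octC3 ∈ octads :=
  (mem_octads_iff _).mpr ⟨octC3, by decide +kernel, by decide, rfl⟩
theorem octC8_mem : suppM octC8 ∈ octads :=
  (mem_octads_iff _).mpr ⟨octC8, by decide +kernel, by decide, rfl⟩
theorem octB3_mem : suppM octB3 ∈ supports (golayCode : Set (GolayPt → ZMod 2)) :=
  (mem_supports_iff _).mpr ⟨octB3, by decide +kernel, rfl⟩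

def y3std : ↥leechLattice :=
  ⟨pat 2 (suppM octO3) ∅, oct_mem octO3_mem (Finset.empty_subset _) (by simp)⟩
def b3std : ↥leechLattice := ⟨oddVec (some 1) (suppM octB3), oddVec_mem octB3_mem⟩
def yc3std : ↥leechLattice := ⟨oddVec none (suppM octC3), oddVec_mem octC3_mem.1⟩
def bc3std : ↥leechLattice := ⟨oddVec (some 1) (suppM 5279), oddVec_mem oct5279_mem.1⟩
def yc8std : ↥leechLattice := ⟨oddVec none (suppM octC8), oddVec_mem octC8_mem.1⟩
def bc8std : ↥leechLattice := ⟨oddVec (some 1) (suppM octMb), oddVec_mem octMb_mem⟩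

def alXstd : List ℤ := [0, 4, 0, 0, 0, 0, 0, 0, 0, 0, 0, 0, 0, 0, 0, 0, 0, 0, 0, 0, 0, 0, 0, 4]
def alY3 : List ℤ := [2, 2, 0, 2, 0, 0, 2, 0, 2, 0, 2, 0, 0, 2, 0, 0, 0, 0, 0, 0, 0, 0, 0, 2]
def alB3 : List ℤ := [-1, 3, 1, 1, 1, 1, 1, -1, 1, -1, 1, -1, -1, 1, 1, -1, 1, 1, 1, -1, 1, 1, 1, 1]
def alYc3 : List ℤ := [1, 1, -1, 1, -1, 1, -1, -1, -1, 1, 1, 1, -1, -1, 1, 1, 1, 1, 1, 1, 1, 1, 1, 3]
def alBc3 : List ℤ := [-1, 3, -1, -1, -1, 1, 1, -1, 1, 1, -1, 1, -1, 1, 1, 1, 1, 1, 1, 1, 1, 1, 1, 1]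
def alYc8 : List ℤ := [1, -1, 1, -1, 1, -1, -1, -1, 1, 1, 1, -1, -1, 1, 1, 1, 1, 1, 1, 1, 1, 1, 1, 3]
def alBc8 : List ℤ := [-1, 3, 1, -1, -1, 1, 1, 1, 1, -1, 1, 1, 1, -1, -1, -1, 1, 1, 1, 1, 1, 1, 1, 1]

theorem xstd_eq : ((xstd : ↥leechLattice) : GolayPt → ℤ) = toVec alXstd := by
  funext p
  show Wv none (some 1) 2 2 p = _
  rw [Wv_apply]
  revert p
  decide

theorem y3std_eq : ((y3std : ↥leechLattice) : GolayPt → ℤ) = toVec alY3 := by
  funext p
  show pat 2 (suppM octO3) ∅ p = _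
  unfold pat
  simp only [mem_suppM, Finset.notMem_empty, if_false]
  revert p
  decide

theorem oddVec_eq_list (j : GolayPt) (m : ℕ) (al : List ℤ)
    (h : ∀ p : GolayPt, (if m.testBit (ptIdx p) = true then -(if p = j then (-3 : ℤ) else 1)
      else (if p = j then (-3 : ℤ) else 1)) = toVec al p) :
    oddVec j (suppM m) = toVec al := by
  funext p
  rw [oddVec_apply]
  unfold baseOdd
  simp only [mem_suppM]
  exact h p

theorem b3std_eq : ((b3std : ↥leechLattice) : GolayPt → ℤ) = toVec alB3 :=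
  oddVec_eq_list (some 1) octB3 alB3 (by decide)

theorem yc3std_eq : ((yc3std : ↥leechLattice) : GolayPt → ℤ) = toVec alYc3 :=
  oddVec_eq_list none octC3 alYc3 (by decide)

theorem bc3std_eq : ((bc3std : ↥leechLattice) : GolayPt → ℤ) = toVec alBc3 :=
  oddVec_eq_list (some 1) 5279 alBc3 (by decide)

theorem yc8std_eq : ((yc8std : ↥leechLattice) : GolayPt → ℤ) = toVec alYc8 :=
  oddVec_eq_list none octC8 alYc8 (by decide)

theorem bc8std_eq : ((bc8std : ↥leechLattice) : GolayPt → ℤ) = toVec alBc8 :=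
  oddVec_eq_list (some 1) octMb alBc8 (by decide)

theorem dot_std1_xstd : dotInt ((std1 : ↥leechLattice) : GolayPt → ℤ)
    ((xstd : ↥leechLattice) : GolayPt → ℤ) = 16 := by
  rw [std1_eq, xstd_eq, dot_toVec]
  decide

theorem dot_bstd_xstd : dotInt ((bstd : ↥leechLattice) : GolayPt → ℤ)
    ((xstd : ↥leechLattice) : GolayPt → ℤ) = 8 := by
  rw [bstd_eq', xstd_eq, dot_toVec]
  decide

theorem orb16_y3 : Orb16 y3std := by
  apply frame16 std1 bstd xstd y3std b3std sqNorm_std1 sqNorm_bstd sqNorm_xstd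
  · rw [y3std_eq, sqNorm_toVec alY3 rfl]
    decide
  · exact sqNorm_oddVec (some 1) (suppM octB3)
  · exact dot_std1_bstd
  · exact dot_std1_xstd
  · exact dot_bstd_xstd
  · rw [std1_eq, y3std_eq, dot_toVec]
    decide
  · rw [bstd_eq', y3std_eq, dot_toVec]
    decide
  · rw [xstd_eq, y3std_eq, dot_toVec]
    decide
  · rw [std1_eq, b3std_eq, dot_toVec]
    decide
  · rw [b3std_eq, bstd_eq', dot_toVec]
    decide
  · rw [b3std_eq, xstd_eq, dot_toVec]
    decide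
  · rw [b3std_eq, y3std_eq, dot_toVec]
    decide

theorem orb16_yc3 : Orb16 yc3std := by
  apply frame16 std1 bstd xstd yc3std bc3std sqNorm_std1 sqNorm_bstd sqNorm_xstd
  · exact sqNorm_oddVec none (suppM octC3)
  · exact sqNorm_oddVec (some 1) (suppM 5279)
  · exact dot_std1_bstd
  · exact dot_std1_xstd
  · exact dot_bstd_xstd
  · rw [std1_eq, yc3std_eq, dot_toVec]
    decide
  · rw [bstd_eq', yc3std_eq, dot_toVec]
    decide
  · rw [xstd_eq, yc3std_eq, dot_toVec]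
    decide
  · rw [std1_eq, bc3std_eq, dot_toVec]
    decide
  · rw [bc3std_eq, bstd_eq', dot_toVec]
    decide
  · rw [bc3std_eq, xstd_eq, dot_toVec]
    decide
  · rw [bc3std_eq, yc3std_eq, dot_toVec]
    decide

theorem orb8_yc8 : Orb8 yc8std := by
  apply frame8 std1 bstd xstd yc8std bc8std sqNorm_std1 sqNorm_bstd sqNorm_xstd
  · exact sqNorm_oddVec none (suppM octC8)
  · exact sqNorm_oddVec (some 1) (suppM octMb)
  · exact dot_std1_bstd
  · exact dot_std1_xstd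
  · exact dot_bstd_xstd
  · rw [std1_eq, yc8std_eq, dot_toVec]
    decide
  · rw [bstd_eq', yc8std_eq, dot_toVec]
    decide
  · rw [xstd_eq, yc8std_eq, dot_toVec]
    decide
  · rw [std1_eq, bc8std_eq, dot_toVec]
    decide
  · rw [bc8std_eq, bstd_eq', dot_toVec]
    decide
  · rw [bc8std_eq, xstd_eq, dot_toVec]
    decide
  · rw [bc8std_eq, yc8std_eq, dot_toVec]
    decide

end Cfsg.Agent.Helper9.Leech
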