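import Mathlib
import Cfsg.Prelude.Def_Sporadic_a
import Cfsg.Prelude.Def_SporadicCombinatorics
import Cfsg.Agent.Helper9.Leech.McL7

/-!
The stabiliser of the standard triple has two orbits on the remaining attached vectors.
-/

set_option autoImplicit false

namespace Cfsg.Agent.Helper9.Leech

open Cfsg
open Cfsg.Agent.Helper9.Golay
open scoped Pointwise

theorem hn0 : (none : GolayPt) ≠ some 0 := by decide
theorem hn1 : (none : GolayPt) ≠ some 1 := by decide
theorem h01 : (some 0 : GolayPt) ≠ some 1 := by decide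

theorem orb16_T1 (y : ↥leechLattice) (p : GolayPt) (hp0 : p ≠ none) (hp1 : p ≠ some 0)
    (hp2 : p ≠ some 1) (hy : (y : GolayPt → ℤ) = pat 4 {none, p} ∅) : Orb16 y := by
  obtain ⟨σ, hσ, s1, s2, s3, s4⟩ := m24_four_trans (a := none) (b := some 0) (c := some 1)
    (d := p) (a' := none) (b' := some 0) (c' := some 1) (d' := some 2) hn0 hn1 hp0.symm h01
    hp1.symm hp2.symm hn0 hn1 (by decide) h01 (by decide) (by decide)
  exact ⟨permEl σ hσ, permEl_std1 σ hσ s1 s2, permEl_bstd σ hσ s2, permEl_xstd σ hσ s1 s3,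
    Subtype.ext (permEl_T1 σ hσ s1 p (some 2) s4 (by decide) y hy)⟩

theorem orb16_T2 (y : ↥leechLattice) (o : Finset GolayPt) (ho : o ∈ octads)
    (hno : (none : GolayPt) ∈ o) (h0o : (some 0 : GolayPt) ∈ o) (h1o : (some 1 : GolayPt) ∈ o)
    (hy : (y : GolayPt → ℤ) = pat 2 o ∅) : Orb16 y := by
  obtain ⟨h, hh, hho, hhp, hhq, hhr⟩ := exists_flag_in3 ho hno h0o h1o hn0 hn1 h01
  obtain ⟨k, hk, hko, hkp, hkq, hkr⟩ := exists_flag_in3 octO3_mem (p := none) (q := some 0)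
    (t := some 1) (by rw [mem_suppM]; decide) (by rw [mem_suppM]; decide)
    (by rw [mem_suppM]; decide) hn0 hn1 h01
  have hσ : k * h⁻¹ ∈ M24 := M24.mul_mem hk (M24.inv_mem hh)
  have hσo : (k * h⁻¹) • o = suppM octO3 := by
    rw [← hho, mul_smul, inv_smul_smul, hko]
  have s1 : (k * h⁻¹) none = none := by rw [conj_apply h k _ _ hhp, hkp]
  have s2 : (k * h⁻¹) (some 0) = some 0 := by rw [conj_apply h k _ _ hhq, hkq]
  have s3 : (k * h⁻¹) (some 1) = some 1 := by rw [conj_apply h k _ _ hhr, hkr]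
  apply orb16_comp (permEl _ hσ) (permEl_std1 _ hσ s1 s2) (permEl_bstd _ hσ s2)
    (permEl_xstd _ hσ s1 s3)
  have e : permEl _ hσ • y = y3std := Subtype.ext (permEl_T2 _ hσ o _ hσo y hy)
  rw [e]
  exact orb16_y3

theorem orb16_T3 (y : ↥leechLattice) (c : Finset GolayPt) (hc : c ∈ octads)
    (hnc : (none : GolayPt) ∈ c) (h0c : (some 0 : GolayPt) ∉ c) (h1c : (some 1 : GolayPt) ∉ c)
    (hy : (y : GolayPt → ℤ) = oddVec none c) : Orb16 y := by
  obtain ⟨h, hh, hho, hhp, hhq, hhr⟩ := exists_flag_in_out2 hc hnc h0c h1c h01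
  obtain ⟨k, hk, hko, hkp, hkq, hkr⟩ := exists_flag_in_out2 octC3_mem (p := none) (r := some 0)
    (s := some 1) (by rw [mem_suppM]; decide) (by rw [mem_suppM]; decide)
    (by rw [mem_suppM]; decide) h01
  have hσ : k * h⁻¹ ∈ M24 := M24.mul_mem hk (M24.inv_mem hh)
  have hσo : (k * h⁻¹) • c = suppM octC3 := by
    rw [← hho, mul_smul, inv_smul_smul, hko]
  have s1 : (k * h⁻¹) none = none := by rw [conj_apply h k _ _ hhp, hkp]
  have s2 : (k * h⁻¹) (some 0) = some 0 := by rw [conj_apply h k _ _ hhq, hkq]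
  have s3 : (k * h⁻¹) (some 1) = some 1 := by rw [conj_apply h k _ _ hhr, hkr]
  apply orb16_comp (permEl _ hσ) (permEl_std1 _ hσ s1 s2) (permEl_bstd _ hσ s2)
    (permEl_xstd _ hσ s1 s3)
  have e : permEl _ hσ • y = yc3std := Subtype.ext (permEl_T3 _ hσ s1 c _ hσo y hy)
  rw [e]
  exact orb16_yc3

theorem orb8_T2 (y : ↥leechLattice) (o : Finset GolayPt) (ho : o ∈ octads)
    (hno : (none : GolayPt) ∈ o) (h0o : (some 0 : GolayPt) ∈ o) (h1o : (some 1 : GolayPt) ∉ o)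
    (hy : (y : GolayPt → ℤ) = pat 2 o ∅) : Orb8 y := by
  obtain ⟨h, hh, hho, hhp, hhq, hhr⟩ := exists_flag_in2_out ho hno h0o hn0 h1o
  obtain ⟨k, hk, hko, hkp, hkq, hkr⟩ := exists_flag_in2_out octM2_mem (p := none) (q := some 0)
    (r := some 1) (by rw [mem_suppM]; decide) (by rw [mem_suppM]; decide) hn0
    (by rw [mem_suppM]; decide)
  have hσ : k * h⁻¹ ∈ M24 := M24.mul_mem hk (M24.inv_mem hh)
  have hσo : (k * h⁻¹) • o = suppM octM2 := by
    rw [← hho, mul_smul, inv_smul_smul, hko]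
  have s1 : (k * h⁻¹) none = none := by rw [conj_apply h k _ _ hhp, hkp]
  have s2 : (k * h⁻¹) (some 0) = some 0 := by rw [conj_apply h k _ _ hhq, hkq]
  have s3 : (k * h⁻¹) (some 1) = some 1 := by rw [conj_apply h k _ _ hhr, hkr]
  exact ⟨permEl _ hσ, permEl_std1 _ hσ s1 s2, permEl_bstd _ hσ s2, permEl_xstd _ hσ s1 s3,
    Subtype.ext (permEl_T2 _ hσ o _ hσo y hy)⟩

theorem orb8_T3 (y : ↥leechLattice) (c : Finset GolayPt) (hc : c ∈ octads)
    (hnc : (none : GolayPt) ∈ c) (h0c : (some 0 : GolayPt) ∉ c) (h1c : (some 1 : GolayPt) ∈ c)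
    (hy : (y : GolayPt → ℤ) = oddVec none c) : Orb8 y := by
  obtain ⟨h, hh, hho, hhp, hhq, hhr⟩ := exists_flag_in2_out hc hnc h1c hn1 h0c
  obtain ⟨k, hk, hko, hkp, hkq, hkr⟩ := exists_flag_in2_out octC8_mem (p := none) (q := some 1)
    (r := some 0) (by rw [mem_suppM]; decide) (by rw [mem_suppM]; decide) hn1
    (by rw [mem_suppM]; decide)
  have hσ : k * h⁻¹ ∈ M24 := M24.mul_mem hk (M24.inv_mem hh)
  have hσo : (k * h⁻¹) • c = suppM octC8 := by
    rw [← hho, mul_smul, inv_smul_smul, hko]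
  have s1 : (k * h⁻¹) none = none := by rw [conj_apply h k _ _ hhp, hkp]
  have s3 : (k * h⁻¹) (some 1) = some 1 := by rw [conj_apply h k _ _ hhq, hkq]
  have s2 : (k * h⁻¹) (some 0) = some 0 := by rw [conj_apply h k _ _ hhr, hkr]
  apply orb8_comp (permEl _ hσ) (permEl_std1 _ hσ s1 s2) (permEl_bstd _ hσ s2)
    (permEl_xstd _ hσ s1 s3)
  have e : permEl _ hσ • y = yc8std := Subtype.ext (permEl_T3 _ hσ s1 c _ hσo y hy)
  rw [e]
  exact orb8_yc8

/-- every attached vector other than the standard one lies in one of the two orbits, according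
to its inner product with the standard one. -/
theorem orb_cases (y : ↥leechLattice) (hy : sqNorm (y : GolayPt → ℤ) = 32)
    (h1 : dotInt ((vA : ↥leechLattice) : GolayPt → ℤ) (y : GolayPt → ℤ) = 24)
    (h2 : dotInt ((std1 : ↥leechLattice) : GolayPt → ℤ) (y : GolayPt → ℤ) = 16)
    (hne : y ≠ xstd) :
    (Orb16 y ∧ dotInt ((xstd : ↥leechLattice) : GolayPt → ℤ) (y : GolayPt → ℤ) = 16) ∨
      (Orb8 y ∧ dotInt ((xstd : ↥leechLattice) : GolayPt → ℤ) (y : GolayPt → ℤ) = 8) := by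
  classical
  rw [dot_vA] at h1
  rw [dot_std1] at h2
  rw [dot_xstd]
  rcases mcl_cls (y : GolayPt → ℤ) y.2 hy h1 (by omega) with
    ⟨p, hp1, hp2, he⟩ | ⟨o, ho, hno, h0o, he⟩ | ⟨c, hc, hnc, h0c, he⟩
  · left
    have hp3 : p ≠ some 1 := by
      intro h
      apply hne
      apply Subtype.ext
      rw [he, h, xstd_eq_pat]
    refine ⟨orb16_T1 y p hp1 hp2 hp3 he, ?_⟩
    rw [he, pat_of_mem_P (Finset.notMem_empty _) (Finset.mem_insert_self _ _),
      pat_of_notMem (Finset.notMem_empty _)]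
    · norm_num
    · rw [Finset.mem_insert, Finset.mem_singleton, not_or]
      exact ⟨hn1.symm, hp3.symm⟩
  · by_cases h1o : (some 1 : GolayPt) ∈ o
    · left
      refine ⟨orb16_T2 y o ho hno h0o h1o he, ?_⟩
      rw [he, pat_of_mem_P (Finset.notMem_empty _) hno, pat_of_mem_P (Finset.notMem_empty _) h1o]
      norm_num
    · right
      refine ⟨orb8_T2 y o ho hno h0o h1o he, ?_⟩
      rw [he, pat_of_mem_P (Finset.notMem_empty _) hno, pat_of_notMem (Finset.notMem_empty _) h1o]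
      norm_num
  · by_cases h1c : (some 1 : GolayPt) ∈ c
    · right
      refine ⟨orb8_T3 y c hc hnc h0c h1c he, ?_⟩
      rw [he, oddVec_apply, oddVec_apply, if_pos hnc, if_pos h1c]
      unfold baseOdd
      rw [if_pos rfl, if_neg hn1.symm]
      norm_num
    · left
      refine ⟨orb16_T3 y c hc hnc h0c h1c he, ?_⟩
      rw [he, oddVec_apply, oddVec_apply, if_pos hnc, if_neg h1c]
      unfold baseOdd
      rw [if_pos rfl, if_neg hn1.symm]
      norm_num

/-- the stabiliser of the standard triple is transitive on the remaining attached vectors with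
a given inner product with the third vector. -/
theorem mcl_rank3_std (y y' : ↥leechLattice) (hy : sqNorm (y : GolayPt → ℤ) = 32)
    (h1 : dotInt ((vA : ↥leechLattice) : GolayPt → ℤ) (y : GolayPt → ℤ) = 24)
    (h2 : dotInt ((std1 : ↥leechLattice) : GolayPt → ℤ) (y : GolayPt → ℤ) = 16)
    (hne : y ≠ xstd) (hy' : sqNorm (y' : GolayPt → ℤ) = 32)
    (h1' : dotInt ((vA : ↥leechLattice) : GolayPt → ℤ) (y' : GolayPt → ℤ) = 24)
    (h2' : dotInt ((std1 : ↥leechLattice) : GolayPt → ℤ) (y' : GolayPt → ℤ) = 16)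
    (hne' : y' ≠ xstd)
    (hd : dotInt ((xstd : ↥leechLattice) : GolayPt → ℤ) (y : GolayPt → ℤ) =
      dotInt ((xstd : ↥leechLattice) : GolayPt → ℤ) (y' : GolayPt → ℤ)) :
    ∃ g : ↥Co0, g • std1 = std1 ∧ g • bstd = bstd ∧ g • xstd = xstd ∧ g • y = y' := by
  have key : ∀ (z : ↥leechLattice) (g g' : ↥Co0), g • z = z → g' • z = z →
      (g'⁻¹ * g) • z = z := by
    intro z g g' hg hg'
    rw [mul_smul', hg]
    nth_rewrite 1 [← hg']
    rw [inv_smul_smul']
  rcases orb_cases y hy h1 h2 hne with ⟨⟨g, g1, g2, g3, g4⟩, hd1⟩ | ⟨⟨g, g1, g2, g3, g4⟩, hd1⟩ <;>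
    rcases orb_cases y' hy' h1' h2' hne' with
      ⟨⟨g', g1', g2', g3', g4'⟩, hd2⟩ | ⟨⟨g', g1', g2', g3', g4'⟩, hd2⟩
  · exact ⟨g'⁻¹ * g, key _ g g' g1 g1', key _ g g' g2 g2', key _ g g' g3 g3', by
      rw [mul_smul', g4, ← g4', inv_smul_smul']⟩
  · omega
  · omega
  · exact ⟨g'⁻¹ * g, key _ g g' g1 g1', key _ g g' g2 g2', key _ g g' g3 g3', by
      rw [mul_smul', g4, ← g4', inv_smul_smul']⟩

end Cfsg.Agent.Helper9.Leech
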