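import Mathlib
import Cfsg.Prelude.Def_Sporadic_a
import Cfsg.Prelude.Def_SporadicCombinatorics
import Cfsg.Agent.Helper9.Leech.McL8

/-!
The action of the stabiliser of `u`, `v` and an attached vector `x` on the other attached vectors.
-/

set_option autoImplicit false

namespace Cfsg.Agent.Helper9.Leech

open Cfsg
open Cfsg.Agent.Helper9.Golay
open scoped Pointwise

/-- moving `u`, `v` and an attached vector to the standard triple. -/
theorem mcl_triple_to_std (u v x : ↥leechLattice) (hu : sqNorm (u : GolayPt → ℤ) = 48)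
    (hv : sqNorm (v : GolayPt → ℤ) = 32 ∧ sqNorm ((u - v : ↥leechLattice) : GolayPt → ℤ) = 32)
    (hx : sqNorm (x : GolayPt → ℤ) = 32 ∧
      sqNorm ((u - x : ↥leechLattice) : GolayPt → ℤ) = 32 ∧
      dotInt (v : GolayPt → ℤ) (x : GolayPt → ℤ) = 16) :
    ∃ g : ↥Co0, g • u = vA ∧ g • v = std1 ∧ g • x = xstd := by
  obtain ⟨g1, hg1u, hg1v⟩ := mcl_pair_to_std u v hu hv
  obtain ⟨a, ha1, ha2, ha3⟩ := mcl_orbit (g1 • x) ((co0_sqNorm g1 x).trans hx.1)
    (by rw [← hg1u, co0_dot]; exact (dot_of_sub_min u x hu hx.1).mp hx.2.1)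
    (by rw [← hg1v, co0_dot]; exact hx.2.2)
  refine ⟨a * g1, ?_, ?_, ?_⟩
  · rw [mul_smul', hg1u, ← std1_add_bstd, smul_add', ha1, ha2]
  · rw [mul_smul', hg1v, ha1]
  · rw [mul_smul', ha3]

/-- the stabiliser of `u`, `v` and an attached vector `x` is transitive on the other attached
vectors with a given inner product with `x`. -/
theorem mcl_rank3 (u v x y y' : ↥leechLattice) (hu : sqNorm (u : GolayPt → ℤ) = 48)
    (hv : sqNorm (v : GolayPt → ℤ) = 32 ∧ sqNorm ((u - v : ↥leechLattice) : GolayPt → ℤ) = 32)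
    (hx : sqNorm (x : GolayPt → ℤ) = 32 ∧
      sqNorm ((u - x : ↥leechLattice) : GolayPt → ℤ) = 32 ∧
      dotInt (v : GolayPt → ℤ) (x : GolayPt → ℤ) = 16)
    (hy : sqNorm (y : GolayPt → ℤ) = 32 ∧
      sqNorm ((u - y : ↥leechLattice) : GolayPt → ℤ) = 32 ∧
      dotInt (v : GolayPt → ℤ) (y : GolayPt → ℤ) = 16)
    (hy' : sqNorm (y' : GolayPt → ℤ) = 32 ∧
      sqNorm ((u - y' : ↥leechLattice) : GolayPt → ℤ) = 32 ∧
      dotInt (v : GolayPt → ℤ) (y' : GolayPt → ℤ) = 16)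
    (hne : y ≠ x) (hne' : y' ≠ x)
    (hd : dotInt (x : GolayPt → ℤ) (y : GolayPt → ℤ) =
      dotInt (x : GolayPt → ℤ) (y' : GolayPt → ℤ)) :
    ∃ g : ↥Co0, g • u = u ∧ g • v = v ∧ g • x = x ∧ g • y = y' := by
  obtain ⟨G, hGu, hGv, hGx⟩ := mcl_triple_to_std u v x hu hv hx
  have aux : ∀ z : ↥leechLattice, sqNorm (z : GolayPt → ℤ) = 32 ∧
      sqNorm ((u - z : ↥leechLattice) : GolayPt → ℤ) = 32 ∧
      dotInt (v : GolayPt → ℤ) (z : GolayPt → ℤ) = 16 → z ≠ x →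
      sqNorm ((G • z : ↥leechLattice) : GolayPt → ℤ) = 32 ∧
      dotInt ((vA : ↥leechLattice) : GolayPt → ℤ) ((G • z : ↥leechLattice) : GolayPt → ℤ) = 24 ∧
      dotInt ((std1 : ↥leechLattice) : GolayPt → ℤ)
        ((G • z : ↥leechLattice) : GolayPt → ℤ) = 16 ∧ G • z ≠ xstd ∧
      dotInt ((xstd : ↥leechLattice) : GolayPt → ℤ) ((G • z : ↥leechLattice) : GolayPt → ℤ) =
        dotInt (x : GolayPt → ℤ) (z : GolayPt → ℤ) := by
    intro z hz hzx
    refine ⟨(co0_sqNorm G z).trans hz.1, ?_, ?_, ?_, ?_⟩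
    · rw [← hGu, co0_dot]
      exact (dot_of_sub_min u z hu hz.1).mp hz.2.1
    · rw [← hGv, co0_dot]
      exact hz.2.2
    · intro h
      apply hzx
      rw [← hGx] at h
      exact MulAction.injective G h
    · rw [← hGx, co0_dot]
  obtain ⟨a1, a2, a3, a4, a5⟩ := aux y hy hne
  obtain ⟨b1, b2, b3, b4, b5⟩ := aux y' hy' hne'
  obtain ⟨g, g1, g2, g3, g4⟩ := mcl_rank3_std (G • y) (G • y') a1 a2 a3 a4 b1 b2 b3 b4
    (by rw [a5, b5, hd])
  have g0 : g • vA = vA := by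
    rw [← std1_add_bstd, smul_add', g1, g2]
  refine ⟨G⁻¹ * (g * G), ?_, ?_, ?_, ?_⟩
  · rw [mul_smul', mul_smul', hGu, g0, ← hGu, inv_smul_smul']
  · rw [mul_smul', mul_smul', hGv, g1, ← hGv, inv_smul_smul']
  · rw [mul_smul', mul_smul', hGx, g3, ← hGx, inv_smul_smul']
  · rw [mul_smul', mul_smul', g4, inv_smul_smul']

/-! ### the sizes of the two orbits -/

theorem combo3' (a1 a2 a3 x : GolayPt → ℤ) (h1 : sqNorm a1 ≤ 48) (h2 : sqNorm a2 ≤ 48)
    (hx : sqNorm x = 32) (d3 : ℤ) :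
    dotInt (a1 + (1000 : ℤ) • a2 + (1000000 : ℤ) • a3) x = 24 + 16000 + 1000000 * d3 ↔
      dotInt a1 x = 24 ∧ dotInt a2 x = 16 ∧ dotInt a3 x = d3 := by
  rw [dot_add_left, dot_add_left, dot_smul_left, dot_smul_left]
  have hb1 := dot_sq_le a1 x
  have hb2 := dot_sq_le a2 x
  rw [hx] at hb1 hb2
  have hc1 : dotInt a1 x ^ 2 < 40 ^ 2 := by nlinarith
  have hc2 : dotInt a2 x ^ 2 < 40 ^ 2 := by nlinarith
  have hd1 := abs_lt_of_sq_lt_sq hc1 (by norm_num)
  have hd2 := abs_lt_of_sq_lt_sq hc2 (by norm_num)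
  rw [abs_lt] at hd1 hd2
  constructor
  · intro h
    refine ⟨?_, ?_, ?_⟩ <;> omega
  · rintro ⟨h, h', h''⟩
    rw [h, h', h'']
    ring

/-- the coordinates of the combination of the three standard vectors. -/
def alR3 : List ℤ := [4001, 4000001, 1, 1, 1, 1, 1, 1, 1, 1, 1, 1, 1, 1, 1, 1, 1, 1, 1, 1, 1, 1, 1,
  4004005]

theorem alR3_eq : toVec alR3 =
    toVec alVA + (1000 : ℤ) • toVec al1 + (1000000 : ℤ) • toVec alXstd := by
  funext p
  rw [Pi.add_apply, Pi.add_apply, Pi.smul_apply, Pi.smul_apply, smul_eq_mul, smul_eq_mul]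
  revert p
  decide

set_option maxRecDepth 100000 in
theorem cnt_alR3_8 : cntFast alR3 8016024 = 112 := by decide +kernel

set_option maxRecDepth 100000 in
theorem cnt_alR3_16 : cntFast alR3 16016024 = 162 := by decide +kernel

/-- the number of attached vectors with a given inner product with `x`. -/
theorem mcl_suborbit_card (u v x : ↥leechLattice) (hu : sqNorm (u : GolayPt → ℤ) = 48)
    (hv : sqNorm (v : GolayPt → ℤ) = 32 ∧ sqNorm ((u - v : ↥leechLattice) : GolayPt → ℤ) = 32)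
    (hx : sqNorm (x : GolayPt → ℤ) = 32 ∧
      sqNorm ((u - x : ↥leechLattice) : GolayPt → ℤ) = 32 ∧
      dotInt (v : GolayPt → ℤ) (x : GolayPt → ℤ) = 16) (d : ℤ) (n : ℕ)
    (hcnt : cntFast alR3 (24 + 16000 + 1000000 * d) = n) :
    {y : ↥leechLattice | (sqNorm (y : GolayPt → ℤ) = 32 ∧
        sqNorm ((u - y : ↥leechLattice) : GolayPt → ℤ) = 32 ∧
        dotInt (v : GolayPt → ℤ) (y : GolayPt → ℤ) = 16) ∧
        dotInt (x : GolayPt → ℤ) (y : GolayPt → ℤ) = d}.ncard = n := by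
  obtain ⟨g0, h1, h2, h3⟩ := mcl_triple_to_std u v x hu hv hx
  rw [ncard_smul_pred g0 _ (fun z => sqNorm (z : GolayPt → ℤ) = 32 ∧
      dotInt (toVec alR3) (z : GolayPt → ℤ) = 24 + 16000 + 1000000 * d)]
  · rw [ncard_sub_eq (fun z => sqNorm z = 32 ∧
      dotInt (toVec alR3) z = 24 + 16000 + 1000000 * d)]
    exact ncard_min_dot' alR3 rfl _ n hcnt
  · intro y
    have e1 : dotInt (toVec alVA) ((g0 • y : ↥leechLattice) : GolayPt → ℤ) =
        dotInt (u : GolayPt → ℤ) (y : GolayPt → ℤ) := by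
      rw [← vA_eq, ← h1, co0_dot]
    have e2 : dotInt (toVec al1) ((g0 • y : ↥leechLattice) : GolayPt → ℤ) =
        dotInt (v : GolayPt → ℤ) (y : GolayPt → ℤ) := by
      rw [← std1_eq, ← h2, co0_dot]
    have e3 : dotInt (toVec alXstd) ((g0 • y : ↥leechLattice) : GolayPt → ℤ) =
        dotInt (x : GolayPt → ℤ) (y : GolayPt → ℤ) := by
      rw [← xstd_eq, ← h3, co0_dot]
    have e4 := co0_sqNorm g0 y
    constructor
    · rintro ⟨⟨k1, k2, k3⟩, k4⟩
      refine ⟨e4.trans k1, ?_⟩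
      rw [alR3_eq]
      exact (combo3' (toVec alVA) (toVec al1) (toVec alXstd)
        ((g0 • y : ↥leechLattice) : GolayPt → ℤ) (by rw [← vA_eq, sqNorm_vA])
        (by rw [← std1_eq, sqNorm_std1]; norm_num) (e4.trans k1) d).mpr
        ⟨e1.trans ((dot_of_sub_min u y hu k1).mp k2), e2.trans k3, e3.trans k4⟩
    · rintro ⟨k1, k2⟩
      rw [alR3_eq] at k2
      have := (combo3' (toVec alVA) (toVec al1) (toVec alXstd)
        ((g0 • y : ↥leechLattice) : GolayPt → ℤ) (by rw [← vA_eq, sqNorm_vA])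
        (by rw [← std1_eq, sqNorm_std1]; norm_num) k1 d).mp k2
      have k1' : sqNorm (y : GolayPt → ℤ) = 32 := e4.symm.trans k1
      exact ⟨⟨k1', (dot_of_sub_min u y hu k1').mpr (e1.symm.trans this.1),
        e2.symm.trans this.2.1⟩, e3.symm.trans this.2.2⟩

end Cfsg.Agent.Helper9.Leech
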