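import Mathlib
import Cfsg.Prelude.Def_Sporadic_a
import Cfsg.Prelude.Def_SporadicCombinatorics
import Cfsg.Agent.Helper9.Leech.McL9
import Cfsg.Agent.Helper9.Golay.OctFlag4

/-!
The minimal vectors orthogonal to the first and with inner product 16 with the second of two
minimal vectors with inner product `-8`: classification in the standard position.
-/

set_option autoImplicit false

namespace Cfsg.Agent.Helper9.Leech

open Cfsg
open Cfsg.Agent.Helper9.Golay
open scoped Pointwise

theorem std2_eq_pat : ((std2 : ↥leechLattice) : GolayPt → ℤ) = pat 4 {none, some 0} {some 0} := by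
  funext p
  show Wv none (some 0) 2 (-2) p = _
  rw [Wv_apply]
  unfold pat
  revert p
  decide

/-- the classification in the standard position. -/
theorem cls2025 (z : GolayPt → ℤ) (hz : z ∈ leechLattice) (hn : sqNorm z = 32)
    (h1 : z none + z (some 0) = 0) (h2 : ∑ i, z i - 4 * z (some 0) = 16) :
    z = ((std2 : ↥leechLattice) : GolayPt → ℤ) ∨
      (∃ o ∈ octads, (none : GolayPt) ∉ o ∧ (some 0 : GolayPt) ∉ o ∧ z = pat 2 o ∅) ∨
      (∃ o ∈ octads, (none : GolayPt) ∈ o ∧ (some 0 : GolayPt) ∈ o ∧
        ∃ q ∈ o, q ≠ none ∧ q ≠ some 0 ∧ z = pat 2 o {some 0, q}) ∨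
      (∃ c ∈ octads, (some 0 : GolayPt) ∈ c ∧ (none : GolayPt) ∉ c ∧
        ∃ j ∈ c, j ≠ some 0 ∧ z = oddVec j c) := by
  classical
  have hmem : z ∈ {x : GolayPt → ℤ | x ∈ leechLattice ∧ sqNorm x = 32} := ⟨hz, hn⟩
  rw [minVec_eq, Finset.mem_coe, Finset.mem_union, Finset.mem_union, mem_famOdd, mem_famOct,
    mem_famFour] at hmem
  rcases hmem with ⟨j, c, hc, rfl⟩ | ⟨o, s, ho, hs, -, rfl⟩ | ⟨P, s, hP, hs, rfl⟩
  · -- odd vectors
    right; right; right
    rw [sum_oddVec] at h2
    rw [oddVec_apply] at h1 h2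
    rw [oddVec_apply] at h1
    unfold baseOdd at h1 h2
    have hcard := card_of_mem_supports hc
    have k : j ∈ c ∧ c.card = 8 ∧ (some 0 : GolayPt) ∈ c ∧ (none : GolayPt) ∉ c ∧
        ¬ ((some 0 : GolayPt) = j) := by
      split_ifs at h1 h2 <;> rcases hcard with h | h | h | h | h <;> rw [h] at h2 <;>
        first
        | omega
        | exact ⟨by assumption, h, by assumption, by assumption, by assumption⟩
        | (exfalso; have := Finset.card_pos.mpr ⟨_, ‹(none : GolayPt) ∈ c›⟩; omega)
        | (exfalso; have := Finset.card_pos.mpr ⟨_, ‹(some 0 : GolayPt) ∈ c›⟩; omega)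
        | (exfalso; have := Finset.card_pos.mpr ⟨_, ‹j ∈ c›⟩; omega)
        | (exfalso; subst_vars; contradiction)
    obtain ⟨k1, k2, k3, k4, k5⟩ := k
    exact ⟨c, ⟨hc, k2⟩, k3, k4, j, k1, fun h => k5 h.symm, rfl⟩
  · -- octad vectors
    right
    have h8 : o.card = 8 := ho.2
    rw [sum_pat hs, h8] at h2
    have hk : ((none : GolayPt) ∉ s ∧ (none : GolayPt) ∉ o ∧ (some 0 : GolayPt) ∉ s ∧
        (some 0 : GolayPt) ∉ o ∧ s.card = 0) ∨
        ((none : GolayPt) ∉ s ∧ (none : GolayPt) ∈ o ∧ (some 0 : GolayPt) ∈ s ∧ s.card = 2) := by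
      unfold pat at h1 h2
      push_cast at h2
      split_ifs at h1 h2 <;>
        first
        | omega
        | exact Or.inl ⟨by assumption, by assumption, by assumption, by assumption, by omega⟩
        | exact Or.inr ⟨by assumption, by assumption, by assumption, by omega⟩
    rcases hk with ⟨k1, k2, k3, k4, k5⟩ | ⟨k1, k2, k3, k5⟩
    · left
      have hse : s = ∅ := Finset.card_eq_zero.mp k5
      subst hse
      exact ⟨o, ho, k2, k4, rfl⟩
    · right; left
      obtain ⟨a, b', hab, rfl⟩ := Finset.card_eq_two.mp k5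
      rw [Finset.mem_insert, Finset.mem_singleton] at k3
      have k1' := k1
      rw [Finset.mem_insert, Finset.mem_singleton, not_or] at k1'
      have ma : a ∈ o := hs (Finset.mem_insert_self _ _)
      have mb : b' ∈ o := hs (Finset.mem_insert_of_mem (Finset.mem_singleton_self _))
      rcases k3 with h | h
      · refine ⟨o, ho, k2, h ▸ ma, b', mb,
          fun hc' => k1'.2 hc'.symm, fun hc' => hab (h.symm.trans hc'.symm), ?_⟩
        rw [h]
      · refine ⟨o, ho, k2, h ▸ mb, a, ma,
          fun hc' => k1'.1 hc'.symm, fun hc' => hab (hc'.trans h), ?_⟩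
        rw [← h, Finset.pair_comm a (some 0)]
  · -- vectors with two non-zero coordinates
    left
    rw [sum_pat hs, hP] at h2
    have hscard : s.card ≤ 2 := hP ▸ Finset.card_le_card hs
    have hk : (none : GolayPt) ∉ s ∧ (none : GolayPt) ∈ P ∧ (some 0 : GolayPt) ∈ s ∧
        s.card = 1 := by
      unfold pat at h1 h2
      push_cast at h2
      split_ifs at h1 h2 <;>
        first
        | omega
        | exact ⟨by assumption, by assumption, by assumption, by omega⟩
    obtain ⟨k1, k2, k3, k4⟩ := hk
    have hPe : P = {none, some 0} := by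
      symm
      apply Finset.eq_of_subset_of_card_le
      · intro i hi
        rw [Finset.mem_insert, Finset.mem_singleton] at hi
        rcases hi with rfl | rfl
        · exact k2
        · exact hs k3
      · rw [hP]
        decide
    obtain ⟨a, rfl⟩ := Finset.card_eq_one.mp k4
    rw [Finset.mem_singleton] at k3
    rw [hPe, ← k3, std2_eq_pat]

end Cfsg.Agent.Helper9.Leech
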