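import Mathlib
import Cfsg.Prelude.Def_Sporadic_a
import Cfsg.Prelude.Def_SporadicCombinatorics
import Cfsg.Agent.Helper9.Leech.M2025a

/-!
The stabiliser of the standard triple `(std1, bstd, std2)` on the remaining vectors.
-/

set_option autoImplicit false

namespace Cfsg.Agent.Helper9.Leech

open Cfsg
open Cfsg.Agent.Helper9.Golay
open scoped Pointwise

theorem permEl_pat (σ : Equiv.Perm GolayPt) (hσ : σ ∈ M24) (k : ℤ) (P s P' s' : Finset GolayPt)
    (hP : σ • P = P') (hs : σ • s = s') (y : ↥leechLattice)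
    (hy : (y : GolayPt → ℤ) = pat k P s) :
    ((permEl σ hσ • y : ↥leechLattice) : GolayPt → ℤ) = pat k P' s' := by
  rw [permEl_apply, hy, pat_perm, hP, hs]

theorem permEl_odd (σ : Equiv.Perm GolayPt) (hσ : σ ∈ M24) (j j' : GolayPt) (hj : σ j = j')
    (c c' : Finset GolayPt) (hσc : σ • c = c') (y : ↥leechLattice)
    (hy : (y : GolayPt → ℤ) = oddVec j c) :
    ((permEl σ hσ • y : ↥leechLattice) : GolayPt → ℤ) = oddVec j' c' := by
  classical
  rw [permEl_apply, hy]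
  funext i
  rw [oddVec_apply, oddVec_apply, ← hσc]
  have e := congrFun (baseOdd_perm j σ) i
  rw [hj] at e
  simp only [mem_smul_iff, e]

/-- the relation of lying in one orbit of the stabiliser of the standard triple. -/
def Rel2025 (y y' : ↥leechLattice) : Prop :=
  ∃ g : ↥Co0, g • std1 = std1 ∧ g • bstd = bstd ∧ g • std2 = std2 ∧ g • y = y'

theorem rel_oct0 (y y' : ↥leechLattice) (o o' : Finset GolayPt) (ho : o ∈ octads)
    (ho' : o' ∈ octads) (h1 : (none : GolayPt) ∉ o) (h2 : (some 0 : GolayPt) ∉ o)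
    (h1' : (none : GolayPt) ∉ o') (h2' : (some 0 : GolayPt) ∉ o')
    (hy : (y : GolayPt → ℤ) = pat 2 o ∅) (hy' : (y' : GolayPt → ℤ) = pat 2 o' ∅) :
    Rel2025 y y' := by
  obtain ⟨h, hh, hho, hhp, hhq⟩ := exists_flag_out2 ho h1 h2 hn0
  obtain ⟨k, hk, hko, hkp, hkq⟩ := exists_flag_out2 ho' h1' h2' hn0
  have hσ : k * h⁻¹ ∈ M24 := M24.mul_mem hk (M24.inv_mem hh)
  have hσo : (k * h⁻¹) • o = o' := by
    rw [← hho, mul_smul, inv_smul_smul, hko]
  have s1 : (k * h⁻¹) none = none := by rw [conj_apply h k _ _ hhp, hkp]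
  have s2 : (k * h⁻¹) (some 0) = some 0 := by rw [conj_apply h k _ _ hhq, hkq]
  refine ⟨permEl _ hσ, permEl_std1 _ hσ s1 s2, permEl_bstd _ hσ s2, permEl_std2 _ hσ s1 s2, ?_⟩
  apply Subtype.ext
  rw [hy']
  exact permEl_T2 _ hσ o o' hσo y hy

theorem rel_oct2 (y y' : ↥leechLattice) (o o' : Finset GolayPt) (ho : o ∈ octads)
    (ho' : o' ∈ octads) (h1 : (none : GolayPt) ∈ o) (h2 : (some 0 : GolayPt) ∈ o)
    (h1' : (none : GolayPt) ∈ o') (h2' : (some 0 : GolayPt) ∈ o') (q q' : GolayPt) (hq : q ∈ o)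
    (hq' : q' ∈ o') (hqn : q ≠ none) (hq0 : q ≠ some 0) (hqn' : q' ≠ none) (hq0' : q' ≠ some 0)
    (hy : (y : GolayPt → ℤ) = pat 2 o {some 0, q})
    (hy' : (y' : GolayPt → ℤ) = pat 2 o' {some 0, q'}) :
    Rel2025 y y' := by
  classical
  obtain ⟨h, hh, hho, hhp, hhq, hhr⟩ := exists_flag_in3 ho h1 h2 hq hn0 hqn.symm hq0.symm
  obtain ⟨k, hk, hko, hkp, hkq, hkr⟩ := exists_flag_in3 ho' h1' h2' hq' hn0 hqn'.symm hq0'.symm
  have hσ : k * h⁻¹ ∈ M24 := M24.mul_mem hk (M24.inv_mem hh)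
  have hσo : (k * h⁻¹) • o = o' := by
    rw [← hho, mul_smul, inv_smul_smul, hko]
  have s1 : (k * h⁻¹) none = none := by rw [conj_apply h k _ _ hhp, hkp]
  have s2 : (k * h⁻¹) (some 0) = some 0 := by rw [conj_apply h k _ _ hhq, hkq]
  have s3 : (k * h⁻¹) q = q' := by rw [conj_apply h k _ _ hhr, hkr]
  refine ⟨permEl _ hσ, permEl_std1 _ hσ s1 s2, permEl_bstd _ hσ s2, permEl_std2 _ hσ s1 s2, ?_⟩
  apply Subtype.ext
  rw [hy']
  apply permEl_pat _ hσ 2 o {some 0, q} o' {some 0, q'} hσo ?_ y hy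
  rw [Finset.smul_finset_insert, Finset.smul_finset_singleton, Equiv.Perm.smul_def,
    Equiv.Perm.smul_def, s2, s3]

theorem rel_odd (y y' : ↥leechLattice) (c c' : Finset GolayPt) (hc : c ∈ octads)
    (hc' : c' ∈ octads) (h1 : (some 0 : GolayPt) ∈ c) (h2 : (none : GolayPt) ∉ c)
    (h1' : (some 0 : GolayPt) ∈ c') (h2' : (none : GolayPt) ∉ c') (j j' : GolayPt) (hj : j ∈ c)
    (hj' : j' ∈ c') (hj0 : j ≠ some 0) (hj0' : j' ≠ some 0)
    (hy : (y : GolayPt → ℤ) = oddVec j c) (hy' : (y' : GolayPt → ℤ) = oddVec j' c') :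
    Rel2025 y y' := by
  obtain ⟨h, hh, hho, hhp, hhq, hhr⟩ := exists_flag_in2_out hc h1 hj hj0.symm h2
  obtain ⟨k, hk, hko, hkp, hkq, hkr⟩ := exists_flag_in2_out hc' h1' hj' hj0'.symm h2'
  have hσ : k * h⁻¹ ∈ M24 := M24.mul_mem hk (M24.inv_mem hh)
  have hσo : (k * h⁻¹) • c = c' := by
    rw [← hho, mul_smul, inv_smul_smul, hko]
  have s2 : (k * h⁻¹) (some 0) = some 0 := by rw [conj_apply h k _ _ hhp, hkp]
  have s3 : (k * h⁻¹) j = j' := by rw [conj_apply h k _ _ hhq, hkq]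
  have s1 : (k * h⁻¹) none = none := by rw [conj_apply h k _ _ hhr, hkr]
  refine ⟨permEl _ hσ, permEl_std1 _ hσ s1 s2, permEl_bstd _ hσ s2, permEl_std2 _ hσ s1 s2, ?_⟩
  apply Subtype.ext
  rw [hy']
  exact permEl_odd _ hσ j j' s3 c c' hσo y hy

/-- the stabiliser of the standard triple is transitive on the vectors with a given inner
product with the third vector. -/
theorem trans2025_std (y y' : ↥leechLattice) (hy : sqNorm (y : GolayPt → ℤ) = 32)
    (h1 : dotInt ((std1 : ↥leechLattice) : GolayPt → ℤ) (y : GolayPt → ℤ) = 0)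
    (h2 : dotInt ((bstd : ↥leechLattice) : GolayPt → ℤ) (y : GolayPt → ℤ) = 16)
    (hy' : sqNorm (y' : GolayPt → ℤ) = 32)
    (h1' : dotInt ((std1 : ↥leechLattice) : GolayPt → ℤ) (y' : GolayPt → ℤ) = 0)
    (h2' : dotInt ((bstd : ↥leechLattice) : GolayPt → ℤ) (y' : GolayPt → ℤ) = 16)
    (hd : dotInt ((std2 : ↥leechLattice) : GolayPt → ℤ) (y : GolayPt → ℤ) =
      dotInt ((std2 : ↥leechLattice) : GolayPt → ℤ) (y' : GolayPt → ℤ)) :
    Rel2025 y y' := by
  classical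
  rw [dot_std1] at h1 h1'
  rw [bstd_eq, dot_baseOdd] at h2 h2'
  rw [dot_std2, dot_std2] at hd
  have e1 : (y : GolayPt → ℤ) none + (y : GolayPt → ℤ) (some 0) = 0 := by omega
  have e1' : (y' : GolayPt → ℤ) none + (y' : GolayPt → ℤ) (some 0) = 0 := by omega
  -- the values of the inner product with the third vector
  have val : ∀ z : GolayPt → ℤ, (z = ((std2 : ↥leechLattice) : GolayPt → ℤ) →
      4 * z none - 4 * z (some 0) = 32) ∧
      ((∃ o ∈ octads, (none : GolayPt) ∉ o ∧ (some 0 : GolayPt) ∉ o ∧ z = pat 2 o ∅) →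
        4 * z none - 4 * z (some 0) = 0) ∧
      ((∃ o ∈ octads, (none : GolayPt) ∈ o ∧ (some 0 : GolayPt) ∈ o ∧
        ∃ q ∈ o, q ≠ none ∧ q ≠ some 0 ∧ z = pat 2 o {some 0, q}) →
        4 * z none - 4 * z (some 0) = 16) ∧
      ((∃ c ∈ octads, (some 0 : GolayPt) ∈ c ∧ (none : GolayPt) ∉ c ∧
        ∃ j ∈ c, j ≠ some 0 ∧ z = oddVec j c) → 4 * z none - 4 * z (some 0) = 8) := by
    intro z
    refine ⟨?_, ?_, ?_, ?_⟩
    · rintro rfl
      have a1 : ((std2 : ↥leechLattice) : GolayPt → ℤ) none = 4 := by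
        show Wv none (some 0) 2 (-2) none = 4
        rw [Wv_apply]
        decide
      have a2 : ((std2 : ↥leechLattice) : GolayPt → ℤ) (some 0) = -4 := by
        show Wv none (some 0) 2 (-2) (some 0) = -4
        rw [Wv_apply]
        decide
      rw [a1, a2]
      norm_num
    · rintro ⟨o, -, k1, k2, rfl⟩
      rw [pat_of_notMem (Finset.notMem_empty _) k1, pat_of_notMem (Finset.notMem_empty _) k2]
      norm_num
    · rintro ⟨o, -, k1, k2, q, -, k3, k4, rfl⟩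
      rw [pat_of_mem_P (by
        rw [Finset.mem_insert, Finset.mem_singleton, not_or]
        exact ⟨hn0, k3.symm⟩) k1, pat_of_mem_s (Finset.mem_insert_self _ _)]
      norm_num
    · rintro ⟨c, -, k1, k2, j, k3, k4, rfl⟩
      rw [oddVec_apply, oddVec_apply, if_neg k2, if_pos k1]
      unfold baseOdd
      rw [if_neg (fun h : (none : GolayPt) = j => k2 (h.symm ▸ k3)), if_neg k4.symm]
      norm_num
  have vy := val (y : GolayPt → ℤ)
  have vy' := val (y' : GolayPt → ℤ)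
  rcases cls2025 (y : GolayPt → ℤ) y.2 hy e1 h2 with a | a | a | a <;>
    rcases cls2025 (y' : GolayPt → ℤ) y'.2 hy' e1' h2' with a' | a' | a' | a'
  · exact ⟨1, one_smul _ _, one_smul _ _, one_smul _ _, by
      rw [one_smul]
      exact Subtype.ext (a.trans a'.symm)⟩
  · have := vy.1 a; have := vy'.2.1 a'; omega
  · have := vy.1 a; have := vy'.2.2.1 a'; omega
  · have := vy.1 a; have := vy'.2.2.2 a'; omega
  · have := vy.2.1 a; have := vy'.1 a'; omega
  · obtain ⟨o, ho, k1, k2, e⟩ := a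
    obtain ⟨o', ho', k1', k2', e'⟩ := a'
    exact rel_oct0 y y' o o' ho ho' k1 k2 k1' k2' e e'
  · have := vy.2.1 a; have := vy'.2.2.1 a'; omega
  · have := vy.2.1 a; have := vy'.2.2.2 a'; omega
  · have := vy.2.2.1 a; have := vy'.1 a'; omega
  · have := vy.2.2.1 a; have := vy'.2.1 a'; omega
  · obtain ⟨o, ho, k1, k2, q, hq, k3, k4, e⟩ := a
    obtain ⟨o', ho', k1', k2', q', hq', k3', k4', e'⟩ := a'
    exact rel_oct2 y y' o o' ho ho' k1 k2 k1' k2' q q' hq hq' k3 k4 k3' k4' e e'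
  · have := vy.2.2.1 a; have := vy'.2.2.2 a'; omega
  · have := vy.2.2.2 a; have := vy'.1 a'; omega
  · have := vy.2.2.2 a; have := vy'.2.1 a'; omega
  · have := vy.2.2.2 a; have := vy'.2.2.1 a'; omega
  · obtain ⟨c, hc, k1, k2, j, hj, k4, e⟩ := a
    obtain ⟨c', hc', k1', k2', j', hj', k4', e'⟩ := a'
    exact rel_odd y y' c c' hc hc' k1 k2 k1' k2' j j' hj hj' k4 k4' e e'

end Cfsg.Agent.Helper9.Leech
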