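import Mathlib
import Cfsg.Prelude.Def_Sporadic_a
import Cfsg.Prelude.Def_SporadicCombinatorics
import Cfsg.Agent.Helper9.Leech.M2025b

/-!
Two minimal vectors `v`, `w` with inner product `-8` and the 2025 minimal vectors orthogonal to
`v` with inner product 16 with `w`.
-/

set_option autoImplicit false

namespace Cfsg.Agent.Helper9.Leech

open Cfsg
open Cfsg.Agent.Helper9.Golay
open scoped Pointwise

/-- moving two minimal vectors with inner product `-8` to the standard pair. -/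
theorem pair8_to_bstd (v w : ↥leechLattice) (hv : sqNorm (v : GolayPt → ℤ) = 32)
    (hw : sqNorm (w : GolayPt → ℤ) = 32)
    (hd : dotInt (v : GolayPt → ℤ) (w : GolayPt → ℤ) = -8) :
    ∃ g : ↥Co0, g • v = std1 ∧ g • w = bstd := by
  obtain ⟨g0, hg1, hg2⟩ := pair8_to_std v w hv hw hd
  have hw8 : sqNorm ((wstd8 : ↥leechLattice) : GolayPt → ℤ) = 32 :=
    sqNorm_oddVec (some 1) Finset.univ
  have hd8 : dotInt ((std1 : ↥leechLattice) : GolayPt → ℤ)
      ((wstd8 : ↥leechLattice) : GolayPt → ℤ) = -8 := by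
    rw [← hg1, ← hg2, co0_dot]
    exact hd
  obtain ⟨k, hk1, hk2⟩ := trans_pair8 std1 wstd8 bstd sqNorm_std1 hw8 sqNorm_bstd hd8 dot_std1_bstd
  exact ⟨k * g0, by rw [mul_smul', hg1, hk1], by rw [mul_smul', hg2, hk2]⟩

/-- moving the two vectors and a third one to the standard triple. -/
theorem triple2025_to_std (v w x : ↥leechLattice) (hv : sqNorm (v : GolayPt → ℤ) = 32)
    (hw : sqNorm (w : GolayPt → ℤ) = 32)
    (hvw : dotInt (v : GolayPt → ℤ) (w : GolayPt → ℤ) = -8)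
    (hx : sqNorm (x : GolayPt → ℤ) = 32 ∧ dotInt (v : GolayPt → ℤ) (x : GolayPt → ℤ) = 0 ∧
      dotInt (w : GolayPt → ℤ) (x : GolayPt → ℤ) = 16) :
    ∃ g : ↥Co0, g • v = std1 ∧ g • w = bstd ∧ g • x = std2 := by
  obtain ⟨g, g1, g2, g3⟩ := mcl_frame3 v w x hv hw hx.1 hvw hx.2.1
    (by rw [dot_comm']; exact hx.2.2)
  exact ⟨g, g1, g3, g2⟩

/-- the stabiliser of the two vectors is transitive on the 2025 vectors. -/
theorem trans_2025 (v w x x' : ↥leechLattice) (hv : sqNorm (v : GolayPt → ℤ) = 32)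
    (hw : sqNorm (w : GolayPt → ℤ) = 32)
    (hvw : dotInt (v : GolayPt → ℤ) (w : GolayPt → ℤ) = -8)
    (hx : sqNorm (x : GolayPt → ℤ) = 32 ∧ dotInt (v : GolayPt → ℤ) (x : GolayPt → ℤ) = 0 ∧
      dotInt (w : GolayPt → ℤ) (x : GolayPt → ℤ) = 16)
    (hx' : sqNorm (x' : GolayPt → ℤ) = 32 ∧ dotInt (v : GolayPt → ℤ) (x' : GolayPt → ℤ) = 0 ∧
      dotInt (w : GolayPt → ℤ) (x' : GolayPt → ℤ) = 16) :
    ∃ g : ↥Co0, g • v = v ∧ g • w = w ∧ g • x = x' := by
  obtain ⟨g, g1, g2, g3⟩ := triple2025_to_std v w x hv hw hvw hx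
  obtain ⟨g', g1', g2', g3'⟩ := triple2025_to_std v w x' hv hw hvw hx'
  refine ⟨g'⁻¹ * g, ?_, ?_, ?_⟩
  · rw [mul_smul', g1, ← g1', inv_smul_smul']
  · rw [mul_smul', g2, ← g2', inv_smul_smul']
  · rw [mul_smul', g3, ← g3', inv_smul_smul']

/-- the stabiliser of the two vectors and a third one is transitive on the vectors with a given
inner product with the third one. -/
theorem rank4_2025 (v w x y y' : ↥leechLattice) (hv : sqNorm (v : GolayPt → ℤ) = 32)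
    (hw : sqNorm (w : GolayPt → ℤ) = 32)
    (hvw : dotInt (v : GolayPt → ℤ) (w : GolayPt → ℤ) = -8)
    (hx : sqNorm (x : GolayPt → ℤ) = 32 ∧ dotInt (v : GolayPt → ℤ) (x : GolayPt → ℤ) = 0 ∧
      dotInt (w : GolayPt → ℤ) (x : GolayPt → ℤ) = 16)
    (hy : sqNorm (y : GolayPt → ℤ) = 32 ∧ dotInt (v : GolayPt → ℤ) (y : GolayPt → ℤ) = 0 ∧
      dotInt (w : GolayPt → ℤ) (y : GolayPt → ℤ) = 16)
    (hy' : sqNorm (y' : GolayPt → ℤ) = 32 ∧ dotInt (v : GolayPt → ℤ) (y' : GolayPt → ℤ) = 0 ∧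
      dotInt (w : GolayPt → ℤ) (y' : GolayPt → ℤ) = 16)
    (hd : dotInt (x : GolayPt → ℤ) (y : GolayPt → ℤ) =
      dotInt (x : GolayPt → ℤ) (y' : GolayPt → ℤ)) :
    ∃ g : ↥Co0, g • v = v ∧ g • w = w ∧ g • x = x ∧ g • y = y' := by
  obtain ⟨G, G1, G2, G3⟩ := triple2025_to_std v w x hv hw hvw hx
  obtain ⟨g, g1, g2, g3, g4⟩ := trans2025_std (G • y) (G • y') ((co0_sqNorm G y).trans hy.1)
    (by rw [← G1, co0_dot]; exact hy.2.1) (by rw [← G2, co0_dot]; exact hy.2.2)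
    ((co0_sqNorm G y').trans hy'.1)
    (by rw [← G1, co0_dot]; exact hy'.2.1) (by rw [← G2, co0_dot]; exact hy'.2.2)
    (by rw [← G3, co0_dot, co0_dot]; exact hd)
  refine ⟨G⁻¹ * (g * G), ?_, ?_, ?_, ?_⟩
  · rw [mul_smul', mul_smul', G1, g1, ← G1, inv_smul_smul']
  · rw [mul_smul', mul_smul', G2, g2, ← G2, inv_smul_smul']
  · rw [mul_smul', mul_smul', G3, g3, ← G3, inv_smul_smul']
  · rw [mul_smul', mul_smul', g4, inv_smul_smul']

/-- the orbits of the stabiliser of the three vectors. -/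
theorem orbit_2025 (v w x y : ↥leechLattice) (hv : sqNorm (v : GolayPt → ℤ) = 32)
    (hw : sqNorm (w : GolayPt → ℤ) = 32)
    (hvw : dotInt (v : GolayPt → ℤ) (w : GolayPt → ℤ) = -8)
    (hx : sqNorm (x : GolayPt → ℤ) = 32 ∧ dotInt (v : GolayPt → ℤ) (x : GolayPt → ℤ) = 0 ∧
      dotInt (w : GolayPt → ℤ) (x : GolayPt → ℤ) = 16)
    (hy : sqNorm (y : GolayPt → ℤ) = 32 ∧ dotInt (v : GolayPt → ℤ) (y : GolayPt → ℤ) = 0 ∧
      dotInt (w : GolayPt → ℤ) (y : GolayPt → ℤ) = 16) :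
    MulAction.orbit ↥(MulAction.stabilizer ↥Co0 v ⊓ MulAction.stabilizer ↥Co0 w ⊓
        MulAction.stabilizer ↥Co0 x) y =
      {y' : ↥leechLattice | (sqNorm (y' : GolayPt → ℤ) = 32 ∧
        dotInt (v : GolayPt → ℤ) (y' : GolayPt → ℤ) = 0 ∧
        dotInt (w : GolayPt → ℤ) (y' : GolayPt → ℤ) = 16) ∧
        dotInt (x : GolayPt → ℤ) (y' : GolayPt → ℤ) =
          dotInt (x : GolayPt → ℤ) (y : GolayPt → ℤ)} := by
  ext y'
  rw [MulAction.mem_orbit_iff, Set.mem_ofPred_eq]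
  constructor
  · rintro ⟨⟨h, hh⟩, rfl⟩
    rw [Subgroup.mem_inf, Subgroup.mem_inf, MulAction.mem_stabilizer_iff,
      MulAction.mem_stabilizer_iff, MulAction.mem_stabilizer_iff] at hh
    obtain ⟨⟨f1, f2⟩, f3⟩ := hh
    show (sqNorm ((h • y : ↥leechLattice) : GolayPt → ℤ) = 32 ∧
      dotInt (v : GolayPt → ℤ) ((h • y : ↥leechLattice) : GolayPt → ℤ) = 0 ∧
      dotInt (w : GolayPt → ℤ) ((h • y : ↥leechLattice) : GolayPt → ℤ) = 16) ∧
      dotInt (x : GolayPt → ℤ) ((h • y : ↥leechLattice) : GolayPt → ℤ) =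
        dotInt (x : GolayPt → ℤ) (y : GolayPt → ℤ)
    refine ⟨⟨(co0_sqNorm h y).trans hy.1, ?_, ?_⟩, ?_⟩
    · nth_rewrite 1 [← f1]
      rw [co0_dot]
      exact hy.2.1
    · nth_rewrite 1 [← f2]
      rw [co0_dot]
      exact hy.2.2
    · nth_rewrite 1 [← f3]
      rw [co0_dot]
  · rintro ⟨hy', hd⟩
    obtain ⟨g, g1, g2, g3, g4⟩ := rank4_2025 v w x y y' hv hw hvw hx hy hy' hd.symm
    refine ⟨⟨g, ?_⟩, g4⟩
    rw [Subgroup.mem_inf, Subgroup.mem_inf, MulAction.mem_stabilizer_iff,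
      MulAction.mem_stabilizer_iff, MulAction.mem_stabilizer_iff]
    exact ⟨⟨g1, g2⟩, g3⟩

/-! ### the counts -/

theorem combo3g (a1 a2 a3 x : GolayPt → ℤ) (h1 : sqNorm a1 ≤ 48) (h2 : sqNorm a2 ≤ 48)
    (hx : sqNorm x = 32) (d1 d2 d3 : ℤ) (b1 : -100 ≤ d1) (b1' : d1 ≤ 100) (b2 : -100 ≤ d2)
    (b2' : d2 ≤ 100) :
    dotInt (a1 + (1000 : ℤ) • a2 + (1000000 : ℤ) • a3) x = d1 + 1000 * d2 + 1000000 * d3 ↔
      dotInt a1 x = d1 ∧ dotInt a2 x = d2 ∧ dotInt a3 x = d3 := by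
  rw [dot_add_left, dot_add_left, dot_smul_left, dot_smul_left]
  have hb1 := dot_sq_le a1 x
  have hb2 := dot_sq_le a2 x
  rw [hx] at hb1 hb2
  have hc1 : dotInt a1 x ^ 2 < 40 ^ 2 := by nlinarith
  have hc2 : dotInt a2 x ^ 2 < 40 ^ 2 := by nlinarith
  have hd1 := abs_lt_of_sq_lt_sq hc1 (by norm_num)
  have hd2 := abs_lt_of_sq_lt_sq hc2 (by norm_num)
  rw [abs_lt] at hd1 hd2
  constructor
  · intro h
    refine ⟨?_, ?_, ?_⟩ <;> omega
  · rintro ⟨h, h', h''⟩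
    rw [h, h', h'']

def al2 : List ℤ := [-4, 0, 0, 0, 0, 0, 0, 0, 0, 0, 0, 0, 0, 0, 0, 0, 0, 0, 0, 0, 0, 0, 0, 4]

theorem std2_eq : ((std2 : ↥leechLattice) : GolayPt → ℤ) = toVec al2 := by
  funext p
  show Wv none (some 0) 2 (-2) p = _
  rw [Wv_apply]
  revert p
  decide

/-- the coordinates of the combination of the two standard vectors. -/
def al2025 : List ℤ := [-2996, 1000, 1000, 1000, 1000, 1000, 1000, 1000, 1000, 1000, 1000, 1000,
  1000, 1000, 1000, 1000, 1000, 1000, 1000, 1000, 1000, 1000, 1000, 1004]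

theorem al2025_eq : toVec al2025 = toVec al1 + (1000 : ℤ) • toVec alBstd := by
  funext p
  rw [Pi.add_apply, Pi.smul_apply, smul_eq_mul]
  revert p
  decide

/-- the coordinates of the combination of the three standard vectors. -/
def alQ : List ℤ := [-4002996, 1000, 1000, 1000, 1000, 1000, 1000, 1000, 1000, 1000, 1000, 1000,
  1000, 1000, 1000, 1000, 1000, 1000, 1000, 1000, 1000, 1000, 1000, 4001004]

theorem alQ_eq : toVec alQ =
    toVec al1 + (1000 : ℤ) • toVec alBstd + (1000000 : ℤ) • toVec al2 := by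
  funext p
  rw [Pi.add_apply, Pi.add_apply, Pi.smul_apply, Pi.smul_apply, smul_eq_mul, smul_eq_mul]
  revert p
  decide

set_option maxRecDepth 100000 in
theorem cnt_2025 : cntFast al2025 16000 = 2025 := by decide +kernel

set_option maxRecDepth 100000 in
theorem cnt_alQ_0 : cntFast alQ 16000 = 330 := by decide +kernel

set_option maxRecDepth 100000 in
theorem cnt_alQ_16 : cntFast alQ 16016000 = 462 := by decide +kernel

set_option maxRecDepth 100000 in
theorem cnt_alQ_8 : cntFast alQ 8016000 = 1232 := by decide +kernel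

theorem sqNorm_al1 : sqNorm (toVec al1) ≤ 48 := by
  rw [← std1_eq, sqNorm_std1]
  norm_num

theorem sqNorm_alBstd : sqNorm (toVec alBstd) ≤ 48 := by
  rw [← bstd_eq', sqNorm_bstd]
  norm_num

theorem card_2025 (v w : ↥leechLattice) (hv : sqNorm (v : GolayPt → ℤ) = 32)
    (hw : sqNorm (w : GolayPt → ℤ) = 32)
    (hvw : dotInt (v : GolayPt → ℤ) (w : GolayPt → ℤ) = -8) :
    {x : ↥leechLattice | sqNorm (x : GolayPt → ℤ) = 32 ∧
        dotInt (v : GolayPt → ℤ) (x : GolayPt → ℤ) = 0 ∧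
        dotInt (w : GolayPt → ℤ) (x : GolayPt → ℤ) = 16}.ncard = 2025 := by
  obtain ⟨g, hg1, hg2⟩ := pair8_to_bstd v w hv hw hvw
  rw [ncard_smul2 g v w 32 0 16, hg1, hg2, std1_eq, bstd_eq']
  have e : {x : ↥leechLattice | sqNorm (x : GolayPt → ℤ) = 32 ∧
        dotInt (toVec al1) (x : GolayPt → ℤ) = 0 ∧
        dotInt (toVec alBstd) (x : GolayPt → ℤ) = 16} =
      {x : ↥leechLattice | sqNorm (x : GolayPt → ℤ) = 32 ∧
        dotInt (toVec al2025) (x : GolayPt → ℤ) = 16000} := by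
    ext x
    rw [Set.mem_ofPred_eq, Set.mem_ofPred_eq, al2025_eq]
    constructor
    · rintro ⟨h1, h2⟩
      refine ⟨h1, ?_⟩
      have := (combo_iff (toVec al1) (toVec alBstd) (x : GolayPt → ℤ) 0 16
        sqNorm_al1 h1 (by norm_num) (by norm_num)).mpr h2
      rw [this]
      norm_num
    · rintro ⟨h1, h2⟩
      refine ⟨h1, ?_⟩
      exact (combo_iff (toVec al1) (toVec alBstd) (x : GolayPt → ℤ) 0 16
        sqNorm_al1 h1 (by norm_num) (by norm_num)).mp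
        (by rw [h2]; norm_num)
  rw [e, ncard_sub_eq (fun x => sqNorm x = 32 ∧ dotInt (toVec al2025) x = 16000)]
  exact ncard_min_dot' al2025 rfl 16000 2025 cnt_2025

/-- the number of vectors with a given inner product with the third vector. -/
theorem suborbit_card_2025 (v w x : ↥leechLattice) (hv : sqNorm (v : GolayPt → ℤ) = 32)
    (hw : sqNorm (w : GolayPt → ℤ) = 32)
    (hvw : dotInt (v : GolayPt → ℤ) (w : GolayPt → ℤ) = -8)
    (hx : sqNorm (x : GolayPt → ℤ) = 32 ∧ dotInt (v : GolayPt → ℤ) (x : GolayPt → ℤ) = 0 ∧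
      dotInt (w : GolayPt → ℤ) (x : GolayPt → ℤ) = 16) (d : ℤ) (n : ℕ)
    (hcnt : cntFast alQ (0 + 1000 * 16 + 1000000 * d) = n) :
    {y : ↥leechLattice | (sqNorm (y : GolayPt → ℤ) = 32 ∧
        dotInt (v : GolayPt → ℤ) (y : GolayPt → ℤ) = 0 ∧
        dotInt (w : GolayPt → ℤ) (y : GolayPt → ℤ) = 16) ∧
        dotInt (x : GolayPt → ℤ) (y : GolayPt → ℤ) = d}.ncard = n := by
  obtain ⟨g0, h1, h2, h3⟩ := triple2025_to_std v w x hv hw hvw hx
  rw [ncard_smul_pred g0 _ (fun z => sqNorm (z : GolayPt → ℤ) = 32 ∧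
      dotInt (toVec alQ) (z : GolayPt → ℤ) = 0 + 1000 * 16 + 1000000 * d)]
  · rw [ncard_sub_eq (fun z => sqNorm z = 32 ∧
      dotInt (toVec alQ) z = 0 + 1000 * 16 + 1000000 * d)]
    exact ncard_min_dot' alQ rfl _ n hcnt
  · intro y
    have e1 : dotInt (toVec al1) ((g0 • y : ↥leechLattice) : GolayPt → ℤ) =
        dotInt (v : GolayPt → ℤ) (y : GolayPt → ℤ) := by
      rw [← std1_eq, ← h1, co0_dot]
    have e2 : dotInt (toVec alBstd) ((g0 • y : ↥leechLattice) : GolayPt → ℤ) =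
        dotInt (w : GolayPt → ℤ) (y : GolayPt → ℤ) := by
      rw [← bstd_eq', ← h2, co0_dot]
    have e3 : dotInt (toVec al2) ((g0 • y : ↥leechLattice) : GolayPt → ℤ) =
        dotInt (x : GolayPt → ℤ) (y : GolayPt → ℤ) := by
      rw [← std2_eq, ← h3, co0_dot]
    have e4 := co0_sqNorm g0 y
    constructor
    · rintro ⟨⟨k1, k2, k3⟩, k4⟩
      refine ⟨e4.trans k1, ?_⟩
      rw [alQ_eq]
      exact (combo3g (toVec al1) (toVec alBstd) (toVec al2)
        ((g0 • y : ↥leechLattice) : GolayPt → ℤ) sqNorm_al1 sqNorm_alBstd (e4.trans k1) 0 16 d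
        (by norm_num) (by norm_num) (by norm_num) (by norm_num)).mpr
        ⟨e1.trans k2, e2.trans k3, e3.trans k4⟩
    · rintro ⟨k1, k2⟩
      rw [alQ_eq] at k2
      have := (combo3g (toVec al1) (toVec alBstd) (toVec al2)
        ((g0 • y : ↥leechLattice) : GolayPt → ℤ) sqNorm_al1 sqNorm_alBstd k1 0 16 d
        (by norm_num) (by norm_num) (by norm_num) (by norm_num)).mp k2
      exact ⟨⟨e4.symm.trans k1, e1.symm.trans this.1, e2.symm.trans this.2.1⟩,
        e3.symm.trans this.2.2⟩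

end Cfsg.Agent.Helper9.Leech
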