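import Mathlib
import Cfsg.Prelude.Def_Sporadic_a
import Cfsg.Prelude.Def_SporadicCombinatorics
import Cfsg.Agent.Helper9.Leech.M2025c

/-!
The action of the stabiliser of a minimal vector `v` on the 47104 minimal vectors with inner
product `-8` with `v`: the numbers of vectors with a given inner product with one of them, and the
two small suborbits.
-/

set_option autoImplicit false

namespace Cfsg.Agent.Helper9.Leech

open Cfsg
open Cfsg.Agent.Helper9.Golay
open scoped Pointwise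

set_option maxRecDepth 100000 in
theorem cnt_co2_m16 : cntFast al2025 (-16008) = 275 := by decide +kernel

set_option maxRecDepth 100000 in
theorem cnt_co2_m8 : cntFast al2025 (-8008) = 7128 := by decide +kernel

set_option maxRecDepth 100000 in
theorem cnt_co2_0 : cntFast al2025 (-8) = 22275 := by decide +kernel

set_option maxRecDepth 100000 in
theorem cnt_co2_8 : cntFast al2025 7992 = 15400 := by decide +kernel

set_option maxRecDepth 100000 in
theorem cnt_co2_16 : cntFast al2025 15992 = 2025 := by decide +kernel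

/-- the number of vectors of the 47104 with a given inner product with one of them. -/
theorem co2_class_card (v a : ↥leechLattice) (hv : sqNorm (v : GolayPt → ℤ) = 32)
    (ha : sqNorm (a : GolayPt → ℤ) = 32)
    (hva : dotInt (v : GolayPt → ℤ) (a : GolayPt → ℤ) = -8) (d e : ℤ) (n : ℕ)
    (he : -8 + 1000 * d = e) (hcnt : cntFast al2025 e = n) :
    {y : ↥leechLattice | sqNorm (y : GolayPt → ℤ) = 32 ∧
        dotInt (v : GolayPt → ℤ) (y : GolayPt → ℤ) = -8 ∧
        dotInt (a : GolayPt → ℤ) (y : GolayPt → ℤ) = d}.ncard = n := by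
  subst he
  obtain ⟨g, hg1, hg2⟩ := pair8_to_bstd v a hv ha hva
  rw [ncard_smul2 g v a 32 (-8) d, hg1, hg2, std1_eq, bstd_eq']
  have e : {x : ↥leechLattice | sqNorm (x : GolayPt → ℤ) = 32 ∧
        dotInt (toVec al1) (x : GolayPt → ℤ) = -8 ∧
        dotInt (toVec alBstd) (x : GolayPt → ℤ) = d} =
      {x : ↥leechLattice | sqNorm (x : GolayPt → ℤ) = 32 ∧
        dotInt (toVec al2025) (x : GolayPt → ℤ) = -8 + 1000 * d} := by
    ext x
    rw [Set.mem_ofPred_eq, Set.mem_ofPred_eq, al2025_eq]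
    constructor
    · rintro ⟨h1, h2⟩
      exact ⟨h1, (combo_iff (toVec al1) (toVec alBstd) (x : GolayPt → ℤ) (-8) d
        sqNorm_al1 h1 (by norm_num) (by norm_num)).mpr h2⟩
    · rintro ⟨h1, h2⟩
      exact ⟨h1, (combo_iff (toVec al1) (toVec alBstd) (x : GolayPt → ℤ) (-8) d
        sqNorm_al1 h1 (by norm_num) (by norm_num)).mp h2⟩
  rw [e, ncard_sub_eq (fun x => sqNorm x = 32 ∧ dotInt (toVec al2025) x = -8 + 1000 * d)]
  exact ncard_min_dot' al2025 rfl _ n hcnt

/-- the number of the vectors. -/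
theorem co2_card (v : ↥leechLattice) (hv : sqNorm (v : GolayPt → ℤ) = 32) :
    {y : ↥leechLattice | sqNorm (y : GolayPt → ℤ) = 32 ∧
        dotInt (v : GolayPt → ℤ) (y : GolayPt → ℤ) = -8}.ncard = 47104 := by
  obtain ⟨g, hg⟩ := trans32 v std1 hv sqNorm_std1
  have hg' : ((g • v : ↥leechLattice) : GolayPt → ℤ) = toVec al1 := by
    rw [hg, std1_eq]
  exact ncard_min_of_smul v g al1 rfl hg' (-8) 47104 cnt_al1_b

section

variable (v a y y' : ↥leechLattice) (hv : sqNorm (v : GolayPt → ℤ) = 32)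
  (ha : sqNorm (a : GolayPt → ℤ) = 32)
  (hva : dotInt (v : GolayPt → ℤ) (a : GolayPt → ℤ) = -8)

include hv ha hva

/-- the suborbit of length 2025. -/
theorem co2_trans_16
    (hy : sqNorm (y : GolayPt → ℤ) = 32 ∧ dotInt (v : GolayPt → ℤ) (y : GolayPt → ℤ) = -8 ∧
      dotInt (a : GolayPt → ℤ) (y : GolayPt → ℤ) = 16)
    (hy' : sqNorm (y' : GolayPt → ℤ) = 32 ∧ dotInt (v : GolayPt → ℤ) (y' : GolayPt → ℤ) = -8 ∧
      dotInt (a : GolayPt → ℤ) (y' : GolayPt → ℤ) = 16) :
    ∃ g : ↥Co0, g • v = v ∧ g • a = a ∧ g • y = y' := by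
  have key : ∀ z : ↥leechLattice, (sqNorm (z : GolayPt → ℤ) = 32 ∧
      dotInt (v : GolayPt → ℤ) (z : GolayPt → ℤ) = -8 ∧
      dotInt (a : GolayPt → ℤ) (z : GolayPt → ℤ) = 16) →
      sqNorm ((a - z : ↥leechLattice) : GolayPt → ℤ) = 32 ∧
      dotInt (v : GolayPt → ℤ) ((a - z : ↥leechLattice) : GolayPt → ℤ) = 0 ∧
      dotInt (a : GolayPt → ℤ) ((a - z : ↥leechLattice) : GolayPt → ℤ) = 16 := by
    intro z hz
    have e : ((a - z : ↥leechLattice) : GolayPt → ℤ) =
        (a : GolayPt → ℤ) - (z : GolayPt → ℤ) := rfl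
    rw [e]
    refine ⟨?_, ?_, ?_⟩
    · rw [sqNorm_sub', ha, hz.1, hz.2.2]
      norm_num
    · rw [dot_sub_right, hva, hz.2.1]
      norm_num
    · rw [dot_sub_right, dot_self, ha, hz.2.2]
      norm_num
  obtain ⟨g, g1, g2, g3⟩ := trans_2025 v a (a - y) (a - y') hv ha hva (key y hy) (key y' hy')
  refine ⟨g, g1, g2, ?_⟩
  have e : y = a - (a - y) := by abel
  rw [e, smul_sub', g2, g3]
  abel

/-- the suborbit of length 275. -/
theorem co2_trans_m16
    (hy : sqNorm (y : GolayPt → ℤ) = 32 ∧ dotInt (v : GolayPt → ℤ) (y : GolayPt → ℤ) = -8 ∧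
      dotInt (a : GolayPt → ℤ) (y : GolayPt → ℤ) = -16)
    (hy' : sqNorm (y' : GolayPt → ℤ) = 32 ∧ dotInt (v : GolayPt → ℤ) (y' : GolayPt → ℤ) = -8 ∧
      dotInt (a : GolayPt → ℤ) (y' : GolayPt → ℤ) = -16) :
    ∃ g : ↥Co0, g • v = v ∧ g • a = a ∧ g • y = y' := by
  have hav : dotInt (a : GolayPt → ℤ) (v : GolayPt → ℤ) = -8 := by
    rw [dot_comm']; exact hva
  have hu : sqNorm ((v + a : ↥leechLattice) : GolayPt → ℤ) = 48 := by
    show sqNorm ((v : GolayPt → ℤ) + (a : GolayPt → ℤ)) = 48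
    rw [sqNorm_add', hv, ha, hva]
    norm_num
  have hv' : sqNorm (v : GolayPt → ℤ) = 32 ∧
      sqNorm ((v + a - v : ↥leechLattice) : GolayPt → ℤ) = 32 := by
    refine ⟨hv, ?_⟩
    have e : v + a - v = a := by abel
    rw [e]
    exact ha
  have key : ∀ z : ↥leechLattice, (sqNorm (z : GolayPt → ℤ) = 32 ∧
      dotInt (v : GolayPt → ℤ) (z : GolayPt → ℤ) = -8 ∧
      dotInt (a : GolayPt → ℤ) (z : GolayPt → ℤ) = -16) →
      sqNorm ((v + a + z : ↥leechLattice) : GolayPt → ℤ) = 32 ∧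
      sqNorm ((v + a - (v + a + z) : ↥leechLattice) : GolayPt → ℤ) = 32 ∧
      dotInt (v : GolayPt → ℤ) ((v + a + z : ↥leechLattice) : GolayPt → ℤ) = 16 := by
    intro z hz
    have e : ((v + a + z : ↥leechLattice) : GolayPt → ℤ) =
        ((v : GolayPt → ℤ) + (a : GolayPt → ℤ)) + (z : GolayPt → ℤ) := rfl
    refine ⟨?_, ?_, ?_⟩
    · rw [e, sqNorm_add', sqNorm_add', dot_add_left, hv, ha, hva, hz.1, hz.2.1, hz.2.2]
      norm_num
    · have e2 : v + a - (v + a + z) = -z := by abel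
      rw [e2]
      show sqNorm (-(z : GolayPt → ℤ)) = 32
      rw [← hz.1]
      unfold sqNorm
      apply Finset.sum_congr rfl
      intro i _
      rw [Pi.neg_apply]
      ring
    · rw [e, dot_add_right, dot_add_right, dot_self, hv, hva, hz.2.1]
      norm_num
  obtain ⟨g, g1, g2, g3⟩ := trans_275 (v + a) v (v + a + y) (v + a + y') hu hv' (key y hy)
    (key y' hy')
  have g4 : g • a = a := by
    have e : a = v + a - v := by abel
    rw [e, smul_sub', g1, g2]
  refine ⟨g, g2, g4, ?_⟩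
  have e : y = v + a + y - (v + a) := by abel
  rw [e, smul_sub', g3, g1]
  abel

end

end Cfsg.Agent.Helper9.Leech
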