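import Mathlib
import Cfsg.Prelude.Def_Sporadic_a
import Cfsg.Prelude.Def_SporadicCombinatorics
import Cfsg.Agent.Helper9.Leech.HS2
import Cfsg.Agent.Helper9.Golay.M22Simple
import Cfsg.Agent.Helper9.PrimSimple

/-!
The joint stabiliser of two vectors of sum of squares 48 with inner product `-32` is a simple group
of order 44352000.
-/

set_option autoImplicit false

namespace Cfsg.Agent.Helper9.Leech

open Cfsg
open Cfsg.Agent.Helper9.Golay
open scoped Pointwise

/-! ### the stabiliser of the standard triple -/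

theorem std2_eq_vw : std2 = vA + wA := by
  apply Subtype.ext
  show Wv none (some 0) 2 (-2) =
    ((vA : ↥leechLattice) : GolayPt → ℤ) + ((wA : ↥leechLattice) : GolayPt → ℤ)
  rw [vA_eq, wA_eq]
  funext p
  rw [Wv_apply, Pi.add_apply]
  revert p
  decide

theorem vA_apply (i : GolayPt) :
    ((vA : ↥leechLattice) : GolayPt → ℤ) i = if i = none then 5 else 1 := by
  show baseP {none} 5 i = _
  unfold baseP
  simp only [Finset.mem_singleton]

theorem wA_apply (i : GolayPt) :
    ((wA : ↥leechLattice) : GolayPt → ℤ) i = if i = some 0 then -5 else -1 := by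
  show -(baseP {some 0} 5 i) = _
  unfold baseP
  simp only [Finset.mem_singleton]
  split_ifs <;> rfl

/-- an automorphism fixing the standard triple is a coordinate permutation. -/
theorem stab3_perm (g : ↥Co0) (h1 : g • vA = vA) (h2 : g • wA = wA) (h3 : g • std1 = std1) :
    ∃ (σ : Equiv.Perm GolayPt) (hσ : σ ∈ M24), σ none = none ∧ σ (some 0) = some 0 ∧
      g = permEl σ hσ := by
  have hstd2 : g • std2 = std2 := by
    rw [std2_eq_vw, smul_add', h1, h2]
  have he : g • e8 none = e8 none := by
    rw [← std_add, smul_add', h3, hstd2]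
  obtain ⟨σ, hσ, c, hc, rfl⟩ := stab_monomial g (stab_sub g he)
  have hv : ∀ i, signCh c (fun j => ((vA : ↥leechLattice) : GolayPt → ℤ) (σ.symm j)) i =
      ((vA : ↥leechLattice) : GolayPt → ℤ) i := by
    intro i
    have := congrArg (fun z : ↥leechLattice => (z : GolayPt → ℤ) i) h1
    exact this
  have hw : ∀ i, signCh c (fun j => ((wA : ↥leechLattice) : GolayPt → ℤ) (σ.symm j)) i =
      ((wA : ↥leechLattice) : GolayPt → ℤ) i := by
    intro i
    have := congrArg (fun z : ↥leechLattice => (z : GolayPt → ℤ) i) h2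
    exact this
  have hc0 : c = ∅ := by
    rw [Finset.eq_empty_iff_forall_notMem]
    intro i hi
    have := hv i
    unfold signCh at this
    rw [if_pos hi] at this
    dsimp only at this
    rw [vA_apply, vA_apply] at this
    split_ifs at this <;> omega
  subst hc0
  have hn : σ none = none := by
    have := hv (σ none)
    unfold signCh at this
    rw [if_neg (Finset.notMem_empty _)] at this
    dsimp only at this
    rw [Equiv.symm_apply_apply, vA_apply, vA_apply, if_pos rfl] at this
    by_contra hne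
    rw [if_neg hne] at this
    omega
  have h0 : σ (some 0) = some 0 := by
    have := hw (σ (some 0))
    unfold signCh at this
    rw [if_neg (Finset.notMem_empty _)] at this
    dsimp only at this
    rw [Equiv.symm_apply_apply, wA_apply, wA_apply, if_pos rfl] at this
    by_contra hne
    rw [if_neg hne] at this
    omega
  exact ⟨σ, hσ, hn, h0, rfl⟩

theorem permEl_mul (σ τ : Equiv.Perm GolayPt) (hσ : σ ∈ M24) (hτ : τ ∈ M24) :
    permEl (σ * τ) (M24.mul_mem hσ hτ) = permEl σ hσ * permEl τ hτ := by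
  apply Subtype.ext
  apply Equiv.ext
  intro v
  apply Subtype.ext
  have e1 := permEl_apply (σ * τ) (M24.mul_mem hσ hτ) v
  have e2 := permEl_apply σ hσ (permEl τ hτ • v)
  have e3 := permEl_apply τ hτ v
  change ((permEl (σ * τ) (M24.mul_mem hσ hτ) • v : ↥leechLattice) : GolayPt → ℤ) =
    ((permEl σ hσ • (permEl τ hτ • v) : ↥leechLattice) : GolayPt → ℤ)
  rw [e1, e2, e3]
  rfl

theorem permEl_one : permEl 1 M24.one_mem = 1 := by
  apply Subtype.ext
  apply Equiv.ext
  intro v
  apply Subtype.ext
  have e1 := permEl_apply 1 M24.one_mem v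
  change ((permEl 1 M24.one_mem • v : ↥leechLattice) : GolayPt → ℤ) = (v : GolayPt → ℤ)
  rw [e1]
  rfl

theorem permEl_inj {σ τ : Equiv.Perm GolayPt} {hσ : σ ∈ M24} {hτ : τ ∈ M24}
    (h : permEl σ hσ = permEl τ hτ) : σ = τ :=
  (monoPerm_injective (hσ := hσ) (hσ' := hτ) (hc := Spor.empty_mem_supports_golayCode)
    (hc' := Spor.empty_mem_supports_golayCode) (congrArg Subtype.val h)).1

/-- the homomorphism from the two-point stabiliser. -/
def permHom : ↥(MulAction.stabilizer M24 (none : GolayPt) ⊓
    MulAction.stabilizer M24 (some 0 : GolayPt)) →* ↥Co0 where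
  toFun x := permEl x.1.1 x.1.2
  map_one' := permEl_one
  map_mul' x y := permEl_mul x.1.1 y.1.1 x.1.2 y.1.2

theorem permHom_injective : Function.Injective permHom := by
  intro x y h
  apply Subtype.ext
  apply Subtype.ext
  exact permEl_inj h

theorem permHom_range : permHom.range =
    MulAction.stabilizer ↥Co0 vA ⊓ MulAction.stabilizer ↥Co0 wA ⊓
      MulAction.stabilizer ↥Co0 std1 := by
  ext g
  constructor
  · rintro ⟨x, rfl⟩
    have hx1 : x.1.1 none = none := (Subgroup.mem_inf.mp x.2).1
    have hx2 : x.1.1 (some 0) = some 0 := (Subgroup.mem_inf.mp x.2).2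
    refine Subgroup.mem_inf.mpr ⟨Subgroup.mem_inf.mpr ⟨?_, ?_⟩, ?_⟩
    · exact permEl_vA x.1.1 x.1.2 hx1
    · exact permEl_wA x.1.1 x.1.2 hx2
    · exact permEl_std1 x.1.1 x.1.2 hx1 hx2
  · intro hg
    obtain ⟨hg12, hg3⟩ := Subgroup.mem_inf.mp hg
    obtain ⟨hg1, hg2⟩ := Subgroup.mem_inf.mp hg12
    obtain ⟨σ, hσ, hn, h0, rfl⟩ := stab3_perm g hg1 hg2 hg3
    exact ⟨⟨⟨σ, hσ⟩, Subgroup.mem_inf.mpr ⟨hn, h0⟩⟩, rfl⟩

/-- the stabiliser of the standard triple is isomorphic to the two-point stabiliser. -/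
noncomputable def stab3Equiv : ↥(MulAction.stabilizer M24 (none : GolayPt) ⊓
    MulAction.stabilizer M24 (some 0 : GolayPt)) ≃*
    ↥(MulAction.stabilizer ↥Co0 vA ⊓ MulAction.stabilizer ↥Co0 wA ⊓
      MulAction.stabilizer ↥Co0 std1) :=
  (MonoidHom.ofInjective permHom_injective).trans (MulEquiv.subgroupCongr permHom_range)

theorem stab3_simple : IsSimpleGroup ↥(MulAction.stabilizer ↥Co0 vA ⊓
    MulAction.stabilizer ↥Co0 wA ⊓ MulAction.stabilizer ↥Co0 std1) := by
  haveI := two_point_stab_simple none (some 0) (by decide)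
  exact stab3Equiv.symm.isSimpleGroup

theorem stab3_card : Nat.card ↥(MulAction.stabilizer ↥Co0 vA ⊓
    MulAction.stabilizer ↥Co0 wA ⊓ MulAction.stabilizer ↥Co0 std1) = 443520 := by
  rw [← Cfsg.Agent.S0378.result none (some 0) (by decide)]
  exact (Nat.card_congr stab3Equiv.toEquiv).symm

end Cfsg.Agent.Helper9.Leech
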