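import Mathlib
import Cfsg.Prelude.Def_Sporadic_a
import Cfsg.Prelude.Def_SporadicCombinatorics
import Cfsg.Agent.Helper9.Leech.HSSimple

/-!
The action of the joint stabiliser of two vectors of sum of squares 48 with inner product `-32` on
the 100 attached minimal vectors: it is faithful and primitive.
-/

set_option autoImplicit false

namespace Cfsg.Agent.Helper9.Leech

open Cfsg
open Cfsg.Agent.Helper9.Golay
open scoped Pointwise

/-! ### the vectors `(1, …, 1, -3, 1, …, 1)` -/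

/-- the vector `(1, …, 1, -3, 1, …, 1)`. -/
def yOdd (p : GolayPt) : ↥leechLattice :=
  ⟨oddVec p ∅, oddVec_mem Spor.empty_mem_supports_golayCode⟩

theorem yOdd_eq (p : GolayPt) : ((yOdd p : ↥leechLattice) : GolayPt → ℤ) = baseOdd p := by
  funext i
  show oddVec p ∅ i = _
  rw [oddVec_apply, if_neg (Finset.notMem_empty _)]

theorem yOdd_mem (p : GolayPt) (hp1 : p ≠ none) (hp2 : p ≠ some 0) :
    sqNorm ((yOdd p : ↥leechLattice) : GolayPt → ℤ) = 32 ∧
      dotInt ((vA : ↥leechLattice) : GolayPt → ℤ) ((yOdd p : ↥leechLattice) : GolayPt → ℤ) = 24 ∧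
      dotInt ((wA : ↥leechLattice) : GolayPt → ℤ)
        ((yOdd p : ↥leechLattice) : GolayPt → ℤ) = -24 := by
  refine ⟨sqNorm_oddVec p ∅, ?_, ?_⟩
  · rw [dot_vA, yOdd_eq, sum_baseOdd]
    unfold baseOdd
    rw [if_neg (Ne.symm hp1)]
    norm_num
  · rw [dot_wA, yOdd_eq, sum_baseOdd]
    unfold baseOdd
    rw [if_neg (Ne.symm hp2)]
    norm_num

theorem permEl_yOdd (σ : Equiv.Perm GolayPt) (hσ : σ ∈ M24) (p : GolayPt) :
    permEl σ hσ • yOdd p = yOdd (σ p) := by
  apply Subtype.ext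
  rw [permEl_apply, yOdd_eq, yOdd_eq]
  exact baseOdd_perm p σ

theorem yOdd_inj {p q : GolayPt} (h : yOdd p = yOdd q) : p = q := by
  have h1 := congrArg (fun z : ↥leechLattice => (z : GolayPt → ℤ) p) h
  simp only [yOdd_eq] at h1
  unfold baseOdd at h1
  rw [if_pos rfl] at h1
  by_contra hne
  rw [if_neg hne] at h1
  omega

/-! ### faithfulness -/

theorem hs_fix_all_std (k : ↥Co0) (hk1 : k • vA = vA) (hk2 : k • wA = wA)
    (hall : ∀ x : ↥leechLattice, sqNorm (x : GolayPt → ℤ) = 32 →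
      dotInt ((vA : ↥leechLattice) : GolayPt → ℤ) (x : GolayPt → ℤ) = 24 →
      dotInt ((wA : ↥leechLattice) : GolayPt → ℤ) (x : GolayPt → ℤ) = -24 → k • x = x) :
    k = 1 := by
  obtain ⟨σ, hσ, hn, h0, rfl⟩ := stab3_perm k hk1 hk2
    (hall std1 sqNorm_std1 dot_vA_std1 dot_wA_std1)
  have hσ1 : σ = 1 := by
    apply Equiv.ext
    intro p
    rw [Equiv.Perm.one_apply]
    by_cases hp1 : p = none
    · rw [hp1, hn]
    by_cases hp2 : p = some 0
    · rw [hp2, h0]
    obtain ⟨m1, m2, m3⟩ := yOdd_mem p hp1 hp2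
    have := hall (yOdd p) m1 m2 m3
    rw [permEl_yOdd] at this
    exact yOdd_inj this
  subst hσ1
  exact permEl_one

theorem hs_fix_all (v w : ↥leechLattice) (hv : sqNorm (v : GolayPt → ℤ) = 48)
    (hw : sqNorm (w : GolayPt → ℤ) = 48)
    (hvw : dotInt (v : GolayPt → ℤ) (w : GolayPt → ℤ) = -32)
    (k : ↥Co0) (hk1 : k • v = v) (hk2 : k • w = w)
    (hall : ∀ x : ↥leechLattice, sqNorm (x : GolayPt → ℤ) = 32 →
      dotInt (v : GolayPt → ℤ) (x : GolayPt → ℤ) = 24 →
      dotInt (w : GolayPt → ℤ) (x : GolayPt → ℤ) = -24 → k • x = x) :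
    k = 1 := by
  obtain ⟨g, hg1, hg2⟩ := trans_hs_pair v w vA wA hv hw hvw sqNorm_vA sqNorm_wA dot_vA_wA
  have key : g * k * g⁻¹ = 1 := by
    apply hs_fix_all_std
    · rw [mul_smul', mul_smul', ← hg1, inv_smul_smul', hk1]
    · rw [mul_smul', mul_smul', ← hg2, inv_smul_smul', hk2]
    · intro x h1 h2 h3
      have hx := hall (g⁻¹ • x) ((co0_sqNorm g⁻¹ x).trans h1) ?_ ?_
      · rw [mul_smul', mul_smul', hx, smul_inv_smul']
      · have := co0_dot g⁻¹ (g • v) x
        rw [inv_smul_smul', hg1] at this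
        rw [this]
        exact h2
      · have := co0_dot g⁻¹ (g • w) x
        rw [inv_smul_smul', hg2] at this
        rw [this]
        exact h3
  have : k = g⁻¹ * (g * k * g⁻¹) * g := by group
  rw [this, key]
  group

/-! ### the action -/

/-- the joint stabiliser. -/
abbrev hsGrp (v w : ↥leechLattice) : Subgroup ↥Co0 :=
  MulAction.stabilizer ↥Co0 v ⊓ MulAction.stabilizer ↥Co0 w

theorem hsGrp_smul {v w : ↥leechLattice} (k : ↥(hsGrp v w)) :
    (k : ↥Co0) • v = v ∧ (k : ↥Co0) • w = w :=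
  ⟨(Subgroup.mem_inf.mp k.2).1, (Subgroup.mem_inf.mp k.2).2⟩

/-- the attached minimal vectors. -/
def hsPts (v w : ↥leechLattice) : SubMulAction ↥(hsGrp v w) ↥leechLattice where
  carrier := {x | sqNorm (x : GolayPt → ℤ) = 32 ∧
    dotInt (v : GolayPt → ℤ) (x : GolayPt → ℤ) = 24 ∧
    dotInt (w : GolayPt → ℤ) (x : GolayPt → ℤ) = -24}
  smul_mem' := by
    intro k x hx
    obtain ⟨hk1, hk2⟩ := hsGrp_smul k
    refine ⟨(co0_sqNorm k.1 x).trans hx.1, ?_, ?_⟩
    · have := co0_dot k.1 v x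
      rw [hk1] at this
      exact this.trans hx.2.1
    · have := co0_dot k.1 w x
      rw [hk2] at this
      exact this.trans hx.2.2

theorem mem_hsPts {v w x : ↥leechLattice} : x ∈ hsPts v w ↔
    (sqNorm (x : GolayPt → ℤ) = 32 ∧ dotInt (v : GolayPt → ℤ) (x : GolayPt → ℤ) = 24 ∧
      dotInt (w : GolayPt → ℤ) (x : GolayPt → ℤ) = -24) := Iff.rfl

theorem hsPts_smul_coe {v w : ↥leechLattice} (k : ↥(hsGrp v w)) (x : ↥(hsPts v w)) :
    ((k • x : ↥(hsPts v w)) : ↥leechLattice) = (k : ↥Co0) • (x : ↥leechLattice) := rfl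

section

variable (v w : ↥leechLattice) (hv : sqNorm (v : GolayPt → ℤ) = 48)
  (hw : sqNorm (w : GolayPt → ℤ) = 48)
  (hvw : dotInt (v : GolayPt → ℤ) (w : GolayPt → ℤ) = -32)

include hv hw hvw

theorem hs_card_pts : Nat.card ↥(hsPts v w) = 100 :=
  card_100 v w hv hw hvw

theorem hs_pretrans : MulAction.IsPretransitive ↥(hsGrp v w) ↥(hsPts v w) := by
  refine ⟨fun a b => ?_⟩
  obtain ⟨g, hg1, hg2, hg3⟩ := trans_100 v w a.1 b.1 hv hw hvw a.2 b.2
  exact ⟨⟨g, Subgroup.mem_inf.mpr ⟨hg1, hg2⟩⟩, Subtype.ext hg3⟩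

theorem hs_faithful : FaithfulSMul ↥(hsGrp v w) ↥(hsPts v w) := by
  refine ⟨fun {k1 k2} h => ?_⟩
  have key : (k2⁻¹ * k1 : ↥(hsGrp v w)).1 = 1 := by
    obtain ⟨h1, h2⟩ := hsGrp_smul (k2⁻¹ * k1)
    apply hs_fix_all v w hv hw hvw _ h1 h2
    intro x hx1 hx2 hx3
    have hx : x ∈ hsPts v w := ⟨hx1, hx2, hx3⟩
    have e := h ⟨x, hx⟩
    have e' : (k2⁻¹ * k1) • (⟨x, hx⟩ : ↥(hsPts v w)) = ⟨x, hx⟩ := by
      rw [mul_smul, e, inv_smul_smul]
    exact congrArg Subtype.val e'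
  have : k2⁻¹ * k1 = 1 := Subtype.ext key
  calc k1 = k2 * (k2⁻¹ * k1) := by group
    _ = k2 := by rw [this, mul_one]

theorem hs_stab_trans (a y y' : ↥(hsPts v w)) (hy : y ≠ a) (hy' : y' ≠ a)
    (hiff : dotInt ((a : ↥leechLattice) : GolayPt → ℤ) ((y : ↥leechLattice) : GolayPt → ℤ) = 8 ↔
      dotInt ((a : ↥leechLattice) : GolayPt → ℤ) ((y' : ↥leechLattice) : GolayPt → ℤ) = 8) :
    ∃ k ∈ MulAction.stabilizer ↥(hsGrp v w) a, k • y = y' := by
  obtain ⟨g, hg1, hg2, hg3, hg4⟩ := hs_rank3 v w a.1 y.1 y'.1 hv hw hvw a.2 y.2 y'.2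
    (fun h => hy (Subtype.ext h)) (fun h => hy' (Subtype.ext h)) hiff
  refine ⟨⟨g, Subgroup.mem_inf.mpr ⟨hg1, hg2⟩⟩, ?_, Subtype.ext hg4⟩
  rw [MulAction.mem_stabilizer_iff]
  exact Subtype.ext hg3

theorem hs_preprim : MulAction.IsPreprimitive ↥(hsGrp v w) ↥(hsPts v w) := by
  have := hs_pretrans v w hv hw hvw
  have hcard := hs_card_pts v w hv hw hvw
  obtain ⟨a⟩ : Nonempty ↥(hsPts v w) := by
    by_contra h
    rw [not_nonempty_iff] at h
    rw [Nat.card_of_isEmpty] at hcard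
    omega
  have : Finite ↥(hsPts v w) := Nat.finite_of_card_ne_zero (by rw [hcard]; norm_num)
  apply MulAction.IsPreprimitive.of_isTrivialBlock_base a
  intro B haB hB
  -- the two non-trivial suborbits
  have hΓ : {y : ↥(hsPts v w) | dotInt ((a : ↥leechLattice) : GolayPt → ℤ)
      ((y : ↥leechLattice) : GolayPt → ℤ) = 8}.ncard = 22 := by
    refine Eq.trans ?_ (hs_valency v w a.1 hv hw hvw a.2)
    have e : {y : ↥(hsPts v w) | dotInt ((a : ↥leechLattice) : GolayPt → ℤ)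
        ((y : ↥leechLattice) : GolayPt → ℤ) = 8} = Subtype.val ⁻¹'
        {y : ↥leechLattice | (sqNorm (y : GolayPt → ℤ) = 32 ∧
          dotInt (v : GolayPt → ℤ) (y : GolayPt → ℤ) = 24 ∧
          dotInt (w : GolayPt → ℤ) (y : GolayPt → ℤ) = -24) ∧
          dotInt ((a : ↥leechLattice) : GolayPt → ℤ) (y : GolayPt → ℤ) = 8} := by
      ext y
      constructor
      · intro h
        exact ⟨y.2, h⟩
      · intro h
        exact h.2
    rw [e]
    apply Set.ncard_preimage_of_injective_subset_range Subtype.val_injective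
    intro y hy
    exact ⟨⟨y, hy.1⟩, rfl⟩
  have hΔ : {y : ↥(hsPts v w) | y ≠ a ∧ dotInt ((a : ↥leechLattice) : GolayPt → ℤ)
      ((y : ↥leechLattice) : GolayPt → ℤ) ≠ 8}.ncard = 77 := by
    refine Eq.trans ?_ (hs_covalency v w a.1 hv hw hvw a.2)
    have e : {y : ↥(hsPts v w) | y ≠ a ∧ dotInt ((a : ↥leechLattice) : GolayPt → ℤ)
        ((y : ↥leechLattice) : GolayPt → ℤ) ≠ 8} = Subtype.val ⁻¹'
        {y : ↥leechLattice | (sqNorm (y : GolayPt → ℤ) = 32 ∧
          dotInt (v : GolayPt → ℤ) (y : GolayPt → ℤ) = 24 ∧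
          dotInt (w : GolayPt → ℤ) (y : GolayPt → ℤ) = -24) ∧ y ≠ a.1 ∧
          dotInt ((a : ↥leechLattice) : GolayPt → ℤ) (y : GolayPt → ℤ) ≠ 8} := by
      ext y
      constructor
      · intro h
        exact ⟨y.2, fun hc => h.1 (Subtype.ext hc), h.2⟩
      · intro h
        exact ⟨fun hc => h.2.1 (congrArg Subtype.val hc), h.2.2⟩
    rw [e]
    apply Set.ncard_preimage_of_injective_subset_range Subtype.val_injective
    intro y hy
    exact ⟨⟨y, hy.1⟩, rfl⟩
  have haΓ : dotInt ((a : ↥leechLattice) : GolayPt → ℤ)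
      ((a : ↥leechLattice) : GolayPt → ℤ) ≠ 8 := by
    rw [dot_self, (mem_hsPts.mp a.2).1]
    norm_num
  -- a block containing `a` is a union of suborbits
  have hmove : ∀ y y' : ↥(hsPts v w), y ≠ a → y' ≠ a →
      (dotInt ((a : ↥leechLattice) : GolayPt → ℤ) ((y : ↥leechLattice) : GolayPt → ℤ) = 8 ↔
      dotInt ((a : ↥leechLattice) : GolayPt → ℤ) ((y' : ↥leechLattice) : GolayPt → ℤ) = 8) →
      y ∈ B → y' ∈ B := by
    intro y y' hy hy' hiff hyB
    obtain ⟨k, hk, hky⟩ := hs_stab_trans v w hv hw hvw a y y' hy hy' hiff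
    have hkB : k • B = B := MulAction.mem_stabilizer_iff.mp (hB.stabilizer_le haB hk)
    rw [← hkB, ← hky]
    exact Set.smul_mem_smul_set hyB
  have hdvd : B.ncard ∣ 100 := by
    rw [← hcard]
    exact hB.ncard_dvd_card ⟨a, haB⟩
  by_cases h1 : ∃ y ∈ B, y ≠ a ∧ dotInt ((a : ↥leechLattice) : GolayPt → ℤ)
      ((y : ↥leechLattice) : GolayPt → ℤ) = 8 <;>
  by_cases h2 : ∃ y ∈ B, y ≠ a ∧ dotInt ((a : ↥leechLattice) : GolayPt → ℤ)
      ((y : ↥leechLattice) : GolayPt → ℤ) ≠ 8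
  · -- everything
    right
    obtain ⟨y1, hy1B, hy1a, hy1⟩ := h1
    obtain ⟨y2, hy2B, hy2a, hy2⟩ := h2
    rw [Set.eq_univ_iff_forall]
    intro y
    by_cases hya : y = a
    · rw [hya]; exact haB
    by_cases hy8 : dotInt ((a : ↥leechLattice) : GolayPt → ℤ)
      ((y : ↥leechLattice) : GolayPt → ℤ) = 8
    · exact hmove y1 y hy1a hya ⟨fun _ => hy8, fun _ => hy1⟩ hy1B
    · exact hmove y2 y hy2a hya ⟨fun h => absurd h hy2, fun h => absurd h hy8⟩ hy2B
  · -- the point and the first suborbit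
    exfalso
    obtain ⟨y1, hy1B, hy1a, hy1⟩ := h1
    push Not at h2
    have hBeq : B = insert a {y : ↥(hsPts v w) | dotInt ((a : ↥leechLattice) : GolayPt → ℤ)
        ((y : ↥leechLattice) : GolayPt → ℤ) = 8} := by
      ext y
      rw [Set.mem_insert_iff, Set.mem_ofPred_eq]
      constructor
      · intro hyB
        by_cases hya : y = a
        · exact Or.inl hya
        · exact Or.inr (h2 y hyB hya)
      · rintro (hya | hy8)
        · rw [hya]; exact haB
        · have hya : y ≠ a := by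
            intro hya
            rw [hya] at hy8
            exact haΓ hy8
          exact hmove y1 y hy1a hya ⟨fun _ => hy8, fun _ => hy1⟩ hy1B
    have hnm : a ∉ {y : ↥(hsPts v w) | dotInt ((a : ↥leechLattice) : GolayPt → ℤ)
        ((y : ↥leechLattice) : GolayPt → ℤ) = 8} := fun h => haΓ h
    rw [hBeq, Set.ncard_insert_of_notMem hnm (Set.toFinite _), hΓ] at hdvd
    omega
  · -- the point and the second suborbit
    exfalso
    obtain ⟨y2, hy2B, hy2a, hy2⟩ := h2
    push Not at h1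
    have hBeq : B = insert a {y : ↥(hsPts v w) | y ≠ a ∧
        dotInt ((a : ↥leechLattice) : GolayPt → ℤ)
        ((y : ↥leechLattice) : GolayPt → ℤ) ≠ 8} := by
      ext y
      rw [Set.mem_insert_iff, Set.mem_ofPred_eq]
      constructor
      · intro hyB
        by_cases hya : y = a
        · exact Or.inl hya
        · exact Or.inr ⟨hya, h1 y hyB hya⟩
      · rintro (hya | ⟨hya, hy8⟩)
        · rw [hya]; exact haB
        · exact hmove y2 y hy2a hya ⟨fun h => absurd h hy2, fun h => absurd h hy8⟩ hy2B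
    have hnm : a ∉ {y : ↥(hsPts v w) | y ≠ a ∧
        dotInt ((a : ↥leechLattice) : GolayPt → ℤ)
        ((y : ↥leechLattice) : GolayPt → ℤ) ≠ 8} := fun h => h.1 rfl
    rw [hBeq, Set.ncard_insert_of_notMem hnm (Set.toFinite _), hΔ] at hdvd
    omega
  · -- only the point
    left
    push Not at h1 h2
    have hsub : ∀ y ∈ B, y = a := by
      intro y hyB
      by_contra hya
      by_cases hy8 : dotInt ((a : ↥leechLattice) : GolayPt → ℤ)
        ((y : ↥leechLattice) : GolayPt → ℤ) = 8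
      · exact h1 y hyB hya hy8
      · exact hy8 (h2 y hyB hya)
    intro y hy y' hy'
    rw [hsub y hy, hsub y' hy']

end

end Cfsg.Agent.Helper9.Leech
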