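import Mathlib
import Cfsg.Prelude.Def_Sporadic_a
import Cfsg.Prelude.Def_SporadicCombinatorics
import Cfsg.Agent.Helper9.Leech.Co2A
import Cfsg.Agent.Helper9.Leech.HSSimple2

/-!
The joint stabiliser of two vectors of sum of squares 48 with inner product `-32` is transitive on
the 352 minimal vectors with inner products `24` and `-16` with them; the suborbit of length 7128.
-/

set_option autoImplicit false

namespace Cfsg.Agent.Helper9.Leech

open Cfsg
open Cfsg.Agent.Helper9.Golay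
open scoped Pointwise

theorem sqNorm_neg_sub' (a b : GolayPt → ℤ) :
    sqNorm (0 - a - b) = sqNorm a + sqNorm b + 2 * dotInt a b := by
  unfold sqNorm dotInt
  rw [Finset.mul_sum, ← Finset.sum_add_distrib, ← Finset.sum_add_distrib]
  apply Finset.sum_congr rfl
  intro i _
  simp only [Pi.sub_apply, Pi.zero_apply]
  ring

theorem dot_neg_sub' (a b : GolayPt → ℤ) :
    dotInt a (0 - a - b) = -(sqNorm a) - dotInt a b := by
  unfold sqNorm dotInt
  rw [← Finset.sum_neg_distrib, ← Finset.sum_sub_distrib]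
  apply Finset.sum_congr rfl
  intro i _
  simp only [Pi.sub_apply, Pi.zero_apply]
  ring

theorem card24_mem {c : Finset GolayPt} (h : c.card = 24) (p : GolayPt) : p ∈ c := by
  rw [(Finset.card_eq_iff_eq_univ c).mp (by rw [h, card_golayPt])]
  exact Finset.mem_univ _

/-- the classification of the 352 vectors. -/
theorem clsT (z : GolayPt → ℤ) (hz : z ∈ leechLattice) (hn : sqNorm z = 32)
    (h1 : ∑ i, z i + 4 * z none = 24) (h2 : ∑ i, z i + 4 * z (some 0) = 16) :
    (∃ o ∈ octads, (none : GolayPt) ∈ o ∧ (some 0 : GolayPt) ∉ o ∧ z = pat 2 o ∅) ∨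
      (∃ c ∈ octads, (none : GolayPt) ∈ c ∧ (some 0 : GolayPt) ∉ c ∧ z = oddVec none c) := by
  classical
  have hmem : z ∈ {x : GolayPt → ℤ | x ∈ leechLattice ∧ sqNorm x = 32} := ⟨hz, hn⟩
  rw [minVec_eq, Finset.mem_coe, Finset.mem_union, Finset.mem_union, mem_famOdd, mem_famOct,
    mem_famFour] at hmem
  rcases hmem with ⟨j, c, hc, rfl⟩ | ⟨o, s, ho, hs, -, rfl⟩ | ⟨P, s, hP, hs, rfl⟩
  · -- odd vectors
    right
    rw [sum_oddVec] at h1 h2
    rw [oddVec_apply] at h1 h2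
    unfold baseOdd at h1 h2
    have hcard := card_of_mem_supports hc
    have hne : (none : GolayPt) ≠ some 0 := by decide
    have k : (none : GolayPt) ∈ c ∧ (none : GolayPt) = j ∧ (some 0 : GolayPt) ∉ c ∧
        c.card = 8 := by
      split_ifs at h1 h2 <;> rcases hcard with h | h | h | h | h <;> rw [h] at h1 h2 <;>
        first
        | omega
        | exact ⟨by assumption, by assumption, by assumption, h⟩
        | (exfalso; exact hne (‹(none : GolayPt) = j›.trans ‹(some 0 : GolayPt) = j›.symm))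
        | (exfalso; subst_vars; contradiction)
        | (exfalso; have := Finset.card_pos.mpr ⟨_, ‹(none : GolayPt) ∈ c›⟩; omega)
        | (exfalso; have := Finset.card_pos.mpr ⟨_, ‹(some 0 : GolayPt) ∈ c›⟩; omega)
        | (exfalso; have := Finset.card_pos.mpr ⟨_, ‹j ∈ c›⟩; omega)
        | (exfalso; exact ‹(none : GolayPt) ∉ c› (card24_mem h _))
        | (exfalso; exact ‹(some 0 : GolayPt) ∉ c› (card24_mem h _))
        | (exfalso; exact ‹j ∉ c› (card24_mem h _))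
    obtain ⟨k1, k2, k3, k4⟩ := k
    subst k2
    exact ⟨c, ⟨hc, k4⟩, k1, k3, rfl⟩
  · -- octad vectors
    left
    have h8 : o.card = 8 := ho.2
    have hsc : s.card ≤ 8 := h8 ▸ Finset.card_le_card hs
    rw [sum_pat hs, h8] at h1 h2
    have hk : (none : GolayPt) ∈ o ∧ (some 0 : GolayPt) ∉ o ∧ s.card = 0 := by
      unfold pat at h1 h2
      push_cast at h1 h2
      split_ifs at h1 h2 <;>
        first
        | omega
        | exact ⟨by assumption, by assumption, by omega⟩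
    obtain ⟨k1, k2, k3⟩ := hk
    have hse : s = ∅ := Finset.card_eq_zero.mp k3
    subst hse
    exact ⟨o, ho, k1, k2, rfl⟩
  · -- vectors with two non-zero coordinates
    exfalso
    rw [sum_pat hs, hP] at h1 h2
    have hscard : s.card ≤ 2 := hP ▸ Finset.card_le_card hs
    unfold pat at h1 h2
    push_cast at h1 h2
    split_ifs at h1 h2 <;> omega

/-- the vectors of the first kind form one orbit of the coordinate permutations. -/
theorem hsT_oct (z z' : ↥leechLattice) (o o' : Finset GolayPt) (ho : o ∈ octads)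
    (ho' : o' ∈ octads) (hn : (none : GolayPt) ∈ o) (h0 : (some 0 : GolayPt) ∉ o)
    (hn' : (none : GolayPt) ∈ o') (h0' : (some 0 : GolayPt) ∉ o')
    (hz : (z : GolayPt → ℤ) = pat 2 o ∅) (hz' : (z' : GolayPt → ℤ) = pat 2 o' ∅) :
    ∃ g : ↥Co0, g • vA = vA ∧ g • wA = wA ∧ g • z = z' := by
  classical
  have aux : ∀ o1 : Finset GolayPt, o1 ∈ octads → (none : GolayPt) ∈ o1 →
      (some 0 : GolayPt) ∉ o1 → ∃ h ∈ M24, h • suppM 5279 = o1 ∧ h (idxPtN 0) = none ∧
        h (idxPtN 5) = some 0 := by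
    intro o1 ho1 hn1 h01
    have hcard : (insert (some 0 : GolayPt) o1).card ≤ 22 := by
      have := Finset.card_insert_le (some 0 : GolayPt) o1
      have h8 : o1.card = 8 := ho1.2
      omega
    obtain ⟨s, -, -, hs, -⟩ := exists_two_fresh _ hcard
    rw [Finset.mem_insert, not_or] at hs
    obtain ⟨h, hh, e1, e2, e3, -⟩ := exists_flag_in_out2 ho1 hn1 h01 hs.2 (Ne.symm hs.1)
    exact ⟨h, hh, e1, e2, e3⟩
  obtain ⟨h, hh, e1, e2, e3⟩ := aux o ho hn h0
  obtain ⟨h', hh', e1', e2', e3'⟩ := aux o' ho' hn' h0'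
  have hσ : h' * h⁻¹ ∈ M24 := M24.mul_mem hh' (M24.inv_mem hh)
  have hσn : (h' * h⁻¹) none = none := by
    have e : h⁻¹ none = idxPtN 0 := by
      rw [← e2]
      simp
    rw [Equiv.Perm.mul_apply, e, e2']
  have hσ0 : (h' * h⁻¹) (some 0) = some 0 := by
    have e : h⁻¹ (some 0) = idxPtN 5 := by
      rw [← e3]
      simp
    rw [Equiv.Perm.mul_apply, e, e3']
  have hσo : (h' * h⁻¹) • o = o' := by
    rw [mul_smul, ← e1, inv_smul_smul, e1']
  refine ⟨permEl _ hσ, permEl_vA _ hσ hσn, permEl_wA _ hσ hσ0, ?_⟩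
  apply Subtype.ext
  rw [permEl_pat _ hσ 2 o ∅ o' ∅ hσo (Finset.smul_finset_empty _) z hz, hz']

/-- every one of the 352 vectors is equivalent to one of the first kind. -/
theorem hsT_reduce (z : ↥leechLattice) (hz : sqNorm (z : GolayPt → ℤ) = 32)
    (h1 : dotInt ((vA : ↥leechLattice) : GolayPt → ℤ) (z : GolayPt → ℤ) = 24)
    (h2 : dotInt ((wA : ↥leechLattice) : GolayPt → ℤ) (z : GolayPt → ℤ) = -16) :
    ∃ g : ↥Co0, g • vA = vA ∧ g • wA = wA ∧ ∃ o ∈ octads, (none : GolayPt) ∈ o ∧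
      (some 0 : GolayPt) ∉ o ∧ ((g • z : ↥leechLattice) : GolayPt → ℤ) = pat 2 o ∅ := by
  classical
  have h1' := h1
  have h2' := h2
  rw [dot_vA] at h1'
  rw [dot_wA] at h2'
  rcases clsT z z.2 hz h1' (by omega) with ⟨o, ho, hn, h0, hzo⟩ | ⟨c, hc, hn, h0, hzc⟩
  · exact ⟨1, one_smul _ _, one_smul _ _, o, ho, hn, h0, by rw [one_smul]; exact hzo⟩
  · -- a point outside `c`, other than `0`
    have hcard : (insert (some 0 : GolayPt) c).card ≤ 22 := by
      have := Finset.card_insert_le (some 0 : GolayPt) c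
      have h8 : c.card = 8 := hc.2
      omega
    obtain ⟨p, -, -, hp, -⟩ := exists_two_fresh _ hcard
    rw [Finset.mem_insert, not_or] at hp
    have hp1 : p ≠ none := fun h => hp.2 (h ▸ hn)
    obtain ⟨m1, m2, m3⟩ := yOdd_mem p hp1 hp.1
    obtain ⟨g, g1, g2, g3⟩ := hs_triple_to_std vA wA (yOdd p) sqNorm_vA sqNorm_wA dot_vA_wA
      ⟨m1, m2, m3⟩
    have hd : dotInt ((std1 : ↥leechLattice) : GolayPt → ℤ)
        ((g • z : ↥leechLattice) : GolayPt → ℤ) = 8 := by
      rw [← g3, co0_dot, yOdd_eq, dot_baseOdd, hzc, sum_oddVec, oddVec_apply, if_neg hp.2,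
        if_pos hn, hc.2]
      unfold baseOdd
      rw [if_neg hp1]
      norm_num
    have k1 : dotInt ((vA : ↥leechLattice) : GolayPt → ℤ)
        ((g • z : ↥leechLattice) : GolayPt → ℤ) = 24 := by
      nth_rewrite 1 [← g1]
      rw [co0_dot]
      exact h1
    have k2 : dotInt ((wA : ↥leechLattice) : GolayPt → ℤ)
        ((g • z : ↥leechLattice) : GolayPt → ℤ) = -16 := by
      nth_rewrite 1 [← g2]
      rw [co0_dot]
      exact h2
    have k1' := k1
    have k2' := k2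
    rw [dot_vA] at k1'
    rw [dot_wA] at k2'
    rcases clsT _ (g • z).2 ((co0_sqNorm g z).trans hz) k1' (by omega) with
      ⟨o, ho, hn', h0', hzo⟩ | ⟨c', hc', hn', h0', hzc'⟩
    · exact ⟨g, g1, g2, o, ho, hn', h0', hzo⟩
    · exfalso
      rw [dot_std1, hzc', oddVec_apply, oddVec_apply, if_pos hn', if_neg h0'] at hd
      unfold baseOdd at hd
      rw [if_pos rfl, if_neg (by decide)] at hd
      norm_num at hd

/-- the stabiliser of the standard pair is transitive on the 352 vectors. -/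
theorem hsT_std (z z' : ↥leechLattice) (hz : sqNorm (z : GolayPt → ℤ) = 32 ∧
      dotInt ((vA : ↥leechLattice) : GolayPt → ℤ) (z : GolayPt → ℤ) = 24 ∧
      dotInt ((wA : ↥leechLattice) : GolayPt → ℤ) (z : GolayPt → ℤ) = -16)
    (hz' : sqNorm (z' : GolayPt → ℤ) = 32 ∧
      dotInt ((vA : ↥leechLattice) : GolayPt → ℤ) (z' : GolayPt → ℤ) = 24 ∧
      dotInt ((wA : ↥leechLattice) : GolayPt → ℤ) (z' : GolayPt → ℤ) = -16) :
    ∃ g : ↥Co0, g • vA = vA ∧ g • wA = wA ∧ g • z = z' := by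
  obtain ⟨g, g1, g2, o, ho, hn, h0, hgo⟩ := hsT_reduce z hz.1 hz.2.1 hz.2.2
  obtain ⟨g', g1', g2', o', ho', hn', h0', hgo'⟩ := hsT_reduce z' hz'.1 hz'.2.1 hz'.2.2
  obtain ⟨k, k1, k2, k3⟩ := hsT_oct (g • z) (g' • z') o o' ho ho' hn h0 hn' h0' hgo hgo'
  refine ⟨g'⁻¹ * (k * g), ?_, ?_, ?_⟩
  · rw [mul_smul', mul_smul', g1, k1, ← g1', inv_smul_smul', g1']
  · rw [mul_smul', mul_smul', g2, k2, ← g2', inv_smul_smul', g2']
  · rw [mul_smul', mul_smul', k3, inv_smul_smul']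

/-- the joint stabiliser of two vectors of sum of squares 48 with inner product `-32` is
transitive on the 352 vectors. -/
theorem trans_352 (u w z z' : ↥leechLattice) (hu : sqNorm (u : GolayPt → ℤ) = 48)
    (hw : sqNorm (w : GolayPt → ℤ) = 48)
    (huw : dotInt (u : GolayPt → ℤ) (w : GolayPt → ℤ) = -32)
    (hz : sqNorm (z : GolayPt → ℤ) = 32 ∧ dotInt (u : GolayPt → ℤ) (z : GolayPt → ℤ) = 24 ∧
      dotInt (w : GolayPt → ℤ) (z : GolayPt → ℤ) = -16)
    (hz' : sqNorm (z' : GolayPt → ℤ) = 32 ∧ dotInt (u : GolayPt → ℤ) (z' : GolayPt → ℤ) = 24 ∧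
      dotInt (w : GolayPt → ℤ) (z' : GolayPt → ℤ) = -16) :
    ∃ g : ↥Co0, g • u = u ∧ g • w = w ∧ g • z = z' := by
  obtain ⟨G, G1, G2⟩ := trans_hs_pair u w vA wA hu hw huw sqNorm_vA sqNorm_wA dot_vA_wA
  have aux : ∀ y : ↥leechLattice, (sqNorm (y : GolayPt → ℤ) = 32 ∧
      dotInt (u : GolayPt → ℤ) (y : GolayPt → ℤ) = 24 ∧
      dotInt (w : GolayPt → ℤ) (y : GolayPt → ℤ) = -16) →
      sqNorm ((G • y : ↥leechLattice) : GolayPt → ℤ) = 32 ∧
      dotInt ((vA : ↥leechLattice) : GolayPt → ℤ) ((G • y : ↥leechLattice) : GolayPt → ℤ) = 24 ∧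
      dotInt ((wA : ↥leechLattice) : GolayPt → ℤ)
        ((G • y : ↥leechLattice) : GolayPt → ℤ) = -16 := by
    intro y hy
    refine ⟨(co0_sqNorm G y).trans hy.1, ?_, ?_⟩
    · rw [← G1, co0_dot]
      exact hy.2.1
    · rw [← G2, co0_dot]
      exact hy.2.2
  obtain ⟨k, k1, k2, k3⟩ := hsT_std (G • z) (G • z') (aux z hz) (aux z' hz')
  refine ⟨G⁻¹ * (k * G), ?_, ?_, ?_⟩
  · rw [mul_smul', mul_smul', G1, k1, ← G1, inv_smul_smul']
  · rw [mul_smul', mul_smul', G2, k2, ← G2, inv_smul_smul']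
  · rw [mul_smul', mul_smul', k3, inv_smul_smul']

/-- the suborbit of length 7128. -/
theorem co2_trans_m8 (v a y y' : ↥leechLattice) (hv : sqNorm (v : GolayPt → ℤ) = 32)
    (ha : sqNorm (a : GolayPt → ℤ) = 32)
    (hva : dotInt (v : GolayPt → ℤ) (a : GolayPt → ℤ) = -8)
    (hy : sqNorm (y : GolayPt → ℤ) = 32 ∧ dotInt (v : GolayPt → ℤ) (y : GolayPt → ℤ) = -8 ∧
      dotInt (a : GolayPt → ℤ) (y : GolayPt → ℤ) = -8)
    (hy' : sqNorm (y' : GolayPt → ℤ) = 32 ∧ dotInt (v : GolayPt → ℤ) (y' : GolayPt → ℤ) = -8 ∧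
      dotInt (a : GolayPt → ℤ) (y' : GolayPt → ℤ) = -8) :
    ∃ g : ↥Co0, g • v = v ∧ g • a = a ∧ g • y = y' := by
  have hav : dotInt (a : GolayPt → ℤ) (v : GolayPt → ℤ) = -8 := by
    rw [dot_comm']; exact hva
  have hu : sqNorm ((v + a : ↥leechLattice) : GolayPt → ℤ) = 48 := by
    show sqNorm ((v : GolayPt → ℤ) + (a : GolayPt → ℤ)) = 48
    rw [sqNorm_add', hv, ha, hva]
    norm_num
  -- the vector `w = -u - y`
  have key : ∀ z : ↥leechLattice, (sqNorm (z : GolayPt → ℤ) = 32 ∧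
      dotInt (v : GolayPt → ℤ) (z : GolayPt → ℤ) = -8 ∧
      dotInt (a : GolayPt → ℤ) (z : GolayPt → ℤ) = -8) →
      sqNorm ((0 - (v + a) - z : ↥leechLattice) : GolayPt → ℤ) = 48 ∧
      dotInt ((v + a : ↥leechLattice) : GolayPt → ℤ)
        ((0 - (v + a) - z : ↥leechLattice) : GolayPt → ℤ) = -32 ∧
      dotInt ((0 - (v + a) - z : ↥leechLattice) : GolayPt → ℤ) (v : GolayPt → ℤ) = -16 := by
    intro z hz
    have e : ((0 - (v + a) - z : ↥leechLattice) : GolayPt → ℤ) =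
        0 - ((v : GolayPt → ℤ) + (a : GolayPt → ℤ)) - (z : GolayPt → ℤ) := rfl
    have e' : ((v + a : ↥leechLattice) : GolayPt → ℤ) =
        (v : GolayPt → ℤ) + (a : GolayPt → ℤ) := rfl
    have huz : dotInt ((v : GolayPt → ℤ) + (a : GolayPt → ℤ)) (z : GolayPt → ℤ) = -16 := by
      rw [dot_add_left, hz.2.1, hz.2.2]
      norm_num
    have hzv : dotInt (z : GolayPt → ℤ) (v : GolayPt → ℤ) = -8 := by
      rw [dot_comm']; exact hz.2.1
    have e0 : ∀ t : GolayPt → ℤ, dotInt (0 : GolayPt → ℤ) t = 0 := by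
      intro t
      unfold dotInt
      simp
    rw [e', e]
    refine ⟨?_, ?_, ?_⟩
    · rw [sqNorm_neg_sub', ← e', hu, hz.1, e', huz]
      norm_num
    · rw [dot_neg_sub', ← e', hu, e', huz]
      norm_num
    · rw [dot_sub_left, dot_sub_left, e0, dot_add_left, dot_self, hv, hav, hzv]
      norm_num
  obtain ⟨k1, k2, k3⟩ := key y hy
  obtain ⟨k1', k2', k3'⟩ := key y' hy'
  obtain ⟨h, h1, h2⟩ := trans_hs_pair (v + a) (0 - (v + a) - y) (v + a) (0 - (v + a) - y')
    hu k1 k2 hu k1' k2'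
  have hv1 : sqNorm ((h • v : ↥leechLattice) : GolayPt → ℤ) = 32 ∧
      dotInt ((v + a : ↥leechLattice) : GolayPt → ℤ)
        ((h • v : ↥leechLattice) : GolayPt → ℤ) = 24 ∧
      dotInt ((0 - (v + a) - y' : ↥leechLattice) : GolayPt → ℤ)
        ((h • v : ↥leechLattice) : GolayPt → ℤ) = -16 := by
    refine ⟨(co0_sqNorm h v).trans hv, ?_, ?_⟩
    · nth_rewrite 1 [← h1]
      rw [co0_dot]
      show dotInt ((v : GolayPt → ℤ) + (a : GolayPt → ℤ)) (v : GolayPt → ℤ) = 24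
      rw [dot_add_left, dot_self, hv, hav]
      norm_num
    · rw [← h2, co0_dot]
      exact k3
  have hv2 : sqNorm (v : GolayPt → ℤ) = 32 ∧
      dotInt ((v + a : ↥leechLattice) : GolayPt → ℤ) (v : GolayPt → ℤ) = 24 ∧
      dotInt ((0 - (v + a) - y' : ↥leechLattice) : GolayPt → ℤ) (v : GolayPt → ℤ) = -16 := by
    refine ⟨hv, ?_, k3'⟩
    show dotInt ((v : GolayPt → ℤ) + (a : GolayPt → ℤ)) (v : GolayPt → ℤ) = 24
    rw [dot_add_left, dot_self, hv, hav]
    norm_num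
  obtain ⟨k, g1, g2, g3⟩ := trans_352 (v + a) (0 - (v + a) - y') (h • v) v hu k1' k2' hv1 hv2
  have e1 : (k * h) • (v + a) = v + a := by rw [mul_smul', h1, g1]
  have e2 : (k * h) • v = v := by rw [mul_smul', g3]
  refine ⟨k * h, e2, ?_, ?_⟩
  · have e : a = v + a - v := by abel
    rw [e, smul_sub', e1, e2]
  · have e : y = 0 - (v + a) - (0 - (v + a) - y) := by abel
    rw [e, smul_sub', smul_sub', smul_zero', e1, mul_smul', h2, g2]
    abel

end Cfsg.Agent.Helper9.Leech
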