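import Mathlib
import Cfsg.Prelude.Def_Sporadic_a
import Cfsg.Prelude.Def_SporadicCombinatorics
import Cfsg.Agent.Helper9.Leech.Co2B

/-!
The suborbit of length 22275 of the stabiliser of two minimal vectors with inner product `-8`,
by way of a vector of sum of squares 64.
-/

set_option autoImplicit false

namespace Cfsg.Agent.Helper9.Leech

open Cfsg
open Cfsg.Agent.Helper9.Golay
open scoped Pointwise

theorem dot_e8 (i : GolayPt) (x : GolayPt → ℤ) :
    dotInt ((e8 i : ↥leechLattice) : GolayPt → ℤ) x = 8 * x i := by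
  unfold dotInt
  simp only [e8_apply]
  rw [Finset.sum_eq_single i]
  · simp
  · intro j _ hj
    rw [if_neg hj]
    ring
  · intro h
    exact absurd (Finset.mem_univ i) h

/-- a vector of sum of squares 48 and one of sum of squares 64 with inner product 40 can be moved
to the standard pair. -/
theorem pair34_to_std (u t : ↥leechLattice) (hu : sqNorm (u : GolayPt → ℤ) = 48)
    (ht : sqNorm (t : GolayPt → ℤ) = 64)
    (hut : dotInt (t : GolayPt → ℤ) (u : GolayPt → ℤ) = 40) :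
    ∃ g : ↥Co0, g • u = vA ∧ g • t = e8 none := by
  obtain ⟨g1, hg1⟩ := trans64 t (e8 none) ht (sqNorm_e8 none)
  have hu1 : sqNorm ((g1 • u : ↥leechLattice) : GolayPt → ℤ) = 48 := (co0_sqNorm g1 u).trans hu
  have hd : dotInt ((e8 none : ↥leechLattice) : GolayPt → ℤ)
      ((g1 • u : ↥leechLattice) : GolayPt → ℤ) = 40 := by
    rw [← hg1, co0_dot]
    exact hut
  rw [dot_e8] at hd
  have h5 : ((g1 • u : ↥leechLattice) : GolayPt → ℤ) none = 5 := by omega
  obtain ⟨c, hc, h⟩ := odd48_classify (g1 • u).2 hu1 (by rw [h5]; rfl)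
  rcases h with ⟨T, hT, hx⟩ | ⟨j, hx⟩
  · exfalso
    have := congrFun hx none
    rw [h5] at this
    unfold signCh baseP at this
    split_ifs at this <;> omega
  · have h5' := congrFun hx none
    rw [h5] at h5'
    have hk : (none : GolayPt) ∉ c ∧ (none : GolayPt) ∈ ({j} : Finset GolayPt) := by
      unfold signCh baseP at h5'
      split_ifs at h5' <;>
        first
        | omega
        | exact ⟨by assumption, by assumption⟩
    obtain ⟨k1, k2⟩ := hk
    rw [Finset.mem_singleton] at k2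
    subst k2
    refine ⟨signEl c hc * g1, ?_, ?_⟩
    · rw [mul_smul']
      apply Subtype.ext
      rw [signEl_apply, hx, signCh_twice]
      rfl
    · rw [mul_smul', hg1]
      apply Subtype.ext
      rw [signEl_apply]
      funext i
      unfold signCh
      rw [e8_apply]
      by_cases hi : i ∈ c
      · have hin : i ≠ none := by
          intro h
          rw [h] at hi
          exact k1 hi
        rw [if_pos hi, if_neg hin]
        rfl
      · rw [if_neg hi]

/-- the minimal vectors with inner products 24 and 16 with the standard pair. -/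
theorem clsV (z : GolayPt → ℤ) (hz : z ∈ leechLattice) (hn : sqNorm z = 32)
    (h1 : ∑ i, z i + 4 * z none = 24) (h2 : z none = 2) :
    ∃ o ∈ octads, (none : GolayPt) ∈ o ∧ z = pat 2 o ∅ := by
  classical
  have hmem : z ∈ {x : GolayPt → ℤ | x ∈ leechLattice ∧ sqNorm x = 32} := ⟨hz, hn⟩
  rw [minVec_eq, Finset.mem_coe, Finset.mem_union, Finset.mem_union, mem_famOdd, mem_famOct,
    mem_famFour] at hmem
  rcases hmem with ⟨j, c, hc, rfl⟩ | ⟨o, s, ho, hs, -, rfl⟩ | ⟨P, s, hP, hs, rfl⟩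
  · exfalso
    rw [oddVec_apply] at h2
    unfold baseOdd at h2
    split_ifs at h2 <;> omega
  · have h8 : o.card = 8 := ho.2
    have hsc : s.card ≤ 8 := h8 ▸ Finset.card_le_card hs
    rw [sum_pat hs, h8, h2] at h1
    have hk : (none : GolayPt) ∈ o ∧ s.card = 0 := by
      unfold pat at h2
      push_cast at h1
      split_ifs at h2 <;>
        first
        | omega
        | exact ⟨by assumption, by omega⟩
    obtain ⟨k1, k2⟩ := hk
    have hse : s = ∅ := Finset.card_eq_zero.mp k2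
    subst hse
    exact ⟨o, ho, k1, rfl⟩
  · exfalso
    unfold pat at h2
    split_ifs at h2 <;> omega

/-- the stabiliser of the standard pair is transitive on these vectors. -/
theorem trans_V (z z' : ↥leechLattice) (hz : sqNorm (z : GolayPt → ℤ) = 32 ∧
      dotInt ((vA : ↥leechLattice) : GolayPt → ℤ) (z : GolayPt → ℤ) = 24 ∧
      dotInt ((e8 none : ↥leechLattice) : GolayPt → ℤ) (z : GolayPt → ℤ) = 16)
    (hz' : sqNorm (z' : GolayPt → ℤ) = 32 ∧
      dotInt ((vA : ↥leechLattice) : GolayPt → ℤ) (z' : GolayPt → ℤ) = 24 ∧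
      dotInt ((e8 none : ↥leechLattice) : GolayPt → ℤ) (z' : GolayPt → ℤ) = 16) :
    ∃ g : ↥Co0, g • vA = vA ∧ g • e8 none = e8 none ∧ g • z = z' := by
  obtain ⟨z1, z2, z3⟩ := hz
  obtain ⟨z1', z2', z3'⟩ := hz'
  rw [dot_vA] at z2 z2'
  rw [dot_e8] at z3 z3'
  obtain ⟨o, ho, hn, hzo⟩ := clsV z z.2 z1 z2 (by omega)
  obtain ⟨o', ho', hn', hzo'⟩ := clsV z' z'.2 z1' z2' (by omega)
  obtain ⟨h, hh, e1, e2⟩ := exists_flag_in ho hn
  obtain ⟨h', hh', e1', e2'⟩ := exists_flag_in ho' hn'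
  have hσ : h' * h⁻¹ ∈ M24 := M24.mul_mem hh' (M24.inv_mem hh)
  have hσn : (h' * h⁻¹) none = none := by
    have e : h⁻¹ none = idxPtN 0 := by
      rw [← e2]
      simp
    rw [Equiv.Perm.mul_apply, e, e2']
  have hσo : (h' * h⁻¹) • o = o' := by
    rw [mul_smul, ← e1, inv_smul_smul, e1']
  refine ⟨permEl _ hσ, permEl_vA _ hσ hσn, ?_, ?_⟩
  · have := monoPerm_e8 _ hσ none
    rw [hσn] at this
    exact this
  · apply Subtype.ext
    rw [permEl_pat _ hσ 2 o ∅ o' ∅ hσo (Finset.smul_finset_empty _) z hzo, hzo']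

/-- the suborbit of length 22275. -/
theorem co2_trans_0 (v a y y' : ↥leechLattice) (hv : sqNorm (v : GolayPt → ℤ) = 32)
    (ha : sqNorm (a : GolayPt → ℤ) = 32)
    (hva : dotInt (v : GolayPt → ℤ) (a : GolayPt → ℤ) = -8)
    (hy : sqNorm (y : GolayPt → ℤ) = 32 ∧ dotInt (v : GolayPt → ℤ) (y : GolayPt → ℤ) = -8 ∧
      dotInt (a : GolayPt → ℤ) (y : GolayPt → ℤ) = 0)
    (hy' : sqNorm (y' : GolayPt → ℤ) = 32 ∧ dotInt (v : GolayPt → ℤ) (y' : GolayPt → ℤ) = -8 ∧
      dotInt (a : GolayPt → ℤ) (y' : GolayPt → ℤ) = 0) :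
    ∃ g : ↥Co0, g • v = v ∧ g • a = a ∧ g • y = y' := by
  have hav : dotInt (a : GolayPt → ℤ) (v : GolayPt → ℤ) = -8 := by
    rw [dot_comm']; exact hva
  have hu : sqNorm ((v + a : ↥leechLattice) : GolayPt → ℤ) = 48 := by
    show sqNorm ((v : GolayPt → ℤ) + (a : GolayPt → ℤ)) = 48
    rw [sqNorm_add', hv, ha, hva]
    norm_num
  have key : ∀ z : ↥leechLattice, (sqNorm (z : GolayPt → ℤ) = 32 ∧
      dotInt (v : GolayPt → ℤ) (z : GolayPt → ℤ) = -8 ∧
      dotInt (a : GolayPt → ℤ) (z : GolayPt → ℤ) = 0) →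
      sqNorm ((v + a + z : ↥leechLattice) : GolayPt → ℤ) = 64 ∧
      dotInt ((v + a + z : ↥leechLattice) : GolayPt → ℤ)
        ((v + a : ↥leechLattice) : GolayPt → ℤ) = 40 ∧
      dotInt ((v + a + z : ↥leechLattice) : GolayPt → ℤ) (v : GolayPt → ℤ) = 16 := by
    intro z hz
    have e : ((v + a + z : ↥leechLattice) : GolayPt → ℤ) =
        ((v : GolayPt → ℤ) + (a : GolayPt → ℤ)) + (z : GolayPt → ℤ) := rfl
    have e' : ((v + a : ↥leechLattice) : GolayPt → ℤ) =
        (v : GolayPt → ℤ) + (a : GolayPt → ℤ) := rfl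
    have hzv : dotInt (z : GolayPt → ℤ) (v : GolayPt → ℤ) = -8 := by
      rw [dot_comm']; exact hz.2.1
    have hza : dotInt (z : GolayPt → ℤ) (a : GolayPt → ℤ) = 0 := by
      rw [dot_comm']; exact hz.2.2
    rw [e, e']
    refine ⟨?_, ?_, ?_⟩
    · rw [sqNorm_add', ← e', hu, e', hz.1, dot_add_left, hz.2.1, hz.2.2]
      norm_num
    · rw [dot_add_left, dot_self, ← e', hu, e', dot_add_right, hzv, hza]
      norm_num
    · rw [dot_add_left, dot_add_left, dot_self, hv, hav, hzv]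
      norm_num
  obtain ⟨k1, k2, k3⟩ := key y hy
  obtain ⟨k1', k2', k3'⟩ := key y' hy'
  obtain ⟨g, g1, g2⟩ := pair34_to_std (v + a) (v + a + y) hu k1 k2
  obtain ⟨g', g1', g2'⟩ := pair34_to_std (v + a) (v + a + y') hu k1' k2'
  have huv : dotInt ((v + a : ↥leechLattice) : GolayPt → ℤ) (v : GolayPt → ℤ) = 24 := by
    show dotInt ((v : GolayPt → ℤ) + (a : GolayPt → ℤ)) (v : GolayPt → ℤ) = 24
    rw [dot_add_left, dot_self, hv, hav]
    norm_num
  have hz : sqNorm ((g • v : ↥leechLattice) : GolayPt → ℤ) = 32 ∧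
      dotInt ((vA : ↥leechLattice) : GolayPt → ℤ) ((g • v : ↥leechLattice) : GolayPt → ℤ) = 24 ∧
      dotInt ((e8 none : ↥leechLattice) : GolayPt → ℤ)
        ((g • v : ↥leechLattice) : GolayPt → ℤ) = 16 := by
    refine ⟨(co0_sqNorm g v).trans hv, ?_, ?_⟩
    · rw [← g1, co0_dot]
      exact huv
    · rw [← g2, co0_dot]
      exact k3
  have hz' : sqNorm ((g' • v : ↥leechLattice) : GolayPt → ℤ) = 32 ∧
      dotInt ((vA : ↥leechLattice) : GolayPt → ℤ)
        ((g' • v : ↥leechLattice) : GolayPt → ℤ) = 24 ∧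
      dotInt ((e8 none : ↥leechLattice) : GolayPt → ℤ)
        ((g' • v : ↥leechLattice) : GolayPt → ℤ) = 16 := by
    refine ⟨(co0_sqNorm g' v).trans hv, ?_, ?_⟩
    · rw [← g1', co0_dot]
      exact huv
    · rw [← g2', co0_dot]
      exact k3'
  obtain ⟨h, h1, h2, h3⟩ := trans_V (g • v) (g' • v) hz hz'
  have e1 : (g'⁻¹ * (h * g)) • (v + a) = v + a := by
    rw [mul_smul', mul_smul', g1, h1, ← g1', inv_smul_smul']
  have e2 : (g'⁻¹ * (h * g)) • v = v := by
    rw [mul_smul', mul_smul', h3, inv_smul_smul']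
  have e3 : (g'⁻¹ * (h * g)) • (v + a + y) = v + a + y' := by
    rw [mul_smul', mul_smul', g2, h2, ← g2', inv_smul_smul']
  refine ⟨g'⁻¹ * (h * g), e2, ?_, ?_⟩
  · have e : a = v + a - v := by abel
    rw [e, smul_sub', e1, e2]
  · have e : y = v + a + y - (v + a) := by abel
    rw [e, smul_sub', e3, e1]
    abel

end Cfsg.Agent.Helper9.Leech
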