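import Mathlib
import Cfsg.Prelude.Def_Sporadic_a
import Cfsg.Prelude.Def_SporadicCombinatorics
import Cfsg.Agent.Helper9.Leech.Co2C

/-!
The suborbit of length 15400 of the stabiliser of two minimal vectors with inner product `-8`: its
vectors correspond to the pairs of attached vectors with inner product 8.
-/

set_option autoImplicit false

namespace Cfsg.Agent.Helper9.Leech

open Cfsg
open Cfsg.Agent.Helper9.Golay
open scoped Pointwise

/-! ### two counting lemmas -/

theorem card_pairs {β : Type*} [Fintype β] (R : β → β → Prop) [∀ b c, Decidable (R b c)] (k : ℕ)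
    (h : ∀ b, (Finset.univ.filter (fun c => R b c)).card = k) :
    (Finset.univ.filter (fun p : β × β => R p.1 p.2)).card = Fintype.card β * k := by
  rw [Finset.card_filter, ← Finset.univ_product_univ, Finset.sum_product]
  simp only [← Finset.card_filter, h, Finset.sum_const, Finset.card_univ, smul_eq_mul]

theorem surj_of_two_to_one {β γ : Type*} [DecidableEq β] [DecidableEq γ] (E : Finset β)
    (f : β → γ) (Y : Finset γ) (hsub : ∀ p ∈ E, f p ∈ Y)
    (hfib : ∀ p ∈ E, ∃ q, ∀ p' ∈ E, f p' = f p → p' = p ∨ p' = q)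
    (hcard : 2 * Y.card ≤ E.card) : ∀ y ∈ Y, ∃ p ∈ E, f p = y := by
  have h1 : E.card ≤ 2 * (E.image f).card := by
    apply Finset.card_le_mul_card_image
    intro y hy
    obtain ⟨p, hp, rfl⟩ := Finset.mem_image.mp hy
    obtain ⟨q, hq⟩ := hfib p hp
    have hsub' : E.filter (fun x => f x = f p) ⊆ {p, q} := by
      intro x hx
      rw [Finset.mem_filter] at hx
      rw [Finset.mem_insert, Finset.mem_singleton]
      exact hq x hx.1 hx.2
    exact (Finset.card_le_card hsub').trans Finset.card_le_two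
  have h2 : E.image f ⊆ Y := by
    intro y hy
    obtain ⟨p, hp, rfl⟩ := Finset.mem_image.mp hy
    exact hsub p hp
  have h3 : E.image f = Y := Finset.eq_of_subset_of_card_le h2 (by omega)
  intro y hy
  rw [← h3] at hy
  obtain ⟨p, hp, rfl⟩ := Finset.mem_image.mp hy
  exact ⟨p, hp, rfl⟩

/-! ### the 275 attached vectors -/

/-- the 275 attached vectors. -/
def setA (u v : ↥leechLattice) : Set ↥leechLattice :=
  {x | sqNorm (x : GolayPt → ℤ) = 32 ∧ sqNorm ((u - x : ↥leechLattice) : GolayPt → ℤ) = 32 ∧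
    dotInt (v : GolayPt → ℤ) (x : GolayPt → ℤ) = 16}

section

variable (u v : ↥leechLattice) (hu : sqNorm (u : GolayPt → ℤ) = 48)
  (hv : sqNorm (v : GolayPt → ℤ) = 32 ∧ sqNorm ((u - v : ↥leechLattice) : GolayPt → ℤ) = 32)

include hu hv

theorem setA_card8 (b : ↥leechLattice) (hb : b ∈ setA u v) :
    {y : ↥leechLattice | y ∈ setA u v ∧
      dotInt (b : GolayPt → ℤ) (y : GolayPt → ℤ) = 8}.ncard = 112 :=
  mcl_suborbit_card u v b hu hv hb 8 112
    (by rw [show (24 + 16000 + 1000000 * 8 : ℤ) = 8016024 by norm_num]; exact cnt_alR3_8)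

theorem setA_card16 (b : ↥leechLattice) (hb : b ∈ setA u v) :
    {y : ↥leechLattice | y ∈ setA u v ∧
      dotInt (b : GolayPt → ℤ) (y : GolayPt → ℤ) = 16}.ncard = 162 :=
  mcl_suborbit_card u v b hu hv hb 16 162
    (by rw [show (24 + 16000 + 1000000 * 16 : ℤ) = 16016024 by norm_num]; exact cnt_alR3_16)

/-- the inner products of two attached vectors. -/
theorem setA_dot_cases (b c : ↥leechLattice) (hb : b ∈ setA u v) (hc : c ∈ setA u v) :
    c = b ∨ dotInt (b : GolayPt → ℤ) (c : GolayPt → ℤ) = 8 ∨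
      dotInt (b : GolayPt → ℤ) (c : GolayPt → ℤ) = 16 := by
  have hA : (setA u v).ncard = 275 := card_275 u v hu hv
  have hAfin : (setA u v).Finite := Set.finite_of_ncard_ne_zero (by rw [hA]; norm_num)
  have h8 := setA_card8 u v hu hv b hb
  have h16 := setA_card16 u v hu hv b hb
  set S8 : Set ↥leechLattice := {y : ↥leechLattice | y ∈ setA u v ∧
      dotInt (b : GolayPt → ℤ) (y : GolayPt → ℤ) = 8} with hS8
  set S16 : Set ↥leechLattice := {y : ↥leechLattice | y ∈ setA u v ∧
      dotInt (b : GolayPt → ℤ) (y : GolayPt → ℤ) = 16} with hS16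
  have hsub8 : S8 ⊆ setA u v := fun y hy => hy.1
  have hsub16 : S16 ⊆ setA u v := fun y hy => hy.1
  have hd : Disjoint S8 S16 := by
    rw [Set.disjoint_left]
    intro y hy hy'
    have := hy.2
    rw [hy'.2] at this
    omega
  have hbb : dotInt (b : GolayPt → ℤ) (b : GolayPt → ℤ) = 32 := by
    rw [dot_self, hb.1]
  have hnb : b ∉ S8 ∪ S16 := by
    rintro (h | h)
    · have := h.2
      rw [hbb] at this
      omega
    · have := h.2
      rw [hbb] at this
      omega
  have hU : (insert b (S8 ∪ S16)).ncard = 275 := by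
    rw [Set.ncard_insert_of_notMem hnb ((hAfin.subset hsub8).union (hAfin.subset hsub16)),
      Set.ncard_union_eq hd (hAfin.subset hsub8) (hAfin.subset hsub16), h8, h16]
  have hUsub : insert b (S8 ∪ S16) ⊆ setA u v := by
    intro y hy
    rcases hy with rfl | hy | hy
    · exact hb
    · exact hsub8 hy
    · exact hsub16 hy
  have hUeq : insert b (S8 ∪ S16) = setA u v :=
    Set.eq_of_subset_of_ncard_le hUsub (by rw [hU, hA]) hAfin
  rw [← hUeq] at hc
  rcases hc with h | h | h
  · exact Or.inl h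
  · exact Or.inr (Or.inl h.2)
  · exact Or.inr (Or.inr h.2)

/-- a sum of two attached vectors with inner product 8 determines the two vectors. -/
theorem setA_decomp (b b' c c' : ↥leechLattice) (hb : b ∈ setA u v) (hb' : b' ∈ setA u v)
    (hc : c ∈ setA u v) (hc' : c' ∈ setA u v)
    (hcc : dotInt (c : GolayPt → ℤ) (c' : GolayPt → ℤ) = 8) (hsum : b + b' = c + c') :
    (c = b ∧ c' = b') ∨ (c = b' ∧ c' = b) := by
  have e1 : dotInt (c : GolayPt → ℤ) ((b + b' : ↥leechLattice) : GolayPt → ℤ) = 40 := by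
    rw [hsum]
    show dotInt (c : GolayPt → ℤ) ((c : GolayPt → ℤ) + (c' : GolayPt → ℤ)) = 40
    rw [dot_add_right, dot_self, hc.1, hcc]
    norm_num
  have e2 : dotInt (c : GolayPt → ℤ) ((b + b' : ↥leechLattice) : GolayPt → ℤ) =
      dotInt (b : GolayPt → ℤ) (c : GolayPt → ℤ) + dotInt (b' : GolayPt → ℤ) (c : GolayPt → ℤ) := by
    show dotInt (c : GolayPt → ℤ) ((b : GolayPt → ℤ) + (b' : GolayPt → ℤ)) = _
    rw [dot_add_right, dot_comm' (c : GolayPt → ℤ) (b : GolayPt → ℤ),
      dot_comm' (c : GolayPt → ℤ) (b' : GolayPt → ℤ)]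
  rw [e2] at e1
  rcases setA_dot_cases u v hu hv b c hb hc with h | h | h
  · left
    refine ⟨h, ?_⟩
    rw [h] at hsum
    exact (add_left_cancel hsum).symm
  · rcases setA_dot_cases u v hu hv b' c hb' hc with h' | h' | h'
    · right
      refine ⟨h', ?_⟩
      rw [h', add_comm] at hsum
      exact (add_left_cancel hsum).symm
    · omega
    · omega
  · rcases setA_dot_cases u v hu hv b' c hb' hc with h' | h' | h'
    · right
      refine ⟨h', ?_⟩
      rw [h', add_comm] at hsum
      exact (add_left_cancel hsum).symm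
    · omega
    · omega

end

end Cfsg.Agent.Helper9.Leech
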