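import Mathlib
import Cfsg.Prelude.Def_Sporadic_a
import Cfsg.Prelude.Def_SporadicCombinatorics
import Cfsg.Agent.Helper9.Leech.Co2D

/-!
The suborbit of length 15400 of the stabiliser of two minimal vectors with inner product `-8`.
-/

set_option autoImplicit false

namespace Cfsg.Agent.Helper9.Leech

open Cfsg
open Cfsg.Agent.Helper9.Golay
open scoped Pointwise

theorem sqNorm_sub_sub (x y z : GolayPt → ℤ) :
    sqNorm (x - y - z) = sqNorm x + sqNorm y + sqNorm z - 2 * dotInt x y - 2 * dotInt x z +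
      2 * dotInt y z := by
  rw [sqNorm_sub', sqNorm_sub', dot_sub_left]
  ring

theorem dot_sub_sub (w x y z : GolayPt → ℤ) :
    dotInt w (x - y - z) = dotInt w x - dotInt w y - dotInt w z := by
  rw [dot_sub_right, dot_sub_right]

section

variable (v a : ↥leechLattice) (hv : sqNorm (v : GolayPt → ℤ) = 32)
  (ha : sqNorm (a : GolayPt → ℤ) = 32)
  (hva : dotInt (v : GolayPt → ℤ) (a : GolayPt → ℤ) = -8)

include hv ha hva

theorem sqNorm_va : sqNorm ((v + a : ↥leechLattice) : GolayPt → ℤ) = 48 := by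
  show sqNorm ((v : GolayPt → ℤ) + (a : GolayPt → ℤ)) = 48
  rw [sqNorm_add', hv, ha, hva]
  norm_num

theorem hv_va : sqNorm (v : GolayPt → ℤ) = 32 ∧
    sqNorm ((v + a - v : ↥leechLattice) : GolayPt → ℤ) = 32 := by
  refine ⟨hv, ?_⟩
  have e : v + a - v = a := by abel
  rw [e]
  exact ha

/-- a pair of attached vectors with inner product 8 gives a vector of the suborbit. -/
theorem edge_image (b c : ↥leechLattice) (hb : b ∈ setA (v + a) v) (hc : c ∈ setA (v + a) v)
    (hbc : dotInt (b : GolayPt → ℤ) (c : GolayPt → ℤ) = 8) :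
    sqNorm ((v + a - b - c : ↥leechLattice) : GolayPt → ℤ) = 32 ∧
      dotInt (v : GolayPt → ℤ) ((v + a - b - c : ↥leechLattice) : GolayPt → ℤ) = -8 ∧
      dotInt (a : GolayPt → ℤ) ((v + a - b - c : ↥leechLattice) : GolayPt → ℤ) = 8 := by
  have hu := sqNorm_va v a hv ha hva
  have hub := (dot_of_sub_min (v + a) b hu hb.1).mp hb.2.1
  have huc := (dot_of_sub_min (v + a) c hu hc.1).mp hc.2.1
  have hav : dotInt (a : GolayPt → ℤ) (v : GolayPt → ℤ) = -8 := by
    rw [dot_comm']; exact hva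
  have e : ((v + a - b - c : ↥leechLattice) : GolayPt → ℤ) =
      ((v + a : ↥leechLattice) : GolayPt → ℤ) - (b : GolayPt → ℤ) - (c : GolayPt → ℤ) := rfl
  have e' : ((v + a : ↥leechLattice) : GolayPt → ℤ) =
      (v : GolayPt → ℤ) + (a : GolayPt → ℤ) := rfl
  have hvu : dotInt (v : GolayPt → ℤ) ((v + a : ↥leechLattice) : GolayPt → ℤ) = 24 := by
    rw [e', dot_add_right, dot_self, hv, hva]
    norm_num
  have hau : dotInt (a : GolayPt → ℤ) ((v + a : ↥leechLattice) : GolayPt → ℤ) = 24 := by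
    rw [e', dot_add_right, dot_self, ha, hav]
    norm_num
  have hab : dotInt (a : GolayPt → ℤ) (b : GolayPt → ℤ) = 8 := by
    have h := hub
    rw [e', dot_add_left, hb.2.2] at h
    omega
  have hac : dotInt (a : GolayPt → ℤ) (c : GolayPt → ℤ) = 8 := by
    have h := huc
    rw [e', dot_add_left, hc.2.2] at h
    omega
  rw [e]
  refine ⟨?_, ?_, ?_⟩
  · rw [sqNorm_sub_sub, hu, hb.1, hc.1, hub, huc, hbc]
    norm_num
  · rw [dot_sub_sub, hvu, hb.2.2, hc.2.2]
    norm_num
  · rw [dot_sub_sub, hau, hab, hac]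
    norm_num

/-- every vector of the suborbit comes from a pair of attached vectors with inner product 8. -/
theorem edge_surj (y : ↥leechLattice)
    (hy : sqNorm (y : GolayPt → ℤ) = 32 ∧ dotInt (v : GolayPt → ℤ) (y : GolayPt → ℤ) = -8 ∧
      dotInt (a : GolayPt → ℤ) (y : GolayPt → ℤ) = 8) :
    ∃ b c : ↥leechLattice, b ∈ setA (v + a) v ∧ c ∈ setA (v + a) v ∧
      dotInt (b : GolayPt → ℤ) (c : GolayPt → ℤ) = 8 ∧ v + a - b - c = y := by
  classical
  have hu := sqNorm_va v a hv ha hva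
  have hv' := hv_va v a hv ha hva
  have hA : (setA (v + a) v).ncard = 275 := card_275 (v + a) v hu hv'
  have hAfin : (setA (v + a) v).Finite := Set.finite_of_ncard_ne_zero (by rw [hA]; norm_num)
  have hY := co2_class_card v a hv ha hva 8 7992 15400 (by norm_num) cnt_co2_8
  have hYfin : {y : ↥leechLattice | sqNorm (y : GolayPt → ℤ) = 32 ∧
      dotInt (v : GolayPt → ℤ) (y : GolayPt → ℤ) = -8 ∧
      dotInt (a : GolayPt → ℤ) (y : GolayPt → ℤ) = 8}.Finite :=
    Set.finite_of_ncard_ne_zero (by rw [hY]; norm_num)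
  haveI : Fintype ↥(setA (v + a) v) := hAfin.fintype
  have hcardA : Fintype.card ↥(setA (v + a) v) = 275 := by
    rw [← Nat.card_eq_fintype_card]
    exact hA
  have hk : ∀ b : ↥(setA (v + a) v), (Finset.univ.filter (fun c : ↥(setA (v + a) v) =>
      dotInt ((b : ↥leechLattice) : GolayPt → ℤ) ((c : ↥leechLattice) : GolayPt → ℤ) = 8)).card =
      112 := by
    intro b
    rw [← setA_card8 (v + a) v hu hv' b.1 b.2, ← Set.ncard_coe_finset]
    have e : (↑(Finset.univ.filter (fun c : ↥(setA (v + a) v) =>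
        dotInt ((b : ↥leechLattice) : GolayPt → ℤ) ((c : ↥leechLattice) : GolayPt → ℤ) = 8)) :
        Set ↥(setA (v + a) v)) = Subtype.val ⁻¹' {y : ↥leechLattice | y ∈ setA (v + a) v ∧
        dotInt ((b : ↥leechLattice) : GolayPt → ℤ) (y : GolayPt → ℤ) = 8} := by
      ext c
      simp only [Finset.coe_filter, Finset.mem_univ, true_and, Set.mem_ofPred_eq,
        Set.mem_preimage]
      constructor
      · intro h
        exact ⟨c.2, h⟩
      · intro h
        exact h.2
    rw [e]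
    apply Set.ncard_preimage_of_injective_subset_range Subtype.val_injective
    intro z hz
    exact ⟨⟨z, hz.1⟩, rfl⟩
  have hE := card_pairs (fun b c : ↥(setA (v + a) v) =>
    dotInt ((b : ↥leechLattice) : GolayPt → ℤ) ((c : ↥leechLattice) : GolayPt → ℤ) = 8) 112 hk
  rw [hcardA] at hE
  have key := surj_of_two_to_one
    (Finset.univ.filter (fun p : ↥(setA (v + a) v) × ↥(setA (v + a) v) =>
      dotInt ((p.1 : ↥leechLattice) : GolayPt → ℤ) ((p.2 : ↥leechLattice) : GolayPt → ℤ) = 8))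
    (fun p => v + a - (p.1 : ↥leechLattice) - (p.2 : ↥leechLattice)) hYfin.toFinset
    (by
      intro p hp
      rw [Finset.mem_filter] at hp
      rw [Set.Finite.mem_toFinset]
      exact edge_image v a hv ha hva p.1.1 p.2.1 p.1.2 p.2.2 hp.2)
    (by
      intro p hp
      refine ⟨(p.2, p.1), ?_⟩
      intro p' hp' hf
      rw [Finset.mem_filter] at hp hp'
      have hsum : (p.1 : ↥leechLattice) + (p.2 : ↥leechLattice) =
          (p'.1 : ↥leechLattice) + (p'.2 : ↥leechLattice) := by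
        have h1 : v + a - (p'.1 : ↥leechLattice) - (p'.2 : ↥leechLattice) =
            v + a - (p.1 : ↥leechLattice) - (p.2 : ↥leechLattice) := hf
        have h2 : (p.1 : ↥leechLattice) + (p.2 : ↥leechLattice) =
            v + a - (v + a - (p.1 : ↥leechLattice) - (p.2 : ↥leechLattice)) := by abel
        rw [h2, ← h1]
        abel
      rcases setA_decomp (v + a) v hu hv' p.1.1 p.2.1 p'.1.1 p'.2.1 p.1.2 p.2.2 p'.1.2 p'.2.2
        hp'.2 hsum with ⟨h1, h2⟩ | ⟨h1, h2⟩
      · left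
        exact Prod.ext (Subtype.ext h1) (Subtype.ext h2)
      · right
        exact Prod.ext (Subtype.ext h1) (Subtype.ext h2))
    (by
      rw [← Set.ncard_eq_toFinset_card _ hYfin, hY, hE])
  obtain ⟨p, hp, hpy⟩ := key y (by rw [Set.Finite.mem_toFinset]; exact hy)
  rw [Finset.mem_filter] at hp
  exact ⟨p.1.1, p.2.1, p.1.2, p.2.2, hp.2, hpy⟩

/-- the attached vectors are permuted by the stabiliser. -/
theorem setA_smul (g : ↥Co0) (hg1 : g • (v + a) = v + a) (hg2 : g • v = v) (b : ↥leechLattice)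
    (hb : b ∈ setA (v + a) v) : g • b ∈ setA (v + a) v := by
  refine ⟨(co0_sqNorm g b).trans hb.1, ?_, ?_⟩
  · have e : v + a - g • b = g • (v + a - b) := by
      rw [smul_sub', hg1]
    rw [e]
    exact (co0_sqNorm g _).trans hb.2.1
  · have := co0_dot g v b
    rw [hg2] at this
    exact this.trans hb.2.2

/-- the suborbit of length 15400. -/
theorem co2_trans_8 (y y' : ↥leechLattice)
    (hy : sqNorm (y : GolayPt → ℤ) = 32 ∧ dotInt (v : GolayPt → ℤ) (y : GolayPt → ℤ) = -8 ∧
      dotInt (a : GolayPt → ℤ) (y : GolayPt → ℤ) = 8)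
    (hy' : sqNorm (y' : GolayPt → ℤ) = 32 ∧ dotInt (v : GolayPt → ℤ) (y' : GolayPt → ℤ) = -8 ∧
      dotInt (a : GolayPt → ℤ) (y' : GolayPt → ℤ) = 8) :
    ∃ g : ↥Co0, g • v = v ∧ g • a = a ∧ g • y = y' := by
  have hu := sqNorm_va v a hv ha hva
  have hv' := hv_va v a hv ha hva
  obtain ⟨b, c, hb, hc, hbc, rfl⟩ := edge_surj v a hv ha hva y hy
  obtain ⟨b', c', hb', hc', hbc', rfl⟩ := edge_surj v a hv ha hva y' hy'
  obtain ⟨g1, g1u, g1v, g1b⟩ := trans_275 (v + a) v b b' hu hv' hb hb'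
  have hc1 := setA_smul v a hv ha hva g1 g1u g1v c hc
  have hd1 : dotInt (b' : GolayPt → ℤ) ((g1 • c : ↥leechLattice) : GolayPt → ℤ) = 8 := by
    rw [← g1b, co0_dot]
    exact hbc
  have hbb : dotInt (b' : GolayPt → ℤ) (b' : GolayPt → ℤ) = 32 := by
    rw [dot_self, hb'.1]
  have hne1 : g1 • c ≠ b' := by
    intro h
    rw [h, hbb] at hd1
    omega
  have hne2 : c' ≠ b' := by
    intro h
    rw [h, hbb] at hbc'
    omega
  obtain ⟨g2, g2u, g2v, g2b, g2c⟩ := mcl_rank3 (v + a) v b' (g1 • c) c' hu hv' hb' hc1 hc'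
    hne1 hne2 (by rw [hd1, hbc'])
  have e1 : (g2 * g1) • (v + a) = v + a := by rw [mul_smul', g1u, g2u]
  have e2 : (g2 * g1) • v = v := by rw [mul_smul', g1v, g2v]
  refine ⟨g2 * g1, e2, ?_, ?_⟩
  · have e : a = v + a - v := by abel
    rw [e, smul_sub', e1, e2]
  · rw [smul_sub', smul_sub', e1, mul_smul', g1b, g2b, mul_smul', g2c]

end

end Cfsg.Agent.Helper9.Leech
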