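import Mathlib
import Cfsg.Prelude.Def_Sporadic_a
import Cfsg.Prelude.Def_SporadicCombinatorics
import Cfsg.Agent.Helper9.Leech.HSSimple2

/-!
The joint stabiliser of two vectors of sum of squares 48 with inner product `-32` is simple of
order 44352000.
-/

set_option autoImplicit false

namespace Cfsg.Agent.Helper9.Leech

open Cfsg
open Cfsg.Agent.Helper9.Golay
open scoped Pointwise

theorem conj_fix (g k : ↥Co0) (x x' : ↥leechLattice) (hg : g • x = x') (hk : k • x = x) :
    (g * k * g⁻¹) • x' = x' := by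
  rw [mul_smul', mul_smul', ← hg, inv_smul_smul', hk]

theorem conj_fix' (g k : ↥Co0) (x x' : ↥leechLattice) (hg : g • x = x') (hk : k • x' = x') :
    (g⁻¹ * k * g) • x = x := by
  rw [mul_smul', mul_smul', hg, hk, ← hg, inv_smul_smul']

/-- the point stabiliser is isomorphic to the stabiliser of the standard triple. -/
noncomputable def hsStabEquiv (v w : ↥leechLattice) (a : ↥(hsPts v w)) (g : ↥Co0)
    (h1 : g • v = vA) (h2 : g • w = wA) (h3 : g • (a : ↥leechLattice) = std1) :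
    ↥(MulAction.stabilizer ↥(hsGrp v w) a) ≃*
      ↥(MulAction.stabilizer ↥Co0 vA ⊓ MulAction.stabilizer ↥Co0 wA ⊓
        MulAction.stabilizer ↥Co0 std1) where
  toFun k := ⟨g * k.1.1 * g⁻¹, by
    have hk : k.1 • a = a := k.2
    have hk' : k.1.1 • (a : ↥leechLattice) = a := congrArg Subtype.val hk
    obtain ⟨e1, e2⟩ := hsGrp_smul k.1
    exact Subgroup.mem_inf.mpr ⟨Subgroup.mem_inf.mpr ⟨conj_fix g k.1.1 v vA h1 e1,
      conj_fix g k.1.1 w wA h2 e2⟩, conj_fix g k.1.1 a.1 std1 h3 hk'⟩⟩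
  invFun y := ⟨⟨g⁻¹ * y.1 * g, by
      obtain ⟨hy12, hy3⟩ := Subgroup.mem_inf.mp y.2
      obtain ⟨hy1, hy2⟩ := Subgroup.mem_inf.mp hy12
      exact Subgroup.mem_inf.mpr ⟨conj_fix' g y.1 v vA h1 hy1, conj_fix' g y.1 w wA h2 hy2⟩⟩, by
      obtain ⟨hy12, hy3⟩ := Subgroup.mem_inf.mp y.2
      rw [MulAction.mem_stabilizer_iff]
      apply Subtype.ext
      exact conj_fix' g y.1 a.1 std1 h3 hy3⟩
  left_inv k := by
    apply Subtype.ext
    apply Subtype.ext
    show g⁻¹ * (g * k.1.1 * g⁻¹) * g = k.1.1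
    group
  right_inv y := by
    apply Subtype.ext
    show g * (g⁻¹ * y.1 * g) * g⁻¹ = y.1
    group
  map_mul' k k' := by
    apply Subtype.ext
    show g * (k.1.1 * k'.1.1) * g⁻¹ = (g * k.1.1 * g⁻¹) * (g * k'.1.1 * g⁻¹)
    group

theorem hs_simple_card (v w : ↥leechLattice) (hv : sqNorm (v : GolayPt → ℤ) = 48)
    (hw : sqNorm (w : GolayPt → ℤ) = 48)
    (hvw : dotInt (v : GolayPt → ℤ) (w : GolayPt → ℤ) = -32) :
    IsSimpleGroup ↥(MulAction.stabilizer ↥Co0 v ⊓ MulAction.stabilizer ↥Co0 w) ∧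
      Nat.card ↥(MulAction.stabilizer ↥Co0 v ⊓ MulAction.stabilizer ↥Co0 w) = 44352000 := by
  have := hs_pretrans v w hv hw hvw
  have := hs_faithful v w hv hw hvw
  have := hs_preprim v w hv hw hvw
  have hcard := hs_card_pts v w hv hw hvw
  obtain ⟨a⟩ : Nonempty ↥(hsPts v w) := by
    by_contra h
    rw [not_nonempty_iff] at h
    rw [Nat.card_of_isEmpty] at hcard
    omega
  obtain ⟨g, h1, h2, h3⟩ := hs_triple_to_std v w a.1 hv hw hvw a.2
  have hs : IsSimpleGroup ↥(MulAction.stabilizer ↥(hsGrp v w) a) := by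
    have := stab3_simple
    exact (hsStabEquiv v w a g h1 h2 h3).isSimpleGroup
  constructor
  · exact Cfsg.Agent.Helper9.simple_of_prim_stab_simple a hs
      (fun N hN hc => Cfsg.Agent.Helper9.no_regular_100 hcard N hN (hc.trans hcard))
  · have h4 := Subgroup.card_mul_index (MulAction.stabilizer ↥(hsGrp v w) a)
    rw [MulAction.index_stabilizer, MulAction.orbit_eq_univ, Set.ncard_univ, hcard,
      Nat.card_congr (hsStabEquiv v w a g h1 h2 h3).toEquiv, stab3_card] at h4
    have e : Nat.card ↥(hsGrp v w) = 44352000 := by omega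
    exact e

end Cfsg.Agent.Helper9.Leech
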