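import Mathlib
import Cfsg.Prelude.Def_Sporadic_a
import Cfsg.Prelude.Def_SporadicCombinatorics
import Cfsg.Agent.Helper9.Leech.M2025c
import Cfsg.Agent.Helper9.Leech.HSSimple3
import Cfsg.Agent.Helper9.PrimSimple3

/-!
The joint stabiliser of two minimal vectors with inner product `-8` is a simple group of order
898128000.
-/

set_option autoImplicit false

namespace Cfsg.Agent.Helper9.Leech

open Cfsg
open Cfsg.Agent.Helper9.Golay
open scoped Pointwise

/-! ### the stabiliser of the standard triple -/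

theorem single_eq_single {i j : GolayPt} {s : ℤ}
    (h : (Pi.single i (if i ∈ (∅ : Finset GolayPt) then -s else s) : GolayPt → ℤ) =
      Pi.single j s) (hs : s ≠ 0) : i = j := by
  have := congrFun h i
  rw [Pi.single_eq_same, Pi.single_apply, if_neg (Finset.notMem_empty _)] at this
  by_contra hne
  rw [if_neg hne] at this
  exact hs this

/-- an automorphism fixing the standard triple is a coordinate permutation. -/
theorem stabM_perm (g : ↥Co0) (h1 : g • std1 = std1) (h2 : g • bstd = bstd)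
    (h3 : g • std2 = std2) :
    ∃ (σ : Equiv.Perm GolayPt) (hσ : σ ∈ M24), σ none = none ∧ σ (some 0) = some 0 ∧
      g = permEl σ hσ := by
  have he : g • e8 none = e8 none := by
    rw [← std_add, smul_add', h1, h3]
  have he0 : g • e8 (some 0) = e8 (some 0) := by
    rw [← std_sub, smul_sub', h1, h3]
  obtain ⟨σ, hσ, c, hc, rfl⟩ := stab_monomial g (stab_sub g he)
  have hb : ∀ i, signCh c (fun j => ((bstd : ↥leechLattice) : GolayPt → ℤ) (σ.symm j)) i =
      ((bstd : ↥leechLattice) : GolayPt → ℤ) i := by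
    intro i
    have := congrArg (fun z : ↥leechLattice => (z : GolayPt → ℤ) i) h2
    exact this
  have hc0 : c = ∅ := by
    rw [Finset.eq_empty_iff_forall_notMem]
    intro i hi
    have := hb i
    unfold signCh at this
    rw [if_pos hi] at this
    dsimp only at this
    rw [bstd_apply, bstd_apply] at this
    unfold baseOdd at this
    split_ifs at this <;> omega
  subst hc0
  have k1 : signedPerm σ ∅ (Pi.single none 8) = (Pi.single none (8 : ℤ) : GolayPt → ℤ) :=
    congrArg Subtype.val he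
  have k2 : signedPerm σ ∅ (Pi.single (some 0) 8) =
      (Pi.single (some 0) (8 : ℤ) : GolayPt → ℤ) := congrArg Subtype.val he0
  rw [signedPerm_single] at k1 k2
  exact ⟨σ, hσ, single_eq_single k1 (by norm_num), single_eq_single k2 (by norm_num), rfl⟩

theorem permHom_rangeM : permHom.range =
    MulAction.stabilizer ↥Co0 std1 ⊓ MulAction.stabilizer ↥Co0 bstd ⊓
      MulAction.stabilizer ↥Co0 std2 := by
  ext g
  constructor
  · rintro ⟨x, rfl⟩
    have hx1 : x.1.1 none = none := (Subgroup.mem_inf.mp x.2).1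
    have hx2 : x.1.1 (some 0) = some 0 := (Subgroup.mem_inf.mp x.2).2
    refine Subgroup.mem_inf.mpr ⟨Subgroup.mem_inf.mpr ⟨?_, ?_⟩, ?_⟩
    · exact permEl_std1 x.1.1 x.1.2 hx1 hx2
    · exact permEl_bstd x.1.1 x.1.2 hx2
    · exact permEl_std2 x.1.1 x.1.2 hx1 hx2
  · intro hg
    obtain ⟨hg12, hg3⟩ := Subgroup.mem_inf.mp hg
    obtain ⟨hg1, hg2⟩ := Subgroup.mem_inf.mp hg12
    obtain ⟨σ, hσ, hn, h0, rfl⟩ := stabM_perm g hg1 hg2 hg3
    exact ⟨⟨⟨σ, hσ⟩, Subgroup.mem_inf.mpr ⟨hn, h0⟩⟩, rfl⟩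

/-- the stabiliser of the standard triple is isomorphic to the two-point stabiliser. -/
noncomputable def stabMEquiv : ↥(MulAction.stabilizer M24 (none : GolayPt) ⊓
    MulAction.stabilizer M24 (some 0 : GolayPt)) ≃*
    ↥(MulAction.stabilizer ↥Co0 std1 ⊓ MulAction.stabilizer ↥Co0 bstd ⊓
      MulAction.stabilizer ↥Co0 std2) :=
  (MonoidHom.ofInjective permHom_injective).trans (MulEquiv.subgroupCongr permHom_rangeM)

theorem stabM_simple : IsSimpleGroup ↥(MulAction.stabilizer ↥Co0 std1 ⊓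
    MulAction.stabilizer ↥Co0 bstd ⊓ MulAction.stabilizer ↥Co0 std2) := by
  have := two_point_stab_simple none (some 0) (by decide)
  exact stabMEquiv.symm.isSimpleGroup

theorem stabM_card : Nat.card ↥(MulAction.stabilizer ↥Co0 std1 ⊓
    MulAction.stabilizer ↥Co0 bstd ⊓ MulAction.stabilizer ↥Co0 std2) = 443520 := by
  rw [← Cfsg.Agent.S0378.result none (some 0) (by decide)]
  exact (Nat.card_congr stabMEquiv.toEquiv).symm

/-! ### the action on 2025 points -/

/-- the joint stabiliser. -/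
abbrev mclGrp (v w : ↥leechLattice) : Subgroup ↥Co0 :=
  MulAction.stabilizer ↥Co0 v ⊓ MulAction.stabilizer ↥Co0 w

theorem mclGrp_smul {v w : ↥leechLattice} (k : ↥(mclGrp v w)) :
    (k : ↥Co0) • v = v ∧ (k : ↥Co0) • w = w :=
  ⟨(Subgroup.mem_inf.mp k.2).1, (Subgroup.mem_inf.mp k.2).2⟩

/-- the 2025 minimal vectors. -/
def mclPts (v w : ↥leechLattice) : SubMulAction ↥(mclGrp v w) ↥leechLattice where
  carrier := {x | sqNorm (x : GolayPt → ℤ) = 32 ∧
    dotInt (v : GolayPt → ℤ) (x : GolayPt → ℤ) = 0 ∧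
    dotInt (w : GolayPt → ℤ) (x : GolayPt → ℤ) = 16}
  smul_mem' := by
    intro k x hx
    obtain ⟨hk1, hk2⟩ := mclGrp_smul k
    refine ⟨(co0_sqNorm k.1 x).trans hx.1, ?_, ?_⟩
    · have := co0_dot k.1 v x
      rw [hk1] at this
      exact this.trans hx.2.1
    · have := co0_dot k.1 w x
      rw [hk2] at this
      exact this.trans hx.2.2

/-- the number of points of each colour. -/
def mclNum (c : ℤ) : ℕ := if c = 0 then 330 else if c = 8 then 1232 else 462

theorem mcl_arith : ∀ C ∈ ({0, 8, 16} : Finset ℤ).powerset,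
    (1 + ∑ c ∈ C, mclNum c) ∣ 2025 → C = ∅ ∨ C = ({0, 8, 16} : Finset ℤ) := by
  decide

section

variable (v w : ↥leechLattice) (hv : sqNorm (v : GolayPt → ℤ) = 32)
  (hw : sqNorm (w : GolayPt → ℤ) = 32)
  (hvw : dotInt (v : GolayPt → ℤ) (w : GolayPt → ℤ) = -8)

include hv hw hvw

theorem mcl_card_pts : Nat.card ↥(mclPts v w) = 2025 :=
  card_2025 v w hv hw hvw

theorem mcl_pretrans : MulAction.IsPretransitive ↥(mclGrp v w) ↥(mclPts v w) := by
  refine ⟨fun a b => ?_⟩
  obtain ⟨g, hg1, hg2, hg3⟩ := trans_2025 v w a.1 b.1 hv hw hvw a.2 b.2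
  exact ⟨⟨g, Subgroup.mem_inf.mpr ⟨hg1, hg2⟩⟩, Subtype.ext hg3⟩

theorem mcl_colour_card (a : ↥(mclPts v w)) (d e : ℤ) (n : ℕ)
    (he : 0 + 1000 * 16 + 1000000 * d = e) (hcnt : cntFast alQ e = n) :
    {y : ↥(mclPts v w) | dotInt ((a : ↥leechLattice) : GolayPt → ℤ)
      ((y : ↥leechLattice) : GolayPt → ℤ) = d}.ncard = n := by
  subst he
  refine Eq.trans ?_ (suborbit_card_2025 v w a.1 hv hw hvw a.2 d n hcnt)
  have e : {y : ↥(mclPts v w) | dotInt ((a : ↥leechLattice) : GolayPt → ℤ)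
      ((y : ↥leechLattice) : GolayPt → ℤ) = d} = Subtype.val ⁻¹'
      {y : ↥leechLattice | (sqNorm (y : GolayPt → ℤ) = 32 ∧
        dotInt (v : GolayPt → ℤ) (y : GolayPt → ℤ) = 0 ∧
        dotInt (w : GolayPt → ℤ) (y : GolayPt → ℤ) = 16) ∧
        dotInt ((a : ↥leechLattice) : GolayPt → ℤ) (y : GolayPt → ℤ) = d} := by
    ext y
    constructor
    · intro h
      exact ⟨y.2, h⟩
    · intro h
      exact h.2
  rw [e]
  apply Set.ncard_preimage_of_injective_subset_range Subtype.val_injective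
  intro y hy
  exact ⟨⟨y, hy.1⟩, rfl⟩

theorem mcl_stab_trans (a y y' : ↥(mclPts v w))
    (hd : dotInt ((a : ↥leechLattice) : GolayPt → ℤ) ((y : ↥leechLattice) : GolayPt → ℤ) =
      dotInt ((a : ↥leechLattice) : GolayPt → ℤ) ((y' : ↥leechLattice) : GolayPt → ℤ)) :
    ∃ k ∈ MulAction.stabilizer ↥(mclGrp v w) a, k • y = y' := by
  obtain ⟨g, g1, g2, g3, g4⟩ := rank4_2025 v w a.1 y.1 y'.1 hv hw hvw a.2 y.2 y'.2 hd
  refine ⟨⟨g, Subgroup.mem_inf.mpr ⟨g1, g2⟩⟩, ?_, Subtype.ext g4⟩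
  rw [MulAction.mem_stabilizer_iff]
  exact Subtype.ext g3

theorem mcl_preprim : MulAction.IsPreprimitive ↥(mclGrp v w) ↥(mclPts v w) := by
  have := mcl_pretrans v w hv hw hvw
  have hcard := mcl_card_pts v w hv hw hvw
  obtain ⟨a⟩ : Nonempty ↥(mclPts v w) := by
    by_contra h
    rw [not_nonempty_iff] at h
    rw [Nat.card_of_isEmpty] at hcard
    omega
  have : Finite ↥(mclPts v w) := Nat.finite_of_card_ne_zero (by rw [hcard]; norm_num)
  apply Cfsg.Agent.Helper9.preprimitive_of_colours a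
    (fun y => dotInt ((a : ↥leechLattice) : GolayPt → ℤ) ((y : ↥leechLattice) : GolayPt → ℤ))
    ({0, 8, 16} : Finset ℤ) mclNum 2025 hcard
  · show dotInt ((a : ↥leechLattice) : GolayPt → ℤ) ((a : ↥leechLattice) : GolayPt → ℤ) ∉
      ({0, 8, 16} : Finset ℤ)
    rw [dot_self, a.2.1]
    decide
  · intro c hc
    simp only [Finset.mem_insert, Finset.mem_singleton] at hc
    rcases hc with rfl | rfl | rfl
    · exact mcl_colour_card v w hv hw hvw a 0 16000 330 (by norm_num) cnt_alQ_0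
    · exact mcl_colour_card v w hv hw hvw a 8 8016000 1232 (by norm_num) cnt_alQ_8
    · exact mcl_colour_card v w hv hw hvw a 16 16016000 462 (by norm_num) cnt_alQ_16
  · decide
  · intro y y' _ hd
    exact mcl_stab_trans v w hv hw hvw a y y' hd
  · exact mcl_arith

end

/-- the point stabiliser is isomorphic to the stabiliser of the standard triple. -/
noncomputable def mclStabEquiv (v w : ↥leechLattice) (a : ↥(mclPts v w)) (g : ↥Co0)
    (h1 : g • v = std1) (h2 : g • w = bstd) (h3 : g • (a : ↥leechLattice) = std2) :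
    ↥(MulAction.stabilizer ↥(mclGrp v w) a) ≃*
      ↥(MulAction.stabilizer ↥Co0 std1 ⊓ MulAction.stabilizer ↥Co0 bstd ⊓
        MulAction.stabilizer ↥Co0 std2) where
  toFun k := ⟨g * k.1.1 * g⁻¹, by
    have hk : k.1 • a = a := k.2
    have hk' : k.1.1 • (a : ↥leechLattice) = a := congrArg Subtype.val hk
    obtain ⟨e1, e2⟩ := mclGrp_smul k.1
    exact Subgroup.mem_inf.mpr ⟨Subgroup.mem_inf.mpr ⟨conj_fix g k.1.1 v std1 h1 e1,
      conj_fix g k.1.1 w bstd h2 e2⟩, conj_fix g k.1.1 a.1 std2 h3 hk'⟩⟩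
  invFun y := ⟨⟨g⁻¹ * y.1 * g, by
      obtain ⟨hy12, hy3⟩ := Subgroup.mem_inf.mp y.2
      obtain ⟨hy1, hy2⟩ := Subgroup.mem_inf.mp hy12
      exact Subgroup.mem_inf.mpr ⟨conj_fix' g y.1 v std1 h1 hy1,
        conj_fix' g y.1 w bstd h2 hy2⟩⟩, by
      obtain ⟨hy12, hy3⟩ := Subgroup.mem_inf.mp y.2
      rw [MulAction.mem_stabilizer_iff]
      apply Subtype.ext
      exact conj_fix' g y.1 a.1 std2 h3 hy3⟩
  left_inv k := by
    apply Subtype.ext
    apply Subtype.ext
    show g⁻¹ * (g * k.1.1 * g⁻¹) * g = k.1.1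
    group
  right_inv y := by
    apply Subtype.ext
    show g * (g⁻¹ * y.1 * g) * g⁻¹ = y.1
    group
  map_mul' k k' := by
    apply Subtype.ext
    show g * (k.1.1 * k'.1.1) * g⁻¹ = (g * k.1.1 * g⁻¹) * (g * k'.1.1 * g⁻¹)
    group

theorem mcl_simple_card (v w : ↥leechLattice) (hv : sqNorm (v : GolayPt → ℤ) = 32)
    (hw : sqNorm (w : GolayPt → ℤ) = 32)
    (hvw : dotInt (v : GolayPt → ℤ) (w : GolayPt → ℤ) = -8) :
    IsSimpleGroup ↥(MulAction.stabilizer ↥Co0 v ⊓ MulAction.stabilizer ↥Co0 w) ∧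
      Nat.card ↥(MulAction.stabilizer ↥Co0 v ⊓ MulAction.stabilizer ↥Co0 w) = 898128000 := by
  have := mcl_pretrans v w hv hw hvw
  have := mcl_preprim v w hv hw hvw
  have hcard := mcl_card_pts v w hv hw hvw
  obtain ⟨a⟩ : Nonempty ↥(mclPts v w) := by
    by_contra h
    rw [not_nonempty_iff] at h
    rw [Nat.card_of_isEmpty] at hcard
    omega
  have : Finite ↥(mclPts v w) := Nat.finite_of_card_ne_zero (by rw [hcard]; norm_num)
  obtain ⟨g, h1, h2, h3⟩ := triple2025_to_std v w a.1 hv hw hvw a.2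
  have hs : IsSimpleGroup ↥(MulAction.stabilizer ↥(mclGrp v w) a) := by
    have := stabM_simple
    exact (mclStabEquiv v w a g h1 h2 h3).isSimpleGroup
  have hfaith : FaithfulSMul ↥(mclGrp v w) ↥(mclPts v w) := by
    apply Cfsg.Agent.Helper9.faithful_of_stab_simple a hs
    have h330 := mcl_colour_card v w hv hw hvw a 0 16000 330 (by norm_num) cnt_alQ_0
    have h1 : 1 < {y : ↥(mclPts v w) | dotInt ((a : ↥leechLattice) : GolayPt → ℤ)
        ((y : ↥leechLattice) : GolayPt → ℤ) = 0}.ncard := by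
      rw [h330]
      norm_num
    obtain ⟨y, hy, y', hy', hne⟩ := (Set.one_lt_ncard (Set.toFinite _)).mp h1
    rw [Set.mem_ofPred_eq] at hy hy'
    obtain ⟨k, hk, hky⟩ := mcl_stab_trans v w hv hw hvw a y y' (by rw [hy, hy'])
    exact ⟨k, hk, y, by rw [hky]; exact Ne.symm hne⟩
  constructor
  · exact Cfsg.Agent.Helper9.simple_of_prim_stab_simple a hs
      (fun N hN hc => Cfsg.Agent.Helper9.no_regular_2025 hcard N hN (hc.trans hcard))
  · have h4 := Subgroup.card_mul_index (MulAction.stabilizer ↥(mclGrp v w) a)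
    rw [MulAction.index_stabilizer, MulAction.orbit_eq_univ, Set.ncard_univ, hcard,
      Nat.card_congr (mclStabEquiv v w a g h1 h2 h3).toEquiv, stabM_card] at h4
    have e : Nat.card ↥(mclGrp v w) = 898128000 := by omega
    exact e

end Cfsg.Agent.Helper9.Leech
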