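import Mathlib
import Cfsg.Prelude.Def_Sporadic_a
import Cfsg.Prelude.Def_SporadicCombinatorics
import Cfsg.Agent.Helper9.Leech.Co2E
import Cfsg.Agent.Helper9.Leech.McLSimple
import Cfsg.Agent.Helper9.PrimSimple4

/-!
The stabiliser of a minimal vector is a simple group of order 42305421312000.
-/

set_option autoImplicit false

namespace Cfsg.Agent.Helper9.Leech

open Cfsg
open Cfsg.Agent.Helper9.Golay
open scoped Pointwise

/-- the minimal vectors with inner product `-8` with `v`. -/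
def co2Pts (v : ↥leechLattice) : SubMulAction ↥(MulAction.stabilizer ↥Co0 v) ↥leechLattice where
  carrier := {x | sqNorm (x : GolayPt → ℤ) = 32 ∧
    dotInt (v : GolayPt → ℤ) (x : GolayPt → ℤ) = -8}
  smul_mem' := by
    intro k x hx
    have hk : k.1 • v = v := k.2
    refine ⟨(co0_sqNorm k.1 x).trans hx.1, ?_⟩
    have := co0_dot k.1 v x
    rw [hk] at this
    exact this.trans hx.2

/-- the number of points of each colour. -/
def co2Num (c : ℤ) : ℕ := if c = -16 then 275 else if c = -8 then 7128 else if c = 0 then 22275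
  else if c = 8 then 15400 else 2025

theorem co2_arith : ∀ C ∈ ({-16, -8, 0, 8, 16} : Finset ℤ).powerset,
    (1 + ∑ c ∈ C, co2Num c) ∣ 47104 → C = ∅ ∨ C = ({-16, -8, 0, 8, 16} : Finset ℤ) := by
  decide

section

variable (v : ↥leechLattice) (hv : sqNorm (v : GolayPt → ℤ) = 32)

include hv

theorem co2_card_pts : Nat.card ↥(co2Pts v) = 47104 := by
  have h := co2_card v hv
  rw [← h]
  exact (Nat.card_coe_set_eq _)

theorem co2_pretrans : MulAction.IsPretransitive ↥(MulAction.stabilizer ↥Co0 v) ↥(co2Pts v) := by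
  refine ⟨fun a b => ?_⟩
  obtain ⟨g, g1, g2⟩ := pair8_to_bstd v a.1 hv a.2.1 a.2.2
  obtain ⟨g', g1', g2'⟩ := pair8_to_bstd v b.1 hv b.2.1 b.2.2
  refine ⟨⟨g'⁻¹ * g, ?_⟩, ?_⟩
  · rw [MulAction.mem_stabilizer_iff, mul_smul', g1, ← g1', inv_smul_smul']
  · apply Subtype.ext
    show (g'⁻¹ * g) • (a : ↥leechLattice) = b
    rw [mul_smul', g2, ← g2', inv_smul_smul']

theorem co2_colour_card (a : ↥(co2Pts v)) (d e : ℤ) (n : ℕ)
    (he : -8 + 1000 * d = e) (hcnt : cntFast al2025 e = n) :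
    {y : ↥(co2Pts v) | dotInt ((a : ↥leechLattice) : GolayPt → ℤ)
      ((y : ↥leechLattice) : GolayPt → ℤ) = d}.ncard = n := by
  refine Eq.trans ?_ (co2_class_card v a.1 hv a.2.1 a.2.2 d e n he hcnt)
  have e : {y : ↥(co2Pts v) | dotInt ((a : ↥leechLattice) : GolayPt → ℤ)
      ((y : ↥leechLattice) : GolayPt → ℤ) = d} = Subtype.val ⁻¹'
      {y : ↥leechLattice | sqNorm (y : GolayPt → ℤ) = 32 ∧
        dotInt (v : GolayPt → ℤ) (y : GolayPt → ℤ) = -8 ∧
        dotInt ((a : ↥leechLattice) : GolayPt → ℤ) (y : GolayPt → ℤ) = d} := by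
    ext y
    constructor
    · intro h
      exact ⟨y.2.1, y.2.2, h⟩
    · intro h
      exact h.2.2
  rw [e]
  apply Set.ncard_preimage_of_injective_subset_range Subtype.val_injective
  intro y hy
  exact ⟨⟨y, hy.1, hy.2.1⟩, rfl⟩

theorem co2_stab_trans (a y y' : ↥(co2Pts v))
    (hy : dotInt ((a : ↥leechLattice) : GolayPt → ℤ) ((y : ↥leechLattice) : GolayPt → ℤ) ∈
      ({-16, -8, 0, 8, 16} : Finset ℤ))
    (hd : dotInt ((a : ↥leechLattice) : GolayPt → ℤ) ((y : ↥leechLattice) : GolayPt → ℤ) =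
      dotInt ((a : ↥leechLattice) : GolayPt → ℤ) ((y' : ↥leechLattice) : GolayPt → ℤ)) :
    ∃ k ∈ MulAction.stabilizer ↥(MulAction.stabilizer ↥Co0 v) a, k • y = y' := by
  have key : ∃ g : ↥Co0, g • v = v ∧ g • (a : ↥leechLattice) = a ∧
      g • (y : ↥leechLattice) = y' := by
    simp only [Finset.mem_insert, Finset.mem_singleton] at hy
    rcases hy with h | h | h | h | h
    · exact co2_trans_m16 v a.1 y.1 y'.1 hv a.2.1 a.2.2 ⟨y.2.1, y.2.2, h⟩
        ⟨y'.2.1, y'.2.2, hd ▸ h⟩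
    · exact co2_trans_m8 v a.1 y.1 y'.1 hv a.2.1 a.2.2 ⟨y.2.1, y.2.2, h⟩
        ⟨y'.2.1, y'.2.2, hd ▸ h⟩
    · exact co2_trans_0 v a.1 y.1 y'.1 hv a.2.1 a.2.2 ⟨y.2.1, y.2.2, h⟩
        ⟨y'.2.1, y'.2.2, hd ▸ h⟩
    · exact co2_trans_8 v a.1 hv a.2.1 a.2.2 y.1 y'.1 ⟨y.2.1, y.2.2, h⟩
        ⟨y'.2.1, y'.2.2, hd ▸ h⟩
    · exact co2_trans_16 v a.1 y.1 y'.1 hv a.2.1 a.2.2 ⟨y.2.1, y.2.2, h⟩
        ⟨y'.2.1, y'.2.2, hd ▸ h⟩
  obtain ⟨g, g1, g2, g3⟩ := key
  refine ⟨⟨g, g1⟩, ?_, Subtype.ext g3⟩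
  rw [MulAction.mem_stabilizer_iff]
  exact Subtype.ext g2

theorem co2_preprim : MulAction.IsPreprimitive ↥(MulAction.stabilizer ↥Co0 v) ↥(co2Pts v) := by
  have := co2_pretrans v hv
  have hcard := co2_card_pts v hv
  obtain ⟨a⟩ : Nonempty ↥(co2Pts v) := by
    by_contra h
    rw [not_nonempty_iff] at h
    rw [Nat.card_of_isEmpty] at hcard
    omega
  have : Finite ↥(co2Pts v) := Nat.finite_of_card_ne_zero (by rw [hcard]; norm_num)
  apply Cfsg.Agent.Helper9.preprimitive_of_colours a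
    (fun y => dotInt ((a : ↥leechLattice) : GolayPt → ℤ) ((y : ↥leechLattice) : GolayPt → ℤ))
    ({-16, -8, 0, 8, 16} : Finset ℤ) co2Num 47104 hcard
  · show dotInt ((a : ↥leechLattice) : GolayPt → ℤ) ((a : ↥leechLattice) : GolayPt → ℤ) ∉
      ({-16, -8, 0, 8, 16} : Finset ℤ)
    rw [dot_self, a.2.1]
    decide
  · intro c hc
    simp only [Finset.mem_insert, Finset.mem_singleton] at hc
    rcases hc with rfl | rfl | rfl | rfl | rfl
    · exact co2_colour_card v hv a (-16) (-16008) 275 (by norm_num) cnt_co2_m16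
    · exact co2_colour_card v hv a (-8) (-8008) 7128 (by norm_num) cnt_co2_m8
    · exact co2_colour_card v hv a 0 (-8) 22275 (by norm_num) cnt_co2_0
    · exact co2_colour_card v hv a 8 7992 15400 (by norm_num) cnt_co2_8
    · exact co2_colour_card v hv a 16 15992 2025 (by norm_num) cnt_co2_16
  · decide
  · intro y y' hy hd
    exact co2_stab_trans v hv a y y' hy hd
  · exact co2_arith

end

/-- the point stabiliser is the joint stabiliser of two minimal vectors. -/
def co2StabEquiv (v : ↥leechLattice) (a : ↥(co2Pts v)) :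
    ↥(MulAction.stabilizer ↥(MulAction.stabilizer ↥Co0 v) a) ≃*
      ↥(MulAction.stabilizer ↥Co0 v ⊓ MulAction.stabilizer ↥Co0 (a : ↥leechLattice)) where
  toFun k := ⟨k.1.1, by
    have hk : k.1.1 • v = v := k.1.2
    have hk2 : k.1 • a = a := k.2
    have hk' : k.1.1 • (a : ↥leechLattice) = a := congrArg Subtype.val hk2
    exact Subgroup.mem_inf.mpr ⟨hk, hk'⟩⟩
  invFun y := ⟨⟨y.1, (Subgroup.mem_inf.mp y.2).1⟩, by
    have h2 : y.1 • (a : ↥leechLattice) = a := (Subgroup.mem_inf.mp y.2).2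
    rw [MulAction.mem_stabilizer_iff]
    apply Subtype.ext
    exact h2⟩
  left_inv _ := rfl
  right_inv _ := rfl
  map_mul' _ _ := rfl

theorem co2_simple_card (v : ↥leechLattice) (hv : sqNorm (v : GolayPt → ℤ) = 32) :
    IsSimpleGroup ↥(MulAction.stabilizer ↥Co0 v) ∧
      Nat.card ↥(MulAction.stabilizer ↥Co0 v) = 42305421312000 := by
  have := co2_pretrans v hv
  have := co2_preprim v hv
  have hcard := co2_card_pts v hv
  obtain ⟨a⟩ : Nonempty ↥(co2Pts v) := by
    by_contra h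
    rw [not_nonempty_iff] at h
    rw [Nat.card_of_isEmpty] at hcard
    omega
  have : Finite ↥(co2Pts v) := Nat.finite_of_card_ne_zero (by rw [hcard]; norm_num)
  obtain ⟨hMcL, hMcLcard⟩ := mcl_simple_card v a.1 hv a.2.1 a.2.2
  have hs : IsSimpleGroup ↥(MulAction.stabilizer ↥(MulAction.stabilizer ↥Co0 v) a) :=
    (co2StabEquiv v a).isSimpleGroup
  have hfaith : FaithfulSMul ↥(MulAction.stabilizer ↥Co0 v) ↥(co2Pts v) := by
    apply Cfsg.Agent.Helper9.faithful_of_stab_simple a hs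
    have h275 := co2_colour_card v hv a (-16) (-16008) 275 (by norm_num) cnt_co2_m16
    have h1 : 1 < {y : ↥(co2Pts v) | dotInt ((a : ↥leechLattice) : GolayPt → ℤ)
        ((y : ↥leechLattice) : GolayPt → ℤ) = -16}.ncard := by
      rw [h275]
      norm_num
    obtain ⟨y, hy, y', hy', hne⟩ := (Set.one_lt_ncard (Set.toFinite _)).mp h1
    rw [Set.mem_ofPred_eq] at hy hy'
    obtain ⟨k, hk, hky⟩ := co2_stab_trans v hv a y y' (by rw [hy]; decide) (by rw [hy, hy'])
    exact ⟨k, hk, y, by rw [hky]; exact Ne.symm hne⟩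
  constructor
  · exact Cfsg.Agent.Helper9.simple_of_prim_stab_simple a hs
      (fun N hN hc => Cfsg.Agent.Helper9.no_regular_47104 hcard N hN (hc.trans hcard))
  · have h4 := Subgroup.card_mul_index
      (MulAction.stabilizer ↥(MulAction.stabilizer ↥Co0 v) a)
    rw [MulAction.index_stabilizer, MulAction.orbit_eq_univ, Set.ncard_univ, hcard,
      Nat.card_congr (co2StabEquiv v a).toEquiv, hMcLcard] at h4
    omega

end Cfsg.Agent.Helper9.Leech
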