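import Mathlib
import Cfsg.Prelude.Def_Sporadic_a
import Cfsg.Prelude.Def_SporadicCombinatorics
import Cfsg.Agent.Helper9.Leech.Co2Simple
import Cfsg.Agent.Helper9.Leech.Center
import Cfsg.Agent.Helper9.PrimSimple5

/-!
The action of the automorphism group of the lattice on the 98280 pairs of opposite minimal vectors.
-/

set_option autoImplicit false

namespace Cfsg.Agent.Helper9.Leech

open Cfsg
open Cfsg.Agent.Helper9.Golay
open scoped Pointwise

/-- counting through a map all of whose fibres have two elements. -/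
theorem ncard_two_to_one {α β : Type*} (A : Set α) (B : Set β) (hA : A.Finite) (φ : α → β)
    (ι : α → α) (hmaps : ∀ x ∈ A, φ x ∈ B) (hsurj : ∀ b ∈ B, ∃ x ∈ A, φ x = b)
    (hι : ∀ x ∈ A, ι x ∈ A ∧ ι x ≠ x ∧ φ (ι x) = φ x)
    (hfib : ∀ x ∈ A, ∀ y ∈ A, φ x = φ y → y = x ∨ y = ι x) : A.ncard = 2 * B.ncard := by
  classical
  have hB : B = φ '' A := by
    ext b
    constructor
    · intro hb
      obtain ⟨x, hx, rfl⟩ := hsurj b hb
      exact ⟨x, hx, rfl⟩
    · rintro ⟨x, hx, rfl⟩
      exact hmaps x hx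
  have hBfin : B.Finite := by rw [hB]; exact hA.image φ
  rw [Set.ncard_eq_toFinset_card A hA, Set.ncard_eq_toFinset_card B hBfin]
  have himg : hBfin.toFinset = hA.toFinset.image φ := by
    ext b
    rw [Set.Finite.mem_toFinset, Finset.mem_image, hB]
    constructor
    · rintro ⟨x, hx, rfl⟩
      exact ⟨x, by rw [Set.Finite.mem_toFinset]; exact hx, rfl⟩
    · rintro ⟨x, hx, rfl⟩
      exact ⟨x, by rw [Set.Finite.mem_toFinset] at hx; exact hx, rfl⟩
  rw [Finset.card_eq_sum_card_image φ hA.toFinset, himg]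
  have hfibre : ∀ b ∈ hA.toFinset.image φ, (hA.toFinset.filter (fun a => φ a = b)).card = 2 := by
    intro b hb
    obtain ⟨x, hx, rfl⟩ := Finset.mem_image.mp hb
    rw [Set.Finite.mem_toFinset] at hx
    obtain ⟨h1, h2, h3⟩ := hι x hx
    have e : hA.toFinset.filter (fun a => φ a = φ x) = {x, ι x} := by
      ext y
      rw [Finset.mem_filter, Set.Finite.mem_toFinset, Finset.mem_insert, Finset.mem_singleton]
      constructor
      · rintro ⟨hy, hyx⟩
        exact hfib x hx y hy hyx.symm
      · rintro (rfl | rfl)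
        · exact ⟨hx, rfl⟩
        · exact ⟨h1, h3⟩
    rw [e, Finset.card_pair h2.symm]
  rw [Finset.sum_congr rfl hfibre, Finset.sum_const, smul_eq_mul, mul_comm]

/-! ### pairs of opposite vectors -/

/-- the pair of a vector and its negative. -/
def pr (x : ↥leechLattice) : Set ↥leechLattice := {x, -x}

theorem co0_smul_neg (g : ↥Co0) (x : ↥leechLattice) : g • (-x) = -(g • x) :=
  map_neg_of_mem g.2 x

theorem smul_pr (g : ↥Co0) (x : ↥leechLattice) : g • pr x = pr (g • x) := by
  unfold pr
  rw [Set.smul_set_insert, Set.smul_set_singleton, co0_smul_neg]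

theorem pr_neg (x : ↥leechLattice) : pr (-x) = pr x := by
  unfold pr
  rw [neg_neg, Set.pair_comm]

theorem pr_eq_pr {x y : ↥leechLattice} : pr x = pr y ↔ x = y ∨ x = -y := by
  constructor
  · intro h
    have : x ∈ pr y := by
      rw [← h]
      exact Set.mem_insert _ _
    exact this
  · rintro (rfl | rfl)
    · rfl
    · exact pr_neg y

theorem dot_neg_right (v x : GolayPt → ℤ) : dotInt v (-x) = -dotInt v x := by
  unfold dotInt
  rw [← Finset.sum_neg_distrib]
  apply Finset.sum_congr rfl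
  intro i _
  rw [Pi.neg_apply, mul_neg]

/-- the colour of a pair with respect to a vector. -/
noncomputable def fcol (v : ↥leechLattice) (S : Set ↥leechLattice) : ℤ := by
  classical
  exact if h : ∃ x : ↥leechLattice, S = pr x then
    |dotInt (v : GolayPt → ℤ) ((Classical.choose h : ↥leechLattice) : GolayPt → ℤ)| else 0

theorem fcol_pr (v x : ↥leechLattice) :
    fcol v (pr x) = |dotInt (v : GolayPt → ℤ) (x : GolayPt → ℤ)| := by
  classical
  have h : ∃ y : ↥leechLattice, pr x = pr y := ⟨x, rfl⟩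
  unfold fcol
  rw [dif_pos h]
  rcases pr_eq_pr.mp (Classical.choose_spec h) with h1 | h1
  · rw [← h1]
  · have : ((Classical.choose h : ↥leechLattice) : GolayPt → ℤ) = -(x : GolayPt → ℤ) := by
      have h2 : Classical.choose h = -x := neg_eq_iff_eq_neg.mp h1.symm
      rw [h2]
      rfl
    rw [this, dot_neg_right, abs_neg]

/-- the pairs of opposite minimal vectors. -/
def co1Pts : SubMulAction ↥Co0 (Set ↥leechLattice) where
  carrier := {S | ∃ x : ↥leechLattice, sqNorm (x : GolayPt → ℤ) = 32 ∧ S = pr x}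
  smul_mem' := by
    rintro g S ⟨x, hx, rfl⟩
    exact ⟨g • x, (co0_sqNorm g x).trans hx, smul_pr g x⟩

/-- the point of a minimal vector. -/
def prPt (x : ↥leechLattice) (hx : sqNorm (x : GolayPt → ℤ) = 32) : ↥co1Pts :=
  ⟨pr x, x, hx, rfl⟩

theorem exists_rep (S : ↥co1Pts) : ∃ (x : ↥leechLattice) (hx : sqNorm (x : GolayPt → ℤ) = 32),
    S = prPt x hx := by
  obtain ⟨x, hx, h⟩ := S.2
  exact ⟨x, hx, Subtype.ext h⟩

theorem smul_prPt (g : ↥Co0) (x : ↥leechLattice) (hx : sqNorm (x : GolayPt → ℤ) = 32) :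
    g • prPt x hx = prPt (g • x) ((co0_sqNorm g x).trans hx) :=
  Subtype.ext (smul_pr g x)

theorem neg_coe (x : ↥leechLattice) : ((-x : ↥leechLattice) : GolayPt → ℤ) = -(x : GolayPt → ℤ) :=
  rfl

theorem neg_ne_self {x : ↥leechLattice} (hx : sqNorm (x : GolayPt → ℤ) = 32) : -x ≠ x := by
  intro h
  apply ne_zero_of_norm hx
  apply eq_of_double
  have : x + x = x + -x := by rw [h]
  rw [this]
  abel

end Cfsg.Agent.Helper9.Leech
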