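import Mathlib
import Cfsg.Prelude.Def_Sporadic_a
import Cfsg.Prelude.Def_SporadicCombinatorics
import Cfsg.Agent.Helper9.Leech.Co1A

/-!
Counting the pairs of opposite minimal vectors, and the transitivity of the stabiliser of a minimal
vector on the pairs of each colour.
-/

set_option autoImplicit false

namespace Cfsg.Agent.Helper9.Leech

open Cfsg
open Cfsg.Agent.Helper9.Golay
open scoped Pointwise

theorem min_ncard : {x : ↥leechLattice | sqNorm (x : GolayPt → ℤ) = 32}.ncard = 196560 := by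
  rw [ncard_sub_eq (fun w => sqNorm w = 32)]
  exact card_minVec

theorem co1_card_pts : Nat.card ↥co1Pts = 98280 := by
  have h1 : Nat.card ↥co1Pts =
      {S : Set ↥leechLattice | ∃ x : ↥leechLattice, sqNorm (x : GolayPt → ℤ) = 32 ∧
        S = pr x}.ncard := Nat.card_coe_set_eq _
  have hfin : {x : ↥leechLattice | sqNorm (x : GolayPt → ℤ) = 32}.Finite :=
    Set.finite_of_ncard_ne_zero (by rw [min_ncard]; norm_num)
  have h2 := ncard_two_to_one {x : ↥leechLattice | sqNorm (x : GolayPt → ℤ) = 32}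
    {S : Set ↥leechLattice | ∃ x : ↥leechLattice, sqNorm (x : GolayPt → ℤ) = 32 ∧ S = pr x}
    hfin pr (fun x => -x)
    (fun x hx => ⟨x, hx, rfl⟩)
    (by
      rintro S ⟨x, hx, rfl⟩
      exact ⟨x, hx, rfl⟩)
    (by
      intro x hx
      refine ⟨?_, neg_ne_self hx, pr_neg x⟩
      show sqNorm ((-x : ↥leechLattice) : GolayPt → ℤ) = 32
      rw [neg_coe, sqNorm_neg]
      exact hx)
    (by
      intro x _ y _ h
      rcases pr_eq_pr.mp h with h1 | h1
      · exact Or.inl h1.symm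
      · right
        rw [h1, neg_neg])
  rw [min_ncard] at h2
  omega

section

variable (v : ↥leechLattice) (hv : sqNorm (v : GolayPt → ℤ) = 32)

include hv

theorem min_dot_ncard (d : ℤ) (n : ℕ) (h : cntFast al1 d = n) :
    {y : ↥leechLattice | sqNorm (y : GolayPt → ℤ) = 32 ∧
        dotInt (v : GolayPt → ℤ) (y : GolayPt → ℤ) = d}.ncard = n := by
  obtain ⟨g, hg⟩ := trans32 v std1 hv sqNorm_std1
  have hg' : ((g • v : ↥leechLattice) : GolayPt → ℤ) = toVec al1 := by
    rw [hg, std1_eq]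
  exact ncard_min_of_smul v g al1 rfl hg' d n h

omit hv in
theorem class_image (c : ℤ) :
    Subtype.val '' {S : ↥co1Pts | fcol v (S : Set ↥leechLattice) = c} =
      {S : Set ↥leechLattice | ∃ x : ↥leechLattice, sqNorm (x : GolayPt → ℤ) = 32 ∧
        |dotInt (v : GolayPt → ℤ) (x : GolayPt → ℤ)| = c ∧ S = pr x} := by
  ext S
  constructor
  · rintro ⟨T, hT, rfl⟩
    obtain ⟨x, hx, rfl⟩ := exists_rep T
    rw [Set.mem_ofPred_eq] at hT
    refine ⟨x, hx, ?_, rfl⟩
    rw [← fcol_pr]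
    exact hT
  · rintro ⟨x, hx, hc, rfl⟩
    refine ⟨prPt x hx, ?_, rfl⟩
    rw [Set.mem_ofPred_eq]
    show fcol v (pr x) = c
    rw [fcol_pr]
    exact hc

omit hv in
theorem class_ncard (c : ℤ) :
    {S : ↥co1Pts | fcol v (S : Set ↥leechLattice) = c}.ncard =
      {S : Set ↥leechLattice | ∃ x : ↥leechLattice, sqNorm (x : GolayPt → ℤ) = 32 ∧
        |dotInt (v : GolayPt → ℤ) (x : GolayPt → ℤ)| = c ∧ S = pr x}.ncard := by
  rw [← class_image, Set.ncard_image_of_injective _ Subtype.val_injective]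

/-- the number of pairs of a positive colour. -/
theorem co1_colour_pos (c : ℤ) (hc : 0 < c) (n : ℕ) (h : cntFast al1 (-c) = n) :
    {S : ↥co1Pts | fcol v (S : Set ↥leechLattice) = c}.ncard = n := by
  rw [class_ncard, ← min_dot_ncard v hv (-c) n h]
  have e : {S : Set ↥leechLattice | ∃ x : ↥leechLattice, sqNorm (x : GolayPt → ℤ) = 32 ∧
        |dotInt (v : GolayPt → ℤ) (x : GolayPt → ℤ)| = c ∧ S = pr x} =
      pr '' {y : ↥leechLattice | sqNorm (y : GolayPt → ℤ) = 32 ∧
        dotInt (v : GolayPt → ℤ) (y : GolayPt → ℤ) = -c} := by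
    ext S
    constructor
    · rintro ⟨x, hx, hxc, rfl⟩
      rcases abs_eq hc.le |>.mp hxc with h1 | h1
      · refine ⟨-x, ⟨?_, ?_⟩, pr_neg x⟩
        · show sqNorm ((-x : ↥leechLattice) : GolayPt → ℤ) = 32
          rw [neg_coe, sqNorm_neg]
          exact hx
        · show dotInt (v : GolayPt → ℤ) ((-x : ↥leechLattice) : GolayPt → ℤ) = -c
          rw [neg_coe, dot_neg_right, h1]
      · exact ⟨x, ⟨hx, h1⟩, rfl⟩
    · rintro ⟨x, ⟨hx, hxc⟩, rfl⟩
      refine ⟨x, hx, ?_, rfl⟩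
      rw [hxc, abs_neg, abs_of_pos hc]
  rw [e]
  apply Set.ncard_image_of_injOn
  intro x hx y hy hxy
  rcases pr_eq_pr.mp hxy with h1 | h1
  · exact h1
  · exfalso
    have h2 := hx.2
    rw [h1, neg_coe, dot_neg_right, hy.2] at h2
    omega

/-- the number of pairs of colour zero. -/
theorem co1_colour_zero :
    {S : ↥co1Pts | fcol v (S : Set ↥leechLattice) = 0}.ncard = 46575 := by
  rw [class_ncard]
  have hcount := min_dot_ncard v hv 0 93150 cnt_al1_c
  have hfin : {y : ↥leechLattice | sqNorm (y : GolayPt → ℤ) = 32 ∧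
        dotInt (v : GolayPt → ℤ) (y : GolayPt → ℤ) = 0}.Finite :=
    Set.finite_of_ncard_ne_zero (by rw [hcount]; norm_num)
  have h2 := ncard_two_to_one {y : ↥leechLattice | sqNorm (y : GolayPt → ℤ) = 32 ∧
        dotInt (v : GolayPt → ℤ) (y : GolayPt → ℤ) = 0}
    {S : Set ↥leechLattice | ∃ x : ↥leechLattice, sqNorm (x : GolayPt → ℤ) = 32 ∧
        |dotInt (v : GolayPt → ℤ) (x : GolayPt → ℤ)| = 0 ∧ S = pr x}
    hfin pr (fun x => -x)
    (fun x hx => ⟨x, hx.1, by rw [hx.2]; rfl, rfl⟩)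
    (by
      rintro S ⟨x, hx, hx0, rfl⟩
      exact ⟨x, ⟨hx, abs_eq_zero.mp hx0⟩, rfl⟩)
    (by
      intro x hx
      refine ⟨⟨?_, ?_⟩, neg_ne_self hx.1, pr_neg x⟩
      · show sqNorm ((-x : ↥leechLattice) : GolayPt → ℤ) = 32
        rw [neg_coe, sqNorm_neg]
        exact hx.1
      · show dotInt (v : GolayPt → ℤ) ((-x : ↥leechLattice) : GolayPt → ℤ) = 0
        rw [neg_coe, dot_neg_right, hx.2]
        rfl)
    (by
      intro x _ y _ h
      rcases pr_eq_pr.mp h with h1 | h1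
      · exact Or.inl h1.symm
      · right
        rw [h1, neg_neg])
  rw [hcount] at h2
  omega

/-- a representative with non-positive inner product. -/
theorem exists_rep_nonpos (S : ↥co1Pts) :
    ∃ (x : ↥leechLattice) (hx : sqNorm (x : GolayPt → ℤ) = 32), S = prPt x hx ∧
      dotInt (v : GolayPt → ℤ) (x : GolayPt → ℤ) = -fcol v (S : Set ↥leechLattice) := by
  obtain ⟨x, hx, rfl⟩ := exists_rep S
  by_cases h : dotInt (v : GolayPt → ℤ) (x : GolayPt → ℤ) ≤ 0
  · refine ⟨x, hx, rfl, ?_⟩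
    show _ = -fcol v (pr x)
    rw [fcol_pr, abs_of_nonpos h, neg_neg]
  · have hx' : sqNorm ((-x : ↥leechLattice) : GolayPt → ℤ) = 32 := by
      rw [neg_coe, sqNorm_neg]
      exact hx
    refine ⟨-x, hx', Subtype.ext (pr_neg x).symm, ?_⟩
    show _ = -fcol v (pr x)
    rw [fcol_pr, neg_coe, dot_neg_right, abs_of_pos (by omega)]

/-- the stabiliser of a minimal vector is transitive on the pairs of each colour. -/
theorem co1_stab_trans (S S' : ↥co1Pts)
    (hS : fcol v (S : Set ↥leechLattice) ∈ ({0, 8, 16} : Finset ℤ))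
    (hd : fcol v (S : Set ↥leechLattice) = fcol v (S' : Set ↥leechLattice)) :
    ∃ g : ↥Co0, g • v = v ∧ g • S = S' := by
  obtain ⟨x, hx, rfl, hxd⟩ := exists_rep_nonpos v hv S
  obtain ⟨x', hx', rfl, hxd'⟩ := exists_rep_nonpos v hv S'
  rw [← hd] at hxd'
  have key : ∃ g : ↥Co0, g • v = v ∧ g • x = x' := by
    simp only [Finset.mem_insert, Finset.mem_singleton] at hS
    rcases hS with h | h | h
    · rw [h] at hxd hxd'
      exact trans_orth v x x' hv hx hx' hxd hxd'
    · rw [h] at hxd hxd'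
      exact trans_pair8 v x x' hv hx hx' hxd hxd'
    · rw [h] at hxd hxd'
      exact trans_pair16 v x x' hv hx hx' hxd hxd'
  obtain ⟨g, g1, g2⟩ := key
  refine ⟨g, g1, ?_⟩
  rw [smul_prPt]
  apply Subtype.ext
  show pr (g • x) = pr x'
  rw [g2]

end

end Cfsg.Agent.Helper9.Leech
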