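import Mathlib
import Cfsg.Prelude.Def_Sporadic_a
import Cfsg.Prelude.Def_SporadicCombinatorics
import Cfsg.Agent.Helper9.Leech.Co1B

/-!
The permutation group induced on the 98280 pairs of opposite minimal vectors is simple, and it is
the quotient of the automorphism group by its centre.
-/

set_option autoImplicit false

namespace Cfsg.Agent.Helper9.Leech

open Cfsg
open Cfsg.Agent.Helper9.Golay
open scoped Pointwise

/-- the permutation group induced on the pairs. -/
abbrev co1Grp : Subgroup (Equiv.Perm ↥co1Pts) := (MulAction.toPermHom ↥Co0 ↥co1Pts).range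

/-- the permutation induced by an automorphism. -/
def toR : ↥Co0 →* ↥co1Grp := (MulAction.toPermHom ↥Co0 ↥co1Pts).rangeRestrict

theorem toR_smul (g : ↥Co0) (S : ↥co1Pts) : toR g • S = g • S := rfl

theorem toR_surj (r : ↥co1Grp) : ∃ g : ↥Co0, toR g = r := by
  obtain ⟨g, hg⟩ := r.2
  exact ⟨g, Subtype.ext hg⟩

theorem toR_eq_one_iff (g : ↥Co0) : toR g = 1 ↔ ∀ S : ↥co1Pts, g • S = S := by
  constructor
  · intro h S
    rw [← toR_smul, h, one_smul]
  · intro h
    apply Subtype.ext
    apply Equiv.ext
    intro S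
    exact h S

/-- the central automorphism. -/
def negEl : ↥Co0 := ⟨negPerm, negPerm_mem⟩

theorem negEl_smul (x : ↥leechLattice) : negEl • x = -x := rfl

theorem toR_negEl : toR negEl = 1 := by
  rw [toR_eq_one_iff]
  intro S
  obtain ⟨x, hx, rfl⟩ := exists_rep S
  rw [smul_prPt]
  apply Subtype.ext
  show pr (negEl • x) = pr x
  rw [negEl_smul, pr_neg]

theorem negEl_mul_self : negEl * negEl = 1 := by
  apply Subtype.ext
  apply Equiv.ext
  intro x
  show -(-x) = x
  rw [neg_neg]

theorem co1_pretrans : MulAction.IsPretransitive ↥co1Grp ↥co1Pts := by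
  refine ⟨fun S S' => ?_⟩
  obtain ⟨x, hx, rfl⟩ := exists_rep S
  obtain ⟨x', hx', rfl⟩ := exists_rep S'
  obtain ⟨g, hg⟩ := trans32 x x' hx hx'
  refine ⟨toR g, ?_⟩
  rw [toR_smul, smul_prPt]
  apply Subtype.ext
  show pr (g • x) = pr x'
  rw [hg]

/-- the number of points of each colour. -/
def co1Num (c : ℤ) : ℕ := if c = 0 then 46575 else if c = 8 then 47104 else 4600

theorem co1_arith : ∀ C ∈ ({0, 8, 16} : Finset ℤ).powerset,
    (1 + ∑ c ∈ C, co1Num c) ∣ 98280 → C = ∅ ∨ C = ({0, 8, 16} : Finset ℤ) := by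
  decide

section

variable (v : ↥leechLattice) (hv : sqNorm (v : GolayPt → ℤ) = 32)

include hv

theorem co1_colour_card : ∀ c ∈ ({0, 8, 16} : Finset ℤ),
    {S : ↥co1Pts | fcol v (S : Set ↥leechLattice) = c}.ncard = co1Num c := by
  intro c hc
  simp only [Finset.mem_insert, Finset.mem_singleton] at hc
  rcases hc with rfl | rfl | rfl
  · exact co1_colour_zero v hv
  · exact co1_colour_pos v hv 8 (by norm_num) 47104 cnt_al1_b
  · exact co1_colour_pos v hv 16 (by norm_num) 4600 cnt_al1_a

theorem co1_fcol_self : fcol v ((prPt v hv : ↥co1Pts) : Set ↥leechLattice) ∉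
    ({0, 8, 16} : Finset ℤ) := by
  show fcol v (pr v) ∉ ({0, 8, 16} : Finset ℤ)
  rw [fcol_pr, dot_self, hv]
  decide

theorem co1_htr (S S' : ↥co1Pts)
    (hS : fcol v (S : Set ↥leechLattice) ∈ ({0, 8, 16} : Finset ℤ))
    (hd : fcol v (S : Set ↥leechLattice) = fcol v (S' : Set ↥leechLattice)) :
    ∃ k ∈ MulAction.stabilizer ↥co1Grp (prPt v hv), k • S = S' := by
  obtain ⟨g, g1, g2⟩ := co1_stab_trans v hv S S' hS hd
  refine ⟨toR g, ?_, ?_⟩
  · rw [MulAction.mem_stabilizer_iff, toR_smul, smul_prPt]
    apply Subtype.ext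
    show pr (g • v) = pr v
    rw [g1]
  · rw [toR_smul]
    exact g2

theorem co1_preprim : MulAction.IsPreprimitive ↥co1Grp ↥co1Pts := by
  have := co1_pretrans
  have hcard := co1_card_pts
  have : Finite ↥co1Pts := Nat.finite_of_card_ne_zero (by rw [hcard]; norm_num)
  exact Cfsg.Agent.Helper9.preprimitive_of_colours (prPt v hv)
    (fun S => fcol v (S : Set ↥leechLattice))
    ({0, 8, 16} : Finset ℤ) co1Num 98280 hcard (co1_fcol_self v hv) (co1_colour_card v hv)
    (by decide) (co1_htr v hv) co1_arith

/-- the homomorphism from the stabiliser of a minimal vector to the stabiliser of its pair. -/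
def stabHom : ↥(MulAction.stabilizer ↥Co0 v) →* ↥(MulAction.stabilizer ↥co1Grp (prPt v hv)) where
  toFun k := ⟨toR k.1, by
    have hk : k.1 • v = v := k.2
    rw [MulAction.mem_stabilizer_iff, toR_smul, smul_prPt]
    apply Subtype.ext
    show pr (k.1 • v) = pr v
    rw [hk]⟩
  map_one' := by
    apply Subtype.ext
    show toR 1 = 1
    exact map_one toR
  map_mul' k k' := by
    apply Subtype.ext
    show toR (k.1 * k'.1) = toR k.1 * toR k'.1
    exact map_mul toR k.1 k'.1

theorem stabHom_injective : Function.Injective (stabHom v hv) := by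
  obtain ⟨hsimp, -⟩ := co2_simple_card v hv
  rw [← MonoidHom.ker_eq_bot_iff]
  rcases (MonoidHom.normal_ker (stabHom v hv)).eq_bot_or_eq_top with h | h
  · exact h
  · exfalso
    -- two different pairs of colour 16
    have : Finite ↥co1Pts := Nat.finite_of_card_ne_zero (by rw [co1_card_pts]; norm_num)
    have h4600 := co1_colour_pos v hv 16 (by norm_num) 4600 cnt_al1_a
    have h1 : 1 < {S : ↥co1Pts | fcol v (S : Set ↥leechLattice) = 16}.ncard := by
      rw [h4600]
      norm_num
    obtain ⟨S, hS, S', hS', hne⟩ := (Set.one_lt_ncard (Set.toFinite _)).mp h1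
    rw [Set.mem_ofPred_eq] at hS hS'
    obtain ⟨g, g1, g2⟩ := co1_stab_trans v hv S S' (by rw [hS]; decide) (by rw [hS, hS'])
    have hmem : (⟨g, g1⟩ : ↥(MulAction.stabilizer ↥Co0 v)) ∈ (stabHom v hv).ker := by
      rw [h]
      trivial
    rw [MonoidHom.mem_ker] at hmem
    have h2 : toR g = 1 := congrArg Subtype.val hmem
    rw [toR_eq_one_iff] at h2
    exact hne ((h2 S).symm.trans g2)

theorem stabHom_surjective : Function.Surjective (stabHom v hv) := by
  intro r
  obtain ⟨g, hg⟩ := toR_surj r.1
  have hr : r.1 • prPt v hv = prPt v hv := r.2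
  rw [← hg, toR_smul, smul_prPt] at hr
  have hr' : pr (g • v) = pr v := congrArg Subtype.val hr
  rcases pr_eq_pr.mp hr' with h | h
  · refine ⟨⟨g, h⟩, ?_⟩
    apply Subtype.ext
    exact hg
  · refine ⟨⟨negEl * g, ?_⟩, ?_⟩
    · rw [MulAction.mem_stabilizer_iff, mul_smul', negEl_smul, h, neg_neg]
    · apply Subtype.ext
      show toR (negEl * g) = r.1
      rw [map_mul, toR_negEl, one_mul, hg]

theorem co1Grp_simple : IsSimpleGroup ↥co1Grp := by
  have := co1_pretrans
  have := co1_preprim v hv
  have hcard := co1_card_pts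
  have : Finite ↥co1Pts := Nat.finite_of_card_ne_zero (by rw [hcard]; norm_num)
  obtain ⟨hsimp, -⟩ := co2_simple_card v hv
  have hs : IsSimpleGroup ↥(MulAction.stabilizer ↥co1Grp (prPt v hv)) :=
    (MulEquiv.ofBijective (stabHom v hv)
      ⟨stabHom_injective v hv, stabHom_surjective v hv⟩).symm.isSimpleGroup
  apply Cfsg.Agent.Helper9.simple_of_prim_stab_simple (prPt v hv) hs
  intro N hN hc
  have hcol := Cfsg.Agent.Helper9.colours_cover (prPt v hv)
    (fun S => fcol v (S : Set ↥leechLattice))
    ({0, 8, 16} : Finset ℤ) co1Num 98280 hcard (co1_fcol_self v hv) (co1_colour_card v hv)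
    (by decide)
  exact Cfsg.Agent.Helper9.no_regular_of_orders (prPt v hv)
    (fun S => fcol v (S : Set ↥leechLattice)) ({0, 8, 16} : Finset ℤ) hcol (co1_htr v hv)
    ({2, 3, 5, 7, 13} : Finset ℕ)
    (by
      rw [hcard]
      decide)
    (by decide) N hN hc

/-- the kernel of the action on the pairs is the centre. -/
theorem ker_eq_center : (MulAction.toPermHom ↥Co0 ↥co1Pts).ker = Subgroup.center ↥Co0 := by
  have hnc : negEl ∈ Subgroup.center ↥Co0 := by
    rw [Subgroup.mem_center_iff]
    intro f
    exact (negPerm_central f).symm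
  have hker : ∀ k : ↥Co0, k ∈ (MulAction.toPermHom ↥Co0 ↥co1Pts).ker ↔ toR k = 1 := by
    intro k
    rw [MonoidHom.mem_ker]
    constructor
    · intro h
      exact Subtype.ext h
    · intro h
      exact congrArg Subtype.val h
  apply le_antisymm
  · intro k hk
    rw [hker] at hk
    have hk' := (toR_eq_one_iff k).mp hk (prPt v hv)
    rw [smul_prPt] at hk'
    have hk2 : pr (k • v) = pr v := congrArg Subtype.val hk'
    have hfix : ∀ k' : ↥Co0, toR k' = 1 → k' • v = v → k' = 1 := by
      intro k' h1 h2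
      have : stabHom v hv ⟨k', h2⟩ = 1 := Subtype.ext h1
      have h3 := stabHom_injective v hv (this.trans (map_one (stabHom v hv)).symm)
      exact congrArg Subtype.val h3
    rcases pr_eq_pr.mp hk2 with h | h
    · rw [hfix k hk h]
      exact Subgroup.one_mem _
    · have h1 : toR (negEl * k) = 1 := by rw [map_mul, toR_negEl, hk, one_mul]
      have h2 : (negEl * k) • v = v := by rw [mul_smul', negEl_smul, h, neg_neg]
      have h3 := hfix _ h1 h2
      have h4 : k = negEl := by
        have := congrArg (fun z => negEl * z) h3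
        simp only [← mul_assoc, negEl_mul_self, one_mul, mul_one] at this
        exact this
      rw [h4]
      exact hnc
  · intro z hz
    rw [hker]
    have hz' := Subgroup.mem_center_iff.mp hz
    rcases central_eq (z := (z : Equiv.Perm ↥leechLattice)) z.2 (by
      intro f hf
      have := hz' ⟨f, hf⟩
      exact (congrArg (fun w : ↥Co0 => (w : Equiv.Perm ↥leechLattice)) this).symm) with h | h
    · have : z = 1 := Subtype.ext h
      rw [this, map_one]
    · have : z = negEl := Subtype.ext h
      rw [this, toR_negEl]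

end

theorem co1_simple_card : IsSimpleGroup (↥Co0 ⧸ Subgroup.center ↥Co0) ∧
    Nat.card (↥Co0 ⧸ Subgroup.center ↥Co0) = 4157776806543360000 := by
  constructor
  · have hsimp := co1Grp_simple std1 sqNorm_std1
    have hk := ker_eq_center std1 sqNorm_std1
    exact ((QuotientGroup.quotientMulEquivOfEq hk.symm).trans
      (QuotientGroup.quotientKerEquivRange (MulAction.toPermHom ↥Co0 ↥co1Pts))).isSimpleGroup
  · have h := Subgroup.card_eq_card_quotient_mul_card_subgroup (Subgroup.center ↥Co0)
    rw [card_co0, card_center] at h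
    omega

end Cfsg.Agent.Helper9.Leech
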