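import Mathlib
import Cfsg.Prelude.Def_Sporadic_a
import Cfsg.Prelude.Def_SporadicCombinatorics
import Cfsg.Agent.Helper9.Leech.Order
import Cfsg.Agent.Helper9.Leech.Center

set_option autoImplicit false

/-!
The stabilizer of the standard cross: the permutation part of a monomial automorphism, as a
homomorphism onto the group of the code.
-/

namespace Cfsg.Agent.Helper9.Leech.Mono

open Cfsg
open Cfsg.Agent.Helper9.Golay
open Cfsg.Agent.Helper9.Leech

/-- the monomial automorphism as an element of the automorphism group. -/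
def monoEl (σ : Equiv.Perm GolayPt) (hσ : σ ∈ M24) (c : Finset GolayPt)
    (hc : c ∈ supports (golayCode : Set (GolayPt → ZMod 2))) : ↥Co0 :=
  ⟨monoPerm σ hσ c hc, monoPerm_mem σ hσ c hc⟩

theorem monoEl_mem_NN (σ : Equiv.Perm GolayPt) (hσ : σ ∈ M24) (c : Finset GolayPt)
    (hc : c ∈ supports (golayCode : Set (GolayPt → ZMod 2))) : monoEl σ hσ c hc ∈ NN :=
  (mem_NN _).mpr (monoPerm_stab σ hσ c hc)

theorem coe_neg_e8 (j : GolayPt) :
    ((-e8 j : ↥leechLattice) : GolayPt → ℤ) = Pi.single j (-8) := by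
  rw [AddSubgroup.coe_neg]
  change -(Pi.single j (8 : ℤ) : GolayPt → ℤ) = _
  rw [← Pi.single_neg]

theorem monoEl_smul_e8 (σ : Equiv.Perm GolayPt) (hσ : σ ∈ M24) (c : Finset GolayPt)
    (hc : c ∈ supports (golayCode : Set (GolayPt → ZMod 2))) (i : GolayPt) :
    monoEl σ hσ c hc • e8 i = e8 (σ i) ∨ monoEl σ hσ c hc • e8 i = -e8 (σ i) := by
  have h : ((monoEl σ hσ c hc • e8 i : ↥leechLattice) : GolayPt → ℤ) =
      Pi.single (σ i) (if σ i ∈ c then -8 else 8) := by
    change signedPerm σ c (Pi.single i 8) = _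
    rw [signedPerm_single]
  by_cases hi : σ i ∈ c
  · right
    apply Subtype.ext
    rw [h, if_pos hi, coe_neg_e8]
  · left
    apply Subtype.ext
    rw [h, if_neg hi]
    rfl

theorem e8_inj {a b : GolayPt} (h : e8 a = e8 b ∨ e8 a = -e8 b) : a = b := by
  by_contra hab
  have e1 : ((e8 a : ↥leechLattice) : GolayPt → ℤ) a = 8 := by rw [e8_apply, if_pos rfl]
  have e2 : ((e8 b : ↥leechLattice) : GolayPt → ℤ) a = 0 := by rw [e8_apply, if_neg hab]
  rcases h with h | h
  · have h3 : ((e8 a : ↥leechLattice) : GolayPt → ℤ) a = ((e8 b : ↥leechLattice) : GolayPt → ℤ) a := by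
      rw [h]
    rw [e1, e2] at h3
    omega
  · have h3 : ((e8 a : ↥leechLattice) : GolayPt → ℤ) a =
        ((-e8 b : ↥leechLattice) : GolayPt → ℤ) a := by
      rw [← h]
    rw [AddSubgroup.coe_neg, Pi.neg_apply, e1, e2] at h3
    omega

theorem smul_neg' (g : ↥Co0) (v : ↥leechLattice) : g • (-v) = -(g • v) := map_neg' g.2 v

theorem exists_perm (g : ↥Co0) (hg : g ∈ NN) : ∃ τ : Equiv.Perm GolayPt, τ ∈ M24 ∧
    ∀ i, g • e8 i = e8 (τ i) ∨ g • e8 i = -e8 (τ i) := by
  obtain ⟨σ, hσ, c, hc, rfl⟩ := stab_monomial g ((mem_NN g).mp hg)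
  exact ⟨σ, hσ, fun i => monoEl_smul_e8 σ hσ c hc i⟩

theorem perm_unique {g : ↥Co0} {τ τ' : Equiv.Perm GolayPt}
    (h : ∀ i, g • e8 i = e8 (τ i) ∨ g • e8 i = -e8 (τ i))
    (h' : ∀ i, g • e8 i = e8 (τ' i) ∨ g • e8 i = -e8 (τ' i)) : τ = τ' := by
  apply Equiv.ext
  intro i
  rcases h i with h1 | h1 <;> rcases h' i with h2 | h2
  · exact e8_inj (Or.inl (h1.symm.trans h2))
  · exact e8_inj (Or.inr (h1.symm.trans h2))
  · refine (e8_inj (Or.inr ?_)).symm
    rw [← h1, h2]
  · refine e8_inj (Or.inl ?_)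
    have := h1.symm.trans h2
    exact neg_injective this

/-- the permutation part of an automorphism stabilizing the standard cross. -/
noncomputable def permFun (g : ↥NN) : ↥M24 :=
  ⟨Classical.choose (exists_perm g.1 g.2), (Classical.choose_spec (exists_perm g.1 g.2)).1⟩

theorem permFun_spec (g : ↥NN) (i : GolayPt) :
    (g : ↥Co0) • e8 i = e8 ((permFun g : Equiv.Perm GolayPt) i) ∨
      (g : ↥Co0) • e8 i = -e8 ((permFun g : Equiv.Perm GolayPt) i) :=
  (Classical.choose_spec (exists_perm g.1 g.2)).2 i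

theorem permFun_eq (g : ↥NN) {τ : Equiv.Perm GolayPt}
    (h : ∀ i, (g : ↥Co0) • e8 i = e8 (τ i) ∨ (g : ↥Co0) • e8 i = -e8 (τ i)) :
    (permFun g : Equiv.Perm GolayPt) = τ :=
  perm_unique (permFun_spec g) h

/-- the permutation part, as a homomorphism. -/
noncomputable def permHom : ↥NN →* ↥M24 :=
  MonoidHom.mk' permFun (by
    intro g g'
    apply Subtype.ext
    apply permFun_eq
    intro i
    have e : ((g * g' : ↥NN) : ↥Co0) • e8 i = (g : ↥Co0) • ((g' : ↥Co0) • e8 i) := rfl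
    rw [e]
    show _ = e8 ((permFun g : Equiv.Perm GolayPt) ((permFun g' : Equiv.Perm GolayPt) i)) ∨
      _ = -e8 ((permFun g : Equiv.Perm GolayPt) ((permFun g' : Equiv.Perm GolayPt) i))
    rcases permFun_spec g' i with h1 | h1 <;>
      rcases permFun_spec g ((permFun g' : Equiv.Perm GolayPt) i) with h2 | h2
    · left; rw [h1, h2]
    · right; rw [h1, h2]
    · right; rw [h1, smul_neg', h2]
    · left; rw [h1, smul_neg', h2, neg_neg])

theorem permHom_apply (g : ↥NN) : permHom g = permFun g := rfl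

theorem permHom_monoEl (σ : Equiv.Perm GolayPt) (hσ : σ ∈ M24) (c : Finset GolayPt)
    (hc : c ∈ supports (golayCode : Set (GolayPt → ZMod 2))) :
    permHom ⟨monoEl σ hσ c hc, monoEl_mem_NN σ hσ c hc⟩ = ⟨σ, hσ⟩ := by
  apply Subtype.ext
  rw [permHom_apply]
  exact permFun_eq _ (fun i => monoEl_smul_e8 σ hσ c hc i)

theorem permHom_surjective : Function.Surjective permHom := by
  rintro ⟨σ, hσ⟩
  exact ⟨⟨monoEl σ hσ ∅ Spor.empty_mem_supports_golayCode,
    monoEl_mem_NN σ hσ ∅ Spor.empty_mem_supports_golayCode⟩, permHom_monoEl σ hσ ∅ _⟩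

theorem exists_monoEl (g : ↥NN) : ∃ (c : Finset GolayPt)
    (hc : c ∈ supports (golayCode : Set (GolayPt → ZMod 2))),
    (g : ↥Co0) = monoEl (permHom g : Equiv.Perm GolayPt) (permHom g).2 c hc := by
  obtain ⟨σ, hσ, c, hc, h⟩ := stab_monomial g.1 ((mem_NN g.1).mp g.2)
  have h1 : permHom g = ⟨σ, hσ⟩ := by
    have : g = ⟨monoEl σ hσ c hc, monoEl_mem_NN σ hσ c hc⟩ := Subtype.ext h
    rw [this]
    exact permHom_monoEl σ hσ c hc
  refine ⟨c, hc, ?_⟩
  rw [h]
  have h2 : (permHom g : Equiv.Perm GolayPt) = σ := congrArg Subtype.val h1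
  unfold monoEl
  congr 1
  congr 1
  exact h2.symm

theorem card_ker_permHom : Nat.card ↥(permHom.ker) = 4096 := by
  have h1 := Subgroup.card_eq_card_quotient_mul_card_subgroup (permHom.ker)
  have h2 : Nat.card (↥NN ⧸ permHom.ker) = Nat.card ↥M24 :=
    Nat.card_congr (QuotientGroup.quotientKerEquivOfSurjective permHom permHom_surjective).toEquiv
  rw [card_NN, h2, card_M24] at h1
  omega

end Cfsg.Agent.Helper9.Leech.Mono
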