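import Mathlib
import Cfsg.Prelude.Def_Sporadic_a
import Cfsg.Prelude.Def_SporadicCombinatorics
import Cfsg.Prelude.Def_Spor_Conway
import Cfsg.Agent.Helper9.Leech.MonoStructA
import Cfsg.Agent.Helper9.Leech.Co1C
import Cfsg.Agent.Helper9.Golay.M24Simple

set_option autoImplicit false

/-!
The image of the stabilizer of the standard cross in the quotient of the lattice automorphism
group by its centre: a normal elementary abelian subgroup of order `2 ^ 11` with a complement
isomorphic to the group of the code, containing every normal 2-subgroup.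
-/

namespace Cfsg.Agent.Helper9.Leech.Mono

open Cfsg
open Cfsg.Agent.Helper9.Golay
open Cfsg.Agent.Helper9.Leech

theorem card_map_mul {A B : Type*} [Group A] [Group B] (f : A →* B) (K : Subgroup A) :
    Nat.card ↥(K.map f) * Nat.card ↥(f.ker ⊓ K) = Nat.card ↥K := by
  rw [← Subgroup.relIndex_ker, Subgroup.relIndex]
  have h1 := Subgroup.card_mul_index (f.ker.subgroupOf K)
  have h2 : Nat.card ↥(f.ker.subgroupOf K) = Nat.card ↥(f.ker ⊓ K) := by
    rw [← Subgroup.inf_subgroupOf_right]
    exact Nat.card_congr (Subgroup.subgroupOfEquivOfLe inf_le_right).toEquiv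
  rw [h2] at h1
  rw [mul_comm]; exact h1

theorem monoPerm_mul_empty (σ σ' : Equiv.Perm GolayPt) (hσ : σ ∈ M24) (hσ' : σ' ∈ M24) :
    monoPerm (σ * σ') (M24.mul_mem hσ hσ') ∅ Spor.empty_mem_supports_golayCode =
      monoPerm σ hσ ∅ Spor.empty_mem_supports_golayCode *
        monoPerm σ' hσ' ∅ Spor.empty_mem_supports_golayCode := by
  apply Equiv.ext
  intro v
  apply Subtype.ext
  funext i
  show signedPerm (σ * σ') ∅ (v : GolayPt → ℤ) i =
    signedPerm σ ∅ (signedPerm σ' ∅ (v : GolayPt → ℤ)) i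
  simp only [signedPerm, Finset.notMem_empty, if_false]
  rfl

theorem monoPerm_one_empty :
    monoPerm 1 M24.one_mem ∅ Spor.empty_mem_supports_golayCode = 1 := by
  apply Equiv.ext
  intro v
  apply Subtype.ext
  funext i
  show signedPerm 1 ∅ (v : GolayPt → ℤ) i = (v : GolayPt → ℤ) i
  simp only [signedPerm, Finset.notMem_empty, if_false]
  rfl

/-- the coordinate permutations of the code, as lattice automorphisms. -/
def permSec : ↥M24 →* ↥Co0 where
  toFun σ := monoEl σ.1 σ.2 ∅ Spor.empty_mem_supports_golayCode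
  map_one' := Subtype.ext monoPerm_one_empty
  map_mul' σ σ' := Subtype.ext (monoPerm_mul_empty σ.1 σ'.1 σ.2 σ'.2)

theorem permSec_mem_NN (σ : ↥M24) : permSec σ ∈ NN :=
  monoEl_mem_NN σ.1 σ.2 ∅ Spor.empty_mem_supports_golayCode

theorem permHom_permSec (σ : ↥M24) : permHom ⟨permSec σ, permSec_mem_NN σ⟩ = σ :=
  permHom_monoEl σ.1 σ.2 ∅ Spor.empty_mem_supports_golayCode

theorem negEl_mem_NN : negEl ∈ NN := by
  rw [mem_NN]
  intro v hv
  obtain ⟨i, s, hs, hvs⟩ := hv
  refine ⟨i, -s, ?_, ?_⟩
  · rcases hs with h | h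
    · right; rw [h]
    · left; rw [h]; norm_num
  · rw [negEl_smul, AddSubgroup.coe_neg, hvs, ← Pi.single_neg]

theorem permHom_negEl : permHom ⟨negEl, negEl_mem_NN⟩ = 1 := by
  apply Subtype.ext
  rw [permHom_apply]
  apply permFun_eq
  intro i
  right
  show negEl • e8 i = -e8 i
  rw [negEl_smul]

theorem center_le_NN : Subgroup.center ↥Co0 ≤ NN := by
  intro c hc
  have hz := Subgroup.mem_center_iff.mp hc
  rcases central_eq (z := (c : Equiv.Perm ↥leechLattice)) c.2 (by
    intro f hf
    have := hz ⟨f, hf⟩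
    exact (congrArg (fun w : ↥Co0 => (w : Equiv.Perm ↥leechLattice)) this).symm) with h | h
  · have : c = 1 := Subtype.ext h
    rw [this]; exact NN.one_mem
  · have : c = negEl := Subtype.ext h
    rw [this]; exact negEl_mem_NN

theorem permHom_center (c : ↥Co0) (hc : c ∈ Subgroup.center ↥Co0) :
    permHom ⟨c, center_le_NN hc⟩ = 1 := by
  have hz := Subgroup.mem_center_iff.mp hc
  rcases central_eq (z := (c : Equiv.Perm ↥leechLattice)) c.2 (by
    intro f hf
    have := hz ⟨f, hf⟩
    exact (congrArg (fun w : ↥Co0 => (w : Equiv.Perm ↥leechLattice)) this).symm) with h | h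
  · have h1 : c = 1 := Subtype.ext h
    have h2 : (⟨c, center_le_NN hc⟩ : ↥NN) = 1 := Subtype.ext h1
    rw [h2, map_one]
  · have h1 : c = negEl := Subtype.ext h
    have h2 : (⟨c, center_le_NN hc⟩ : ↥NN) = ⟨negEl, negEl_mem_NN⟩ := Subtype.ext h1
    rw [h2, permHom_negEl]

/-- the sign changes. -/
noncomputable def signSub : Subgroup ↥Co0 := permHom.ker.map NN.subtype

theorem mem_signSub (g : ↥Co0) : g ∈ signSub ↔ ∃ hg : g ∈ NN, permHom ⟨g, hg⟩ = 1 := by
  constructor
  · rintro ⟨n, hn, rfl⟩
    exact ⟨n.2, MonoidHom.mem_ker.mp hn⟩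
  · rintro ⟨hg, h⟩
    exact ⟨⟨g, hg⟩, MonoidHom.mem_ker.mpr h, rfl⟩

theorem center_le_signSub : Subgroup.center ↥Co0 ≤ signSub := by
  intro c hc
  rw [mem_signSub]
  exact ⟨center_le_NN hc, permHom_center c hc⟩

theorem signSub_le_NN : signSub ≤ NN := by
  intro g hg
  obtain ⟨h, -⟩ := (mem_signSub g).mp hg
  exact h

theorem card_signSub : Nat.card ↥signSub = 4096 := by
  unfold signSub
  rw [Subgroup.card_map_of_injective (Subgroup.subtype_injective _), card_ker_permHom]

/-- the projection onto the quotient by the centre. -/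
def proj0 : ↥Co0 →* Spor.Co1 := QuotientGroup.mk' (Subgroup.center ↥Co0)

theorem proj0_ker : proj0.ker = Subgroup.center ↥Co0 := QuotientGroup.ker_mk' _

theorem proj0_eq_one_iff (g : ↥Co0) : proj0 g = 1 ↔ g ∈ Subgroup.center ↥Co0 := by
  rw [← MonoidHom.mem_ker, proj0_ker]

theorem proj0_eq_iff (g g' : ↥Co0) : proj0 g = proj0 g' ↔ g⁻¹ * g' ∈ Subgroup.center ↥Co0 := by
  rw [← proj0_eq_one_iff, map_mul, map_inv, inv_mul_eq_one]

theorem card_center' : Nat.card ↥(Subgroup.center ↥Co0) = 2 := card_center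

theorem card_signSub_map : Nat.card ↥(signSub.map proj0) = 2 ^ 11 := by
  have h := card_map_mul proj0 signSub
  rw [proj0_ker, inf_eq_left.mpr center_le_signSub, card_center', card_signSub] at h
  omega

theorem permSec_injective' : Function.Injective (proj0.comp permSec) := by
  rw [injective_iff_map_eq_one]
  intro σ hσ
  have h1 : permSec σ ∈ Subgroup.center ↥Co0 := (proj0_eq_one_iff _).mp hσ
  have h2 := permHom_center _ h1
  have h3 : (⟨permSec σ, center_le_NN h1⟩ : ↥NN) = ⟨permSec σ, permSec_mem_NN σ⟩ := rfl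
  rw [h3, permHom_permSec] at h2
  exact h2

/-- Normal 2-subgroups of the stabilizer of the standard cross consist of sign changes. -/
theorem normal_two_le (T : Subgroup ↥NN) [hT : T.Normal] (hp : IsPGroup 2 T) :
    T ≤ permHom.ker := by
  have hn : (T.map permHom).Normal := hT.map permHom permHom_surjective
  have hp' : IsPGroup 2 (T.map permHom) := hp.map permHom
  have hsimp := M24_simple
  rcases hsimp.eq_bot_or_eq_top_of_normal _ hn with h | h
  · intro t ht
    rw [MonoidHom.mem_ker]
    have : permHom t ∈ T.map permHom := ⟨t, ht, rfl⟩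
    rw [h, Subgroup.mem_bot] at this
    exact this
  · exfalso
    have : Fact (Nat.Prime 2) := ⟨Nat.prime_two⟩
    have hfin : Finite ↥M24 := Nat.finite_of_card_ne_zero (by rw [card_M24]; norm_num)
    have hM : IsPGroup 2 ↥M24 := by
      intro σ
      have hσ : σ ∈ T.map permHom := by rw [h]; exact Subgroup.mem_top _
      obtain ⟨k, hk⟩ := hp' ⟨σ, hσ⟩
      have e := congrArg Subtype.val hk
      rw [Subgroup.coe_pow] at e
      exact ⟨k, e⟩
    obtain ⟨n, hn⟩ := (IsPGroup.iff_card).mp hM
    rw [card_M24] at hn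
    have h3 : 3 ∣ 2 ^ n := by rw [← hn]; norm_num
    have := Nat.Prime.dvd_of_dvd_pow Nat.prime_three h3
    omega

end Cfsg.Agent.Helper9.Leech.Mono
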