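import Mathlib
import Cfsg.Prelude.Def_Sporadic_a
import Cfsg.Prelude.Def_SporadicCombinatorics
import Cfsg.Prelude.Def_Spor_Conway
import Cfsg.Agent.Helper9.Leech.MonoStructB

set_option autoImplicit false

/-!
The structure of the image of the stabilizer of the standard cross in the quotient of the lattice
automorphism group by its centre, and the description of the stabilizer as the stabilizer of a
class modulo twice the lattice.
-/

namespace Cfsg.Agent.Helper9.Leech.Mono

open Cfsg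
open Cfsg.Agent.Helper9.Golay
open Cfsg.Agent.Helper9.Leech

theorem center_sq' (c : ↥Co0) (hc : c ∈ Subgroup.center ↥Co0) : c * c = 1 := by
  have hz := Subgroup.mem_center_iff.mp hc
  rcases central_eq (z := (c : Equiv.Perm ↥leechLattice)) c.2 (by
    intro f hf
    have := hz ⟨f, hf⟩
    exact (congrArg (fun w : ↥Co0 => (w : Equiv.Perm ↥leechLattice)) this).symm) with h | h
  · have : c = 1 := Subtype.ext h
    rw [this, one_mul]
  · have : c = negEl := Subtype.ext h
    rw [this, negEl_mul_self]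

/-- The structure of the image of the stabilizer of the standard cross modulo the centre. -/
theorem frame_struct : ∃ D M : Subgroup Spor.Co1,
    D ≤ NN.map proj0 ∧ M ≤ NN.map proj0 ∧ D ⊓ M = ⊥ ∧ D ⊔ M = NN.map proj0 ∧
    Nat.card ↥D = 2 ^ 11 ∧ Nonempty (↥M ≃* ↥M24) ∧
    ∀ N : Subgroup Spor.Co1, N ≤ NN.map proj0 → IsPGroup 2 N →
      (∀ x ∈ NN.map proj0, ∀ n ∈ N, x * n * x⁻¹ ∈ N) → N ≤ D := by
  refine ⟨signSub.map proj0, (proj0.comp permSec).range, Subgroup.map_mono signSub_le_NN, ?_, ?_,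
    ?_, card_signSub_map, ⟨(MonoidHom.ofInjective permSec_injective').symm⟩, ?_⟩
  · rintro x ⟨σ, rfl⟩
    exact ⟨permSec σ, permSec_mem_NN σ, rfl⟩
  · rw [eq_bot_iff]
    rintro x ⟨⟨d, hd, hdx⟩, ⟨σ, hσx⟩⟩
    rw [Subgroup.mem_bot]
    have h1 : proj0 d = proj0 (permSec σ) := by rw [hdx]; exact hσx.symm
    rw [proj0_eq_iff] at h1
    have h2 : permSec σ ∈ signSub := by
      have := signSub.mul_mem hd (center_le_signSub h1)
      rwa [← mul_assoc, mul_inv_cancel, one_mul] at this
    obtain ⟨h3, h4⟩ := (mem_signSub _).mp h2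
    have h5 : (⟨permSec σ, h3⟩ : ↥NN) = ⟨permSec σ, permSec_mem_NN σ⟩ := rfl
    rw [h5, permHom_permSec] at h4
    rw [← hσx, h4, map_one]
  · apply le_antisymm
    · apply sup_le (Subgroup.map_mono signSub_le_NN)
      rintro x ⟨σ, rfl⟩
      exact ⟨permSec σ, permSec_mem_NN σ, rfl⟩
    · rintro x ⟨g, hg, rfl⟩
      have hg' : g ∈ NN := hg
      set σ := permHom ⟨g, hg'⟩ with hσ
      have hp : permSec σ ∈ NN := permSec_mem_NN σ
      have hd : g * (permSec σ)⁻¹ ∈ signSub := by
        rw [mem_signSub]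
        refine ⟨NN.mul_mem hg' (NN.inv_mem hp), ?_⟩
        have e : (⟨g * (permSec σ)⁻¹, NN.mul_mem hg' (NN.inv_mem hp)⟩ : ↥NN) =
            ⟨g, hg'⟩ * (⟨permSec σ, hp⟩)⁻¹ := rfl
        rw [e, map_mul, map_inv, permHom_permSec, ← hσ, mul_inv_cancel]
      have e : proj0 g = proj0 (g * (permSec σ)⁻¹) * proj0 (permSec σ) := by
        rw [← map_mul]; congr 1; group
      rw [e]
      exact Subgroup.mul_mem_sup ⟨_, hd, rfl⟩ ⟨σ, rfl⟩
  · intro N hN hp hnorm
    have hTn : ((N.comap proj0).subgroupOf NN).Normal := by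
      constructor
      intro t ht n
      rw [Subgroup.mem_subgroupOf, Subgroup.mem_comap] at ht ⊢
      have e : proj0 ((n * t * n⁻¹ : ↥NN) : ↥Co0) =
          proj0 (n : ↥Co0) * proj0 (t : ↥Co0) * (proj0 (n : ↥Co0))⁻¹ := by
        rw [← map_inv, ← map_mul, ← map_mul]; rfl
      rw [e]
      exact hnorm _ ⟨n.1, n.2, rfl⟩ _ ht
    have hTp : IsPGroup 2 ((N.comap proj0).subgroupOf NN) := by
      rintro ⟨t, ht⟩
      rw [Subgroup.mem_subgroupOf, Subgroup.mem_comap] at ht
      obtain ⟨k, hk⟩ := hp ⟨proj0 (t : ↥Co0), ht⟩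
      have hk' : proj0 ((t : ↥Co0) ^ 2 ^ k) = 1 := by
        rw [map_pow]
        have := congrArg Subtype.val hk
        rw [Subgroup.coe_pow] at this
        exact this
      have h2 := center_sq' _ ((proj0_eq_one_iff _).mp hk')
      refine ⟨k + 1, ?_⟩
      apply Subtype.ext
      apply Subtype.ext
      have : ((t : ↥Co0) ^ 2 ^ (k + 1)) = 1 := by
        rw [pow_succ, pow_mul, pow_two]; exact h2
      simpa using this
    have hle := normal_two_le _ (hT := hTn) hTp
    rintro x hx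
    obtain ⟨g, hg, rfl⟩ := hN hx
    have hg' : g ∈ NN := hg
    have hgT : (⟨g, hg'⟩ : ↥NN) ∈ (N.comap proj0).subgroupOf NN := by
      rw [Subgroup.mem_subgroupOf, Subgroup.mem_comap]; exact hx
    have := hle hgT
    exact ⟨g, (mem_signSub g).mpr ⟨hg', MonoidHom.mem_ker.mp this⟩, rfl⟩

/-- The stabilizer of the standard cross is the stabilizer of the class of a vector of the cross
modulo twice the lattice. -/
theorem mem_NN_iff_cong (g : ↥Co0) :
    g ∈ NN ↔ ∃ u : ↥leechLattice, g • e8 none = e8 none + (u + u) := by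
  constructor
  · intro hg
    have h := (mem_NN g).mp hg (e8 none) (e8_mem_stdCross none)
    rw [stdCross_eq] at h
    obtain ⟨-, -, z, hz, hzv⟩ := h
    refine ⟨-⟨z, hz⟩, ?_⟩
    apply Subtype.ext
    rw [AddSubgroup.coe_add, AddSubgroup.coe_add, AddSubgroup.coe_neg]
    show ((g • e8 none : ↥leechLattice) : GolayPt → ℤ) = (Pi.single none (8 : ℤ)) + (-z + -z)
    have : ((g • e8 none : ↥leechLattice) : GolayPt → ℤ) =
        (Pi.single none (8 : ℤ)) - 2 • z := by rw [← hzv]; abel
    rw [this, two_smul]; abel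
  · rintro ⟨u, hu⟩
    rw [mem_NN]
    intro v hv
    rw [stdCross_eq] at hv ⊢
    obtain ⟨-, hn, z, hz, hzv⟩ := hv
    refine ⟨(g • v).2, ?_, ((g • (⟨z, hz⟩ : ↥leechLattice) - u : ↥leechLattice) : GolayPt → ℤ),
      (g • (⟨z, hz⟩ : ↥leechLattice) - u).2, ?_⟩
    · rw [← hn]
      exact g.2.2 v
    · have h1 : e8 none - v = (⟨z, hz⟩ : ↥leechLattice) + ⟨z, hz⟩ := by
        apply Subtype.ext
        change (Pi.single none (8 : ℤ) : GolayPt → ℤ) - (v : GolayPt → ℤ) = z + z
        rw [hzv, two_smul]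
      have h2 : g • (e8 none - v) = g • ((⟨z, hz⟩ : ↥leechLattice) + ⟨z, hz⟩) := by rw [h1]
      rw [smul_sub', smul_add', hu] at h2
      have h3 : e8 none - g • v = (g • (⟨z, hz⟩ : ↥leechLattice) - u) +
          (g • (⟨z, hz⟩ : ↥leechLattice) - u) := by
        have : e8 none - g • v = (e8 none + (u + u) - g • v) - (u + u) := by abel
        rw [this, h2]; abel
      have h4 := congrArg (fun w : ↥leechLattice => (w : GolayPt → ℤ)) h3
      simp only [AddSubgroup.coe_sub, AddSubgroup.coe_add] at h4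
      rw [two_smul]
      exact h4

end Cfsg.Agent.Helper9.Leech.Mono
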