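import Mathlib
import Cfsg.Prelude.Def_Sporadic_a
import Cfsg.Prelude.Def_SporadicCombinatorics
import Cfsg.Agent.Helper9.Leech.M2025c

/-!
The minimal vectors with inner product `-16` with the standard vector of sum of squares 48:
classification.
-/

set_option autoImplicit false

namespace Cfsg.Agent.Helper9.Leech

open Cfsg
open Cfsg.Agent.Helper9.Golay
open scoped Pointwise

theorem card_univ_mem {c : Finset GolayPt} (h : c.card = 24) (p : GolayPt) : p ∈ c := by
  rw [(Finset.card_eq_iff_eq_univ c).mp (by rw [h, card_golayPt])]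
  exact Finset.mem_univ _

/-- the classification. -/
theorem clsY (z : GolayPt → ℤ) (hz : z ∈ leechLattice) (hn : sqNorm z = 32)
    (h1 : ∑ i, z i + 4 * z none = -16) :
    (∃ j : GolayPt, j ≠ none ∧ z = pat 4 {none, j} {none}) ∨
      (∃ o ∈ octads, (none : GolayPt) ∉ o ∧ z = pat 2 o o) ∨
      (∃ o ∈ octads, ∃ s : Finset GolayPt, s ⊆ o ∧ (none : GolayPt) ∈ s ∧ s.card = 6 ∧
        z = pat 2 o s) ∨
      (∃ o ∈ octads, ∃ j ∈ o, (none : GolayPt) ∉ o ∧ z = oddVec j oᶜ) ∨
      (∃ c ∈ supports (golayCode : Set (GolayPt → ZMod 2)), c.card = 12 ∧ (none : GolayPt) ∉ c ∧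
        z = oddVec none c) := by
  classical
  have hmem : z ∈ {x : GolayPt → ℤ | x ∈ leechLattice ∧ sqNorm x = 32} := ⟨hz, hn⟩
  rw [minVec_eq, Finset.mem_coe, Finset.mem_union, Finset.mem_union, mem_famOdd, mem_famOct,
    mem_famFour] at hmem
  rcases hmem with ⟨j, c, hc, rfl⟩ | ⟨o, s, ho, hs, -, rfl⟩ | ⟨P, s, hP, hs, rfl⟩
  · -- odd vectors
    right; right; right
    rw [sum_oddVec] at h1
    rw [oddVec_apply] at h1
    unfold baseOdd at h1
    have hcard := card_of_mem_supports hc
    have k : ((none : GolayPt) ∈ c ∧ ¬ ((none : GolayPt) = j) ∧ j ∉ c ∧ c.card = 16) ∨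
        ((none : GolayPt) ∉ c ∧ (none : GolayPt) = j ∧ c.card = 12) := by
      split_ifs at h1 <;> rcases hcard with h | h | h | h | h <;> rw [h] at h1 <;>
        first
        | omega
        | exact Or.inl ⟨by assumption, by assumption, by assumption, h⟩
        | exact Or.inr ⟨by assumption, by assumption, h⟩
        | (exfalso; exact ‹(none : GolayPt) ∉ c› (card_univ_mem h _))
        | (exfalso; exact ‹j ∉ c› (card_univ_mem h _))
        | (exfalso; subst_vars; contradiction)
    rcases k with ⟨k1, k2, k3, k4⟩ | ⟨k1, k2, k3⟩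
    · left
      refine ⟨cᶜ, ⟨compl_mem_supports hc, ?_⟩, j, Finset.mem_compl.mpr k3, ?_, ?_⟩
      · rw [Finset.card_compl, card_golayPt, k4]
      · rw [Finset.mem_compl, not_not]
        exact k1
      · rw [compl_compl]
    · right
      subst k2
      exact ⟨c, hc, k3, k1, rfl⟩
  · -- octad vectors
    right
    have h8 : o.card = 8 := ho.2
    have hsc : s.card ≤ 8 := h8 ▸ Finset.card_le_card hs
    rw [sum_pat hs, h8] at h1
    have hk : ((none : GolayPt) ∉ o ∧ s.card = 8) ∨ ((none : GolayPt) ∈ s ∧ s.card = 6) := by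
      unfold pat at h1
      push_cast at h1
      split_ifs at h1 <;>
        first
        | omega
        | exact Or.inl ⟨by assumption, by omega⟩
        | exact Or.inr ⟨by assumption, by omega⟩
    rcases hk with ⟨k1, k2⟩ | ⟨k1, k2⟩
    · left
      have hso : s = o := Finset.eq_of_subset_of_card_le hs (by rw [h8, k2])
      subst hso
      exact ⟨s, ho, k1, rfl⟩
    · right; left
      exact ⟨o, ho, s, hs, k1, k2, rfl⟩
  · -- vectors with two non-zero coordinates
    left
    rw [sum_pat hs, hP] at h1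
    have hscard : s.card ≤ 2 := hP ▸ Finset.card_le_card hs
    have hk : (none : GolayPt) ∈ s ∧ s.card = 1 := by
      unfold pat at h1
      push_cast at h1
      split_ifs at h1 <;>
        first
        | omega
        | exact ⟨by assumption, by omega⟩
    obtain ⟨k1, k2⟩ := hk
    obtain ⟨a, rfl⟩ := Finset.card_eq_one.mp k2
    rw [Finset.mem_singleton] at k1
    subst k1
    obtain ⟨a, b', hab, rfl⟩ := Finset.card_eq_two.mp hP
    have hn' : (none : GolayPt) ∈ ({a, b'} : Finset GolayPt) := hs (Finset.mem_singleton_self _)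
    rw [Finset.mem_insert, Finset.mem_singleton] at hn'
    rcases hn' with h | h
    · refine ⟨b', fun hc' => hab (h.symm.trans hc'.symm), ?_⟩
      rw [h]
    · refine ⟨a, fun hc' => hab (hc'.trans h), ?_⟩
      rw [← h, Finset.pair_comm a none]

end Cfsg.Agent.Helper9.Leech
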