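import Mathlib
import Cfsg.Prelude.Def_Sporadic_a
import Cfsg.Prelude.Def_SporadicCombinatorics
import Cfsg.Agent.Helper9.Leech.HS4

/-!
The minimal vectors with inner product `-16` with the standard vector of sum of squares 48:
reaching the basic shapes.
-/

set_option autoImplicit false

namespace Cfsg.Agent.Helper9.Leech

open Cfsg
open Cfsg.Agent.Helper9.Golay
open scoped Pointwise

theorem smul_neg' (g : ↥Co0) (v : ↥leechLattice) : g • (-v) = -(g • v) :=
  map_neg (toAddHom g.2) v

/-- the standard minimal vector. -/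
def xm : ↥leechLattice := -std2

theorem xm_coe : ((xm : ↥leechLattice) : GolayPt → ℤ) =
    -((std2 : ↥leechLattice) : GolayPt → ℤ) := rfl

theorem dot_xm (w : GolayPt → ℤ) :
    dotInt ((xm : ↥leechLattice) : GolayPt → ℤ) w = 4 * w (some 0) - 4 * w none := by
  have h := dot_std2 w
  rw [xm_coe]
  unfold dotInt at h ⊢
  simp only [Pi.neg_apply, neg_mul, Finset.sum_neg_distrib]
  rw [h]
  ring

theorem xm_eq : xm = -vA - wA := by
  apply Subtype.ext
  show -((std2 : ↥leechLattice) : GolayPt → ℤ) =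
    -((vA : ↥leechLattice) : GolayPt → ℤ) - ((wA : ↥leechLattice) : GolayPt → ℤ)
  rw [std2_eq, vA_eq, wA_eq]
  funext p
  rw [Pi.neg_apply, Pi.sub_apply, Pi.neg_apply]
  revert p
  decide

theorem xm_eq_pat : ((xm : ↥leechLattice) : GolayPt → ℤ) = pat 4 {none, some 0} {none} := by
  rw [xm_coe, std2_eq]
  funext p
  rw [Pi.neg_apply]
  unfold pat
  revert p
  decide

theorem fix_xm (g : ↥Co0) (h1 : g • vA = vA) (h2 : g • wA = wA) : g • xm = xm := by
  rw [xm_eq, smul_sub', smul_neg', h1, h2]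

/-- the vector `(1, …, 1, -3, 1, …, 1)`. -/
def zOdd (p : GolayPt) : ↥leechLattice :=
  ⟨oddVec p ∅, oddVec_mem Spor.empty_mem_supports_golayCode⟩

theorem zOdd_eq (p : GolayPt) : ((zOdd p : ↥leechLattice) : GolayPt → ℤ) = baseOdd p := by
  funext i
  show oddVec p ∅ i = _
  rw [oddVec_apply, if_neg (Finset.notMem_empty _)]

/-- one step: replacing a vector by an equivalent one with a prescribed inner product with the
first standard vector. -/
theorem hs_step (y : ↥leechLattice)
    (h1 : dotInt ((vA : ↥leechLattice) : GolayPt → ℤ) (y : GolayPt → ℤ) = -16) (p : GolayPt)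
    (hp1 : p ≠ none) (hp0 : p ≠ some 0) :
    ∃ g : ↥Co0, g • vA = vA ∧ g • wA = wA ∧
      dotInt ((std1 : ↥leechLattice) : GolayPt → ℤ) ((g • y : ↥leechLattice) : GolayPt → ℤ) =
        -16 - 4 * (y : GolayPt → ℤ) none - 4 * (y : GolayPt → ℤ) p := by
  have hz1 : sqNorm ((zOdd p : ↥leechLattice) : GolayPt → ℤ) = 32 := sqNorm_oddVec p ∅
  have hz2 : dotInt ((vA : ↥leechLattice) : GolayPt → ℤ)
      ((zOdd p : ↥leechLattice) : GolayPt → ℤ) = 24 := by
    rw [dot_vA, zOdd_eq, sum_baseOdd]
    unfold baseOdd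
    rw [if_neg hp1.symm]
    norm_num
  have hz3 : dotInt ((wA : ↥leechLattice) : GolayPt → ℤ)
      ((zOdd p : ↥leechLattice) : GolayPt → ℤ) = -24 := by
    rw [dot_wA, zOdd_eq, sum_baseOdd]
    unfold baseOdd
    rw [if_neg hp0.symm]
    norm_num
  obtain ⟨g, g1, g2, g3⟩ := hs_triple_to_std vA wA (zOdd p) sqNorm_vA sqNorm_wA dot_vA_wA
    ⟨hz1, hz2, hz3⟩
  refine ⟨g, g1, g2, ?_⟩
  rw [← g3, co0_dot, zOdd_eq, dot_baseOdd]
  rw [dot_vA] at h1
  omega

/-! ### the values at the two special points -/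

theorem val_F (j : GolayPt) :
    pat 4 {none, j} {none} none = -4 ∧
      pat 4 {none, j} {none} (some 0) = if j = some 0 then 4 else 0 := by
  classical
  constructor
  · exact pat_of_mem_s (Finset.mem_singleton_self _)
  · have h0 : (some 0 : GolayPt) ∉ ({none} : Finset GolayPt) := by
      rw [Finset.mem_singleton]
      exact hn0.symm
    by_cases h : j = some 0
    · rw [if_pos h, h]
      exact pat_of_mem_P h0 (Finset.mem_insert_of_mem (Finset.mem_singleton_self _))
    · rw [if_neg h]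
      apply pat_of_notMem h0
      rw [Finset.mem_insert, Finset.mem_singleton, not_or]
      exact ⟨hn0.symm, fun h' => h h'.symm⟩

theorem val_O1 (o : Finset GolayPt) (hno : (none : GolayPt) ∉ o) :
    pat 2 o o none = 0 ∧ pat 2 o o (some 0) = if (some 0 : GolayPt) ∈ o then -2 else 0 := by
  classical
  constructor
  · exact pat_of_notMem hno hno
  · by_cases h : (some 0 : GolayPt) ∈ o
    · rw [if_pos h]
      exact pat_of_mem_s h
    · rw [if_neg h]
      exact pat_of_notMem h h

theorem val_O2 (o s : Finset GolayPt) (hns : (none : GolayPt) ∈ s) :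
    pat 2 o s none = -2 := pat_of_mem_s hns

theorem val_Q1 (o : Finset GolayPt) (j : GolayPt) (hj : j ∈ o) (hno : (none : GolayPt) ∉ o) :
    oddVec j oᶜ none = -1 ∧ oddVec j oᶜ (some 0) =
      if (some 0 : GolayPt) ∈ o then (if (some 0 : GolayPt) = j then -3 else 1) else -1 := by
  classical
  have hnj : (none : GolayPt) ≠ j := fun h => hno (h ▸ hj)
  constructor
  · rw [oddVec_apply, if_pos (Finset.mem_compl.mpr hno)]
    unfold baseOdd
    rw [if_neg hnj]
  · rw [oddVec_apply]
    unfold baseOdd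
    by_cases h : (some 0 : GolayPt) ∈ o
    · rw [if_pos h, if_neg (by rw [Finset.mem_compl, not_not]; exact h)]
    · have h0j : (some 0 : GolayPt) ≠ j := fun h' => h (h' ▸ hj)
      rw [if_neg h, if_pos (Finset.mem_compl.mpr h), if_neg h0j]

theorem val_Q2 (c : Finset GolayPt) (hnc : (none : GolayPt) ∉ c) :
    oddVec none c none = -3 ∧ oddVec none c (some 0) =
      if (some 0 : GolayPt) ∈ c then -1 else 1 := by
  classical
  constructor
  · rw [oddVec_apply, if_neg hnc]
    unfold baseOdd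
    rw [if_pos rfl]
  · rw [oddVec_apply]
    unfold baseOdd
    rw [if_neg hn0.symm]

/-- the basic shapes. -/
def Base (z : GolayPt → ℤ) : Prop :=
  (∃ o ∈ octads, (none : GolayPt) ∉ o ∧ z = pat 2 o o) ∨
    (∃ o ∈ octads, ∃ j ∈ o, (none : GolayPt) ∉ o ∧ (some 0 : GolayPt) ∈ o ∧ j ≠ some 0 ∧
      z = oddVec j oᶜ) ∨
    (∃ j : GolayPt, j ≠ none ∧ j ≠ some 0 ∧ z = pat 4 {none, j} {none})

/-- recognising the basic shapes from the values at the two special points. -/
theorem base_of_vals (z : GolayPt → ℤ) (hz : z ∈ leechLattice) (hn : sqNorm z = 32)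
    (h1 : ∑ i, z i + 4 * z none = -16)
    (hv : z none = 0 ∨ (z none = -1 ∧ z (some 0) = 1) ∨ (z none = -4 ∧ z (some 0) = 0)) :
    Base z := by
  classical
  rcases clsY z hz hn h1 with ⟨j, hj, e⟩ | ⟨o, ho, hno, e⟩ | ⟨o, ho, s, hs, hns, hs6, e⟩ |
    ⟨o, ho, j, hj, hno, e⟩ | ⟨c, hc, hc12, hnc, e⟩
  · have v := val_F j
    rw [← e] at v
    right; right
    refine ⟨j, hj, ?_, e⟩
    intro hj0
    rw [if_pos hj0] at v
    omega
  · left
    exact ⟨o, ho, hno, e⟩
  · exfalso
    have v := val_O2 o s hns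
    rw [← e] at v
    omega
  · have v := val_Q1 o j hj hno
    rw [← e] at v
    right; left
    have h0o : (some 0 : GolayPt) ∈ o := by
      by_contra h
      rw [if_neg h] at v
      omega
    rw [if_pos h0o] at v
    refine ⟨o, ho, j, hj, hno, h0o, ?_, e⟩
    intro hj0
    rw [if_pos hj0.symm] at v
    omega
  · exfalso
    have v := val_Q2 c hnc
    rw [← e] at v
    omega

end Cfsg.Agent.Helper9.Leech
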