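import Mathlib
import Cfsg.Prelude.Def_Sporadic_a
import Cfsg.Prelude.Def_SporadicCombinatorics
import Cfsg.Agent.Helper9.Leech.HS5

/-!
Every minimal vector with inner product `-16` with the standard vector of sum of squares 48,
other than the standard one, is equivalent to one of a basic shape.
-/

set_option autoImplicit false

namespace Cfsg.Agent.Helper9.Leech

open Cfsg
open Cfsg.Agent.Helper9.Golay
open scoped Pointwise

/-- the values at the two special points after a step. -/
theorem step_vals (y : ↥leechLattice)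
    (h1 : dotInt ((vA : ↥leechLattice) : GolayPt → ℤ) (y : GolayPt → ℤ) = -16) (p : GolayPt)
    (hp1 : p ≠ none) (hp0 : p ≠ some 0) :
    ∃ g : ↥Co0, g • vA = vA ∧ g • wA = wA ∧
      8 * ((g • y : ↥leechLattice) : GolayPt → ℤ) none =
        -16 - 4 * (y : GolayPt → ℤ) p - 4 * (y : GolayPt → ℤ) (some 0) ∧
      8 * ((g • y : ↥leechLattice) : GolayPt → ℤ) (some 0) =
        -16 - 8 * (y : GolayPt → ℤ) none - 4 * (y : GolayPt → ℤ) p +
          4 * (y : GolayPt → ℤ) (some 0) := by
  obtain ⟨g, g1, g2, g3⟩ := hs_step y h1 p hp1 hp0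
  have g4 : dotInt ((xm : ↥leechLattice) : GolayPt → ℤ)
      ((g • y : ↥leechLattice) : GolayPt → ℤ) =
      dotInt ((xm : ↥leechLattice) : GolayPt → ℤ) (y : GolayPt → ℤ) := by
    nth_rewrite 1 [← fix_xm g g1 g2]
    rw [co0_dot]
  rw [dot_std1] at g3
  rw [dot_xm, dot_xm] at g4
  refine ⟨g, g1, g2, ?_, ?_⟩ <;> omega

theorem inY_smul (y : ↥leechLattice) (hy : sqNorm (y : GolayPt → ℤ) = 32)
    (h1 : dotInt ((vA : ↥leechLattice) : GolayPt → ℤ) (y : GolayPt → ℤ) = -16) (g : ↥Co0)
    (g1 : g • vA = vA) :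
    sqNorm ((g • y : ↥leechLattice) : GolayPt → ℤ) = 32 ∧
      dotInt ((vA : ↥leechLattice) : GolayPt → ℤ)
        ((g • y : ↥leechLattice) : GolayPt → ℤ) = -16 := by
  refine ⟨(co0_sqNorm g y).trans hy, ?_⟩
  nth_rewrite 1 [← g1]
  rw [co0_dot]
  exact h1

/-- a step leading to a basic shape. -/
theorem step_base (y : ↥leechLattice) (hy : sqNorm (y : GolayPt → ℤ) = 32)
    (h1 : dotInt ((vA : ↥leechLattice) : GolayPt → ℤ) (y : GolayPt → ℤ) = -16) (p : GolayPt)
    (hp1 : p ≠ none) (hp0 : p ≠ some 0) (yn y0 yp : ℤ) (e1 : (y : GolayPt → ℤ) none = yn)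
    (e2 : (y : GolayPt → ℤ) (some 0) = y0) (e3 : (y : GolayPt → ℤ) p = yp)
    (hv : -16 - 4 * yp - 4 * y0 = 0 ∨
      (-16 - 4 * yp - 4 * y0 = -8 ∧ -16 - 8 * yn - 4 * yp + 4 * y0 = 8) ∨
      (-16 - 4 * yp - 4 * y0 = -32 ∧ -16 - 8 * yn - 4 * yp + 4 * y0 = 0)) :
    ∃ g : ↥Co0, g • vA = vA ∧ g • wA = wA ∧
      Base ((g • y : ↥leechLattice) : GolayPt → ℤ) := by
  obtain ⟨g, g1, g2, g3, g4⟩ := step_vals y h1 p hp1 hp0
  rw [e1, e2, e3] at g4
  rw [e2, e3] at g3
  obtain ⟨k1, k2⟩ := inY_smul y hy h1 g g1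
  rw [dot_vA] at k2
  refine ⟨g, g1, g2, base_of_vals _ (g • y).2 k1 k2 ?_⟩
  rcases hv with h | ⟨h, h'⟩ | ⟨h, h'⟩
  · left
    omega
  · right; left
    constructor <;> omega
  · right; right
    constructor <;> omega

theorem reach1 (y : ↥leechLattice) (hy : sqNorm (y : GolayPt → ℤ) = 32)
    (h1 : dotInt ((vA : ↥leechLattice) : GolayPt → ℤ) (y : GolayPt → ℤ) = -16) (hne : y ≠ xm)
    (hD3 : ¬ ((y : GolayPt → ℤ) none = -3 ∧ (y : GolayPt → ℤ) (some 0) = 1)) :
    ∃ g : ↥Co0, g • vA = vA ∧ g • wA = wA ∧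
      Base ((g • y : ↥leechLattice) : GolayPt → ℤ) := by
  classical
  have h1' := h1
  rw [dot_vA] at h1'
  have triv : Base (y : GolayPt → ℤ) → ∃ g : ↥Co0, g • vA = vA ∧ g • wA = wA ∧
      Base ((g • y : ↥leechLattice) : GolayPt → ℤ) := by
    intro hb
    refine ⟨1, one_smul _ _, one_smul _ _, ?_⟩
    rw [one_smul]
    exact hb
  rcases clsY (y : GolayPt → ℤ) y.2 hy h1' with ⟨j, hj, e⟩ | ⟨o, ho, hno, e⟩ |
    ⟨o, ho, s, hs, hns, hs6, e⟩ | ⟨o, ho, j, hj, hno, e⟩ | ⟨c, hc, hc12, hnc, e⟩
  · -- two non-zero coordinates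
    apply triv
    right; right
    refine ⟨j, hj, ?_, e⟩
    intro hj0
    apply hne
    apply Subtype.ext
    rw [e, hj0, xm_eq_pat]
  · -- an octad, all signs negative
    apply triv
    left
    exact ⟨o, ho, hno, e⟩
  · -- an octad, six negative signs
    have h8 : o.card = 8 := ho.2
    have yn : (y : GolayPt → ℤ) none = -2 := by rw [e]; exact pat_of_mem_s hns
    by_cases h0s : (some 0 : GolayPt) ∈ s
    · obtain ⟨p, hp⟩ : ((s.erase none).erase (some 0)).Nonempty := by
        apply Finset.card_pos.mp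
        rw [Finset.card_erase_of_mem (Finset.mem_erase.mpr ⟨hn0.symm, h0s⟩),
          Finset.card_erase_of_mem hns, hs6]
        norm_num
      obtain ⟨hp0, hp'⟩ := Finset.mem_erase.mp hp
      obtain ⟨hp1, hps⟩ := Finset.mem_erase.mp hp'
      exact step_base y hy h1 p hp1 hp0 (-2) (-2) (-2) yn (by rw [e]; exact pat_of_mem_s h0s)
        (by rw [e]; exact pat_of_mem_s hps) (by norm_num)
    · by_cases h0o : (some 0 : GolayPt) ∈ o
      · obtain ⟨p, hp⟩ : ((o \ s).erase (some 0)).Nonempty := by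
          apply Finset.card_pos.mp
          rw [Finset.card_erase_of_mem (Finset.mem_sdiff.mpr ⟨h0o, h0s⟩),
            Finset.card_sdiff_of_subset hs, h8, hs6]
          norm_num
        obtain ⟨hp0, hp'⟩ := Finset.mem_erase.mp hp
        obtain ⟨hpo, hps⟩ := Finset.mem_sdiff.mp hp'
        have hp1 : p ≠ none := fun h => hps (h ▸ hns)
        exact step_base y hy h1 p hp1 hp0 (-2) 2 2 yn (by rw [e]; exact pat_of_mem_P h0s h0o)
          (by rw [e]; exact pat_of_mem_P hps hpo) (by norm_num)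
      · obtain ⟨p, hp⟩ : (s.erase none).Nonempty := by
          apply Finset.card_pos.mp
          rw [Finset.card_erase_of_mem hns, hs6]
          norm_num
        obtain ⟨hp1, hps⟩ := Finset.mem_erase.mp hp
        have hp0 : p ≠ some 0 := fun h => h0o (h ▸ hs hps)
        exact step_base y hy h1 p hp1 hp0 (-2) 0 (-2) yn
          (by rw [e]; exact pat_of_notMem h0s h0o) (by rw [e]; exact pat_of_mem_s hps)
          (by norm_num)
  · -- odd vectors, sixteen negative signs
    have h8 : o.card = 8 := ho.2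
    have v := val_Q1 o j hj hno
    rw [← e] at v
    have hj1 : j ≠ none := fun h => hno (h ▸ hj)
    by_cases h0o : (some 0 : GolayPt) ∈ o
    · by_cases h0j : (some 0 : GolayPt) = j
      · rw [if_pos h0o, if_pos h0j] at v
        obtain ⟨p, hp⟩ : (oᶜ.erase none).Nonempty := by
          apply Finset.card_pos.mp
          rw [Finset.card_erase_of_mem (Finset.mem_compl.mpr hno), Finset.card_compl,
            card_golayPt, h8]
          norm_num
        obtain ⟨hp1, hpo⟩ := Finset.mem_erase.mp hp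
        have hpo' : p ∉ o := Finset.mem_compl.mp hpo
        have hp0 : p ≠ some 0 := fun h => hpo' (h ▸ h0o)
        have hpj : p ≠ j := fun h => hpo' (h ▸ hj)
        have yp : (y : GolayPt → ℤ) p = -1 := by
          rw [e, oddVec_apply, if_pos hpo]
          unfold baseOdd
          rw [if_neg hpj]
        exact step_base y hy h1 p hp1 hp0 (-1) (-3) (-1) v.1 v.2 yp (by norm_num)
      · apply triv
        right; left
        exact ⟨o, ho, j, hj, hno, h0o, fun h => h0j h.symm, e⟩
    · rw [if_neg h0o] at v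
      have hj0 : j ≠ some 0 := fun h => h0o (h ▸ hj)
      have yp : (y : GolayPt → ℤ) j = -3 := by
        rw [e, oddVec_apply, if_neg (by rw [Finset.mem_compl, not_not]; exact hj)]
        unfold baseOdd
        rw [if_pos rfl]
      exact step_base y hy h1 j hj1 hj0 (-1) (-1) (-3) v.1 v.2 yp (by norm_num)
  · -- odd vectors, twelve negative signs
    have v := val_Q2 c hnc
    rw [← e] at v
    by_cases h0c : (some 0 : GolayPt) ∈ c
    · rw [if_pos h0c] at v
      obtain ⟨p, hp⟩ : (c.erase (some 0)).Nonempty := by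
        apply Finset.card_pos.mp
        rw [Finset.card_erase_of_mem h0c, hc12]
        norm_num
      obtain ⟨hp0, hpc⟩ := Finset.mem_erase.mp hp
      have hp1 : p ≠ none := fun h => hnc (h ▸ hpc)
      have yp : (y : GolayPt → ℤ) p = -1 := by
        rw [e, oddVec_apply, if_pos hpc]
        unfold baseOdd
        rw [if_neg hp1]
      exact step_base y hy h1 p hp1 hp0 (-3) (-1) (-1) v.1 v.2 yp (by norm_num)
    · rw [if_neg h0c] at v
      exact absurd v hD3

/-- every vector other than the standard one is equivalent to one of a basic shape. -/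
theorem reach (y : ↥leechLattice) (hy : sqNorm (y : GolayPt → ℤ) = 32)
    (h1 : dotInt ((vA : ↥leechLattice) : GolayPt → ℤ) (y : GolayPt → ℤ) = -16) (hne : y ≠ xm) :
    ∃ g : ↥Co0, g • vA = vA ∧ g • wA = wA ∧
      Base ((g • y : ↥leechLattice) : GolayPt → ℤ) := by
  classical
  by_cases hD3 : (y : GolayPt → ℤ) none = -3 ∧ (y : GolayPt → ℤ) (some 0) = 1
  · have h1' := h1
    rw [dot_vA] at h1'
    -- a point with coordinate `-1`
    obtain ⟨p, hp1, hp0, yp⟩ : ∃ p : GolayPt, p ≠ none ∧ p ≠ some 0 ∧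
        (y : GolayPt → ℤ) p = -1 := by
      rcases clsY (y : GolayPt → ℤ) y.2 hy h1' with ⟨j, hj, e⟩ | ⟨o, ho, hno, e⟩ |
        ⟨o, ho, s, hs, hns, hs6, e⟩ | ⟨o, ho, j, hj, hno, e⟩ | ⟨c, hc, hc12, hnc, e⟩
      · exfalso
        have v := val_F j
        rw [← e] at v
        omega
      · exfalso
        have v := val_O1 o hno
        rw [← e] at v
        omega
      · exfalso
        have v := val_O2 o s hns
        rw [← e] at v
        omega
      · exfalso
        have v := val_Q1 o j hj hno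
        rw [← e] at v
        omega
      · have v := val_Q2 c hnc
        rw [← e] at v
        have h0c : (some 0 : GolayPt) ∉ c := by
          intro h
          rw [if_pos h] at v
          omega
        obtain ⟨p, hpc⟩ : c.Nonempty := by
          apply Finset.card_pos.mp
          rw [hc12]
          norm_num
        have hp1 : p ≠ none := fun h => hnc (h ▸ hpc)
        refine ⟨p, hp1, fun h => h0c (h ▸ hpc), ?_⟩
        rw [e, oddVec_apply, if_pos hpc]
        unfold baseOdd
        rw [if_neg hp1]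
    obtain ⟨g, g1, g2, g3, g4⟩ := step_vals y h1 p hp1 hp0
    rw [hD3.1, hD3.2, yp] at g4
    rw [hD3.2, yp] at g3
    obtain ⟨k1, k2⟩ := inY_smul y hy h1 g g1
    have zn : ((g • y : ↥leechLattice) : GolayPt → ℤ) none = -2 := by omega
    obtain ⟨g', g1', g2', g3'⟩ := reach1 (g • y) k1 k2 (by
      intro h
      rw [h, xm_eq_pat, pat_of_mem_s (Finset.mem_singleton_self _)] at zn
      norm_num at zn) (by
      intro h
      omega)
    refine ⟨g' * g, ?_, ?_, ?_⟩
    · rw [mul_smul', g1, g1']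
    · rw [mul_smul', g2, g2']
    · rw [mul_smul']
      exact g3'
  · exact reach1 y hy h1 hne hD3

end Cfsg.Agent.Helper9.Leech
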