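import Mathlib
import Cfsg.Prelude.Def_Sporadic_a
import Cfsg.Prelude.Def_SporadicCombinatorics
import Cfsg.Agent.Helper9.Leech.HS6

/-!
The stabiliser of the standard pair is transitive on the minimal vectors with inner product `-16`
with the first vector and a given inner product with the second.
-/

set_option autoImplicit false

namespace Cfsg.Agent.Helper9.Leech

open Cfsg
open Cfsg.Agent.Helper9.Golay
open scoped Pointwise

/-- an octad, one of its points and a point outside it can be moved to standard position. -/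
theorem exists_flag_in_out {o : Finset GolayPt} (ho : o ∈ octads) {p r : GolayPt} (hp : p ∈ o)
    (hr : r ∉ o) :
    ∃ h ∈ M24, h • suppM 5279 = o ∧ h (idxPtN 0) = p ∧ h (idxPtN 5) = r := by
  obtain ⟨k, hk, rfl, rfl⟩ := exists_flag_in ho hp
  have hr' : k⁻¹ r ∈ suppM coct0 := by
    rw [mem_coct0_iff]
    intro hcon
    exact hr ((mem_smul_finset_iff' k _ _).mpr hcon)
  have hr'' : k⁻¹ r ∉ suppM 5279 := (mem_coct0_iff _).mp hr'
  obtain ⟨σ, hσ, hσd, hσf, hσb⟩ := step_of_level octFlag3_good oct3B1_ok _ hr' (by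
    intro c hc
    simp only [List.mem_cons, List.not_mem_nil, or_false] at hc
    subst hc
    intro hcon
    exact hr'' (hcon ▸ idx0_mem_oct))
  refine ⟨k * σ, M24.mul_mem hk hσ, ?_, ?_, ?_⟩
  · rw [mul_smul, hσd]
  · rw [Equiv.Perm.mul_apply, hσf 0 (by simp)]
  · rw [Equiv.Perm.mul_apply, hσb]
    simp

theorem smul_compl (σ : Equiv.Perm GolayPt) (s : Finset GolayPt) : σ • sᶜ = (σ • s)ᶜ := by
  ext i
  rw [← mem_smul_iff, Finset.mem_compl, Finset.mem_compl, ← mem_smul_iff]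

/-- the inner products of the basic shapes with the standard minimal vector. -/
theorem base_dot (z : GolayPt → ℤ) (hb : Base z) :
    ((∃ o ∈ octads, (none : GolayPt) ∉ o ∧ (some 0 : GolayPt) ∈ o ∧ z = pat 2 o o) ∧
        4 * z (some 0) - 4 * z none = -8) ∨
      ((∃ o ∈ octads, (none : GolayPt) ∉ o ∧ (some 0 : GolayPt) ∉ o ∧ z = pat 2 o o) ∧
        4 * z (some 0) - 4 * z none = 0) ∨
      ((∃ o ∈ octads, ∃ j ∈ o, (none : GolayPt) ∉ o ∧ (some 0 : GolayPt) ∈ o ∧ j ≠ some 0 ∧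
        z = oddVec j oᶜ) ∧ 4 * z (some 0) - 4 * z none = 8) ∨
      ((∃ j : GolayPt, j ≠ none ∧ j ≠ some 0 ∧ z = pat 4 {none, j} {none}) ∧
        4 * z (some 0) - 4 * z none = 16) := by
  classical
  rcases hb with ⟨o, ho, hno, e⟩ | ⟨o, ho, j, hj, hno, h0o, hj0, e⟩ | ⟨j, hj1, hj0, e⟩
  · have v := val_O1 o hno
    rw [← e] at v
    by_cases h0o : (some 0 : GolayPt) ∈ o
    · left
      rw [if_pos h0o] at v
      exact ⟨⟨o, ho, hno, h0o, e⟩, by omega⟩
    · right; left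
      rw [if_neg h0o] at v
      exact ⟨⟨o, ho, hno, h0o, e⟩, by omega⟩
  · right; right; left
    have v := val_Q1 o j hj hno
    rw [← e, if_pos h0o, if_neg (fun h => hj0 h.symm)] at v
    exact ⟨⟨o, ho, j, hj, hno, h0o, hj0, e⟩, by omega⟩
  · right; right; right
    have v := val_F j
    rw [← e, if_neg hj0] at v
    exact ⟨⟨j, hj1, hj0, e⟩, by omega⟩

/-- two vectors of basic shapes with the same inner product with the standard minimal vector
are equivalent. -/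
theorem base_trans (z z' : ↥leechLattice) (hb : Base (z : GolayPt → ℤ))
    (hb' : Base (z' : GolayPt → ℤ))
    (hd : dotInt ((xm : ↥leechLattice) : GolayPt → ℤ) (z : GolayPt → ℤ) =
      dotInt ((xm : ↥leechLattice) : GolayPt → ℤ) (z' : GolayPt → ℤ)) :
    ∃ g : ↥Co0, g • vA = vA ∧ g • wA = wA ∧ g • z = z' := by
  classical
  rw [dot_xm, dot_xm] at hd
  rcases base_dot _ hb with ⟨a, v⟩ | ⟨a, v⟩ | ⟨a, v⟩ | ⟨a, v⟩ <;>
    rcases base_dot _ hb' with ⟨a', v'⟩ | ⟨a', v'⟩ | ⟨a', v'⟩ | ⟨a', v'⟩ <;>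
    first
    | (exfalso; omega)
    | skip
  · obtain ⟨o, ho, hno, h0o, e⟩ := a
    obtain ⟨o', ho', hno', h0o', e'⟩ := a'
    obtain ⟨h, hh, hho, hhp, hhq⟩ := exists_flag_in_out ho h0o hno
    obtain ⟨k, hk, hko, hkp, hkq⟩ := exists_flag_in_out ho' h0o' hno'
    have hσ : k * h⁻¹ ∈ M24 := M24.mul_mem hk (M24.inv_mem hh)
    have hσo : (k * h⁻¹) • o = o' := by
      rw [← hho, mul_smul, inv_smul_smul, hko]
    have s2 : (k * h⁻¹) (some 0) = some 0 := by rw [conj_apply h k _ _ hhp, hkp]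
    have s1 : (k * h⁻¹) none = none := by rw [conj_apply h k _ _ hhq, hkq]
    refine ⟨permEl _ hσ, permEl_vA _ hσ s1, permEl_wA _ hσ s2, ?_⟩
    apply Subtype.ext
    rw [e']
    exact permEl_pat _ hσ 2 o o o' o' hσo hσo z e
  · obtain ⟨o, ho, hno, h0o, e⟩ := a
    obtain ⟨o', ho', hno', h0o', e'⟩ := a'
    obtain ⟨h, hh, hho, hhp, hhq⟩ := exists_flag_out2 ho hno h0o hn0
    obtain ⟨k, hk, hko, hkp, hkq⟩ := exists_flag_out2 ho' hno' h0o' hn0
    have hσ : k * h⁻¹ ∈ M24 := M24.mul_mem hk (M24.inv_mem hh)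
    have hσo : (k * h⁻¹) • o = o' := by
      rw [← hho, mul_smul, inv_smul_smul, hko]
    have s1 : (k * h⁻¹) none = none := by rw [conj_apply h k _ _ hhp, hkp]
    have s2 : (k * h⁻¹) (some 0) = some 0 := by rw [conj_apply h k _ _ hhq, hkq]
    refine ⟨permEl _ hσ, permEl_vA _ hσ s1, permEl_wA _ hσ s2, ?_⟩
    apply Subtype.ext
    rw [e']
    exact permEl_pat _ hσ 2 o o o' o' hσo hσo z e
  · obtain ⟨o, ho, j, hj, hno, h0o, hj0, e⟩ := a
    obtain ⟨o', ho', j', hj', hno', h0o', hj0', e'⟩ := a'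
    obtain ⟨h, hh, hho, hhp, hhq, hhr⟩ := exists_flag_in2_out ho h0o hj hj0.symm hno
    obtain ⟨k, hk, hko, hkp, hkq, hkr⟩ := exists_flag_in2_out ho' h0o' hj' hj0'.symm hno'
    have hσ : k * h⁻¹ ∈ M24 := M24.mul_mem hk (M24.inv_mem hh)
    have hσo : (k * h⁻¹) • o = o' := by
      rw [← hho, mul_smul, inv_smul_smul, hko]
    have s2 : (k * h⁻¹) (some 0) = some 0 := by rw [conj_apply h k _ _ hhp, hkp]
    have s3 : (k * h⁻¹) j = j' := by rw [conj_apply h k _ _ hhq, hkq]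
    have s1 : (k * h⁻¹) none = none := by rw [conj_apply h k _ _ hhr, hkr]
    refine ⟨permEl _ hσ, permEl_vA _ hσ s1, permEl_wA _ hσ s2, ?_⟩
    apply Subtype.ext
    rw [e']
    exact permEl_odd _ hσ j j' s3 oᶜ o'ᶜ (by rw [smul_compl, hσo]) z e
  · obtain ⟨j, hj1, hj0, e⟩ := a
    obtain ⟨j', hj1', hj0', e'⟩ := a'
    obtain ⟨σ, hσ, s1, s2, s3⟩ := m24_three_trans (a := none) (b := some 0) (c := j)
      (a' := none) (b' := some 0) (c' := j') hn0 hj1.symm hj0.symm hn0 hj1'.symm hj0'.symm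
    refine ⟨permEl σ hσ, permEl_vA σ hσ s1, permEl_wA σ hσ s2, ?_⟩
    apply Subtype.ext
    rw [e']
    apply permEl_pat σ hσ 4 {none, j} {none} {none, j'} {none} ?_ ?_ z e
    · rw [Finset.smul_finset_insert, Finset.smul_finset_singleton, Equiv.Perm.smul_def,
        Equiv.Perm.smul_def, s1, s3]
    · rw [Finset.smul_finset_singleton, Equiv.Perm.smul_def, s1]

/-- the possible inner products with the standard minimal vector. -/
theorem hs_dot_vals (y : ↥leechLattice) (hy : sqNorm (y : GolayPt → ℤ) = 32)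
    (h1 : dotInt ((vA : ↥leechLattice) : GolayPt → ℤ) (y : GolayPt → ℤ) = -16) (hne : y ≠ xm) :
    dotInt ((xm : ↥leechLattice) : GolayPt → ℤ) (y : GolayPt → ℤ) = -8 ∨
      dotInt ((xm : ↥leechLattice) : GolayPt → ℤ) (y : GolayPt → ℤ) = 0 ∨
      dotInt ((xm : ↥leechLattice) : GolayPt → ℤ) (y : GolayPt → ℤ) = 8 ∨
      dotInt ((xm : ↥leechLattice) : GolayPt → ℤ) (y : GolayPt → ℤ) = 16 := by
  obtain ⟨g, g1, g2, hb⟩ := reach y hy h1 hne
  have e : dotInt ((xm : ↥leechLattice) : GolayPt → ℤ) (y : GolayPt → ℤ) =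
      dotInt ((xm : ↥leechLattice) : GolayPt → ℤ) ((g • y : ↥leechLattice) : GolayPt → ℤ) := by
    nth_rewrite 2 [← fix_xm g g1 g2]
    rw [co0_dot]
  rw [e, dot_xm]
  rcases base_dot _ hb with ⟨-, v⟩ | ⟨-, v⟩ | ⟨-, v⟩ | ⟨-, v⟩
  · left; exact v
  · right; left; exact v
  · right; right; left; exact v
  · right; right; right; exact v

/-- the stabiliser of the standard pair is transitive on the vectors with a given inner product
with the standard minimal vector. -/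
theorem hs_rank5_std (y y' : ↥leechLattice) (hy : sqNorm (y : GolayPt → ℤ) = 32)
    (h1 : dotInt ((vA : ↥leechLattice) : GolayPt → ℤ) (y : GolayPt → ℤ) = -16) (hne : y ≠ xm)
    (hy' : sqNorm (y' : GolayPt → ℤ) = 32)
    (h1' : dotInt ((vA : ↥leechLattice) : GolayPt → ℤ) (y' : GolayPt → ℤ) = -16)
    (hne' : y' ≠ xm)
    (hd : dotInt ((xm : ↥leechLattice) : GolayPt → ℤ) (y : GolayPt → ℤ) =
      dotInt ((xm : ↥leechLattice) : GolayPt → ℤ) (y' : GolayPt → ℤ)) :
    ∃ g : ↥Co0, g • vA = vA ∧ g • wA = wA ∧ g • y = y' := by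
  obtain ⟨g, g1, g2, hb⟩ := reach y hy h1 hne
  obtain ⟨g', g1', g2', hb'⟩ := reach y' hy' h1' hne'
  have e : dotInt ((xm : ↥leechLattice) : GolayPt → ℤ)
      ((g • y : ↥leechLattice) : GolayPt → ℤ) =
      dotInt ((xm : ↥leechLattice) : GolayPt → ℤ) (y : GolayPt → ℤ) := by
    nth_rewrite 1 [← fix_xm g g1 g2]
    rw [co0_dot]
  have e' : dotInt ((xm : ↥leechLattice) : GolayPt → ℤ)
      ((g' • y' : ↥leechLattice) : GolayPt → ℤ) =
      dotInt ((xm : ↥leechLattice) : GolayPt → ℤ) (y' : GolayPt → ℤ) := by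
    nth_rewrite 1 [← fix_xm g' g1' g2']
    rw [co0_dot]
  obtain ⟨k, k1, k2, k3⟩ := base_trans (g • y) (g' • y') hb hb' (by rw [e, e', hd])
  refine ⟨g'⁻¹ * (k * g), ?_, ?_, ?_⟩
  · rw [mul_smul', mul_smul', g1, k1]
    nth_rewrite 1 [← g1']
    rw [inv_smul_smul']
  · rw [mul_smul', mul_smul', g2, k2]
    nth_rewrite 1 [← g2']
    rw [inv_smul_smul']
  · rw [mul_smul', mul_smul', k3, inv_smul_smul']

end Cfsg.Agent.Helper9.Leech
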