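import Mathlib
import Cfsg.Prelude.Def_Sporadic_a
import Cfsg.Prelude.Def_SporadicCombinatorics
import Cfsg.Agent.Helper9.Leech.HS7

/-!
A vector `u` of sum of squares 48, a minimal vector `x` with inner product `-16` with `u`, and the
orbits of their stabiliser on the other such minimal vectors.
-/

set_option autoImplicit false

namespace Cfsg.Agent.Helper9.Leech

open Cfsg
open Cfsg.Agent.Helper9.Golay
open scoped Pointwise

theorem sqNorm_neg_sub (a b : GolayPt → ℤ) :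
    sqNorm (0 - a - b) = sqNorm a + sqNorm b + 2 * dotInt a b := by
  unfold sqNorm dotInt
  rw [Finset.mul_sum, ← Finset.sum_add_distrib, ← Finset.sum_add_distrib]
  apply Finset.sum_congr rfl
  intro i _
  simp only [Pi.sub_apply, Pi.zero_apply]
  ring

theorem dot_neg_sub (a b : GolayPt → ℤ) :
    dotInt a (0 - a - b) = -(sqNorm a) - dotInt a b := by
  unfold sqNorm dotInt
  rw [← Finset.sum_neg_distrib, ← Finset.sum_sub_distrib]
  apply Finset.sum_congr rfl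
  intro i _
  simp only [Pi.sub_apply, Pi.zero_apply]
  ring

/-- moving `u` and `x` to the standard position. -/
theorem ux_to_std (u x : ↥leechLattice) (hu : sqNorm (u : GolayPt → ℤ) = 48)
    (hx : sqNorm (x : GolayPt → ℤ) = 32)
    (hux : dotInt (u : GolayPt → ℤ) (x : GolayPt → ℤ) = -16) :
    ∃ g : ↥Co0, g • u = vA ∧ g • x = xm := by
  have hw : sqNorm ((0 - u - x : ↥leechLattice) : GolayPt → ℤ) = 48 := by
    show sqNorm (0 - (u : GolayPt → ℤ) - (x : GolayPt → ℤ)) = 48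
    rw [sqNorm_neg_sub, hu, hx, hux]
    norm_num
  have huw : dotInt (u : GolayPt → ℤ) ((0 - u - x : ↥leechLattice) : GolayPt → ℤ) = -32 := by
    show dotInt (u : GolayPt → ℤ) (0 - (u : GolayPt → ℤ) - (x : GolayPt → ℤ)) = -32
    rw [dot_neg_sub, hu, hux]
    norm_num
  obtain ⟨g, g1, g2⟩ := trans_hs_pair u (0 - u - x) vA wA hu hw huw sqNorm_vA sqNorm_wA dot_vA_wA
  refine ⟨g, g1, ?_⟩
  have e : x = 0 - u - (0 - u - x) := by abel
  rw [e, smul_sub', smul_sub', smul_zero', g1, g2, xm_eq]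
  abel

/-- the stabiliser of `u` and `x` is transitive on the vectors with a given inner product with
`x`. -/
theorem hs_rank5 (u x y y' : ↥leechLattice) (hu : sqNorm (u : GolayPt → ℤ) = 48)
    (hx : sqNorm (x : GolayPt → ℤ) = 32 ∧ dotInt (u : GolayPt → ℤ) (x : GolayPt → ℤ) = -16)
    (hy : sqNorm (y : GolayPt → ℤ) = 32 ∧ dotInt (u : GolayPt → ℤ) (y : GolayPt → ℤ) = -16)
    (hy' : sqNorm (y' : GolayPt → ℤ) = 32 ∧ dotInt (u : GolayPt → ℤ) (y' : GolayPt → ℤ) = -16)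
    (hne : y ≠ x) (hne' : y' ≠ x)
    (hd : dotInt (x : GolayPt → ℤ) (y : GolayPt → ℤ) =
      dotInt (x : GolayPt → ℤ) (y' : GolayPt → ℤ)) :
    ∃ g : ↥Co0, g • u = u ∧ g • x = x ∧ g • y = y' := by
  obtain ⟨G, G1, G2⟩ := ux_to_std u x hu hx.1 hx.2
  have aux : ∀ z : ↥leechLattice, sqNorm (z : GolayPt → ℤ) = 32 ∧
      dotInt (u : GolayPt → ℤ) (z : GolayPt → ℤ) = -16 → z ≠ x →
      sqNorm ((G • z : ↥leechLattice) : GolayPt → ℤ) = 32 ∧
      dotInt ((vA : ↥leechLattice) : GolayPt → ℤ)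
        ((G • z : ↥leechLattice) : GolayPt → ℤ) = -16 ∧ G • z ≠ xm ∧
      dotInt ((xm : ↥leechLattice) : GolayPt → ℤ) ((G • z : ↥leechLattice) : GolayPt → ℤ) =
        dotInt (x : GolayPt → ℤ) (z : GolayPt → ℤ) := by
    intro z hz hzx
    refine ⟨(co0_sqNorm G z).trans hz.1, ?_, ?_, ?_⟩
    · rw [← G1, co0_dot]
      exact hz.2
    · intro h
      apply hzx
      rw [← G2] at h
      exact MulAction.injective G h
    · rw [← G2, co0_dot]
  obtain ⟨a1, a2, a3, a4⟩ := aux y hy hne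
  obtain ⟨b1, b2, b3, b4⟩ := aux y' hy' hne'
  obtain ⟨g, g1, g2, g3⟩ := hs_rank5_std (G • y) (G • y') a1 a2 a3 b1 b2 b3 (by rw [a4, b4, hd])
  have g4 : g • xm = xm := fix_xm g g1 g2
  refine ⟨G⁻¹ * (g * G), ?_, ?_, ?_⟩
  · rw [mul_smul', mul_smul', G1, g1, ← G1, inv_smul_smul']
  · rw [mul_smul', mul_smul', G2, g4, ← G2, inv_smul_smul']
  · rw [mul_smul', mul_smul', g3, inv_smul_smul']

/-- the possible inner products with `x`. -/
theorem hs_dot_cases (u x y : ↥leechLattice) (hu : sqNorm (u : GolayPt → ℤ) = 48)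
    (hx : sqNorm (x : GolayPt → ℤ) = 32 ∧ dotInt (u : GolayPt → ℤ) (x : GolayPt → ℤ) = -16)
    (hy : sqNorm (y : GolayPt → ℤ) = 32 ∧ dotInt (u : GolayPt → ℤ) (y : GolayPt → ℤ) = -16)
    (hne : y ≠ x) :
    dotInt (x : GolayPt → ℤ) (y : GolayPt → ℤ) = -8 ∨
      dotInt (x : GolayPt → ℤ) (y : GolayPt → ℤ) = 0 ∨
      dotInt (x : GolayPt → ℤ) (y : GolayPt → ℤ) = 8 ∨
      dotInt (x : GolayPt → ℤ) (y : GolayPt → ℤ) = 16 := by
  obtain ⟨G, G1, G2⟩ := ux_to_std u x hu hx.1 hx.2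
  have h := hs_dot_vals (G • y) ((co0_sqNorm G y).trans hy.1)
    (by rw [← G1, co0_dot]; exact hy.2) (by
      intro h
      apply hne
      rw [← G2] at h
      exact MulAction.injective G h)
  rw [← G2, co0_dot] at h
  exact h

/-- the orbits of the stabiliser of `u` and `x`. -/
theorem hs_orbit (u x y : ↥leechLattice) (hu : sqNorm (u : GolayPt → ℤ) = 48)
    (hx : sqNorm (x : GolayPt → ℤ) = 32 ∧ dotInt (u : GolayPt → ℤ) (x : GolayPt → ℤ) = -16)
    (hy : sqNorm (y : GolayPt → ℤ) = 32 ∧ dotInt (u : GolayPt → ℤ) (y : GolayPt → ℤ) = -16)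
    (hd : dotInt (x : GolayPt → ℤ) (y : GolayPt → ℤ) ≠ 32) :
    MulAction.orbit ↥(MulAction.stabilizer ↥Co0 u ⊓ MulAction.stabilizer ↥Co0 x) y =
      {y' : ↥leechLattice | (sqNorm (y' : GolayPt → ℤ) = 32 ∧
        dotInt (u : GolayPt → ℤ) (y' : GolayPt → ℤ) = -16) ∧
        dotInt (x : GolayPt → ℤ) (y' : GolayPt → ℤ) =
          dotInt (x : GolayPt → ℤ) (y : GolayPt → ℤ)} := by
  have hxx : dotInt (x : GolayPt → ℤ) (x : GolayPt → ℤ) = 32 := by
    rw [dot_self, hx.1]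
  ext y'
  rw [MulAction.mem_orbit_iff, Set.mem_ofPred_eq]
  constructor
  · rintro ⟨⟨h, hh⟩, rfl⟩
    rw [Subgroup.mem_inf, MulAction.mem_stabilizer_iff, MulAction.mem_stabilizer_iff] at hh
    obtain ⟨f1, f2⟩ := hh
    show (sqNorm ((h • y : ↥leechLattice) : GolayPt → ℤ) = 32 ∧
      dotInt (u : GolayPt → ℤ) ((h • y : ↥leechLattice) : GolayPt → ℤ) = -16) ∧
      dotInt (x : GolayPt → ℤ) ((h • y : ↥leechLattice) : GolayPt → ℤ) =
        dotInt (x : GolayPt → ℤ) (y : GolayPt → ℤ)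
    refine ⟨⟨(co0_sqNorm h y).trans hy.1, ?_⟩, ?_⟩
    · nth_rewrite 1 [← f1]
      rw [co0_dot]
      exact hy.2
    · nth_rewrite 1 [← f2]
      rw [co0_dot]
  · rintro ⟨hy', hd'⟩
    have hne : y ≠ x := by
      intro h
      rw [h] at hd
      exact hd hxx
    have hne' : y' ≠ x := by
      intro h
      rw [h, hxx] at hd'
      exact hd hd'.symm
    obtain ⟨g, g1, g2, g3⟩ := hs_rank5 u x y y' hu hx hy hy' hne hne' hd'.symm
    refine ⟨⟨g, ?_⟩, g3⟩
    rw [Subgroup.mem_inf, MulAction.mem_stabilizer_iff, MulAction.mem_stabilizer_iff]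
    exact ⟨g1, g2⟩

/-! ### the counts -/

def alXm : List ℤ := [4, 0, 0, 0, 0, 0, 0, 0, 0, 0, 0, 0, 0, 0, 0, 0, 0, 0, 0, 0, 0, 0, 0, -4]

theorem xm_eq_list : ((xm : ↥leechLattice) : GolayPt → ℤ) = toVec alXm := by
  rw [xm_coe, std2_eq]
  funext p
  rw [Pi.neg_apply]
  revert p
  decide

/-- the coordinates of the combination of the two standard vectors. -/
def alHX : List ℤ := [4001, 1, 1, 1, 1, 1, 1, 1, 1, 1, 1, 1, 1, 1, 1, 1, 1, 1, 1, 1, 1, 1, 1, -3995]

theorem alHX_eq : toVec alHX = toVec alVA + (1000 : ℤ) • toVec alXm := by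
  funext p
  rw [Pi.add_apply, Pi.smul_apply, smul_eq_mul]
  revert p
  decide

set_option maxRecDepth 100000 in
theorem cnt_alHX_m8 : cntFast alHX (-8016) = 352 := by decide +kernel

set_option maxRecDepth 100000 in
theorem cnt_alHX_0 : cntFast alHX (-16) = 4125 := by decide +kernel

set_option maxRecDepth 100000 in
theorem cnt_alHX_8 : cntFast alHX 7984 = 5600 := by decide +kernel

set_option maxRecDepth 100000 in
theorem cnt_alHX_16 : cntFast alHX 15984 = 1100 := by decide +kernel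

/-- the number of vectors with a given inner product with `x`. -/
theorem hs_suborbit_card (u x : ↥leechLattice) (hu : sqNorm (u : GolayPt → ℤ) = 48)
    (hx : sqNorm (x : GolayPt → ℤ) = 32 ∧ dotInt (u : GolayPt → ℤ) (x : GolayPt → ℤ) = -16)
    (d : ℤ) (n : ℕ) (hd : -100 ≤ d) (hd' : d ≤ 100) (hcnt : cntFast alHX (-16 + 1000 * d) = n) :
    {y : ↥leechLattice | (sqNorm (y : GolayPt → ℤ) = 32 ∧
        dotInt (u : GolayPt → ℤ) (y : GolayPt → ℤ) = -16) ∧
        dotInt (x : GolayPt → ℤ) (y : GolayPt → ℤ) = d}.ncard = n := by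
  obtain ⟨g0, h1, h2⟩ := ux_to_std u x hu hx.1 hx.2
  rw [ncard_smul_pred g0 _ (fun z => sqNorm (z : GolayPt → ℤ) = 32 ∧
      dotInt (toVec alHX) (z : GolayPt → ℤ) = -16 + 1000 * d)]
  · rw [ncard_sub_eq (fun z => sqNorm z = 32 ∧ dotInt (toVec alHX) z = -16 + 1000 * d)]
    exact ncard_min_dot' alHX rfl _ n hcnt
  · intro y
    have e1 : dotInt (toVec alVA) ((g0 • y : ↥leechLattice) : GolayPt → ℤ) =
        dotInt (u : GolayPt → ℤ) (y : GolayPt → ℤ) := by
      rw [← vA_eq, ← h1, co0_dot]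
    have e2 : dotInt (toVec alXm) ((g0 • y : ↥leechLattice) : GolayPt → ℤ) =
        dotInt (x : GolayPt → ℤ) (y : GolayPt → ℤ) := by
      rw [← xm_eq_list, ← h2, co0_dot]
    have e4 := co0_sqNorm g0 y
    constructor
    · rintro ⟨⟨k1, k2⟩, k4⟩
      refine ⟨e4.trans k1, ?_⟩
      rw [alHX_eq]
      exact (combo_iff (toVec alVA) (toVec alXm) ((g0 • y : ↥leechLattice) : GolayPt → ℤ)
        (-16) d (by rw [← vA_eq, sqNorm_vA]) (e4.trans k1) (by norm_num) (by norm_num)).mpr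
        ⟨e1.trans k2, e2.trans k4⟩
    · rintro ⟨k1, k2⟩
      rw [alHX_eq] at k2
      have := (combo_iff (toVec alVA) (toVec alXm) ((g0 • y : ↥leechLattice) : GolayPt → ℤ)
        (-16) d (by rw [← vA_eq, sqNorm_vA]) k1 (by norm_num) (by norm_num)).mp k2
      exact ⟨⟨e4.symm.trans k1, e1.symm.trans this.1⟩, e2.symm.trans this.2⟩

end Cfsg.Agent.Helper9.Leech
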