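import Mathlib
import Cfsg.Prelude.Def_Sporadic_a
import Cfsg.Prelude.Def_SporadicCombinatorics
import Cfsg.Agent.Helper9.Leech.HS8
import Cfsg.Agent.Helper9.Leech.HSSimple3
import Cfsg.Agent.Helper9.PrimSimple2

/-!
The stabiliser of a vector of sum of squares 48 is a simple group of order 495766656000.
-/

set_option autoImplicit false

namespace Cfsg.Agent.Helper9.Leech

open Cfsg
open Cfsg.Agent.Helper9.Golay
open scoped Pointwise

/-- the minimal vectors with inner product `-16` with `u`. -/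
def co3Pts (u : ↥leechLattice) : SubMulAction ↥(MulAction.stabilizer ↥Co0 u) ↥leechLattice where
  carrier := {x | sqNorm (x : GolayPt → ℤ) = 32 ∧
    dotInt (u : GolayPt → ℤ) (x : GolayPt → ℤ) = -16}
  smul_mem' := by
    intro k x hx
    have hk : k.1 • u = u := k.2
    refine ⟨(co0_sqNorm k.1 x).trans hx.1, ?_⟩
    have := co0_dot k.1 u x
    rw [hk] at this
    exact this.trans hx.2

theorem mem_co3Pts {u x : ↥leechLattice} : x ∈ co3Pts u ↔
    (sqNorm (x : GolayPt → ℤ) = 32 ∧ dotInt (u : GolayPt → ℤ) (x : GolayPt → ℤ) = -16) :=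
  Iff.rfl

/-- the number of points of each colour. -/
def co3Num (c : ℤ) : ℕ := if c = -8 then 352 else if c = 0 then 4125 else if c = 8 then 5600
  else 1100

theorem co3_arith : ∀ C ∈ ({-8, 0, 8, 16} : Finset ℤ).powerset,
    (1 + ∑ c ∈ C, co3Num c) ∣ 11178 → C = ∅ ∨ C = ({-8, 0, 8, 16} : Finset ℤ) := by
  decide

section

variable (u : ↥leechLattice) (hu : sqNorm (u : GolayPt → ℤ) = 48)

include hu

theorem co3_card_pts : Nat.card ↥(co3Pts u) = 11178 :=
  census_48 u hu (-16) 11178 cnt_alU_m16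

theorem co3_pretrans : MulAction.IsPretransitive ↥(MulAction.stabilizer ↥Co0 u) ↥(co3Pts u) := by
  refine ⟨fun a b => ?_⟩
  obtain ⟨g, g1, g2⟩ := ux_to_std u a.1 hu a.2.1 a.2.2
  obtain ⟨g', g1', g2'⟩ := ux_to_std u b.1 hu b.2.1 b.2.2
  refine ⟨⟨g'⁻¹ * g, ?_⟩, ?_⟩
  · rw [MulAction.mem_stabilizer_iff, mul_smul', g1, ← g1', inv_smul_smul']
  · apply Subtype.ext
    show (g'⁻¹ * g) • (a : ↥leechLattice) = b
    rw [mul_smul', g2, ← g2', inv_smul_smul']

theorem co3_colour_card (a : ↥(co3Pts u)) (d e : ℤ) (n : ℕ) (hd : -100 ≤ d) (hd' : d ≤ 100)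
    (he : -16 + 1000 * d = e) (hcnt : cntFast alHX e = n) :
    {y : ↥(co3Pts u) | dotInt ((a : ↥leechLattice) : GolayPt → ℤ)
      ((y : ↥leechLattice) : GolayPt → ℤ) = d}.ncard = n := by
  subst he
  refine Eq.trans ?_ (hs_suborbit_card u a.1 hu a.2 d n hd hd' hcnt)
  have e : {y : ↥(co3Pts u) | dotInt ((a : ↥leechLattice) : GolayPt → ℤ)
      ((y : ↥leechLattice) : GolayPt → ℤ) = d} = Subtype.val ⁻¹'
      {y : ↥leechLattice | (sqNorm (y : GolayPt → ℤ) = 32 ∧
        dotInt (u : GolayPt → ℤ) (y : GolayPt → ℤ) = -16) ∧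
        dotInt ((a : ↥leechLattice) : GolayPt → ℤ) (y : GolayPt → ℤ) = d} := by
    ext y
    constructor
    · intro h
      exact ⟨y.2, h⟩
    · intro h
      exact h.2
  rw [e]
  apply Set.ncard_preimage_of_injective_subset_range Subtype.val_injective
  intro y hy
  exact ⟨⟨y, hy.1⟩, rfl⟩

theorem co3_stab_trans (a y y' : ↥(co3Pts u))
    (hy : dotInt ((a : ↥leechLattice) : GolayPt → ℤ) ((y : ↥leechLattice) : GolayPt → ℤ) ∈
      ({-8, 0, 8, 16} : Finset ℤ))
    (hd : dotInt ((a : ↥leechLattice) : GolayPt → ℤ) ((y : ↥leechLattice) : GolayPt → ℤ) =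
      dotInt ((a : ↥leechLattice) : GolayPt → ℤ) ((y' : ↥leechLattice) : GolayPt → ℤ)) :
    ∃ k ∈ MulAction.stabilizer ↥(MulAction.stabilizer ↥Co0 u) a, k • y = y' := by
  have haa : dotInt ((a : ↥leechLattice) : GolayPt → ℤ)
      ((a : ↥leechLattice) : GolayPt → ℤ) = 32 := by
    rw [dot_self, a.2.1]
  have hne : y ≠ a := by
    intro h
    rw [h, haa] at hy
    revert hy
    decide
  have hne' : y' ≠ a := by
    intro h
    rw [hd, h, haa] at hy
    revert hy
    decide
  obtain ⟨g, g1, g2, g3⟩ := hs_rank5 u a.1 y.1 y'.1 hu a.2 y.2 y'.2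
    (fun h => hne (Subtype.ext h)) (fun h => hne' (Subtype.ext h)) hd
  refine ⟨⟨g, g1⟩, ?_, Subtype.ext g3⟩
  rw [MulAction.mem_stabilizer_iff]
  exact Subtype.ext g2

theorem co3_preprim : MulAction.IsPreprimitive ↥(MulAction.stabilizer ↥Co0 u) ↥(co3Pts u) := by
  have := co3_pretrans u hu
  have hcard := co3_card_pts u hu
  obtain ⟨a⟩ : Nonempty ↥(co3Pts u) := by
    by_contra h
    rw [not_nonempty_iff] at h
    rw [Nat.card_of_isEmpty] at hcard
    omega
  have : Finite ↥(co3Pts u) := Nat.finite_of_card_ne_zero (by rw [hcard]; norm_num)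
  apply Cfsg.Agent.Helper9.preprimitive_of_colours a
    (fun y => dotInt ((a : ↥leechLattice) : GolayPt → ℤ) ((y : ↥leechLattice) : GolayPt → ℤ))
    ({-8, 0, 8, 16} : Finset ℤ) co3Num 11178 hcard
  · show dotInt ((a : ↥leechLattice) : GolayPt → ℤ) ((a : ↥leechLattice) : GolayPt → ℤ) ∉
      ({-8, 0, 8, 16} : Finset ℤ)
    rw [dot_self, a.2.1]
    decide
  · intro c hc
    simp only [Finset.mem_insert, Finset.mem_singleton] at hc
    rcases hc with rfl | rfl | rfl | rfl
    · exact co3_colour_card u hu a (-8) (-8016) 352 (by norm_num) (by norm_num) (by norm_num)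
        cnt_alHX_m8
    · exact co3_colour_card u hu a 0 (-16) 4125 (by norm_num) (by norm_num) (by norm_num)
        cnt_alHX_0
    · exact co3_colour_card u hu a 8 7984 5600 (by norm_num) (by norm_num) (by norm_num)
        cnt_alHX_8
    · exact co3_colour_card u hu a 16 15984 1100 (by norm_num) (by norm_num) (by norm_num)
        cnt_alHX_16
  · decide
  · intro y y' hy hd
    exact co3_stab_trans u hu a y y' hy hd
  · exact co3_arith

end

theorem fix_third (g : ↥Co0) (u x : ↥leechLattice) (h1 : g • u = u)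
    (h2 : g • (0 - u - x) = 0 - u - x) : g • x = x := by
  have e : x = 0 - u - (0 - u - x) := by abel
  rw [e, smul_sub', smul_sub', smul_zero', h1, h2]

/-- the point stabiliser is the joint stabiliser of two vectors of sum of squares 48. -/
def co3StabEquiv (u : ↥leechLattice) (a : ↥(co3Pts u)) :
    ↥(MulAction.stabilizer ↥(MulAction.stabilizer ↥Co0 u) a) ≃*
      ↥(MulAction.stabilizer ↥Co0 u ⊓
        MulAction.stabilizer ↥Co0 (0 - u - (a : ↥leechLattice))) where
  toFun k := ⟨k.1.1, by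
    have hk : k.1.1 • u = u := k.1.2
    have hk2 : k.1 • a = a := k.2
    have hk' : k.1.1 • (a : ↥leechLattice) = a := congrArg Subtype.val hk2
    refine Subgroup.mem_inf.mpr ⟨hk, ?_⟩
    rw [MulAction.mem_stabilizer_iff, smul_sub', smul_sub', smul_zero', hk, hk']⟩
  invFun y := ⟨⟨y.1, (Subgroup.mem_inf.mp y.2).1⟩, by
    have h1 : y.1 • u = u := (Subgroup.mem_inf.mp y.2).1
    have h2 : y.1 • (0 - u - (a : ↥leechLattice)) = 0 - u - (a : ↥leechLattice) :=
      (Subgroup.mem_inf.mp y.2).2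
    rw [MulAction.mem_stabilizer_iff]
    apply Subtype.ext
    exact fix_third y.1 u a.1 h1 h2⟩
  left_inv _ := rfl
  right_inv _ := rfl
  map_mul' _ _ := rfl

theorem co3_simple_card (u : ↥leechLattice) (hu : sqNorm (u : GolayPt → ℤ) = 48) :
    IsSimpleGroup ↥(MulAction.stabilizer ↥Co0 u) ∧
      Nat.card ↥(MulAction.stabilizer ↥Co0 u) = 495766656000 := by
  have := co3_pretrans u hu
  have := co3_preprim u hu
  have hcard := co3_card_pts u hu
  obtain ⟨a⟩ : Nonempty ↥(co3Pts u) := by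
    by_contra h
    rw [not_nonempty_iff] at h
    rw [Nat.card_of_isEmpty] at hcard
    omega
  have : Finite ↥(co3Pts u) := Nat.finite_of_card_ne_zero (by rw [hcard]; norm_num)
  -- the point stabiliser
  have hw : sqNorm ((0 - u - (a : ↥leechLattice) : ↥leechLattice) : GolayPt → ℤ) = 48 := by
    show sqNorm (0 - (u : GolayPt → ℤ) - ((a : ↥leechLattice) : GolayPt → ℤ)) = 48
    rw [sqNorm_neg_sub, hu, a.2.1, a.2.2]
    norm_num
  have huw : dotInt (u : GolayPt → ℤ)
      ((0 - u - (a : ↥leechLattice) : ↥leechLattice) : GolayPt → ℤ) = -32 := by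
    show dotInt (u : GolayPt → ℤ)
      (0 - (u : GolayPt → ℤ) - ((a : ↥leechLattice) : GolayPt → ℤ)) = -32
    rw [dot_neg_sub, hu, a.2.2]
    norm_num
  obtain ⟨hHS, hHScard⟩ := hs_simple_card u (0 - u - (a : ↥leechLattice)) hu hw huw
  have hs : IsSimpleGroup ↥(MulAction.stabilizer ↥(MulAction.stabilizer ↥Co0 u) a) :=
    (co3StabEquiv u a).isSimpleGroup
  -- faithfulness
  have hfaith : FaithfulSMul ↥(MulAction.stabilizer ↥Co0 u) ↥(co3Pts u) := by
    apply Cfsg.Agent.Helper9.faithful_of_stab_simple a hs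
    have h352 := co3_colour_card u hu a (-8) (-8016) 352 (by norm_num) (by norm_num) (by norm_num)
        cnt_alHX_m8
    have h1 : 1 < {y : ↥(co3Pts u) | dotInt ((a : ↥leechLattice) : GolayPt → ℤ)
        ((y : ↥leechLattice) : GolayPt → ℤ) = -8}.ncard := by
      rw [h352]
      norm_num
    obtain ⟨y, hy, y', hy', hne⟩ := (Set.one_lt_ncard (Set.toFinite _)).mp h1
    rw [Set.mem_ofPred_eq] at hy hy'
    obtain ⟨k, hk, hky⟩ := co3_stab_trans u hu a y y' (by rw [hy]; decide) (by rw [hy, hy'])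
    exact ⟨k, hk, y, by rw [hky]; exact Ne.symm hne⟩
  constructor
  · exact Cfsg.Agent.Helper9.simple_of_prim_stab_simple a hs
      (fun N hN hc => Cfsg.Agent.Helper9.no_regular_two_odd 5589 (by decide) (by norm_num)
        hcard N hN (hc.trans hcard))
  · have h4 := Subgroup.card_mul_index
      (MulAction.stabilizer ↥(MulAction.stabilizer ↥Co0 u) a)
    rw [MulAction.index_stabilizer, MulAction.orbit_eq_univ, Set.ncard_univ, hcard,
      Nat.card_congr (co3StabEquiv u a).toEquiv, hHScard] at h4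
    omega

end Cfsg.Agent.Helper9.Leech
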