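import Mathlib
import Cfsg.Prelude.Def_Sporadic_a
import Cfsg.Prelude.Def_SporadicCombinatorics
import Cfsg.Agent.Helper9.Leech.ModTwo

/-!
The invariant quadratic form on the lattice modulo twice the lattice.
-/

set_option autoImplicit false

namespace Cfsg.Agent.Helper9.Leech

open Cfsg
open Cfsg.Agent.Helper9.Golay

/-- the standard octad, written out. -/
def o5 : Finset GolayPt :=
  {some 0, some 1, some 2, some 3, some 4, some 7, some 10, some 12}

theorem suppM_o5 : suppM 5279 = o5 := by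
  ext p
  rw [mem_suppM]
  revert p
  decide

theorem o5_oct : o5 ∈ octads := by
  rw [← suppM_o5]
  exact oct5279_mem

/-- the vectors used in the relations. -/
def qU : ↥leechLattice :=
  ⟨pat 2 o5 {some 0, some 1}, oct_mem o5_oct (by decide) (by decide)⟩

def qV1 : ↥leechLattice :=
  ⟨pat 4 {some 0, some 1} ∅, four_mem (by decide) (Finset.empty_subset _)⟩

def qV2 : ↥leechLattice :=
  ⟨pat 4 {some 1, some 5} {some 1}, four_mem (by decide) (by decide)⟩

def qV3 : ↥leechLattice :=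
  ⟨pat 4 {some 5, some 6} {some 5}, four_mem (by decide) (by decide)⟩

theorem dot_dvd {y z : GolayPt → ℤ} (hy : y ∈ leechLattice) (hz : z ∈ leechLattice) :
    (8 : ℤ) ∣ dotInt y z := by
  have h1 := sixteen_dvd_sqNorm ((mem_leechLattice_iff _).mp (leechLattice.add_mem hy hz))
  have h2 := sixteen_dvd_sqNorm ((mem_leechLattice_iff _).mp (leechLattice.sub_mem hy hz))
  have h3 := sqNorm_add_sub_dot y z
  have h4 := sqNorm_sub_add y z
  obtain ⟨a, ha⟩ := h1
  obtain ⟨b, hb⟩ := h2
  obtain ⟨s, hs⟩ := sixteen_dvd_sqNorm ((mem_leechLattice_iff _).mp hy)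
  obtain ⟨t, ht⟩ := sixteen_dvd_sqNorm ((mem_leechLattice_iff _).mp hz)
  exact ⟨a - s - t, by omega⟩

theorem sqNorm_add_two (y z : GolayPt → ℤ) :
    sqNorm (y + 2 • z) = sqNorm y + 4 * dotInt y z + 4 * sqNorm z := by
  unfold sqNorm dotInt
  rw [Finset.mul_sum, Finset.mul_sum, ← Finset.sum_add_distrib, ← Finset.sum_add_distrib]
  apply Finset.sum_congr rfl
  intro i _
  rw [Pi.add_apply, Pi.smul_apply]
  simp only [nsmul_eq_mul, Nat.cast_ofNat]
  ring

theorem quad_unique (Q : ↥leechLattice → ZMod 2)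
    (hcoset : ∀ v w : ↥leechLattice, Q (v + (w + w)) = Q v)
    (hquad : ∀ u v w : ↥leechLattice,
      Q (u + v + w) + Q u + Q v + Q w = Q (u + v) + Q (u + w) + Q (v + w))
    (hinv : ∀ (g : ↥Co0) (v : ↥leechLattice), Q (g • v) = Q v)
    (hne : ∃ v : ↥leechLattice, Q v ≠ 0) (v : ↥leechLattice) :
    Q v = ((sqNorm (v : GolayPt → ℤ) / 16 : ℤ) : ZMod 2) := by
  have hz2 : ∀ a : ZMod 2, a + a = 0 := by decide
  -- the value at zero
  have hQ0 : Q 0 = 0 := by
    have h := hquad 0 0 0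
    simp only [add_zero] at h
    revert h
    generalize Q 0 = a
    revert a
    decide
  -- the values depend on the sum of squares only
  have h32 : ∀ x y : ↥leechLattice, sqNorm (x : GolayPt → ℤ) = 32 →
      sqNorm (y : GolayPt → ℤ) = 32 → Q x = Q y := by
    intro x y hx hy
    obtain ⟨g, hg⟩ := trans32 x y hx hy
    rw [← hg, hinv]
  have h48 : ∀ x y : ↥leechLattice, sqNorm (x : GolayPt → ℤ) = 48 →
      sqNorm (y : GolayPt → ℤ) = 48 → Q x = Q y := by
    intro x y hx hy
    obtain ⟨g, hg⟩ := trans48 x y hx hy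
    rw [← hg, hinv]
  have h64 : ∀ x y : ↥leechLattice, sqNorm (x : GolayPt → ℤ) = 64 →
      sqNorm (y : GolayPt → ℤ) = 64 → Q x = Q y := by
    intro x y hx hy
    obtain ⟨g, hg⟩ := trans64 x y hx hy
    rw [← hg, hinv]
  -- norms of the vectors used
  have nU : sqNorm ((qU : ↥leechLattice) : GolayPt → ℤ) = 32 := by decide +kernel
  have nV1 : sqNorm ((qV1 : ↥leechLattice) : GolayPt → ℤ) = 32 := by decide +kernel
  have nV2 : sqNorm ((qV2 : ↥leechLattice) : GolayPt → ℤ) = 32 := by decide +kernel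
  have nV3 : sqNorm ((qV3 : ↥leechLattice) : GolayPt → ℤ) = 32 := by decide +kernel
  have nV12 : sqNorm ((qV1 + qV2 : ↥leechLattice) : GolayPt → ℤ) = 32 := by decide +kernel
  have nV23 : sqNorm ((qV2 + qV3 : ↥leechLattice) : GolayPt → ℤ) = 32 := by decide +kernel
  have nV13 : sqNorm ((qV1 + qV3 : ↥leechLattice) : GolayPt → ℤ) = 64 := by decide +kernel
  have nV123 : sqNorm ((qV1 + qV2 + qV3 : ↥leechLattice) : GolayPt → ℤ) = 32 := by
    decide +kernel
  have nUV1 : sqNorm ((qU + qV1 : ↥leechLattice) : GolayPt → ℤ) = 32 := by decide +kernel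
  have nUV2 : sqNorm ((qU - qV2 : ↥leechLattice) : GolayPt → ℤ) = 48 := by decide +kernel
  have nUV12 : sqNorm ((qU + qV1 + qV2 : ↥leechLattice) : GolayPt → ℤ) = 48 := by decide +kernel
  -- the value on the vectors of sum of squares 64
  have hc : ∀ x : ↥leechLattice, sqNorm (x : GolayPt → ℤ) = 64 → Q x = 0 := by
    intro x hx
    rw [h64 x (qV1 + qV3) hx nV13]
    have h := hquad qV1 qV2 qV3
    rw [h32 _ qV1 nV123 nV1, h32 qV2 qV1 nV2 nV1, h32 qV3 qV1 nV3 nV1, h32 _ qV1 nV12 nV1,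
      h32 _ qV1 nV23 nV1] at h
    revert h
    generalize Q qV1 = a
    generalize Q (qV1 + qV3) = c
    revert a c
    decide
  -- the value on the vectors of sum of squares 32
  have ha : ∀ x : ↥leechLattice, sqNorm (x : GolayPt → ℤ) = 32 → Q x = 0 := by
    intro x hx
    rw [h32 x qV1 hx nV1]
    have h := hquad qU qV1 qV2
    have e : qU + qV2 = (qU - qV2) + (qV2 + qV2) := by abel
    rw [e, hcoset, h32 qU qV1 nU nV1, h32 qV2 qV1 nV2 nV1, h32 _ qV1 nUV1 nV1,
      h32 _ qV1 nV12 nV1, h48 _ (qU - qV2) nUV12 nUV2] at h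
    revert h
    generalize Q qV1 = a
    generalize Q (qU - qV2) = b
    revert a b
    decide
  -- reduction to the short representatives
  have hrep : ∀ x : ↥leechLattice, ∃ y : ↥leechLattice, sqNorm (y : GolayPt → ℤ) ≤ 64 ∧
      Q x = Q y ∧ (sqNorm (x : GolayPt → ℤ) / 16) % 2 = (sqNorm (y : GolayPt → ℤ) / 16) % 2 := by
    intro x
    obtain ⟨y, hy, hyn, z, hz, hxyz⟩ := classes_rep x.1 x.2
    refine ⟨⟨y, hy⟩, hyn, ?_, ?_⟩
    · have e : x = (⟨y, hy⟩ : ↥leechLattice) + ((⟨z, hz⟩ : ↥leechLattice) + ⟨z, hz⟩) := by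
        apply Subtype.ext
        change (x : GolayPt → ℤ) = y + (z + z)
        have : (x : GolayPt → ℤ) = y + 2 • z := by
          rw [← hxyz]
          abel
        rw [this, two_nsmul]
      rw [e, hcoset]
    · have e : (x : GolayPt → ℤ) = y + 2 • z := by
        rw [← hxyz]
        abel
      change (sqNorm (x : GolayPt → ℤ) / 16) % 2 = (sqNorm y / 16) % 2
      rw [e, sqNorm_add_two]
      obtain ⟨d, hd⟩ := dot_dvd hy hz
      obtain ⟨s, hs⟩ := sixteen_dvd_sqNorm ((mem_leechLattice_iff _).mp hz)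
      obtain ⟨t, ht⟩ := sixteen_dvd_sqNorm ((mem_leechLattice_iff _).mp hy)
      rw [hd, hs, ht]
      omega
  -- the possible sums of squares of the short representatives
  have hshort : ∀ y : ↥leechLattice, sqNorm (y : GolayPt → ℤ) ≤ 64 →
      y = 0 ∨ sqNorm (y : GolayPt → ℤ) = 32 ∨ sqNorm (y : GolayPt → ℤ) = 48 ∨
        sqNorm (y : GolayPt → ℤ) = 64 := by
    intro y hyn
    by_cases hy0 : y = 0
    · exact Or.inl hy0
    · right
      have h0 : (y : GolayPt → ℤ) ≠ 0 := fun h => hy0 (Subtype.ext h)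
      have h32' := min_norm y.2 h0
      obtain ⟨k, hk⟩ := sixteen_dvd_sqNorm ((mem_leechLattice_iff _).mp y.2)
      omega
  -- the value on the vectors of sum of squares 48
  have hb : ∀ x : ↥leechLattice, sqNorm (x : GolayPt → ℤ) = 48 → Q x = 1 := by
    intro x hx
    obtain ⟨v0, hv0⟩ := hne
    obtain ⟨y, hyn, hQy, -⟩ := hrep v0
    rw [hQy] at hv0
    rcases hshort y hyn with h | h | h | h
    · rw [h, hQ0] at hv0
      exact absurd rfl hv0
    · exact absurd (ha y h) hv0
    · rw [h48 x y hx h]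
      revert hv0
      generalize Q y = b
      revert b
      decide
    · exact absurd (hc y h) hv0
  -- conclusion
  obtain ⟨y, hyn, hQy, hmod⟩ := hrep v
  have hcast : ((sqNorm (v : GolayPt → ℤ) / 16 : ℤ) : ZMod 2) =
      ((sqNorm (y : GolayPt → ℤ) / 16 : ℤ) : ZMod 2) := by
    rw [ZMod.intCast_eq_intCast_iff']
    exact hmod
  rw [hQy, hcast]
  rcases hshort y hyn with h | h | h | h
  · rw [h, hQ0]
    change (0 : ZMod 2) = ((sqNorm (0 : GolayPt → ℤ) / 16 : ℤ) : ZMod 2)
    have e : sqNorm (0 : GolayPt → ℤ) = 0 := by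
      unfold sqNorm
      simp
    rw [e]
    rfl
  · rw [ha y h, h]
    rfl
  · rw [hb y h, h]
    rfl
  · rw [hc y h, h]
    rfl

end Cfsg.Agent.Helper9.Leech
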