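import Mathlib
import Cfsg.Prelude.Def_Sporadic_a
import Cfsg.Prelude.Def_SporadicCombinatorics
import Cfsg.Agent.Helper9.Leech.HS

/-!
An involution fixing two vectors of sum of squares 48 with inner product `-32` and none of the
100 minimal vectors attached to them: the change of signs on a dodecad, in a suitable position.
-/

set_option autoImplicit false

namespace Cfsg.Agent.Helper9.Leech

open Cfsg
open Cfsg.Agent.Helper9.Golay
open scoped Pointwise

/-- a dodecad. -/
def dD : Finset GolayPt := suppM 28637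

theorem dD_mem : dD ∈ dodecads := by
  unfold dodecads
  rw [wordsOfWeight_eq]
  exact ⟨28637, List.mem_filter.mpr ⟨by decide +kernel, by decide⟩, rfl⟩

theorem dD_supp : dD ∈ supports (golayCode : Set (GolayPt → ZMod 2)) := dD_mem.1

theorem dDc_supp : dDᶜ ∈ supports (golayCode : Set (GolayPt → ZMod 2)) :=
  compl_mem_supports dD_supp

def alVD : List ℤ := [2, 0, 2, 2, 2, 0, 2, 2, 2, 2, 2, 2, 0, 2, 2, 0, 0, 0, 0, 0, 0, 0, 0, 0]

def alWD : List ℤ := [2, 0, 2, -2, -2, 0, -2, -2, -2, -2, -2, -2, 0, -2, -2, 0, 0, 0, 0, 0, 0, 0,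
  0, 0]

/-- the vector with 2 on the dodecad. -/
def vD : ↥leechLattice :=
  ⟨pat 2 dD ∅, ((mem48_iff _).mpr (Or.inl ((mem_fam12 _).mpr
    ⟨dD, ∅, dD_mem, Finset.empty_subset _, by simp, rfl⟩))).1⟩

def abD : ↥leechLattice :=
  ⟨Wv (some 0) (some 2) 2 2, Wv_mem (by decide) (Or.inl rfl) (Or.inl rfl)⟩

def wD : ↥leechLattice := -vD + abD

theorem vD_eq : ((vD : ↥leechLattice) : GolayPt → ℤ) = toVec alVD := by
  funext p
  show pat 2 (suppM 28637) ∅ p = _
  unfold pat
  rw [if_neg (Finset.notMem_empty _)]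
  simp only [mem_suppM]
  revert p
  decide

theorem wD_eq : ((wD : ↥leechLattice) : GolayPt → ℤ) = toVec alWD := by
  funext p
  show -(pat 2 (suppM 28637) ∅ p) + Wv (some 0) (some 2) 2 2 p = _
  rw [Wv_apply]
  unfold pat
  rw [if_neg (Finset.notMem_empty _)]
  simp only [mem_suppM]
  revert p
  decide

theorem sqNorm_vD : sqNorm ((vD : ↥leechLattice) : GolayPt → ℤ) = 48 := by
  rw [vD_eq, sqNorm_toVec alVD rfl]
  decide

theorem sqNorm_wD : sqNorm ((wD : ↥leechLattice) : GolayPt → ℤ) = 48 := by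
  rw [wD_eq, sqNorm_toVec alWD rfl]
  decide

theorem dot_vD_wD : dotInt ((vD : ↥leechLattice) : GolayPt → ℤ)
    ((wD : ↥leechLattice) : GolayPt → ℤ) = -32 := by
  rw [vD_eq, wD_eq, dot_toVec]
  decide

/-- the change of signs outside the dodecad. -/
def epsD : ↥Co0 :=
  ⟨monoPerm 1 M24.one_mem dDᶜ dDc_supp, monoPerm_mem 1 M24.one_mem dDᶜ dDc_supp⟩

theorem epsD_apply (z : ↥leechLattice) :
    ((epsD • z : ↥leechLattice) : GolayPt → ℤ) = signCh dDᶜ (z : GolayPt → ℤ) := by
  change signedPerm 1 dDᶜ (z : GolayPt → ℤ) = _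
  rw [signedPerm_eq']
  rfl

theorem signCh_of_zero {c : Finset GolayPt} {x : GolayPt → ℤ} (h : ∀ i ∈ c, x i = 0) :
    signCh c x = x := by
  funext i
  unfold signCh
  by_cases hi : i ∈ c
  · rw [if_pos hi, h i hi]
    rfl
  · rw [if_neg hi]

theorem toVec_zero_of (al : List ℤ) (h : ∀ p : GolayPt, p ∈ dDᶜ → toVec al p = 0) :
    signCh dDᶜ (toVec al) = toVec al := signCh_of_zero h

theorem mem_dDc (p : GolayPt) : p ∈ dDᶜ ↔ (28637 : ℕ).testBit (ptIdx p) = false := by
  rw [Finset.mem_compl]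
  show ¬ p ∈ suppM 28637 ↔ _
  rw [mem_suppM]
  simp

theorem epsD_vD : epsD • vD = vD := by
  apply Subtype.ext
  rw [epsD_apply, vD_eq]
  apply signCh_of_zero
  intro p hp
  rw [mem_dDc] at hp
  revert p
  decide

theorem epsD_wD : epsD • wD = wD := by
  apply Subtype.ext
  rw [epsD_apply, wD_eq]
  apply signCh_of_zero
  intro p hp
  rw [mem_dDc] at hp
  revert p
  decide

theorem epsD_sq : epsD * epsD = 1 := by
  apply Subtype.ext
  apply Equiv.ext
  intro z
  apply Subtype.ext
  change ((epsD • (epsD • z) : ↥leechLattice) : GolayPt → ℤ) = (z : GolayPt → ℤ)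
  rw [epsD_apply, epsD_apply, signCh_signCh]

theorem epsD_ne_one : epsD ≠ 1 := by
  intro h
  have h1 : ((epsD • e8 (some 1) : ↥leechLattice) : GolayPt → ℤ) (some 1) = -8 := by
    rw [epsD_apply]
    unfold signCh
    have hm : (some 1 : GolayPt) ∈ dDᶜ := by
      rw [mem_dDc]
      decide
    rw [if_pos hm]
    show -((Pi.single (some 1) 8 : GolayPt → ℤ) (some 1)) = -8
    rw [Pi.single_eq_same]
  rw [h, one_smul] at h1
  have h2 : ((e8 (some 1) : ↥leechLattice) : GolayPt → ℤ) (some 1) = 8 := by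
    show (Pi.single (some 1) 8 : GolayPt → ℤ) (some 1) = 8
    rw [Pi.single_eq_same]
  rw [h2] at h1
  norm_num at h1


/-- no attached vector is fixed by the change of signs. -/
theorem epsD_no_fixed (z : ↥leechLattice) (hz : sqNorm (z : GolayPt → ℤ) = 32)
    (hd : dotInt ((vD : ↥leechLattice) : GolayPt → ℤ) (z : GolayPt → ℤ) = 24) :
    epsD • z ≠ z := by
  classical
  intro hfix
  have hfix' := congrArg Subtype.val hfix
  rw [epsD_apply] at hfix'
  have hzero : ∀ i ∈ dDᶜ, (z : GolayPt → ℤ) i = 0 := by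
    intro i hi
    have h := congrFun hfix' i
    unfold signCh at h
    rw [if_pos hi] at h
    omega
  have hm1 : (some 1 : GolayPt) ∈ dDᶜ := by
    rw [mem_dDc]
    decide
  have hmem : (z : GolayPt → ℤ) ∈ {x : GolayPt → ℤ | x ∈ leechLattice ∧ sqNorm x = 32} :=
    ⟨z.2, hz⟩
  rw [minVec_eq, Finset.mem_coe, Finset.mem_union, Finset.mem_union, mem_famOdd, mem_famOct,
    mem_famFour] at hmem
  rcases hmem with ⟨j, c, hc, he⟩ | ⟨o, s, ho, hs, -, he⟩ | ⟨P, s, hP, hs, he⟩
  · have h1 := oddVec_odd j c (some 1)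
    rw [← he, hzero _ hm1] at h1
    norm_num at h1
  · have hsub : o ⊆ dD := by
      intro i hi
      by_contra hni
      have h0 := hzero i (Finset.mem_compl.mpr hni)
      rw [he] at h0
      by_cases his : i ∈ s
      · rw [pat_of_mem_s his] at h0
        norm_num at h0
      · rw [pat_of_mem_P his hi] at h0
        norm_num at h0
    have hsd := symmDiff_mem_supports dD_supp ho.1
    have hcard : (symmDiff dD o).card = 4 := by
      have e : symmDiff dD o = dD \ o := by
        ext i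
        rw [Finset.mem_symmDiff, Finset.mem_sdiff]
        constructor
        · rintro (h | h)
          · exact h
          · exact absurd (hsub h.1) h.2
        · intro h
          exact Or.inl h
      rw [e, Finset.card_sdiff_of_subset hsub, dD_mem.2, ho.2]
    rcases card_of_mem_supports hsd with h | h | h | h | h <;> rw [hcard] at h <;>
      norm_num at h
  · rw [he, dot_pat _ hs] at hd
    have hb : ∀ i, 0 ≤ ((vD : ↥leechLattice) : GolayPt → ℤ) i ∧
        ((vD : ↥leechLattice) : GolayPt → ℤ) i ≤ 2 := by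
      intro i
      show 0 ≤ pat 2 dD ∅ i ∧ pat 2 dD ∅ i ≤ 2
      unfold pat
      rw [if_neg (Finset.notMem_empty _)]
      split_ifs <;> norm_num
    have h1 : ∑ i ∈ P, ((vD : ↥leechLattice) : GolayPt → ℤ) i ≤ 4 := by
      have := Finset.sum_le_card_nsmul P (fun i => ((vD : ↥leechLattice) : GolayPt → ℤ) i) 2
        (fun i _ => (hb i).2)
      rw [hP] at this
      simpa using this
    have h2 : 0 ≤ ∑ i ∈ s, ((vD : ↥leechLattice) : GolayPt → ℤ) i :=
      Finset.sum_nonneg (fun i _ => (hb i).1)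
    omega

/-- an involution of the stabiliser of the two vectors fixing none of the attached vectors. -/
theorem hs_involution (v w : ↥leechLattice) (hv : sqNorm (v : GolayPt → ℤ) = 48)
    (hw : sqNorm (w : GolayPt → ℤ) = 48)
    (hvw : dotInt (v : GolayPt → ℤ) (w : GolayPt → ℤ) = -32) :
    ∃ g : ↥Co0, g • v = v ∧ g • w = w ∧ orderOf g = 2 ∧
      ∀ x : ↥leechLattice, sqNorm (x : GolayPt → ℤ) = 32 ∧
        dotInt (v : GolayPt → ℤ) (x : GolayPt → ℤ) = 24 ∧
        dotInt (w : GolayPt → ℤ) (x : GolayPt → ℤ) = -24 → g • x ≠ x := by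
  obtain ⟨g0, h1, h2⟩ := trans_hs_pair v w vD wD hv hw hvw sqNorm_vD sqNorm_wD dot_vD_wD
  refine ⟨g0⁻¹ * (epsD * g0), ?_, ?_, ?_, ?_⟩
  · rw [mul_smul', mul_smul', h1, epsD_vD, ← h1, inv_smul_smul']
  · rw [mul_smul', mul_smul', h2, epsD_wD, ← h2, inv_smul_smul']
  · haveI : Fact (Nat.Prime 2) := ⟨Nat.prime_two⟩
    apply orderOf_eq_prime
    · have e : (g0⁻¹ * (epsD * g0)) ^ 2 = g0⁻¹ * (epsD * epsD) * g0 := by
        rw [pow_two]
        group
      rw [e, epsD_sq, mul_one, inv_mul_cancel]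
    · intro h
      apply epsD_ne_one
      have e : epsD = g0 * (g0⁻¹ * (epsD * g0)) * g0⁻¹ := by group
      rw [e, h, mul_one, mul_inv_cancel]
  · rintro x ⟨hx1, hx2, hx3⟩ hfix
    have hz : sqNorm ((g0 • x : ↥leechLattice) : GolayPt → ℤ) = 32 :=
      (co0_sqNorm g0 x).trans hx1
    have hd : dotInt ((vD : ↥leechLattice) : GolayPt → ℤ)
        ((g0 • x : ↥leechLattice) : GolayPt → ℤ) = 24 := by
      rw [← h1, co0_dot]
      exact hx2
    apply epsD_no_fixed (g0 • x) hz hd
    rw [mul_smul', mul_smul'] at hfix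
    have := congrArg (fun t => g0 • t) hfix
    simp only [smul_inv_smul'] at this
    exact this

end Cfsg.Agent.Helper9.Leech
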