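import Mathlib
import Cfsg.Prelude.Def_Sporadic_a
import Cfsg.Prelude.Def_Spor_Conway
import Cfsg.Agent.Helper9.Leech.Monomial
import Cfsg.Agent.Helper9.Leech.Frame

set_option autoImplicit false

/-!
The action of the automorphism group of the rank-24 lattice on the lattice modulo 13, and the
faithful representation of degree 23 of the stabiliser of the vector `(4, 4, 0^22)`.
-/

namespace Cfsg.Agent.Helper9.Rep13

open Cfsg Cfsg.Agent.Helper9.Leech

instance fact13 : Fact (Nat.Prime 13) := ⟨by norm_num⟩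

/-- the space of vectors modulo 13. -/
abbrev V13 := GolayPt → ZMod 13

/-- reduction modulo 13. -/
def red : (GolayPt → ℤ) →+ V13 := (Int.castAddHom (ZMod 13)).compLeft GolayPt

theorem red_apply (x : GolayPt → ℤ) (i : GolayPt) : red x i = (x i : ZMod 13) := rfl

theorem eight_ne : (8 : ZMod 13) ≠ 0 := by decide

/-- the matrix of an automorphism modulo 13, from the images of the vectors `8 e_j`. -/
def matA (f : Equiv.Perm ↥leechLattice) : Matrix GolayPt GolayPt (ZMod 13) :=
  fun i j => (8 : ZMod 13)⁻¹ * (((f (e8 j) : ↥leechLattice) : GolayPt → ℤ) i : ZMod 13)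

theorem matA_mulVec {f : Equiv.Perm ↥leechLattice} (hf : f ∈ Co0) (w : ↥leechLattice) :
    (matA f).mulVec (red (w : GolayPt → ℤ)) = red ((f w : ↥leechLattice) : GolayPt → ℤ) := by
  have h1 : (8 : ℤ) • f w = ∑ j, ((w : GolayPt → ℤ) j) • f (e8 j) := by
    have := congrArg (toAddHom hf) (eight_smul_eq w)
    rw [map_zsmul, map_sum] at this
    simp only [map_zsmul, toAddHom_apply] at this
    exact this
  funext i
  have h2 := congrArg (fun v : ↥leechLattice => (((v : GolayPt → ℤ) i : ℤ) : ZMod 13)) h1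
  simp only [AddSubgroup.coe_zsmul, Pi.smul_apply, AddSubgroup.val_finsetSum, Finset.sum_apply,
    smul_eq_mul] at h2
  push_cast at h2
  rw [Matrix.mulVec, dotProduct]
  simp only [matA, red_apply]
  calc ∑ j, (8 : ZMod 13)⁻¹ * (((f (e8 j) : ↥leechLattice) : GolayPt → ℤ) i : ZMod 13) *
        (((w : GolayPt → ℤ) j : ℤ) : ZMod 13)
      = (8 : ZMod 13)⁻¹ * ∑ j, (((w : GolayPt → ℤ) j : ℤ) : ZMod 13) *
          (((f (e8 j) : ↥leechLattice) : GolayPt → ℤ) i : ZMod 13) := by
        rw [Finset.mul_sum]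
        apply Finset.sum_congr rfl
        intro j _
        ring
    _ = (8 : ZMod 13)⁻¹ * (8 * (((f w : ↥leechLattice) : GolayPt → ℤ) i : ZMod 13)) := by rw [h2]
    _ = _ := by rw [← mul_assoc, inv_mul_cancel₀ eight_ne, one_mul]

theorem matA_mul {f g : Equiv.Perm ↥leechLattice} (hf : f ∈ Co0) :
    matA (f * g) = matA f * matA g := by
  ext i j
  have h := congrFun (matA_mulVec hf (g (e8 j))) i
  rw [Matrix.mulVec, dotProduct] at h
  rw [Matrix.mul_apply]
  show (8 : ZMod 13)⁻¹ * (((f (g (e8 j)) : ↥leechLattice) : GolayPt → ℤ) i : ZMod 13) = _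
  rw [← red_apply, ← h, Finset.mul_sum]
  apply Finset.sum_congr rfl
  intro k _
  simp only [matA, red_apply]
  ring

theorem matA_one : matA 1 = 1 := by
  ext i j
  simp only [matA, Equiv.Perm.one_apply, e8_apply, Matrix.one_apply]
  split_ifs with h
  · push_cast
    exact inv_mul_cancel₀ eight_ne
  · simp

/-! ### The representations -/

theorem co2_mem_co0 (g : ↥Spor.Co2) : (g : Equiv.Perm ↥leechLattice) ∈ Co0 :=
  (Subgroup.mem_inf.mp g.2).1

theorem co2_fix (g : ↥Spor.Co2) : (g : Equiv.Perm ↥leechLattice) Spor.leechU = Spor.leechU :=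
  (Subgroup.mem_inf.mp g.2).2

/-- the matrices modulo 13. -/
def rhoM : ↥Spor.Co2 →* Matrix GolayPt GolayPt (ZMod 13) where
  toFun g := matA (g : Equiv.Perm ↥leechLattice)
  map_one' := matA_one
  map_mul' g h := matA_mul (co2_mem_co0 g)

/-- the linear maps modulo 13. -/
def rhoL : ↥Spor.Co2 →* Module.End (ZMod 13) V13 :=
  (Matrix.toLinAlgEquiv' : Matrix GolayPt GolayPt (ZMod 13) ≃ₐ[ZMod 13] _).toMonoidHom.comp rhoM

theorem rhoL_red (g : ↥Spor.Co2) (w : ↥leechLattice) :
    rhoL g (red (w : GolayPt → ℤ)) =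
      red (((g : Equiv.Perm ↥leechLattice) w : ↥leechLattice) : GolayPt → ℤ) := by
  show Matrix.toLinAlgEquiv' (matA (g : Equiv.Perm ↥leechLattice)) (red (w : GolayPt → ℤ)) = _
  rw [Matrix.toLinAlgEquiv'_apply]
  exact matA_mulVec (co2_mem_co0 g) w

/-- the fixed vector modulo 13. -/
def uBar : V13 := red ((Spor.leechU : ↥leechLattice) : GolayPt → ℤ)

theorem rhoL_uBar (g : ↥Spor.Co2) : rhoL g uBar = uBar := by
  unfold uBar
  rw [rhoL_red, co2_fix]

/-- the line of the fixed vector. -/
def lineU : Submodule (ZMod 13) V13 := Submodule.span (ZMod 13) {uBar}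

theorem lineU_le (g : ↥Spor.Co2) : lineU ≤ lineU.comap (rhoL g) := by
  unfold lineU
  rw [Submodule.span_le]
  intro x hx
  rw [Set.mem_singleton_iff.mp hx]
  show rhoL g uBar ∈ Submodule.span (ZMod 13) {uBar}
  rw [rhoL_uBar]
  exact Submodule.mem_span_singleton_self uBar

/-- the action on the quotient by the fixed line. -/
def rhoW : ↥Spor.Co2 →* Module.End (ZMod 13) (V13 ⧸ lineU) where
  toFun g := lineU.mapQ lineU (rhoL g) (lineU_le g)
  map_one' := by
    apply Submodule.linearMap_qext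
    ext v
    simp
  map_mul' g h := by
    apply Submodule.linearMap_qext
    ext v
    simp

theorem rhoW_mk (g : ↥Spor.Co2) (v : V13) :
    rhoW g (Submodule.Quotient.mk v) = Submodule.Quotient.mk (rhoL g v) := rfl

theorem uBar_ne : uBar ≠ 0 := by
  intro h
  have := congrFun h none
  revert this
  unfold uBar
  rw [red_apply]
  show ((Spor.vecU none : ℤ) : ZMod 13) ≠ 0
  unfold Spor.vecU
  decide

theorem finrank_W : Module.finrank (ZMod 13) (V13 ⧸ lineU) = 23 := by
  have h1 := Submodule.finrank_quotient_add_finrank lineU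
  have h2 : Module.finrank (ZMod 13) ↥lineU = 1 := finrank_span_singleton uBar_ne
  have h3 : Module.finrank (ZMod 13) V13 = 24 := by
    rw [Module.finrank_fintype_fun_eq_card]
    decide
  omega

/-- a basis of the quotient. -/
noncomputable def basisW : Module.Basis (Fin 23) (ZMod 13) (V13 ⧸ lineU) :=
  Module.finBasisOfFinrankEq (ZMod 13) (V13 ⧸ lineU) finrank_W

/-- the representation of degree 23. -/
noncomputable def rep23 : ↥Spor.Co2 →* GL (Fin 23) (ZMod 13) :=
  (Units.mapEquiv (LinearMap.toMatrixAlgEquiv basisW).toMulEquiv).toMonoidHom.comp rhoW.toHomUnits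

theorem rep23_eq_one {g : ↥Spor.Co2} (h : rep23 g = 1) : rhoW g = 1 := by
  unfold rep23 at h
  rw [MonoidHom.comp_apply] at h
  have h1 : rhoW.toHomUnits g = 1 := by
    apply (Units.mapEquiv (LinearMap.toMatrixAlgEquiv basisW).toMulEquiv).injective
    rw [map_one]
    exact h
  have h2 := congrArg Units.val h1
  rwa [MonoidHom.coe_toHomUnits] at h2

/-! ### Faithfulness -/

theorem red_dot (x y : GolayPt → ℤ) :
    dotProduct (red x) (red y) = ((dotInt x y : ℤ) : ZMod 13) := by
  unfold dotInt dotProduct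
  push_cast
  rfl

theorem sqNorm_nonneg' (x : GolayPt → ℤ) : 0 ≤ sqNorm x :=
  Finset.sum_nonneg (fun i _ => sq_nonneg _)

theorem sq_le_sqNorm (x : GolayPt → ℤ) (i : GolayPt) : x i ^ 2 ≤ sqNorm x :=
  Finset.single_le_sum (f := fun i => x i ^ 2) (fun i _ => sq_nonneg _) (Finset.mem_univ i)

/-- an automorphism acting trivially modulo 13 fixes the vectors of sum of squares 32. -/
theorem fix_of_red {f : Equiv.Perm ↥leechLattice} (hf : f ∈ Co0) (w : ↥leechLattice)
    (hw : sqNorm (w : GolayPt → ℤ) = 32)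
    (hred : red ((f w : ↥leechLattice) : GolayPt → ℤ) = red (w : GolayPt → ℤ)) : f w = w := by
  have hfw : sqNorm ((f w : ↥leechLattice) : GolayPt → ℤ) = 32 := by rw [hf.2 w, hw]
  have hb : sqNorm (((f w : ↥leechLattice) : GolayPt → ℤ) - (w : GolayPt → ℤ)) ≤ 128 := by
    have h1 := sqNorm_sub' ((f w : ↥leechLattice) : GolayPt → ℤ) (w : GolayPt → ℤ)
    have h2 := sqNorm_add' ((f w : ↥leechLattice) : GolayPt → ℤ) (w : GolayPt → ℤ)
    have h3 := sqNorm_nonneg' (((f w : ↥leechLattice) : GolayPt → ℤ) + (w : GolayPt → ℤ))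
    rw [h1]
    omega
  have hd : ∀ i, (13 : ℤ) ∣ (((f w : ↥leechLattice) : GolayPt → ℤ) - (w : GolayPt → ℤ)) i := by
    intro i
    have := congrFun hred i
    rw [red_apply, red_apply] at this
    rw [Pi.sub_apply]
    exact_mod_cast (ZMod.intCast_eq_intCast_iff_dvd_sub _ _ 13).mp this.symm
  have hz : ∀ i, (((f w : ↥leechLattice) : GolayPt → ℤ) - (w : GolayPt → ℤ)) i = 0 := by
    intro i
    by_contra hne
    obtain ⟨k, hk⟩ := hd i
    have hk0 : k ≠ 0 := by
      rintro rfl
      exact hne (by rw [hk]; ring)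
    have h1 : 1 ≤ k ^ 2 := by
      have := sq_nonneg k
      have : k ^ 2 ≠ 0 := pow_ne_zero 2 hk0
      omega
    have h2 : (((f w : ↥leechLattice) : GolayPt → ℤ) - (w : GolayPt → ℤ)) i ^ 2 = 169 * k ^ 2 := by
      rw [hk]; ring
    have h3 := sq_le_sqNorm (((f w : ↥leechLattice) : GolayPt → ℤ) - (w : GolayPt → ℤ)) i
    omega
  apply Subtype.ext
  funext i
  have := hz i
  rw [Pi.sub_apply, sub_eq_zero] at this
  exact this

theorem sqNorm_single (i : GolayPt) (a : ℤ) : sqNorm (Pi.single i a : GolayPt → ℤ) = a ^ 2 := by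
  unfold sqNorm
  rw [Finset.sum_eq_single i]
  · simp
  · intro j _ hj
    simp [hj]
  · intro h
    exact absurd (Finset.mem_univ i) h

theorem dot_single {i j : GolayPt} (hij : i ≠ j) (a b : ℤ) :
    dotInt (Pi.single i a : GolayPt → ℤ) (Pi.single j b) = 0 := by
  unfold dotInt
  apply Finset.sum_eq_zero
  intro k _
  rcases eq_or_ne k i with rfl | h
  · simp [hij]
  · simp [Pi.single_apply, h]

/-- the vector with `4` at `i` and `s = ±4` at `j`. -/
def e44 (i j : GolayPt) (s : ℤ) (hs : s = 4 ∨ s = -4) : ↥leechLattice :=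
  ⟨Pi.single i 4 + Pi.single j s, (mem_leechLattice_iff _).mpr
    (Spor.mem_leechSet_of_const_mod_four _ 0 0 (by decide)
      (by
        intro k
        rw [Pi.add_apply, Pi.single_apply, Pi.single_apply]
        rcases hs with rfl | rfl <;> split_ifs <;> decide)
      (by
        simp only [Pi.add_apply]
        rw [Finset.sum_add_distrib, Finset.sum_pi_single', Finset.sum_pi_single']
        rcases hs with rfl | rfl <;> simp <;> decide))⟩

theorem sqNorm_e44 {i j : GolayPt} (hij : i ≠ j) (s : ℤ) (hs : s = 4 ∨ s = -4) :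
    sqNorm ((e44 i j s hs : ↥leechLattice) : GolayPt → ℤ) = 32 := by
  show sqNorm ((Pi.single i 4 : GolayPt → ℤ) + Pi.single j s) = 32
  rw [sqNorm_add', sqNorm_single, sqNorm_single, dot_single hij]
  rcases hs with rfl | rfl <;> norm_num

theorem e8_eq (i j : GolayPt) (hij : i ≠ j) :
    e8 i = e44 i j 4 (Or.inl rfl) + e44 i j (-4) (Or.inr rfl) := by
  apply Subtype.ext
  funext k
  show (Pi.single i (8 : ℤ) : GolayPt → ℤ) k =
    ((Pi.single i 4 + Pi.single j 4 : GolayPt → ℤ)) k +
      ((Pi.single i 4 + Pi.single j (-4) : GolayPt → ℤ)) k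
  simp only [Pi.add_apply, Pi.single_apply]
  split_ifs <;> norm_num

theorem dot_uu : dotInt Spor.vecU Spor.vecU = 32 := by decide

theorem rep23_injective : Function.Injective rep23 := by
  rw [injective_iff_map_eq_one]
  intro g hg
  have hW := rep23_eq_one hg
  have hf := co2_mem_co0 g
  have hred : ∀ w : ↥leechLattice,
      red (((g : Equiv.Perm ↥leechLattice) w : ↥leechLattice) : GolayPt → ℤ) =
        red (w : GolayPt → ℤ) := by
    intro w
    have h1 : rhoW g (Submodule.Quotient.mk (red (w : GolayPt → ℤ))) =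
        Submodule.Quotient.mk (red (w : GolayPt → ℤ)) := by rw [hW]; rfl
    rw [rhoW_mk, rhoL_red, Submodule.Quotient.eq] at h1
    obtain ⟨c, hc⟩ := Submodule.mem_span_singleton.mp h1
    have h2 : dotProduct (c • uBar) uBar =
        dotProduct (red (((g : Equiv.Perm ↥leechLattice) w : ↥leechLattice) : GolayPt → ℤ) -
          red (w : GolayPt → ℤ)) uBar := by rw [hc]
    rw [smul_dotProduct, sub_dotProduct] at h2
    unfold uBar at h2
    rw [red_dot, red_dot, red_dot] at h2
    have h3 : dotInt (((g : Equiv.Perm ↥leechLattice) w : ↥leechLattice) : GolayPt → ℤ)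
        ((Spor.leechU : ↥leechLattice) : GolayPt → ℤ) =
        dotInt (w : GolayPt → ℤ) ((Spor.leechU : ↥leechLattice) : GolayPt → ℤ) := by
      have := co0_dot ⟨(g : Equiv.Perm ↥leechLattice), hf⟩ w Spor.leechU
      have e1 : ((⟨(g : Equiv.Perm ↥leechLattice), hf⟩ : ↥Co0) • Spor.leechU : ↥leechLattice) =
          Spor.leechU := co2_fix g
      rw [e1] at this
      exact this
    rw [h3, sub_self] at h2
    have h4 : ((dotInt ((Spor.leechU : ↥leechLattice) : GolayPt → ℤ)
        ((Spor.leechU : ↥leechLattice) : GolayPt → ℤ) : ℤ) : ZMod 13) ≠ 0 := by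
      show ((dotInt Spor.vecU Spor.vecU : ℤ) : ZMod 13) ≠ 0
      rw [dot_uu]
      decide
    have hc0 : c = 0 := by
      rcases mul_eq_zero.mp h2 with h | h
      · exact h
      · exact absurd h h4
    rw [hc0, zero_smul] at hc
    exact sub_eq_zero.mp hc.symm
  have hfix : ∀ w : ↥leechLattice, sqNorm (w : GolayPt → ℤ) = 32 →
      (g : Equiv.Perm ↥leechLattice) w = w := fun w hw => fix_of_red hf w hw (hred w)
  have he8 : ∀ i, (g : Equiv.Perm ↥leechLattice) (e8 i) = e8 i := by
    intro i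
    obtain ⟨j, hji⟩ := exists_ne i
    have hij : i ≠ j := hji.symm
    rw [e8_eq i j hij, hf.1, hfix _ (sqNorm_e44 hij _ _), hfix _ (sqNorm_e44 hij _ _)]
  apply Subtype.ext
  apply Equiv.ext
  intro w
  show (g : Equiv.Perm ↥leechLattice) w = w
  have h1 : (8 : ℤ) • (g : Equiv.Perm ↥leechLattice) w = (8 : ℤ) • w := by
    have := congrArg (toAddHom hf) (eight_smul_eq w)
    rw [map_zsmul, map_sum] at this
    simp only [map_zsmul, toAddHom_apply, he8] at this
    rw [this, ← eight_smul_eq]
  apply Subtype.ext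
  funext k
  have := congrArg (fun v : ↥leechLattice => (v : GolayPt → ℤ) k) h1
  simp only [AddSubgroup.coe_zsmul, Pi.smul_apply, smul_eq_mul] at this
  omega

end Cfsg.Agent.Helper9.Rep13
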